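import Groth.Agent.AlgGrp79.ProperAffine
import Groth.Agent.AlgGrp79.FiniteKernelHom
import Groth.Agent.AlgGrp79.Image
import Groth.Agent.Alb96.MaxAbelian
import Groth.Agent.S3278

/-!
Homomorphisms between affine and proper groups.
-/

set_option autoImplicit false
universe u

open CategoryTheory MonoidalCategory CartesianMonoidalCategory MonObj AlgebraicGeometry CategoryTheory.Limits
open Groth.Agent.AlgGrp79

namespace Groth.Agent.AlgGrp33.AffineProper

variable {k : Type u} [Field k]

/-- the kernel of a homomorphism as a closed normal subgroup -/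
theorem exists_kernel {G A : Over (Spec (CommRingCat.of k))} [GrpObj G] [GrpObj A]
    (φ : G ⟶ A) [IsMonHom φ] :
    ∃ (K : Over (Spec (CommRingCat.of k))) (_ : GrpObj K) (i : K ⟶ G), IsMonHom i ∧ IsClosedImmersion i.left ∧
      AlgGrp.IsKernel i φ ∧ AlgGrp.IsNormalHom i := by
  let i : pullback φ η[A] ⟶ G := pullback.fst φ η[A]
  have hker : AlgGrp.IsKernel i φ := by
    have h := IsPullback.of_hasPullback φ η[A]
    rwa [toUnit_unique (pullback.snd φ η[A]) (toUnit _)] at h
  have hsep : IsSeparated A.hom := isSeparated_grp A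
  have hci : IsClosedImmersion i.left := by
    have hη : IsClosedImmersion η[A].left := by
      have : IsClosedImmersion (η[A].left ≫ A.hom) := by
        rw [Over.w]; exact inferInstanceAs (IsClosedImmersion (𝟙 (Spec (CommRingCat.of k))))
      exact IsClosedImmersion.of_comp _ A.hom
    exact MorphismProperty.of_isPullback (isPullback_left hker).flip hη
  have := mono_of_isKernel hker
  obtain ⟨hg, him⟩ := exists_grpObj_closed i
    ⟨(exists_ker_of_comp_one hker η[G] (by rw [IsMonHom.one_hom, one_def', toUnit_unique (toUnit (𝟙_ _)) (𝟙 _), Category.id_comp])).choose,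
      (exists_ker_of_comp_one hker η[G] (by rw [IsMonHom.one_hom, one_def', toUnit_unique (toUnit (𝟙_ _)) (𝟙 _), Category.id_comp])).choose_spec⟩
    fun T a b => exists_ker_of_comp_one hker ((a ≫ i)⁻¹ * (b ≫ i)) (by
      rw [mul_comp', GrpObj.inv_comp, isKernel_comp_one hker, isKernel_comp_one hker, inv_one, _root_.one_mul])
  refine ⟨_, hg, i, him, hci, hker, fun T g n => ?_⟩
  obtain ⟨n', hn'⟩ := exists_ker_of_comp_one hker (g * (n ≫ i) * g⁻¹) (by
    rw [mul_comp', mul_comp', GrpObj.inv_comp, isKernel_comp_one hker, _root_.mul_one, mul_inv_cancel])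
  exact ⟨n', hn'.symm⟩

/-- A connected affine group receiving a surjection from a proper scheme is a single point. -/
theorem subsingleton_of_surjective {K Q : Over (Spec (CommRingCat.of k))} [GrpObj Q] [IsAffine Q.left]
    [LocallyOfFiniteType Q.hom] [ConnectedSpace Q.left] [IsProper K.hom] (e : K ⟶ Q) [Surjective e.left] :
    Subsingleton Q.left := by
  have := isSeparated_grp Q
  have : UniversallyClosed (e.left ≫ Q.hom) := by rw [Over.w]; infer_instance
  have : UniversallyClosed Q.hom := .of_comp_surjective e.left _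
  have : IsProper Q.hom := {}
  have h := subsingleton_range_of_proper_to_affine Q.hom (𝟙 Q.left) Q.hom (Category.id_comp _)
  exact ⟨fun a b => h ⟨a, rfl⟩ ⟨b, rfl⟩⟩

/-- A homomorphism from a connected reduced affine group to a proper group is trivial. -/
theorem eq_one {G A : Over (Spec (CommRingCat.of k))} [GrpObj G] [GrpObj A] [IsAffine G.left]
    [LocallyOfFiniteType G.hom] [ConnectedSpace G.left] [IsReduced G.left] [IsProper A.hom]
    (φ : G ⟶ A) [IsMonHom φ] : φ = 1 := by
  obtain ⟨K, _, i, _, _, hker, hn⟩ := exists_kernel φ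
  obtain ⟨Q, _, q, _, _, _, _, _, hq⟩ := S3278.result k G K i hn
  have hcov : IsCov q := isCov_of_flat_surjective q
  obtain ⟨e, he⟩ := hcov.desc φ fun T a b hab => by
    obtain ⟨n, hn⟩ := exists_ker_of_comp_eq q i hq a b hab
    have hb : b = a * (n ≫ i) := by rw [← hn, mul_inv_cancel_left]
    rw [hb, mul_comp', isKernel_comp_one hker, _root_.mul_one]
  have hepi := hcov.epi
  have : IsMonHom e := by
    have h2 : Epi (q ⊗ₘ q) := by
      have h := ((hcov.whiskerRight G).comp (hcov.whiskerLeft Q)).epi
      rwa [← MonoidalCategory.tensorHom_def] at h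
    refine ⟨by rw [← IsMonHom.one_hom q, Category.assoc, he, IsMonHom.one_hom], ?_⟩
    rw [← cancel_epi (q ⊗ₘ q), ← IsMonHom.mul_hom_assoc q, he, tensorHom_comp_tensorHom_assoc, he, IsMonHom.mul_hom]
  have hQc : ConnectedSpace Q.left := q.left.surjective.connectedSpace q.left.continuous
  have : QuasiCompact Q.hom := inferInstance
  have : IsClosedImmersion e.left := isClosedImmersion_hom_of_trivial_kernel e fun T g hg => by
    obtain ⟨T', c, x, hc, hx⟩ := hcov.exists_lift g
    obtain ⟨n, hn'⟩ := exists_ker_of_comp_one hker x (by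
      rw [← he, reassoc_of% hx, hg, MonObj.comp_one])
    have := hc.epi
    rw [← cancel_epi c, MonObj.comp_one, ← hx, ← hn', isKernel_comp_one hq]
  have : IsProper Q.hom := by rw [← Over.w e]; infer_instance
  have : Subsingleton Q.left := by
    have h := subsingleton_range_of_proper_to_affine Q.hom (𝟙 Q.left) Q.hom (Category.id_comp _)
    exact ⟨fun a b => h ⟨a, rfl⟩ ⟨b, rfl⟩⟩
  have hη : IsClosedImmersion η[A].left := by
    have : IsClosedImmersion (η[A].left ≫ A.hom) := by
      rw [Over.w]; exact inferInstanceAs (IsClosedImmersion (𝟙 (Spec (CommRingCat.of k))))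
    exact IsClosedImmersion.of_comp _ A.hom
  obtain ⟨t, ht⟩ := Alb96.exists_lift_of_range_subset η[A] φ (by
    rintro _ ⟨x, rfl⟩
    refine ⟨IsLocalRing.closedPoint k, ?_⟩
    have h1 : φ.left x = e.left (q.left x) := by rw [← Scheme.Hom.comp_apply, ← Over.comp_left, he]
    have h2 : η[A].left (IsLocalRing.closedPoint k) = e.left (η[Q].left (IsLocalRing.closedPoint k)) := by
      rw [← Scheme.Hom.comp_apply, ← Over.comp_left, IsMonHom.one_hom]
    rw [h1, h2, Subsingleton.elim (q.left x)])
  rw [← ht, toUnit_unique t (toUnit G), ← one_def']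

/-- two homomorphic lifts agree, so a lift through a monic homomorphism is a homomorphism -/
theorem isMonHom_of_mono {M N G : Over (Spec (CommRingCat.of k))} [GrpObj M] [GrpObj N] [GrpObj G]
    (g : M ⟶ N) (i : N ⟶ G) [IsMonHom i] [Mono i] (φ : M ⟶ G) [IsMonHom φ] (h : g ≫ i = φ) : IsMonHom g := by
  refine ⟨by rw [← cancel_mono i, Category.assoc, h, IsMonHom.one_hom, IsMonHom.one_hom], ?_⟩
  rw [← cancel_mono i, Category.assoc, h, IsMonHom.mul_hom φ, Category.assoc, IsMonHom.mul_hom i,
    tensorHom_comp_tensorHom_assoc, h]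

theorem isMonHom_of_mono' {S : Scheme.{u}} {M N G : Over S} [GrpObj M] [GrpObj N] [GrpObj G]
    (g : M ⟶ N) (i : N ⟶ G) [IsMonHom i] [Mono i] (φ : M ⟶ G) [IsMonHom φ] (h : g ≫ i = φ) : IsMonHom g := by
  refine ⟨by rw [← cancel_mono i, Category.assoc, h, IsMonHom.one_hom, IsMonHom.one_hom], ?_⟩
  rw [← cancel_mono i, Category.assoc, h, IsMonHom.mul_hom φ, Category.assoc, IsMonHom.mul_hom i,
    tensorHom_comp_tensorHom_assoc, h]

end Groth.Agent.AlgGrp33.AffineProper
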