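import Groth.Agent.Comod33.DimOneMult
import Groth.Agent.Comod33.CommSemisimple
import Groth.Agent.Comod33.Connected
import Groth.Agent.GMod80.Alg

/-!
Commutative connected groups with finitely many unipotent points are diagonalizable.
-/

set_option autoImplicit false
set_option linter.unusedSectionVars false

universe u

open TensorProduct WithConv

noncomputable section

namespace Groth.Agent.AlgGrp33.FiniteUnip

open Comod33 Comod33.DimOneClass

variable {k A : Type u} [Field k] [IsAlgClosed k] [CommRing A] [HopfAlgebra k A] [Algebra.FiniteType k A]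
  [_root_.IsReduced A]

/-- unipotent points die in diagonalizable quotients -/
theorem unip_comp_eq_one {B : Type u} [CommRing B] [HopfAlgebra k B] (hB : HopfRep.IsDiagonalizable k B)
    (φ : B →ₐc[k] A) {u : WithConv (A →ₐ[k] k)} (hu : u ∈ unipPts k A) :
    toConv (u.ofConv.comp (φ : B →ₐ[k] A)) = 1 := by
  apply WithConv.ofConv_injective
  refine AlgHom.ext fun b => ?_
  have hb : b ∈ Submodule.span k {b : B | IsGroupLikeElem k b} := hB ▸ Submodule.mem_top
  induction hb using Submodule.span_induction with
  | mem χ hχ =>
    change u.ofConv (φ χ) = algebraMap k k (CoalgebraStruct.counit (R := k) χ)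
    rw [apply_groupLike_of_unip hu (hχ.map φ), hχ.counit_eq_one, map_one]
  | zero => simp
  | add x y _ _ hx hy => simp only [map_add, hx, hy]
  | smul c x _ hx => simp only [map_smul, hx]

variable [IsDomain A] [Coalgebra.IsCocomm k A]

/-- the points acting semisimply on every finite dimensional comodule -/
def ssPts (k A : Type u) [Field k] [CommRing A] [HopfAlgebra k A] : Set (WithConv (A →ₐ[k] k)) :=
  {g | ∀ (V : Type u) [AddCommGroup V] [Module k V] [HopfRep.Comod k A V], Module.Finite k V →
    Module.End.IsSemisimple (HopfRep.Comod.act k A V g.ofConv)}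

omit [IsDomain A] [_root_.IsReduced A] in
theorem mem_ssPts_of_forall {y : WithConv (A →ₐ[k] k)}
    (hy : ∀ a : A, (∀ s ∈ ssPts k A, s.ofConv a = 0) → y.ofConv a = 0) : y ∈ ssPts k A := by
  intro V _ _ _ hV
  let T := HopfRep.Comod.act k A V
  let W : Submodule k (Module.End k V) := Submodule.span k ((fun s => T s.ofConv) '' ssPts k A)
  have hyW : T y.ofConv ∈ W := by
    by_contra hn
    obtain ⟨φ, hφy, hφW⟩ := Submodule.exists_dual_map_eq_bot_of_notMem hn inferInstance
    let b := Module.finBasis k V
    let E := fun i j => LinearMap.toSpanSingleton k V (b i) ∘ₗ b.coord j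
    let a : A := ∑ i, ∑ j, φ (E i j) • lc (b.coord i) (HopfRep.Comod.coact (k := k) (A := A) (b j))
    have hga : ∀ g : A →ₐ[k] k, φ (T g) = g a := by
      intro g
      have hT : T g = ∑ i, ∑ j, (b.coord i (T g (b j))) • E i j := by
        refine b.ext fun l => ?_
        simp only [LinearMap.sum_apply, LinearMap.smul_apply, E, LinearMap.comp_apply,
          LinearMap.toSpanSingleton_apply, Module.Basis.coord_apply, Module.Basis.repr_self]
        conv_lhs => rw [← b.sum_repr (T g (b l))]
        simp [Finsupp.single_apply]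
      conv_lhs => rw [hT]
      simp only [map_sum, map_smul, a, smul_eq_mul]
      refine Finset.sum_congr rfl fun i _ => Finset.sum_congr rfl fun j _ => ?_
      rw [mul_comm]
      congr 1
      exact (apply_lc g.toLinearMap (b.coord i) _).symm
    refine hφy ((hga y.ofConv).trans (hy a fun s hs => ?_))
    rw [← hga]
    have : φ (T s.ofConv) ∈ W.map φ := Submodule.mem_map_of_mem (Submodule.subset_span ⟨s, hs, rfl⟩)
    rwa [hφW, Submodule.mem_bot] at this
  have hc : ∀ P ∈ W, ∀ Q ∈ W, Commute P Q := by
    intro P hP Q hQ
    induction hP using Submodule.span_induction with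
    | mem P hP =>
      induction hQ using Submodule.span_induction with
      | mem Q hQ =>
        obtain ⟨s, -, rfl⟩ := hP
        obtain ⟨t, -, rfl⟩ := hQ
        exact (show Commute s t from _root_.mul_comm s t).map (actHom k A V)
      | zero => exact Commute.zero_right _
      | add x y _ _ hx hy => exact hx.add_right hy
      | smul c x _ hx => exact hx.smul_right c
    | zero => exact Commute.zero_left _
    | add x y _ _ hx hy => exact hx.add_left hy
    | smul c x _ hx => exact hx.smul_left c
  have hss : ∀ P ∈ W, Module.End.IsSemisimple P := by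
    intro P hP
    induction hP using Submodule.span_induction with
    | mem P hP => obtain ⟨s, hs, rfl⟩ := hP; exact hs V hV
    | zero => exact Module.End.isSemisimple_zero
    | add x y hxm hym hx hy => exact hx.add_of_commute (hc x hxm y hym) hy
    | smul c x _ hx => exact Module.End.IsSemisimple_smul c hx
  exact hss _ hyW

omit [IsDomain A] in
theorem exists_decomp (x : WithConv (A →ₐ[k] k)) :
    ∃ s ∈ ssPts k A, ∃ u ∈ unipPts k A, x = s * u := by
  obtain ⟨xs, -, hxs⟩ := exists_point_semisimplePart (k := k) x.ofConv
  refine ⟨toConv xs, fun V _ _ _ hV => (hxs V hV).1, (toConv xs)⁻¹ * x, ?_,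
    (mul_inv_cancel_left _ _).symm⟩
  intro W _ _ _ hW
  obtain ⟨hss, u, hu, -, hsu⟩ := hxs W hW
  have h2 : HopfRep.Comod.act k A W ((toConv xs)⁻¹ * x).ofConv = u := by
    show actHom k A W ((toConv xs)⁻¹ * x) = u
    rw [map_mul, show actHom k A W x = HopfRep.Comod.act k A W x.ofConv from rfl, ← hsu, ← mul_assoc,
      show HopfRep.Comod.act k A W xs = actHom k A W (toConv xs) from rfl, ← map_mul, inv_mul_cancel, map_one,
      one_mul]
  rw [h2]
  exact hu

/-- finitely many unipotent points: every point is semisimple -/
theorem mem_ssPts (hfin : (unipPts k A).Finite) (y : WithConv (A →ₐ[k] k)) : y ∈ ssPts k A := by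
  classical
  by_cases h : ∃ u ∈ hfin.toFinset, ∀ a : A, (∀ s ∈ ssPts k A, (s * u).ofConv a = 0) → a = 0
  · obtain ⟨u, -, hu⟩ := h
    refine mem_ssPts_of_forall fun a ha => ?_
    have h0 : GMod80.ltr u⁻¹ a = 0 := hu _ fun s hs => by
      have h1 : toConv ((s * u).ofConv.comp (GMod80.ltr u⁻¹)) = s := by
        rw [GMod80.point_comp_ltr, _root_.mul_comm s u, inv_mul_cancel_left]
      rw [← AlgHom.comp_apply]
      exact (AlgHom.congr_fun (congrArg WithConv.ofConv h1) a).trans (ha s hs)
    have h2 : a = 0 := by
      have := congrArg (GMod80.ltr u) h0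
      rw [map_zero, ← AlgHom.comp_apply, GMod80.ltr_ltr, inv_mul_cancel, GMod80.ltr_one] at this
      exact this
    rw [h2, map_zero]
  · exfalso
    push_neg at h
    choose a ha ha0 using h
    have hprod : ∏ u ∈ hfin.toFinset.attach, a u.1 u.2 = 0 := by
      refine (Conn.eq_zero_of_forall_point (k := k)) fun g => ?_
      obtain ⟨s, hs, u, hu, rfl⟩ := exists_decomp g
      rw [map_prod]
      exact Finset.prod_eq_zero (Finset.mem_attach _ ⟨u, hfin.mem_toFinset.2 hu⟩) (ha _ _ s hs)
    obtain ⟨u, -, hu⟩ := Finset.prod_eq_zero_iff.1 hprod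
    exact ha0 _ _ hu

/-- finitely many unipotent points: diagonalizable -/
theorem isDiagonalizable_of_finite_unipPts (hfin : (unipPts k A).Finite) : HopfRep.IsDiagonalizable k A :=
  CommSS.isDiagonalizable (fun x y => _root_.mul_comm x y) fun g V _ _ _ hV =>
    mem_ssPts hfin (toConv g) V hV

end Groth.Agent.AlgGrp33.FiniteUnip
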