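import Groth.Agent.AlgGrp33.DSCoord
import Groth.Agent.RedPts82.TorusConn
import Groth.Agent.GMod80.NoTorus
import Groth.Agent.GMod80.Dict
import Groth.Agent.Alb96.GeomInt
import Groth.Agent.Comod33.DimOneMult
import Groth.Agent.Comod33.DiagBC
import Groth.Agent.S7979
import Mathlib.GroupTheory.FiniteAbelian.Basic

/-!
Tori over a field and diagonalizable coordinate rings.
-/

set_option autoImplicit false
set_option linter.unusedSectionVars false
set_option linter.style.haveILetI false

universe u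

open CategoryTheory MonoidalCategory CartesianMonoidalCategory MonObj GrpObj AlgebraicGeometry
open CategoryTheory.Limits
open scoped TensorProduct
open WithConv TensorProduct

noncomputable section

namespace Groth.Agent.AlgGrp33

open GMod80

/-- transitivity of base change of groups -/
theorem nonempty_bc_comp {S T W : Scheme.{u}} (g : W ⟶ T) (f : T ⟶ S) (G : Over S) [GrpObj G] :
    Nonempty (Grp.mk (Red.bc g (Red.bc f G)) ≅ Grp.mk (Red.bc (g ≫ f) G)) := by
  let c : ∀ X : Over W, (Over.map f).obj ((Over.map g).obj X) ≅ (Over.map (g ≫ f)).obj X := fun X =>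
    Over.isoMk (Iso.refl _) (by simp)
  let t : ∀ (X : Over W), (X ⟶ Red.bc g (Red.bc f G)) → ((Over.map (g ≫ f)).obj X ⟶ G) := fun X x =>
    (c X).inv ≫ RedPts82.toBase f (RedPts82.toBase g x)
  have tbij : ∀ X, Function.Bijective (t X) := fun X => by
    refine ⟨fun x y h => RedPts82.toBase_injective g (RedPts82.toBase_injective f ((cancel_epi _).1 h)),
      fun p => ⟨RedPts82.ofBase g (RedPts82.ofBase f ((c X).hom ≫ p)), ?_⟩⟩
    show (c X).inv ≫ _ = p
    rw [RedPts82.toBase_ofBase, RedPts82.toBase_ofBase, Iso.inv_hom_id_assoc]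
  have tnat : ∀ {X Y : Over W} (h : Y ⟶ X) (x : X ⟶ Red.bc g (Red.bc f G)),
      t Y (h ≫ x) = (Over.map (g ≫ f)).map h ≫ t X x := fun {X Y} h x => by
    simp only [t]
    rw [RedPts82.toBase_comp, RedPts82.toBase_comp, ← Category.assoc, ← Category.assoc]
    congr 1
  let gam : Red.bc g (Red.bc f G) ⟶ Red.bc (g ≫ f) G := RedPts82.ofBase (g ≫ f) (t _ (𝟙 _))
  have key : ∀ {X : Over W} (x : X ⟶ Red.bc g (Red.bc f G)), RedPts82.toBase (g ≫ f) (x ≫ gam) = t X x :=
    fun {X} x => by
    rw [RedPts82.toBase_comp, RedPts82.toBase_ofBase, ← tnat, Category.comp_id]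
  have hm : IsMonHom gam := RedPts82.isMonHom_of_points gam fun X x y => RedPts82.toBase_injective _ (by
    rw [key, RedPts82.toBase_mul, key, key]
    simp only [t, RedPts82.toBase_mul, MonObj.comp_mul])
  obtain ⟨δ, hδ⟩ := (tbij _).2 (RedPts82.toBase (g ≫ f) (𝟙 (Red.bc (g ≫ f) G)))
  have h1 : δ ≫ gam = 𝟙 _ := RedPts82.toBase_injective _ (by rw [key, hδ])
  have h2 : Mono gam := ⟨fun {X} x y h => (tbij X).1 (by rw [← key, ← key, h])⟩
  have : IsIso gam :=
    ⟨δ, by rw [← cancel_mono gam, Category.assoc, h1, Category.comp_id, Category.id_comp], h1⟩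
  exact ⟨Grp.mkIso (asIso gam) (by exact hm.one_hom) (by exact hm.mul_hom)⟩

variable {k : Type u} [Field k]

/-- isomorphic groups have isomorphic coordinate bialgebras -/
theorem exists_bialgEquiv_of_grpIso {A A' : Type u} [CommRing A] [HopfAlgebra k A] [CommRing A']
    [HopfAlgebra k A'] {G H : Over (Spec (CommRingCat.of k))} [GrpObj G] [GrpObj H]
    (ψ : sp k A ≅ G) [IsMonHom ψ.hom] (ψ' : sp k A' ≅ H) [IsMonHom ψ'.hom] (e₀ : Grp.mk H ≅ Grp.mk G) :
    Nonempty (A ≃ₐc[k] A') := by
  let i : H ⟶ G := ((Grp.forget _).mapIso e₀).hom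
  have : IsMonHom i := e₀.hom.hom.isMonHom_hom
  obtain ⟨E, -⟩ := exists_bialgEquiv_of_points (A := A) (B := A')
    (fun R _ _ x => toConv (x.ofConv.comp (pull ψ ψ' i)))
    (fun R _ _ => by
      have h : ∀ x : WithConv (A' →ₐ[k] R),
          toConv (x.ofConv.comp (pull ψ ψ' i)) = (e ψ R).symm (e ψ' R x ≫ i) := fun x => by
        rw [e_comp ψ ψ' i x, MulEquiv.symm_apply_apply]
      simp only [funext h]
      exact (e ψ R).symm.bijective.comp (((Iso.homToEquiv ((Grp.forget _).mapIso e₀))).bijective.comp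
        (e ψ' R).bijective))
    (fun R _ _ x y => (e ψ R).injective (by
      rw [← e_comp, map_mul, map_mul, MonObj.mul_comp, ← e_comp, ← e_comp]))
    (fun R R' _ _ _ _ q x => by simp [AlgHom.comp_assoc])
  exact ⟨E⟩

/-- coordinates of a commutative group are cocommutative -/
theorem isCocomm_of_comm {A : Type u} [CommRing A] [HopfAlgebra k A] {G : Over (Spec (CommRingCat.of k))}
    [GrpObj G] [IsCommMonObj G] (ψ : sp k A ≅ G) [IsMonHom ψ.hom] : Coalgebra.IsCocomm k A := by
  have h : toConv (Algebra.TensorProduct.includeLeft : A →ₐ[k] A ⊗[k] A) *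
      toConv Algebra.TensorProduct.includeRight = toConv Algebra.TensorProduct.includeRight *
      toConv (Algebra.TensorProduct.includeLeft : A →ₐ[k] A ⊗[k] A) := (e ψ _).injective (by
    rw [map_mul, map_mul]
    exact _root_.mul_comm _ _)
  rw [← comulAlgHom_eq_lr] at h
  refine ⟨LinearMap.ext fun a => ?_⟩
  have h2 := congrArg (fun w : WithConv (A →ₐ[k] A ⊗[k] A) => w.ofConv a) h
  simp only [AlgHom.convMul_apply] at h2
  rw [show (toConv (Bialgebra.comulAlgHom k A)).ofConv a = CoalgebraStruct.comul (R := k) a from rfl] at h2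
  show TensorProduct.comm k A A (CoalgebraStruct.comul (R := k) a) = CoalgebraStruct.comul (R := k) a
  conv_rhs => rw [h2]
  generalize CoalgebraStruct.comul (R := k) a = z
  induction z using TensorProduct.induction_on with
  | zero => simp
  | add p q hp hq => simp only [map_add, hp, hq]
  | tmul p q => simp

variable {A : Type u} [CommRing A] [HopfAlgebra k A] {G : Over (Spec (CommRingCat.of k))} [GrpObj G]
  (ψ : sp k A ≅ G) [IsMonHom ψ.hom]

local notation "Kb" => AlgebraicClosure k

include ψ in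
/-- the geometric coordinate ring of a smooth connected affine group is a domain -/
theorem isDomain_geom [Smooth G.hom] [ConnectedSpace G.left] : IsDomain (Kb ⊗[k] A) := by
  let f := Spec.map (CommRingCat.ofHom (algebraMap k Kb))
  obtain ⟨ψ', _⟩ := exists_coord_bc Kb ψ
  haveI : Smooth (Red.bc f G).hom := inferInstanceAs (Smooth (pullback.snd G.hom f))
  haveI : IrreducibleSpace (Red.bc f G).left :=
    (Alb96.geometricallyIrreducible_of_connectedSpace G).1 f _ _ (IsPullback.of_hasPullback G.hom f)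
  haveI : AlgebraicGeometry.IsReduced (Red.bc f G).left := AlgGrp79.isReduced_of_smooth (Red.bc f G).hom
  haveI : IsIntegral (Red.bc f G).left := isIntegral_of_irreducibleSpace_of_isReduced _
  exact (fn ψ').toMulEquiv.isDomain _

include ψ in
/-- a torus has diagonalizable geometric coordinate ring -/
theorem isDiagonalizable_of_isTorus [Algebra.FiniteType k A] (hT : Red.IsTorus G) :
    HopfRep.IsDiagonalizable Kb (Kb ⊗[k] A) := by
  obtain ⟨S', f, -, hs, -, hloc⟩ := hT
  obtain ⟨x₀⟩ : Nonempty (Spec (CommRingCat.of k)) := inferInstanceAs (Nonempty (PrimeSpectrum k))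
  obtain ⟨s', -⟩ := hs.surj x₀
  obtain ⟨U, hU, r, ⟨e₀⟩⟩ := hloc s'
  let u₀ : (U : Scheme.{u}) := ⟨s', hU⟩
  let L : Type u := (U : Scheme.{u}).residueField u₀
  let g : Spec (CommRingCat.of L) ⟶ (U : Scheme.{u}) := (U : Scheme.{u}).fromSpecResidueField u₀
  obtain ⟨q, hq⟩ : ∃ q : k →+* L, Spec.map (CommRingCat.ofHom q) = g ≫ U.ι ≫ f :=
    ⟨(Spec.preimage (g ≫ U.ι ≫ f)).hom, by rw [CommRingCat.ofHom_hom, Spec.map_preimage]⟩
  letI : Algebra k L := q.toAlgebra
  haveI : Coalgebra.IsCocomm L (MonoidAlgebra L (Multiplicative (Fin r → ℤ))) := inferInstance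
  obtain ⟨ψL, _⟩ := exists_coord_bc L ψ
  obtain ⟨ψD, _⟩ := exists_coord_DS L (Fin r → ℤ)
  obtain ⟨e₁⟩ := GMod80.nonempty_bc_DS_iso g (AddEquiv.refl (Fin r → ℤ))
  obtain ⟨e₂⟩ := nonempty_bc_comp g (U.ι ≫ f) G
  let e₃ : Grp.mk (Red.bc g (Red.bc (U.ι ≫ f) G)) ≅ Grp.mk (Red.bc g (Red.DS (U : Scheme.{u}) (Fin r → ℤ))) :=
    (Functor.mapGrp (Over.pullback g)).mapIso e₀
  have he : Nonempty (Grp.mk (Red.bc (Spec.map (CommRingCat.ofHom (algebraMap k L))) G) ≅
      Grp.mk (Red.DS (Spec (CommRingCat.of L)) (Fin r → ℤ))) := by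
    have aux : ∀ h : Spec (CommRingCat.of L) ⟶ Spec (CommRingCat.of k), h = g ≫ U.ι ≫ f →
        Nonempty (Grp.mk (Red.bc h G) ≅ Grp.mk (Red.DS (Spec (CommRingCat.of L)) (Fin r → ℤ))) := by
      rintro h rfl
      exact ⟨e₂.symm ≪≫ e₃ ≪≫ e₁⟩
    exact aux _ hq
  obtain ⟨e₄⟩ := he
  obtain ⟨E⟩ := exists_bialgEquiv_of_grpIso ψD ψL e₄
  have hD : HopfRep.IsDiagonalizable L (L ⊗[k] A) := by
    refine eq_top_iff.2 fun z _ => ?_
    rw [← E.apply_symm_apply z]
    generalize E.symm z = w
    induction w using MonoidAlgebra.induction_on with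
    | of m =>
      exact Submodule.subset_span (IsGroupLikeElem.map E (MonoidAlgebra.isGroupLikeElem_single_one m))
    | add p q hp hq => rw [map_add]; exact add_mem hp hq
    | smul c p hp => rw [map_smul]; exact Submodule.smul_mem _ c hp
  haveI := Comod33.Diag.isCocomm_of_isDiagonalizable hD
  exact (S7979.result k A).2 ⟨Comod33.Diag.isCocomm_descend (K := L),
    fun a ha => Comod33.Diag.no_prim_descend (K := L)
      (fun z hz => Comod33.Diag.no_prim_of_isDiagonalizable hD hz) ha⟩

theorem bijective_liftGroupLike {K C : Type u} [Field K] [CommRing C] [HopfAlgebra K C]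
    (hD : HopfRep.IsDiagonalizable K C) :
    Function.Bijective (MonoidAlgebra.liftGroupLikeBialgHom : MonoidAlgebra K (GroupLike K C) →ₐc[K] C) := by
  classical
  let φ : MonoidAlgebra K (GroupLike K C) →ₐc[K] C := MonoidAlgebra.liftGroupLikeBialgHom
  have hφ : ∀ g r, φ (MonoidAlgebra.single g r) = r • (g : C) := fun g r => by
    simp [φ, MonoidAlgebra.liftGroupLikeBialgHom, MonoidAlgebra.lift_single]
  have hli : LinearIndependent K (fun g : GroupLike K C => (g : C)) :=
    (linearIndepOn_isGroupLikeElem (R := K) (A := C)).comp (fun g : GroupLike K C => ⟨(g : C), g.2⟩)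
      fun g h e => GroupLike.ext (congrArg Subtype.val e)
  refine ⟨fun p q hpq => ?_, fun c => ?_⟩
  · have : ∀ p : MonoidAlgebra K (GroupLike K C),
        φ p = Finsupp.linearCombination K (fun g : GroupLike K C => (g : C)) p.coeff := by
      intro p
      induction p using MonoidAlgebra.induction_on with
      | of g => simp [hφ]
      | add p q hp hq => simp [map_add, hp, hq]
      | smul r p hp => simp [map_smul, hp]
    change φ p = φ q at hpq
    rw [this, this] at hpq
    exact MonoidAlgebra.coeff_injective (hli hpq)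
  · have h2 : Submodule.span K {a : C | IsGroupLikeElem K a} ≤
        (φ : MonoidAlgebra K (GroupLike K C) →ₐ[K] C).toLinearMap.range :=
      Submodule.span_le.2 fun g hg => ⟨MonoidAlgebra.single ⟨g, hg⟩ 1, by simpa using hφ ⟨g, hg⟩ 1⟩
    exact h2 (hD ▸ Submodule.mem_top)

/-- a diagonalizable domain of finite type over an algebraically closed field is a split torus -/
theorem exists_equiv_split {K C : Type u} [Field K] [IsAlgClosed K] [CommRing C] [HopfAlgebra K C]
    [Algebra.FiniteType K C] [IsDomain C] (hD : HopfRep.IsDiagonalizable K C) :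
    ∃ r : ℕ, Nonempty (C ≃ₐc[K] MonoidAlgebra K (Multiplicative (Fin r → ℤ))) := by
  classical
  let e := BialgEquiv.ofBijective _ (bijective_liftGroupLike hD)
  haveI : Algebra.FiniteType K (MonoidAlgebra K (GroupLike K C)) :=
    Algebra.FiniteType.equiv ‹_› (e.symm : C ≃ₐ[K] MonoidAlgebra K (GroupLike K C))
  haveI : Group.FG (GroupLike K C) := (MonoidAlgebra.finiteType_iff_group_fg (R := K)).1 inferInstance
  haveI : IsMulTorsionFree (GroupLike K C) := IsMulTorsionFree.of_not_isOfFinOrder fun g hg1 hg => by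
    obtain ⟨n, hn, hgn⟩ := isOfFinOrder_iff_pow_eq_one.1 hg
    exact Comod33.DimOneClass.pow_ne_one g.2 (fun h => hg1 (GroupLike.ext h)) hn
      (congrArg GroupLike.val hgn)
  haveI : AddGroup.FG (Additive (GroupLike K C)) := inferInstance
  haveI : Module.Finite ℤ (Additive (GroupLike K C)) := Module.Finite.iff_addGroup_fg.2 inferInstance
  haveI : Module.IsTorsionFree ℤ (Additive (GroupLike K C)) := inferInstance
  let b := Module.finBasis ℤ (Additive (GroupLike K C))
  let E : GroupLike K C ≃* Multiplicative (Fin (Module.finrank ℤ (Additive (GroupLike K C))) → ℤ) :=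
    AddEquiv.toMultiplicativeRight b.equivFun.toAddEquiv
  exact ⟨_, ⟨e.symm.trans (MonoidAlgebra.domCongrBialgEquiv K K E)⟩⟩

include ψ in
/-- diagonalizable geometric coordinate ring: a torus -/
theorem isTorus_of_isDiagonalizable [Algebra.FiniteType k A] [IsDomain (Kb ⊗[k] A)]
    (hD : HopfRep.IsDiagonalizable Kb (Kb ⊗[k] A)) : Red.IsTorus G := by
  obtain ⟨r, ⟨E⟩⟩ := exists_equiv_split hD
  let f := Spec.map (CommRingCat.ofHom (algebraMap k Kb))
  obtain ⟨ψK, _⟩ := exists_coord_bc Kb ψ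
  obtain ⟨ψD, _⟩ := exists_coord_DS Kb (Fin r → ℤ)
  obtain ⟨e₀⟩ := nonempty_grpIso ψD ψK E.symm
  have hsurj : Surjective f := ⟨fun x => ⟨(Classical.arbitrary (PrimeSpectrum Kb) : _), Subsingleton.elim _ _⟩⟩
  have hflat : Flat f := by
    rw [HasRingHomProperty.Spec_iff (P := @Flat)]
    exact RingHom.flat_algebraMap_iff.2 inferInstance
  refine ⟨_, f, hflat, hsurj,
    fun V hV => ⟨f ⁻¹ᵁ V, (hV.preimage f).isCompact, Set.image_preimage_eq _ f.surjective⟩,
    fun s => ⟨⊤, trivial, r, ?_⟩⟩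
  obtain ⟨e₁⟩ := GMod80.nonempty_bc_DS_iso (Scheme.Opens.ι (⊤ : (Spec (CommRingCat.of Kb)).Opens))
    (AddEquiv.refl (Fin r → ℤ))
  obtain ⟨e₂⟩ := nonempty_bc_comp (Scheme.Opens.ι (⊤ : (Spec (CommRingCat.of Kb)).Opens)) f G
  exact ⟨e₂.symm ≪≫ (Functor.mapGrp (Over.pullback _)).mapIso e₀ ≪≫ e₁⟩

end Groth.Agent.AlgGrp33
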