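import Groth.Agent.GMod80.Dict
import Groth.Agent.GMod80.GLHom
import Groth.Agent.GMod80.Character
import Groth.Agent.RedPts82.Bridge
import Groth.Agent.AlgGrp79.GmGaLaws
import Mathlib.RingTheory.Bialgebra.SymmetricAlgebra
import Mathlib.RingTheory.Bialgebra.MonoidAlgebra
import Mathlib.RingTheory.HopfAlgebra.GroupLike

/-!
Coordinates on the additive and multiplicative groups and isomorphisms from bialgebra isomorphisms.
-/

set_option autoImplicit false
set_option linter.unusedSectionVars false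

universe u

open CategoryTheory MonoidalCategory CartesianMonoidalCategory MonObj GrpObj AlgebraicGeometry
open scoped TensorProduct
open WithConv TensorProduct

noncomputable section

namespace Groth.Agent.AlgGrp33

open GMod80

variable {k : Type u} [Field k]

theorem spHom_comp_spHom {A B C : Type u} [CommRing A] [HopfAlgebra k A] [CommRing B] [HopfAlgebra k B]
    [CommRing C] [HopfAlgebra k C] (φ : B →ₐc[k] A) (χ : C →ₐc[k] B) :
    spHom φ ≫ spHom χ = spHom (φ.comp χ) := by
  apply Over.OverMorphism.ext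
  change Spec.map _ ≫ Spec.map _ = Spec.map _
  rw [← Spec.map_comp]
  rfl

theorem spHom_id {A : Type u} [CommRing A] [HopfAlgebra k A] : spHom (BialgHom.id k A) = 𝟙 (sp k A) := by
  apply Over.OverMorphism.ext
  exact Spec.map_id _

/-- the isomorphism of spectra of a bialgebra isomorphism -/
def spIso {A B : Type u} [CommRing A] [HopfAlgebra k A] [CommRing B] [HopfAlgebra k B] (E : A ≃ₐc[k] B) :
    sp k B ≅ sp k A where
  hom := spHom (E : A →ₐc[k] B)
  inv := spHom (E.symm : B →ₐc[k] A)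
  hom_inv_id := by
    rw [spHom_comp_spHom, ← spHom_id]
    congr 1
    exact BialgHom.ext fun a => E.apply_symm_apply a
  inv_hom_id := by
    rw [spHom_comp_spHom, ← spHom_id]
    congr 1
    exact BialgHom.ext fun a => E.symm_apply_apply a

instance {A B : Type u} [CommRing A] [HopfAlgebra k A] [CommRing B] [HopfAlgebra k B] (E : A ≃ₐc[k] B) :
    IsMonHom (spIso E).hom := inferInstanceAs (IsMonHom (spHom _))

/-- isomorphic coordinate bialgebras give isomorphic groups -/
theorem nonempty_grpIso {A A' : Type u} [CommRing A] [HopfAlgebra k A] [CommRing A'] [HopfAlgebra k A']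
    {G H : Over (Spec (CommRingCat.of k))} [GrpObj G] [GrpObj H] (ψ : sp k A ≅ G) [IsMonHom ψ.hom]
    (ψ' : sp k A' ≅ H) [IsMonHom ψ'.hom] (E : A ≃ₐc[k] A') : Nonempty (Grp.mk H ≅ Grp.mk G) := by
  have hm : IsMonHom (ψ'.symm ≪≫ spIso E ≪≫ ψ).hom :=
    inferInstanceAs (IsMonHom (ψ'.inv ≫ (spIso E).hom ≫ ψ.hom))
  exact ⟨Grp.mkIso (ψ'.symm ≪≫ spIso E ≪≫ ψ) (by exact hm.one_hom) (by exact hm.mul_hom)⟩

theorem isAffine_Ga : IsAffine (Red.Ga (Spec (CommRingCat.of k))).left :=
  haveI : IsAffine Red.GaZ.{u}.left :=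
    inferInstanceAs (IsAffine (Spec (CommRingCat.of (SymmetricAlgebra (ULift.{u} ℤ) (ULift.{u} ℤ)))))
  AlgGrp79.isAffine_bc_terminal k _

theorem isAffine_Gm : IsAffine (Red.Gm (Spec (CommRingCat.of k))).left :=
  haveI : IsAffine (Red.diag (ULift.{u} ℤ) ℤ).left :=
    inferInstanceAs (IsAffine (Spec (CommRingCat.of (MonoidAlgebra (ULift.{u} ℤ) (Multiplicative ℤ)))))
  AlgGrp79.isAffine_bc_terminal k _

/-- coordinates on the additive group -/
theorem exists_coord_Ga :
    ∃ ψ : sp k (SymmetricAlgebra k k) ≅ Red.Ga (Spec (CommRingCat.of k)), IsMonHom ψ.hom := by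
  haveI := isAffine_Ga (k := k)
  obtain ⟨B, _, _, ψB, _⟩ := exists_coord (k := k) (Red.Ga (Spec (CommRingCat.of k)))
  let v : ∀ {R : Type u} [CommRing R] [Algebra k R], WithConv (B →ₐ[k] R) → R :=
    fun {R} _ _ f => (Scheme.ΓSpecIso (CommRingCat.of R)).hom.hom (Red.gaFn (e ψB R f))
  have vnat : ∀ {R R' : Type u} [CommRing R] [Algebra k R] [CommRing R'] [Algebra k R']
      (q : R →ₐ[k] R') (f : WithConv (B →ₐ[k] R)), v (toConv (q.comp f.ofConv)) = q (v f) := by
    intro R R' _ _ _ _ q f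
    simp only [v]
    rw [← e_natural, RedPts82.gaFn_comp]
    exact congrArg (fun r => r.hom (Red.gaFn (e ψB R f)))
      (Scheme.ΓSpecIso_naturality (CommRingCat.ofHom q.toRingHom))
  have vmul : ∀ {R : Type u} [CommRing R] [Algebra k R] (f f' : WithConv (B →ₐ[k] R)),
      v (f * f') = v f + v f' := fun f f' => by
    simp only [v, map_mul]
    rw [RedPts82.gaFn_mul, map_add]
  have vone : ∀ {R : Type u} [CommRing R] [Algebra k R], v (1 : WithConv (B →ₐ[k] R)) = 0 := fun {R} _ _ => by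
    have h := vmul (R := R) 1 1
    rw [_root_.mul_one] at h
    exact add_eq_left.1 h.symm
  have vinj : ∀ {R : Type u} [CommRing R] [Algebra k R] (f f' : WithConv (B →ₐ[k] R)),
      v f = v f' → f = f' := fun {R} _ _ f f' hff =>
    (e ψB R).injective (RedPts82.gaFn_injective
      ((ConcreteCategory.bijective_of_isIso (Scheme.ΓSpecIso (CommRingCat.of R)).hom).1 hff))
  have vsurj : ∀ {R : Type u} [CommRing R] [Algebra k R] (r : R), ∃ f : WithConv (B →ₐ[k] R), v f = r := by
    intro R _ _ r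
    obtain ⟨t, ht⟩ := RedPts82.gaFn_surjective (S := Spec (CommRingCat.of k)) (X := VecGrp.pt k R)
      ((Scheme.ΓSpecIso (CommRingCat.of R)).inv.hom r)
    obtain ⟨f, rfl⟩ := (e ψB R).surjective t
    refine ⟨f, ?_⟩
    simp only [v]
    rw [ht]
    simp
  let x : B := v (toConv (AlgHom.id k B))
  have hx : ∀ {R : Type u} [CommRing R] [Algebra k R] (f : WithConv (B →ₐ[k] R)), v f = f.ofConv x := by
    intro R _ _ f
    have h := vnat f.ofConv (toConv (AlgHom.id k B))
    simp only [AlgHom.comp_id, ofConv_toConv] at h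
    exact h
  have hΔ : CoalgebraStruct.comul (R := k) x = x ⊗ₜ[k] (1 : B) + (1 : B) ⊗ₜ[k] x := by
    have h := vmul (toConv (Algebra.TensorProduct.includeLeft : B →ₐ[k] B ⊗[k] B))
      (toConv Algebra.TensorProduct.includeRight)
    rw [← comulAlgHom_eq_lr, hx, hx, hx] at h
    exact h
  have hε : CoalgebraStruct.counit (R := k) x = 0 := by
    have h := hx (1 : WithConv (B →ₐ[k] k))
    rw [vone] at h
    exact h.symm
  let f : SymmetricAlgebra k k →ₐ[k] B := SymmetricAlgebra.lift (LinearMap.toSpanSingleton k B x)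
  let φ : SymmetricAlgebra k k →ₐc[k] B := BialgHom.ofAlgHom f
    (by ext; simp [f, hε, SymmetricAlgebra.algebraMapInv_ι]) (by ext; simp [f, hΔ])
  obtain ⟨f₀, hf₀⟩ := vsurj (SymmetricAlgebra.ι k k 1)
  rw [hx] at hf₀
  have h1 : f.comp f₀.ofConv = AlgHom.id k B := WithConv.toConv_injective (vinj _ _ (by
    rw [hx, hx]
    simp [f, hf₀]))
  have h2 : f₀.ofConv.comp f = AlgHom.id k (SymmetricAlgebra k k) := by
    ext
    simp [f, hf₀]
  have hbij : Function.Bijective φ :=
    ⟨Function.LeftInverse.injective (g := f₀.ofConv) fun a => AlgHom.congr_fun h2 a,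
      fun b => ⟨f₀.ofConv b, AlgHom.congr_fun h1 b⟩⟩
  exact ⟨(spIso (BialgEquiv.ofBijective φ hbij)).symm ≪≫ ψB,
    inferInstanceAs (IsMonHom ((spIso (BialgEquiv.ofBijective φ hbij)).inv ≫ ψB.hom))⟩

/-- coordinates on the multiplicative group, with the tautological value -/
theorem exists_coord_Gm :
    ∃ ψ : sp k (MonoidAlgebra k (Multiplicative ℤ)) ≅ Red.Gm (Spec (CommRingCat.of k)), ∃ _ : IsMonHom ψ.hom,
      ∀ (R : Type u) [CommRing R] [Algebra k R] (f : WithConv (MonoidAlgebra k (Multiplicative ℤ) →ₐ[k] R)),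
        (Scheme.ΓSpecIso (CommRingCat.of R)).hom.hom (Red.gmFn (e ψ R f)) =
          f.ofConv (MonoidAlgebra.single (Multiplicative.ofAdd (1 : ℤ)) 1) := by
  haveI := isAffine_Gm (k := k)
  obtain ⟨B, _, _, ψB, _⟩ := exists_coord (k := k) (Red.Gm (Spec (CommRingCat.of k)))
  let v : ∀ {R : Type u} [CommRing R] [Algebra k R], WithConv (B →ₐ[k] R) → R :=
    fun {R} _ _ f => (Scheme.ΓSpecIso (CommRingCat.of R)).hom.hom (Red.gmFn (e ψB R f))
  have vnat : ∀ {R R' : Type u} [CommRing R] [Algebra k R] [CommRing R'] [Algebra k R']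
      (q : R →ₐ[k] R') (f : WithConv (B →ₐ[k] R)), v (toConv (q.comp f.ofConv)) = q (v f) := by
    intro R R' _ _ _ _ q f
    simp only [v]
    rw [← e_natural, RedPts82.gmFn_comp]
    exact congrArg (fun r => r.hom (Red.gmFn (e ψB R f)))
      (Scheme.ΓSpecIso_naturality (CommRingCat.ofHom q.toRingHom))
  have vmul : ∀ {R : Type u} [CommRing R] [Algebra k R] (f f' : WithConv (B →ₐ[k] R)),
      v (f * f') = v f * v f' := fun f f' => by
    simp only [v, map_mul]
    rw [RedPts82.gmFn_mul, map_mul]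
  have vinj : ∀ {R : Type u} [CommRing R] [Algebra k R] (f f' : WithConv (B →ₐ[k] R)),
      v f = v f' → f = f' := fun {R} _ _ f f' hff =>
    (e ψB R).injective (RedPts82.gmFn_injective
      ((ConcreteCategory.bijective_of_isIso (Scheme.ΓSpecIso (CommRingCat.of R)).hom).1 hff))
  have vunit : ∀ {R : Type u} [CommRing R] [Algebra k R] (f : WithConv (B →ₐ[k] R)), IsUnit (v f) :=
    fun {R} _ _ f => (RedPts82.gmFn_isUnit (e ψB R f)).map (Scheme.ΓSpecIso (CommRingCat.of R)).hom.hom
  have vone : ∀ {R : Type u} [CommRing R] [Algebra k R], v (1 : WithConv (B →ₐ[k] R)) = 1 := fun {R} _ _ => by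
    have h := vmul (R := R) 1 1
    rw [_root_.mul_one] at h
    exact (vunit (1 : WithConv (B →ₐ[k] R))).mul_eq_left.1 h.symm
  have vsurj : ∀ {R : Type u} [CommRing R] [Algebra k R] (r : R), IsUnit r →
      ∃ f : WithConv (B →ₐ[k] R), v f = r := by
    intro R _ _ r hr
    obtain ⟨t, ht⟩ := RedPts82.gmFn_surjective (S := Spec (CommRingCat.of k)) (X := VecGrp.pt k R)
      (hr.map (Scheme.ΓSpecIso (CommRingCat.of R)).inv.hom)
    obtain ⟨f, rfl⟩ := (e ψB R).surjective t
    refine ⟨f, ?_⟩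
    simp only [v]
    rw [ht]
    simp
  let x : B := v (toConv (AlgHom.id k B))
  have hx : ∀ {R : Type u} [CommRing R] [Algebra k R] (f : WithConv (B →ₐ[k] R)), v f = f.ofConv x := by
    intro R _ _ f
    have h := vnat f.ofConv (toConv (AlgHom.id k B))
    simp only [AlgHom.comp_id, ofConv_toConv] at h
    exact h
  have hΔ : CoalgebraStruct.comul (R := k) x = x ⊗ₜ[k] x := by
    have h := vmul (toConv (Algebra.TensorProduct.includeLeft : B →ₐ[k] B ⊗[k] B))
      (toConv Algebra.TensorProduct.includeRight)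
    rw [← comulAlgHom_eq_lr, hx, hx, hx] at h
    simpa using h
  have hε : CoalgebraStruct.counit (R := k) x = 1 := by
    have h := hx (1 : WithConv (B →ₐ[k] k))
    rw [vone] at h
    exact h.symm
  let gl : GroupLike k B := ⟨x, hε, hΔ⟩
  let φ : MonoidAlgebra k (Multiplicative ℤ) →ₐc[k] B :=
    MonoidAlgebra.liftGroupLikeBialgHom.comp
      (MonoidAlgebra.mapDomainBialgHom k (zpowersHom (GroupLike k B) gl))
  have hφ : φ (MonoidAlgebra.single (Multiplicative.ofAdd (1 : ℤ)) 1) = x := by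
    simp [φ, MonoidAlgebra.liftGroupLikeBialgHom, MonoidAlgebra.lift_single, gl]
  obtain ⟨f₀, hf₀⟩ := vsurj (MonoidAlgebra.single (Multiplicative.ofAdd (1 : ℤ)) (1 : k))
    (IsUnit.map (MonoidAlgebra.of k (Multiplicative ℤ)) (Group.isUnit (Multiplicative.ofAdd (1 : ℤ))))
  rw [hx] at hf₀
  have h1 : (φ : _ →ₐ[k] B).comp f₀.ofConv = AlgHom.id k B := WithConv.toConv_injective (vinj _ _ (by
    rw [hx, hx]
    simp [hf₀, hφ]))
  have h2 : f₀.ofConv.comp (φ : _ →ₐ[k] B) = AlgHom.id k (MonoidAlgebra k (Multiplicative ℤ)) := by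
    apply MonoidAlgebra.algHom_ext'
    · apply MonoidHom.ext_mint
      simp [hφ, hf₀]
    · ext
  have hbij : Function.Bijective φ :=
    ⟨Function.LeftInverse.injective (g := f₀.ofConv) fun a => AlgHom.congr_fun h2 a,
      fun b => ⟨f₀.ofConv b, AlgHom.congr_fun h1 b⟩⟩
  haveI : IsMonHom ((spIso (BialgEquiv.ofBijective φ hbij)).symm ≪≫ ψB).hom :=
    inferInstanceAs (IsMonHom ((spIso (BialgEquiv.ofBijective φ hbij)).inv ≫ ψB.hom))
  refine ⟨(spIso (BialgEquiv.ofBijective φ hbij)).symm ≪≫ ψB, this, fun R _ _ f => ?_⟩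
  have h : e ((spIso (BialgEquiv.ofBijective φ hbij)).symm ≪≫ ψB) R f =
      e ψB R (toConv (f.ofConv.comp
        ((BialgEquiv.ofBijective φ hbij).symm : B →ₐ[k] MonoidAlgebra k (Multiplicative ℤ)))) := by
    show Spec.mapMulEquiv f ≫ spHom _ ≫ ψB.hom = _
    rw [← Category.assoc, comp_spHom]
    rfl
  rw [h]
  refine (hx _).trans ?_
  show f.ofConv ((BialgEquiv.ofBijective φ hbij).symm x) = _
  congr 1
  rw [← hφ]
  exact (BialgEquiv.ofBijective φ hbij).symm_apply_apply _

end Groth.Agent.AlgGrp33
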