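import Groth.Agent.Comod33.DimOne
import Groth.Agent.Comod33.DimOneMult
import Groth.Agent.EGA4Alg4.IntegralDim
import Groth.Agent.Versch53.BaseChange
import Mathlib.Algebra.Polynomial.Laurent
import Mathlib.RingTheory.KrullDimension.PID
import Mathlib.RingTheory.Nilpotent.GeometricallyReduced

/-!
Groups isogenous to the multiplicative group.
-/

set_option autoImplicit false

universe u

open TensorProduct WithConv

noncomputable section

namespace Groth.Agent.AlgGrp33.GmDescent

open LaurentPolynomial in
theorem ringKrullDim_eq_one (k : Type u) [Field k] : ringKrullDim (MonoidAlgebra k (Multiplicative ℤ)) = 1 := by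
  rw [ringKrullDim_eq_of_ringEquiv (MonoidAlgebra.toAdditiveAlgEquiv k k (Multiplicative ℤ)).toRingEquiv]
  change ringKrullDim k[T;T⁻¹] = 1
  apply le_antisymm
  · have hmono : StrictMono (PrimeSpectrum.comap (algebraMap (Polynomial k) k[T;T⁻¹])) :=
      Monotone.strictMono_of_injective (fun a b h => Ideal.comap_mono h)
        (PrimeSpectrum.localization_comap_injective _ (Submonoid.powers (Polynomial.X : Polynomial k)))
    calc ringKrullDim k[T;T⁻¹] ≤ ringKrullDim (Polynomial k) := Order.krullDim_le_of_strictMono _ hmono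
      _ = 1 := IsPrincipalIdealRing.ringKrullDim_eq_one _ (Polynomial.not_isField k)
  · have hT : ¬ IsUnit ((T 1 : k[T;T⁻¹]) - 1) := fun h => by
      have := h.map (LaurentPolynomial.eval₂ (RingHom.id k) 1)
      simp at this
    obtain ⟨m, hm, hmem⟩ := exists_max_ideal_of_mem_nonunits hT
    have hne : (T 1 : k[T;T⁻¹]) - 1 ≠ 0 := by
      intro h
      have := congrArg (fun p : k[T;T⁻¹] => p.coeff 1) (sub_eq_zero.1 h)
      rw [← T_zero] at this; simp only [LaurentPolynomial.T, AddMonoidAlgebra.coeff_single, Finsupp.single_apply] at this; simp at this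
    have hlt : (⊥ : Ideal k[T;T⁻¹]) < m := bot_lt_iff_ne_bot.2 fun e => hne (by simpa [e] using hmem)
    have : 0 < Order.krullDim (PrimeSpectrum k[T;T⁻¹]) :=
      Order.krullDim_pos_iff.2 ⟨⟨⊥, Ideal.isPrime_bot⟩, ⟨m, hm.isPrime⟩, hlt⟩
    show (1 : WithBot ℕ∞) ≤ Order.krullDim _
    revert this
    generalize Order.krullDim (PrimeSpectrum k[T;T⁻¹]) = d
    intro hd
    induction d with
    | bot => simp at hd
    | coe a => exact_mod_cast Order.one_le_iff_pos.2 (by exact_mod_cast hd)

theorem mem_range_of_baseChange {k K : Type u} [Field k] [Field K] [Algebra k K] {M N : Type u} [AddCommGroup M]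
    [Module k M] [AddCommGroup N] [Module k N] (f : M →ₗ[k] N) {x : N}
    (h : (1 : K) ⊗ₜ[k] x ∈ LinearMap.range (f.baseChange K)) : x ∈ LinearMap.range f := by
  obtain ⟨z, hz⟩ := h
  have h0 : (LinearMap.range f).mkQ.baseChange K (f.baseChange K z) = 0 := by
    rw [← LinearMap.comp_apply, ← LinearMap.baseChange_comp, LinearMap.range_mkQ_comp, LinearMap.baseChange_zero,
      LinearMap.zero_apply]
  rw [hz, LinearMap.baseChange_tmul] at h0
  refine (Submodule.Quotient.mk_eq_zero _).1 ?_
  have hinj : Function.Injective (fun q : N ⧸ LinearMap.range f => (1 : K) ⊗ₜ[k] q) :=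
    Module.FaithfullyFlat.tensorProduct_mk_injective (A := k) (B := K) _
  exact hinj (h0.trans (TensorProduct.tmul_zero _ _).symm)

variable {k : Type u} [Field k] {A : Type u} [CommRing A] [HopfAlgebra k A]

theorem nonempty_equiv [Algebra.FiniteType k A] [Algebra.IsGeometricallyReduced k A]
    (hconn : ∀ e : A, IsIdempotentElem e → e = 0 ∨ e = 1)
    (φ : MonoidAlgebra k (Multiplicative ℤ) →ₐc[k] A) (hφ : Function.Injective φ)
    (hfin : (φ : MonoidAlgebra k (Multiplicative ℤ) →ₐ[k] A).toRingHom.Finite) :
    Nonempty (MonoidAlgebra k (Multiplicative ℤ) ≃ₐc[k] A) := by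
  classical
  let K := AlgebraicClosure k
  let φ' : MonoidAlgebra k (Multiplicative ℤ) →ₐ[k] A := φ
  haveI : IsNoetherianRing A := Algebra.FiniteType.isNoetherianRing k A
  have hdimA : ringKrullDim A = 1 := by
    letI : Algebra (MonoidAlgebra k (Multiplicative ℤ)) A := φ'.toRingHom.toAlgebra
    haveI : Module.Finite (MonoidAlgebra k (Multiplicative ℤ)) A := hfin
    rw [EGA4Alg4.ringKrullDim_eq_of_integral (MonoidAlgebra k (Multiplicative ℤ)) A hφ, ringKrullDim_eq_one]
  haveI : IsReduced (K ⊗[k] A) := (Algebra.isGeometricallyReduced_field_iff k A).1 inferInstance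
  have hconnK : ∀ e : K ⊗[k] A, IsIdempotentElem e → e = 0 ∨ e = 1 :=
    Comod33.DimOne.isIdempotentElem_baseChange (Bialgebra.counitAlgHom k A) K hconn
  haveI : IsDomain (K ⊗[k] A) := Comod33.Units.isDomain K hconnK
  have hdimK : ringKrullDim (K ⊗[k] A) = 1 := by
    letI : Algebra A (K ⊗[k] A) := Algebra.TensorProduct.rightAlgebra
    haveI : Algebra.IsIntegral A (K ⊗[k] A) := by
      let e : A ⊗[k] K ≃ₐ[A] K ⊗[k] A :=
        AlgEquiv.ofRingEquiv (f := Algebra.TensorProduct.comm k A K) fun a => by
          simp [RingHom.algebraMap_toAlgebra]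
      exact Algebra.IsIntegral.of_surjective (R := A) (A := A ⊗[k] K) e.toAlgHom e.surjective
    rw [EGA4Alg4.ringKrullDim_eq_of_integral A (K ⊗[k] A)
      (Algebra.TensorProduct.includeRight_injective (algebraMap k K).injective), hdimA]
  haveI : Coalgebra.IsCocomm k A := Comod33.DimOne.isCocomm_of_dim_one_general K hconn hdimA.le
  haveI : Coalgebra.IsCocomm K (K ⊗[k] A) := Comod33.DimOne.isCocomm_of_dim_one hconnK hdimK.le
  -- the character
  let t : MonoidAlgebra k (Multiplicative ℤ) := MonoidAlgebra.of k _ (Multiplicative.ofAdd (1 : ℤ))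
  let χ : A := φ t
  have hχ : IsGroupLikeElem k χ := (MonoidAlgebra.isGroupLikeElem_of _).map φ
  let χK : K ⊗[k] A := (1 : K) ⊗ₜ[k] χ
  have hχK : IsGroupLikeElem K χK :=
    ⟨by simp [χK, hχ.counit_eq_one], by simp [χK, TensorProduct.comul_tmul, hχ.comul_eq_tmul_self]⟩
  have hne : χK ≠ 1 := fun h => by
    have h1 : φ t = φ 1 := by
      rw [map_one]
      exact Algebra.TensorProduct.includeRight_injective (A := K) (algebraMap k K).injective h
    simpa [t] using MonoidAlgebra.of_injective (R := k) ((hφ h1).trans (map_one (MonoidAlgebra.of k _)).symm)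
  obtain ⟨E⟩ := Comod33.DimOneClass.nonempty_equiv_Gm (k := K)
    (Comod33.DimOneClass.isDiagonalizable_of_groupLike hdimK.le hχK hne) hdimK
  obtain ⟨m', hm'⟩ := MonoidAlgebra.isGroupLikeElem_iff_mem_range_of.1 (hχK.map E)
  let m : ℤ := m'.toAdd
  let n : ℕ := m.natAbs
  let g : ℤ → K ⊗[k] A := fun j => E.symm (MonoidAlgebra.single (Multiplicative.ofAdd j) 1)
  have hg : ∀ j, IsGroupLikeElem K (g j) := fun j => (MonoidAlgebra.isGroupLikeElem_single_one _).map E.symm
  have hgpow : ∀ j (N : ℕ), g j ^ N = g (N * j) := fun j N => by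
    show E.symm _ ^ N = E.symm _
    rw [← map_pow, MonoidAlgebra.single_pow, one_pow]
    congr 2
  let S : Submodule K (K ⊗[k] A) := Submodule.span K (Set.range fun j : ℤ => g (n * j))
  have hspan : Submodule.span K (Set.range g) = ⊤ := by
    have h := congrArg (Submodule.map (E.symm : MonoidAlgebra K (Multiplicative ℤ) →ₐ[K] K ⊗[k] A).toLinearMap)
      (MonoidAlgebra.span_isGroupLikeElem (R := K) (A := K) (G := Multiplicative ℤ))
    rw [Submodule.map_top, Submodule.map_span] at h
    refine eq_top_iff.2 fun z _ => Submodule.span_mono ?_ (h.ge ⟨E z, E.symm_apply_apply z⟩)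
    rintro _ ⟨x, hx, rfl⟩
    obtain ⟨j, rfl⟩ := MonoidAlgebra.isGroupLikeElem_iff_mem_range_of.1 hx
    exact ⟨j.toAdd, rfl⟩
  -- the power endomorphism
  let P : A →ₗ[k] A := (SGA3b.powConv k A n).toLinearMap
  have hPK : ∀ j, P.baseChange K (g j) = g (n * j) := fun j => by
    rw [← hgpow, ← Comod33.DimOneClass.powConv_groupLike n (hg j)]
    generalize g j = z
    induction z with
    | zero => simp
    | add p q hp hq => simp only [map_add, hp, hq]
    | tmul p q => rw [LinearMap.baseChange_tmul, Versch53.powConv_baseChange_tmul]; rfl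
  have hP : LinearMap.range (P.baseChange K) = S := by
    rw [← Submodule.map_top, ← hspan, Submodule.map_span, ← Set.range_comp]
    exact congrArg _ (congrArg Set.range (funext hPK))
  let Φ := φ'.toLinearMap.baseChange K
  let F : Multiplicative ℤ →* K ⊗[k] A :=
    (Algebra.TensorProduct.includeRight.toMonoidHom).comp ((φ' : _ →* A).comp (MonoidAlgebra.of k (Multiplicative ℤ)))
  let G : Multiplicative ℤ →* K ⊗[k] A :=
    ((E.symm : MonoidAlgebra K (Multiplicative ℤ) →ₐ[K] K ⊗[k] A) : _ →* K ⊗[k] A).comp
      ((MonoidAlgebra.of K (Multiplicative ℤ)).comp (zpowersHom (Multiplicative ℤ) m'))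
  have hFG : F = G := MonoidHom.ext_mint (by
    show χK = E.symm (MonoidAlgebra.of K _ (m' ^ (1 : ℤ)))
    rw [zpow_one, hm', BialgEquiv.symm_apply_apply])
  have hΦ : LinearMap.range Φ = S := by
    have hval : ∀ j : ℤ, Φ ((1 : K) ⊗ₜ[k] MonoidAlgebra.single (Multiplicative.ofAdd j) 1) = g (m * j) := fun j => by
      refine (LinearMap.baseChange_tmul ..).trans ((DFunLike.congr_fun hFG (Multiplicative.ofAdd j)).trans ?_)
      show E.symm (MonoidAlgebra.of K _ (m' ^ j)) = _
      rw [show m' ^ j = Multiplicative.ofAdd (m * j) from Multiplicative.toAdd.injective (by simp [m, mul_comm])]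
      rfl
    apply le_antisymm
    · rintro _ ⟨z, rfl⟩
      induction z with
      | zero => simp
      | add p q hp hq => rw [map_add]; exact add_mem hp hq
      | tmul a c =>
        induction c using MonoidAlgebra.induction_on with
        | of x =>
          rw [show a ⊗ₜ[k] MonoidAlgebra.of k _ x = a • ((1 : K) ⊗ₜ[k] MonoidAlgebra.single (Multiplicative.ofAdd x.toAdd) 1)
            by rw [TensorProduct.smul_tmul', smul_eq_mul, mul_one]; rfl, map_smul, hval]
          refine S.smul_mem _ (Submodule.subset_span ⟨m.sign * x.toAdd, ?_⟩)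
          show g _ = g _
          congr 1
          rw [← mul_assoc, mul_comm (n : ℤ), Int.sign_mul_natAbs]
        | add p q hp hq => rw [TensorProduct.tmul_add, map_add]; exact add_mem hp hq
        | smul r p hp =>
          rw [TensorProduct.tmul_smul, LinearMap.map_smul_of_tower]
          exact Submodule.smul_of_tower_mem _ _ hp
    · refine Submodule.span_le.2 ?_
      rintro _ ⟨j, rfl⟩
      refine ⟨(1 : K) ⊗ₜ[k] MonoidAlgebra.single (Multiplicative.ofAdd (m.sign * j)) 1, ?_⟩
      rw [hval]
      show g _ = g _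
      congr 1
      rw [← mul_assoc, show (n : ℤ) = m * m.sign from (Int.mul_sign_self m).symm]
  -- descend
  have hm0 : m ≠ 0 := fun h => hne (by
    have : m' = 1 := Multiplicative.toAdd.injective (by simpa [m] using h)
    rw [← E.symm_apply_apply χK, ← hm', this, map_one, map_one])
  have hPinj : Function.Injective P := by
    let L : MonoidAlgebra K (Multiplicative ℤ) →ₐ[K] MonoidAlgebra K (Multiplicative ℤ) :=
      MonoidAlgebra.mapDomainAlgHom K K (powMonoidHom n)
    have hL : Function.Injective L :=
      MonoidAlgebra.mapDomain_injective (fun a b h => by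
        refine Multiplicative.toAdd.injective ?_
        have h' := congrArg Multiplicative.toAdd h
        simpa [n, hm0] using h')
    have heq : P.baseChange K = ((E.symm : MonoidAlgebra K (Multiplicative ℤ) →ₐ[K] K ⊗[k] A).comp
        (L.comp (E : K ⊗[k] A →ₐ[K] MonoidAlgebra K (Multiplicative ℤ)))).toLinearMap := by
      refine LinearMap.ext_on_range hspan fun j => ?_
      rw [hPK]
      show _ = E.symm (L (E (E.symm _)))
      rw [BialgEquiv.apply_symm_apply]
      show E.symm _ = _
      congr 1
      simp [L, ← ofAdd_nsmul]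
    intro a b hab
    refine Algebra.TensorProduct.includeRight_injective (A := K) (algebraMap k K).injective ?_
    have hi : Function.Injective (P.baseChange K) := by
      rw [heq]
      exact E.symm.injective.comp (hL.comp E.injective)
    refine hi ?_
    show P.baseChange K ((1 : K) ⊗ₜ[k] a) = P.baseChange K ((1 : K) ⊗ₜ[k] b)
    rw [LinearMap.baseChange_tmul, LinearMap.baseChange_tmul, hab]
  have hle1 : ∀ a, ∃ c, φ' c = SGA3b.powConv k A n a := fun a => by
    refine mem_range_of_baseChange (K := K) φ'.toLinearMap ?_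
    rw [show φ'.toLinearMap.baseChange K = Φ from rfl, hΦ, ← hP]
    exact ⟨(1 : K) ⊗ₜ[k] a, LinearMap.baseChange_tmul ..⟩
  have hle2 : ∀ c, ∃ a, SGA3b.powConv k A n a = φ' c := fun c => by
    refine mem_range_of_baseChange (K := K) P ?_
    rw [hP, ← hΦ]
    exact ⟨(1 : K) ⊗ₜ[k] c, LinearMap.baseChange_tmul ..⟩
  choose α hα using hle2
  let αh : MonoidAlgebra k (Multiplicative ℤ) →ₐ[k] A :=
    { toFun := α
      map_one' := hPinj (by show SGA3b.powConv k A n _ = SGA3b.powConv k A n _; rw [hα, map_one, map_one])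
      map_mul' := fun x y => hPinj (by
        show SGA3b.powConv k A n _ = SGA3b.powConv k A n _; rw [hα, map_mul, map_mul, hα, hα])
      map_zero' := hPinj (by show SGA3b.powConv k A n _ = SGA3b.powConv k A n _; rw [hα, map_zero, map_zero])
      map_add' := fun x y => hPinj (by
        show SGA3b.powConv k A n _ = SGA3b.powConv k A n _; rw [hα, map_add, map_add, hα, hα])
      commutes' := fun r => hPinj (by
        show SGA3b.powConv k A n _ = SGA3b.powConv k A n _; rw [hα, AlgHom.commutes, AlgHom.commutes]) }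
  have hbij : Function.Bijective αh := by
    refine ⟨fun x y h => hφ ?_, fun a => ?_⟩
    · show φ' x = φ' y
      rw [← hα x, ← hα y]
      exact congrArg _ h
    · obtain ⟨c, hc⟩ := hle1 a
      exact ⟨c, hPinj ((hα c).trans hc)⟩
  refine ⟨BialgEquiv.ofAlgEquiv (AlgEquiv.ofBijective αh hbij) ?_ ?_⟩
  · refine AlgHom.ext fun c => ?_
    show Coalgebra.counit (R := k) (α c) = Coalgebra.counit (R := k) c
    rw [← CoalgHomClass.counit_comp_apply (Comod33.DimOneClass.powHom (k := k) n) (α c),
      Comod33.DimOneClass.powHom_apply, hα]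
    exact CoalgHomClass.counit_comp_apply φ c
  · refine AlgHom.ext fun c => ?_
    refine TensorProduct.map_injective_of_flat_flat P P hPinj hPinj ?_
    show TensorProduct.map P P (TensorProduct.map αh.toLinearMap αh.toLinearMap (Coalgebra.comul (R := k) c)) =
      TensorProduct.map P P (Coalgebra.comul (R := k) (α c))
    have h := CoalgHomClass.map_comp_comul_apply (Comod33.DimOneClass.powHom (k := k) n) (α c)
    refine Eq.trans ?_ h.symm
    rw [Comod33.DimOneClass.powHom_apply, hα, ← LinearMap.comp_apply, ← TensorProduct.map_comp,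
      show P ∘ₗ αh.toLinearMap = φ'.toLinearMap from LinearMap.ext hα]
    exact CoalgHomClass.map_comp_comul_apply φ c

end Groth.Agent.AlgGrp33.GmDescent
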