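import Groth.Agent.AlgGrp33.IsogWords
import Groth.Agent.AlgGrp33.AffineProper
import Groth.Agent.AlgGrp79.FiniteKernelHom
import Groth.Agent.AlgGrp79.RosUnits
import Groth.Agent.Grp57.IdentityComponent
import Groth.Agent.SpFP87.IntegralDim
import Groth.Agent.S5341
import Groth.Agent.S17465
import Groth.Agent.S18027
import Groth.Agent.RedPts82.Comm
import Groth.Agent.RedPts82.TorusBasic
import Groth.Agent.RedPts82.TorusConn

/-!
Smooth connected subgroups and tori under isogenies over an algebraically closed field.
-/

set_option autoImplicit false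
universe u

open CategoryTheory CategoryTheory.Limits MonoidalCategory CartesianMonoidalCategory MonObj GrpObj AlgebraicGeometry
open Groth.Agent.AlgGrp79

noncomputable section

namespace Groth.Agent.AlgGrp33.IsogSub

theorem dim_eq_of_integral_surjective {A B : Scheme.{u}} (f : A ⟶ B) [IsIntegralHom f] [Surjective f] :
    topologicalKrullDim ↥B = topologicalKrullDim ↥A := by
  refine le_antisymm (SpFP87.topologicalKrullDim_le_of_integral_surjective f) ?_
  rw [topologicalKrullDim, topologicalKrullDim,
    Order.krullDim_eq_of_orderIso (irreducibleSetEquivPoints (α := ↥B)),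
    Order.krullDim_eq_of_orderIso (irreducibleSetEquivPoints (α := ↥A)),
    Order.krullDim_eq_iSup_height, Order.krullDim_eq_iSup_height]
  refine iSup_le fun a => ?_
  rw [SpFP87.height_eq_of_integral f a]
  exact le_iSup (α := WithBot ℕ∞) (fun b : ↥B => ((Order.height b : ℕ∞) : WithBot ℕ∞)) (f a)

variable {k : Type u} [Field k] [IsAlgClosed k]

theorem smooth_of_reduced (X : Over (Spec (CommRingCat.of k))) [GrpObj X] [LocallyOfFiniteType X.hom]
    [hred : IsReduced X.left] : Smooth X.hom := by
  have : IsIso (Spec.map (CommRingCat.ofHom (algebraMap k k))) :=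
    inferInstanceAs (IsIso (Spec.map (𝟙 (CommRingCat.of k))))
  have : IsIso (pullback.fst X.hom (Spec.map (CommRingCat.ofHom (algebraMap k k)))) :=
    MorphismProperty.pullback_fst (P := MorphismProperty.isomorphisms Scheme.{u}) _ _ ‹IsIso (Spec.map (CommRingCat.ofHom (algebraMap k k)))›
  have : IsReduced (FBase.bc X.hom k) :=
    @isReduced_of_isOpenImmersion _ _ (pullback.fst X.hom (Spec.map (CommRingCat.ofHom (algebraMap k k)))) (@IsOpenImmersion.of_isIso _ _ _ this) hred
  have : GeometricallyReduced X.hom := FBase64.geometricallyReduced_of_isReduced_perfect X.hom k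
  have : GrpObj (Over.mk X.hom) := ‹GrpObj X›
  exact AlgebraicGeometry.smooth_of_grpObj X.hom

omit [IsAlgClosed k] in
theorem geometricallyIntegral_of_smooth (X : Over (Spec (CommRingCat.of k))) [GrpObj X] [Smooth X.hom]
    [ConnectedSpace X.left] : GeometricallyIntegral X.hom :=
  have := geometricallyReduced_of_smooth X.hom
  Alb96.geometricallyIntegral_of_connectedSpace X

/-- the image of a smooth connected group under a finite homomorphism -/
theorem exists_image {U H : Over (Spec (CommRingCat.of k))} [GrpObj U] [GrpObj H] [Smooth U.hom]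
    [QuasiCompact U.hom] [ConnectedSpace U.left] [LocallyOfFiniteType H.hom] [QuasiCompact H.hom]
    (φ : U ⟶ H) [IsMonHom φ] [IsFinite φ.left] :
    ∃ (V : Over (Spec (CommRingCat.of k))) (_ : GrpObj V) (i : V ⟶ H) (p : U ⟶ V), IsMonHom i ∧ IsMonHom p ∧
      IsClosedImmersion i.left ∧ p ≫ i = φ ∧ Surjective p.left ∧ IsFinite p.left ∧ Smooth V.hom ∧ ConnectedSpace V.left ∧
      QuasiCompact V.hom ∧ topologicalKrullDim ↥V.left = topologicalKrullDim ↥U.left ∧
      (IsAffine U.left → IsAffine V.left) := by
  have := isSeparated_grp H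
  let V : Over (Spec (CommRingCat.of k)) := Over.mk (φ.left.imageι ≫ H.hom)
  let i : V ⟶ H := Over.homMk φ.left.imageι rfl
  let p : U ⟶ V := Over.homMk φ.left.toImage (by
    show φ.left.toImage ≫ φ.left.imageι ≫ H.hom = U.hom
    rw [Scheme.Hom.toImage_imageι_assoc, Over.w])
  have hpi : p ≫ i = φ := Over.OverMorphism.ext φ.left.toImage_imageι
  have : IsClosedImmersion i.left := inferInstanceAs (IsClosedImmersion φ.left.imageι)
  have := Over.mono_of_mono_left i
  have : IsSchemeTheoreticallyDominant p.left := schDominant_toImage φ.left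
  have : IsFinite (p.left ≫ i.left) := by rw [← Over.comp_left, hpi]; infer_instance
  have : IsFinite p.left := IsFinite.of_comp p.left i.left
  have : IsDominant p.left := inferInstanceAs (IsDominant φ.left.toImage)
  have hV := closed_of_dominant φ i p hpi
  obtain ⟨hVg, him⟩ := exists_grpObj_closed i hV.1 hV.2
  have : LocallyOfFiniteType V.hom := by rw [← Over.w i]; infer_instance
  have : QuasiCompact V.hom := by rw [← Over.w i]; infer_instance
  have hpm : IsMonHom p := AffineProper.isMonHom_of_mono p i φ hpi
  have hps : Surjective p.left := surjective_of_dominant_hom p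
  have := isReduced_of_smooth U.hom
  have : IsReduced V.left := IsSchemeTheoreticallyDominant.isReduced p.left
  refine ⟨V, hVg, i, p, him, hpm, inferInstance, hpi, hps, inferInstance, smooth_of_reduced V,
    p.left.surjective.connectedSpace p.left.continuous, inferInstance, dim_eq_of_integral_surjective p.left, fun _ => ?_⟩
  obtain ⟨K, _, ι', _, _, hker, hn⟩ := AffineProper.exists_kernel p
  obtain ⟨Q, _, q, _, _, _, _, _, hq⟩ := S3278.result k U K ι' hn
  have hcov : IsCov q := isCov_of_flat_surjective q
  obtain ⟨e, he⟩ := hcov.desc p fun T a b hab => by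
    obtain ⟨n, hn⟩ := exists_ker_of_comp_eq q ι' hq a b hab
    have hb : b = a * (n ≫ ι') := by rw [← hn, mul_inv_cancel_left]
    rw [hb, mul_comp', isKernel_comp_one hker, _root_.mul_one]
  have hepi := hcov.epi
  have : IsMonHom e := by
    have h2 : Epi (q ⊗ₘ q) := by
      have h := ((hcov.whiskerRight U).comp (hcov.whiskerLeft Q)).epi
      rwa [← MonoidalCategory.tensorHom_def] at h
    refine ⟨by rw [← IsMonHom.one_hom q, Category.assoc, he, IsMonHom.one_hom], ?_⟩
    rw [← cancel_epi (q ⊗ₘ q), ← IsMonHom.mul_hom_assoc q, he, tensorHom_comp_tensorHom_assoc, he, IsMonHom.mul_hom]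
  have : IsClosedImmersion e.left := isClosedImmersion_hom_of_trivial_kernel e fun T g hg => by
    obtain ⟨T', c, x, hc, hx⟩ := hcov.exists_lift g
    obtain ⟨n, hn'⟩ := exists_ker_of_comp_one hker x (by
      rw [← he, reassoc_of% hx, hg, MonObj.comp_one])
    have := hc.epi
    rw [← cancel_epi c, MonObj.comp_one, ← hx, ← hn', isKernel_comp_one hq]
  have : Surjective (q.left ≫ e.left) := by rw [← Over.comp_left, he]; infer_instance
  have : Surjective e.left := Surjective.of_comp q.left e.left
  have : IsIso e.left := isIso_of_isClosedImmersion_of_surjective e.left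
  exact .of_isIso (inv e.left)

/-- the preimage of a smooth connected subgroup under an isogeny -/
theorem exists_preimage {G H V : Over (Spec (CommRingCat.of k))} [GrpObj G] [GrpObj H] [GrpObj V]
    [LocallyOfFiniteType G.hom] [QuasiCompact G.hom] [LocallyOfFiniteType H.hom] [QuasiCompact H.hom]
    (f : G ⟶ H) [IsMonHom f] [IsFinite f.left] [Surjective f.left]
    (i : V ⟶ H) [IsMonHom i] [IsClosedImmersion i.left] [Smooth V.hom] [ConnectedSpace V.left] :
    ∃ (U : Over (Spec (CommRingCat.of k))) (_ : GrpObj U) (u : U ⟶ G) (p : U ⟶ V), IsMonHom u ∧ IsMonHom p ∧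
      IsClosedImmersion u.left ∧ u ≫ f = p ≫ i ∧ Surjective p.left ∧ IsFinite p.left ∧ Smooth U.hom ∧
      ConnectedSpace U.left ∧ QuasiCompact U.hom ∧ topologicalKrullDim ↥U.left = topologicalKrullDim ↥V.left ∧
      (IsAffine V.left → IsAffine U.left) := by
  have := Over.mono_of_mono_left i
  have : QuasiCompact V.hom := by rw [← Over.w i]; infer_instance
  let W := pullback f i
  let w₁ : W ⟶ G := pullback.fst f i
  let w₂ : W ⟶ V := pullback.snd f i
  have hw : w₁ ≫ f = w₂ ≫ i := pullback.condition
  have hWp : IsPullback w₁.left w₂.left f.left i.left := isPullback_left (IsPullback.of_hasPullback f i)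
  have : IsClosedImmersion w₁.left := MorphismProperty.of_isPullback hWp.flip ‹IsClosedImmersion i.left›
  have : Surjective w₂.left := MorphismProperty.of_isPullback hWp ‹Surjective f.left›
  have : IsFinite w₂.left := MorphismProperty.of_isPullback hWp ‹IsFinite f.left›
  have := Over.mono_of_mono_left w₁
  obtain ⟨hWg, hw₁⟩ := exists_grpObj_closed w₁
    ⟨pullback.lift η[G] η[V] (by rw [IsMonHom.one_hom, IsMonHom.one_hom]), pullback.lift_fst _ _ _⟩
    fun T a b => ⟨pullback.lift ((a ≫ w₁)⁻¹ * (b ≫ w₁)) ((a ≫ w₂)⁻¹ * (b ≫ w₂)) (by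
      rw [mul_comp', mul_comp', GrpObj.inv_comp, GrpObj.inv_comp, Category.assoc, Category.assoc, hw,
        Category.assoc, Category.assoc]), pullback.lift_fst _ _ _⟩
  have hw₂ : IsMonHom w₂ := AffineProper.isMonHom_of_mono w₂ i (w₁ ≫ f) hw.symm
  have : LocallyOfFiniteType W.hom := by rw [← Over.w w₁]; infer_instance
  have : QuasiCompact W.hom := by rw [← Over.w w₁]; infer_instance
  obtain ⟨W₀, _, incl, _, _, _, hrange, _, _⟩ := Grp57.exists_identityComponent W
  have : LocallyOfFiniteType W₀.hom := by rw [← Over.w incl]; infer_instance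
  obtain ⟨U, _, r, _, _, _, _⟩ := exists_reduced_subgroup W₀
  have : LocallyOfFiniteType U.hom := by rw [← Over.w r]; infer_instance
  have hUs := smooth_of_reduced U
  let ι' := r ≫ incl
  have hι : IsClosedImmersion ι'.left := inferInstanceAs (IsClosedImmersion (r.left ≫ incl.left))
  have : QuasiCompact U.hom := by rw [← Over.w ι']; infer_instance
  have hrr : Set.range ι'.left = connectedComponent (η[W].left (IsLocalRing.closedPoint k)) := by
    rw [← hrange, Over.comp_left, Scheme.Hom.comp_base, TopCat.coe_comp, Set.range_comp, r.left.surjective.range_eq,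
      Set.image_univ]
  have hUc : ConnectedSpace U.left := by
    have : IrreducibleSpace W₀.left := GeometricallyIrreducible.irreducibleSpace_of_subsingleton W₀.hom
    refine (r.left.isClosedEmbedding.isEmbedding.toHomeomorph.trans
      ((Homeomorph.setCongr r.left.surjective.range_eq).trans (Homeomorph.Set.univ _))).connectedSpace_iff.2 inferInstance
  let p : U ⟶ V := ι' ≫ w₂
  have hpf : IsFinite p.left := inferInstanceAs (IsFinite (ι'.left ≫ w₂.left))
  have hdim : topologicalKrullDim ↥U.left = topologicalKrullDim ↥V.left := by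
    rw [dim_eq_of_integral_surjective w₂.left]
    have hmem := irreducibleComponent_mem_irreducibleComponents (Grp57.unitPt W)
    have hc := Grp57.component_eq_connectedComponent W hmem mem_irreducibleComponent
    rw [← (S5341.result k W).1 _ hmem, hc]
    exact IsHomeomorph.topologicalKrullDim_eq _ (ι'.left.isClosedEmbedding.isEmbedding.toHomeomorph.trans
      (Homeomorph.setCongr hrr)).isHomeomorph
  have hpm : IsMonHom p := inferInstanceAs (IsMonHom ((r ≫ incl) ≫ w₂))
  have hps : Surjective p.left := by
    obtain ⟨I, _, j, p', _, _, _, hpj, _, _, _, _, _, hdI, -⟩ := exists_image p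
    have h := S18027.result k I V j (hdI.trans hdim) (IsLocalRing.closedPoint k)
    rw [PreconnectedSpace.connectedComponent_eq_univ, PreconnectedSpace.connectedComponent_eq_univ,
      Set.image_univ] at h
    have : Surjective j.left := ⟨Set.range_eq_univ.1 h⟩
    rw [← hpj, Over.comp_left]
    infer_instance
  have huc : IsClosedImmersion (ι' ≫ w₁).left := inferInstanceAs (IsClosedImmersion (ι'.left ≫ w₁.left))
  have hum : IsMonHom (ι' ≫ w₁) := inferInstanceAs (IsMonHom ((r ≫ incl) ≫ w₁))
  refine ⟨U, ‹_›, ι' ≫ w₁, p, hum, hpm, huc, ?_, hps, hpf, hUs, hUc,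
    inferInstance, hdim, fun _ => isAffine_of_isAffineHom p.left⟩
  rw [Category.assoc, hw, ← Category.assoc]

/-- tori are smooth connected affine commutative -/
theorem torus_props {T : Over (Spec (CommRingCat.of k))} [GrpObj T] (hT : Red.IsTorus T) :
    Smooth T.hom ∧ QuasiCompact T.hom ∧ IsAffine T.left ∧ ConnectedSpace T.left ∧ IsCommMonObj T := by
  obtain ⟨h1, h2⟩ := RedPts82.irreducible_reduced_of_isTorus hT
  have : IsAffineHom T.hom := RedPts82.isTorus_isAffineHom hT
  have : IsAffine T.left := isAffine_of_isAffineHom T.hom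
  have : LocallyOfFiniteType T.hom := by
    have : MorphismProperty.DescendsAlong (@LocallyOfFiniteType : MorphismProperty Scheme.{u}) Unr55.fpqc.{u} := by
      unfold Unr55.fpqc; infer_instance
    refine RedPts82.isTorus_prop (@LocallyOfFiniteType) hT fun U r => ?_
    refine MorphismProperty.pullback_snd (P := (@LocallyOfFiniteType : MorphismProperty Scheme.{u})) _ _ ?_
    refine (HasRingHomProperty.Spec_iff (P := @LocallyOfFiniteType)).mpr ?_
    exact RingHom.finiteType_algebraMap.mpr inferInstance
  refine ⟨smooth_of_reduced T, inferInstance, ‹_›, inferInstance, ?_⟩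
  obtain ⟨S', f, hf, hs, -, hloc⟩ := hT
  have := hf
  have : Surjective f := hs
  have hc : ∀ {X : Over (Spec (CommRingCat.of k))} (a b : X ⟶ T), a * b = b * a := fun a b =>
    RedPts82.points_comm_of_locally f (fun s' => by
      obtain ⟨U, hU, r, ⟨e⟩⟩ := hloc s'
      exact ⟨U, hU, fun W a b => RedPts82.comm_of_grpIso e (fun X a b => RedPts82.ds_comm a b) W a b⟩) a b
  refine ⟨?_⟩
  have hβ : (β_ T T).hom ≫ μ[T] = snd T T * fst T T := by
    rw [Hom.mul_def]
    congr 1
  rw [hβ, hc, Hom.mul_def, lift_fst_snd, Category.id_comp]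

omit [IsAlgClosed k] in
theorem isCommMonObj_of_pts {T : Over (Spec (CommRingCat.of k))} [GrpObj T]
    (hc : ∀ {X : Over (Spec (CommRingCat.of k))} (a b : X ⟶ T), a * b = b * a) : IsCommMonObj T := by
  refine ⟨?_⟩
  have hβ : (β_ T T).hom ≫ μ[T] = snd T T * fst T T := by
    rw [Hom.mul_def]
    congr 1
  rw [hβ, hc, Hom.mul_def, lift_fst_snd, Category.id_comp]

omit [IsAlgClosed k] in
theorem isIsogenyOver_of_finite {U V : Over (Spec (CommRingCat.of k))} [GrpObj U] [GrpObj V]
    (p : U ⟶ V) [IsMonHom p] [IsFinite p.left] [Surjective p.left] : SGA7.IsIsogenyOver p := by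
  refine ⟨‹_›, fun N i hN => ?_⟩
  have h : IsFinite (toUnit N).left := MorphismProperty.of_isPullback (isPullback_left hN) ‹IsFinite p.left›
  rw [← Over.w (toUnit N)]
  have : IsFinite (𝟙_ (Over (Spec (CommRingCat.of k)))).hom := inferInstanceAs (IsFinite (𝟙 (Spec (CommRingCat.of k))))
  infer_instance

omit [IsAlgClosed k] in
theorem trivial_of_id_eq_one {T : Over (Spec (CommRingCat.of k))} [GrpObj T] (h : 𝟙 T = (1 : T ⟶ T)) :
    Red.IsTrivialGrp T := by
  refine ⟨η[T].left, ?_, Over.w η[T]⟩
  have h2 := congrArg (fun z : T ⟶ T => z.left) h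
  simp only [Hom.one_def, Over.comp_left] at h2
  have h3 : (toUnit T).left = T.hom := by
    have h4 := Over.w (toUnit T)
    rwa [show (𝟙_ (Over (Spec (CommRingCat.of k)))).hom = 𝟙 _ from rfl, Category.comp_id] at h4
  rw [h3] at h2
  exact h2.symm

/-- a torus isogenous to the trivial group is trivial -/
theorem trivial_of_finite {T V : Over (Spec (CommRingCat.of k))} [GrpObj T] [GrpObj V] (hT : Red.IsTorus T)
    (p : T ⟶ V) [IsMonHom p] [IsFinite p.left] (hV : Red.IsTrivialGrp V) : Red.IsTrivialGrp T := by
  obtain ⟨_, _, _, _, _⟩ := torus_props hT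
  have := geometricallyIntegral_of_smooth T
  have : IsIntegral T.left := GeometricallyIntegral.isIntegral_of_subsingleton T.hom
  have : IsIso V.hom := hV
  have h1 : p = 1 := by
    apply Over.OverMorphism.ext
    rw [← cancel_mono V.hom, Over.w, Over.w]
  have h := IsogWords.eq_one_of_finite p (𝟙 T) 1 (Category.comp_id _) (by rw [Category.id_comp, h1])
  exact trivial_of_id_eq_one h

/-- isogenies reflect and preserve the absence of tori -/
theorem hasNoSubtorus_iff {U V : Over (Spec (CommRingCat.of k))} [GrpObj U] [GrpObj V]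
    [LocallyOfFiniteType U.hom] [QuasiCompact U.hom] [LocallyOfFiniteType V.hom] [QuasiCompact V.hom]
    (p : U ⟶ V) [IsMonHom p] [IsFinite p.left] [Surjective p.left] :
    Red.HasNoSubtorus k U ↔ Red.HasNoSubtorus k V := by
  constructor
  · intro hU T _ j _ _ hT
    obtain ⟨_, _, _, _, _⟩ := torus_props hT
    have : IsClosedImmersion j.left := isClosedImmersion_hom_of_trivial_kernel j fun X g hg => by
      rw [← cancel_mono j, hg, MonObj.one_comp]
    obtain ⟨T', _, u, q, _, _, _, hu, _, _, _, _, _, _, hTa⟩ := exists_preimage p j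
    have : IsAffine T'.left := hTa inferInstance
    have := geometricallyIntegral_of_smooth T'
    have : IsCommMonObj T' := isCommMonObj_of_pts fun a b => IsogWords.comm_of_finite q (fun c d => _root_.mul_comm c d) a b
    have hT' : Red.IsTorus T' := (S17465.result k T' T q (isIsogenyOver_of_finite q)).2 hT
    have := Over.mono_of_mono_left u
    have htriv : IsIso T'.hom := hU T' u hT'
    have : Surjective q.left := ‹_›
    have := htriv
    have hq1 : q = 1 := by
      have hu1 : 𝟙 T' = (1 : T' ⟶ T') := by
        apply Over.OverMorphism.ext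
        rw [← cancel_mono T'.hom, Over.w, Over.w]
      rw [← Category.id_comp q, hu1, MonObj.one_comp]
    have := isReduced_of_smooth T.hom
    exact trivial_of_id_eq_one (IsogWords.eq_one_of_surjective q (𝟙 T) (by rw [Category.comp_id, hq1]))
  · intro hV T _ j _ _ hT
    obtain ⟨_, _, _, _, _⟩ := torus_props hT
    have : IsClosedImmersion j.left := isClosedImmersion_hom_of_trivial_kernel j fun X g hg => by
      rw [← cancel_mono j, hg, MonObj.one_comp]
    have : IsFinite (j ≫ p).left := inferInstanceAs (IsFinite (j.left ≫ p.left))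
    obtain ⟨V', _, i, q, _, _, _, hq, _, _, _, _, _, _, hVa⟩ := exists_image (j ≫ p)
    have : IsAffine V'.left := hVa inferInstance
    have := geometricallyIntegral_of_smooth V'
    have : IsCommMonObj V' := isCommMonObj_of_pts fun a b => IsogWords.comm_of_surjective q (fun c d => _root_.mul_comm c d) a b
    have hV' : Red.IsTorus V' := (S17465.result k T V' q (isIsogenyOver_of_finite q)).1 hT
    have := Over.mono_of_mono_left i
    exact trivial_of_finite hT q (hV V' i hV')

omit [IsAlgClosed k] in
theorem bc_props {K : Type u} [Field K] (t : Spec (CommRingCat.of K) ⟶ Spec (CommRingCat.of k))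
    {G H : Over (Spec (CommRingCat.of k))} (f : G ⟶ H) [IsFinite f.left] [Surjective f.left] :
    IsFinite ((Over.pullback t).map f).left ∧ Surjective ((Over.pullback t).map f).left :=
  ⟨MorphismProperty.of_isPullback (map_left_isPullback t f) ‹IsFinite f.left›,
    MorphismProperty.of_isPullback (map_left_isPullback t f) ‹Surjective f.left›⟩

end Groth.Agent.AlgGrp33.IsogSub
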