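import Mathlib.GroupTheory.Nilpotent
import Mathlib.GroupTheory.Solvable

/-!
Membership in derived and lower central series involves only finitely many elements.
-/

set_option autoImplicit false
universe u v

namespace Groth.Agent.AlgGrp33.FinSupp

variable {Γ : Type u} [Group Γ]

/-- the derived series of a subgroup, computed in the ambient group -/
def dD : ℕ → Subgroup Γ → Subgroup Γ
  | 0, A => A
  | n + 1, A => ⁅dD n A, dD n A⁆

theorem dD_mono (n : ℕ) {A B : Subgroup Γ} (h : A ≤ B) : dD n A ≤ dD n B := by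
  induction n with
  | zero => exact h
  | succ n ih => exact Subgroup.commutator_mono ih ih

theorem map_dD {Γ' : Type v} [Group Γ'] (f : Γ →* Γ') (n : ℕ) (A : Subgroup Γ) : (dD n A).map f = dD n (A.map f) := by
  induction n with
  | zero => rfl
  | succ n ih => rw [dD, dD, Subgroup.map_commutator, ih]

theorem dD_top (n : ℕ) : dD n (⊤ : Subgroup Γ) = derivedSeries Γ n := by
  induction n with
  | zero => rfl
  | succ n ih => rw [dD, derivedSeries_succ, ih]

theorem lcs_mono (n : ℕ) {A B : Subgroup Γ} (h : A ≤ B) : A.lowerCentralSeries n ≤ B.lowerCentralSeries n := by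
  induction n with
  | zero => exact h
  | succ n ih => exact Subgroup.commutator_mono ih h

theorem exists_list_comm {A B : Subgroup Γ} (P Q : List Γ → Subgroup Γ)
    (hP : ∀ l l', l ⊆ l' → P l ≤ P l') (hQ : ∀ l l', l ⊆ l' → Q l ≤ Q l')
    (hA : ∀ x ∈ A, ∃ l, x ∈ P l) (hB : ∀ x ∈ B, ∃ l, x ∈ Q l) {x : Γ} (hx : x ∈ ⁅A, B⁆) :
    ∃ l, x ∈ ⁅P l, Q l⁆ := by
  rw [Subgroup.commutator_def] at hx
  induction hx using Subgroup.closure_induction with
  | mem z hz =>
    obtain ⟨a, ha, b, hb, rfl⟩ := hz
    obtain ⟨l, hl⟩ := hA a ha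
    obtain ⟨l', hl'⟩ := hB b hb
    exact ⟨l ++ l', Subgroup.commutator_mem_commutator (hP _ _ (List.subset_append_left _ _) hl)
      (hQ _ _ (List.subset_append_right _ _) hl')⟩
  | one => exact ⟨[], Subgroup.one_mem _⟩
  | mul a b _ _ iha ihb =>
    obtain ⟨l, hl⟩ := iha
    obtain ⟨l', hl'⟩ := ihb
    exact ⟨l ++ l', Subgroup.mul_mem _
      (Subgroup.commutator_mono (hP _ _ (List.subset_append_left _ _)) (hQ _ _ (List.subset_append_left _ _)) hl)
      (Subgroup.commutator_mono (hP _ _ (List.subset_append_right _ _)) (hQ _ _ (List.subset_append_right _ _)) hl')⟩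
  | inv a _ iha =>
    obtain ⟨l, hl⟩ := iha
    exact ⟨l, Subgroup.inv_mem _ hl⟩

theorem closure_list_mono {l l' : List Γ} (h : l ⊆ l') :
    Subgroup.closure {y | y ∈ l} ≤ Subgroup.closure {y | y ∈ l'} := Subgroup.closure_mono fun _ hy => h hy

theorem mem_closure_singleton_list (x : Γ) : x ∈ Subgroup.closure {y | y ∈ [x]} :=
  Subgroup.subset_closure List.mem_cons_self

theorem exists_list_derived (n : ℕ) : ∀ x ∈ dD n (⊤ : Subgroup Γ), ∃ l : List Γ, x ∈ dD n (Subgroup.closure {y | y ∈ l}) := by
  induction n with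
  | zero => exact fun x _ => ⟨[x], mem_closure_singleton_list x⟩
  | succ n ih =>
    exact fun x hx => exists_list_comm _ _ (fun l l' h => dD_mono n (closure_list_mono h))
      (fun l l' h => dD_mono n (closure_list_mono h)) ih ih hx

theorem exists_list_lcs (n : ℕ) :
    ∀ x ∈ (⊤ : Subgroup Γ).lowerCentralSeries n, ∃ l : List Γ, x ∈ (Subgroup.closure {y | y ∈ l}).lowerCentralSeries n := by
  induction n with
  | zero => exact fun x _ => ⟨[x], mem_closure_singleton_list x⟩
  | succ n ih =>
    exact fun x hx => exists_list_comm _ _ (fun l l' h => lcs_mono n (closure_list_mono h))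
      (fun l l' h => closure_list_mono h) ih (fun y _ => ⟨[y], mem_closure_singleton_list y⟩) hx

end Groth.Agent.AlgGrp33.FinSupp
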