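import Groth.Agent.RedPts82.Coord
import Groth.Prelude.Def_AGF
import Groth.Agent.H98.STDExt

/-!
Solvability and nilpotence pass from the generic fibre to the special fibre: word maps.
-/

set_option autoImplicit false
set_option linter.unusedSectionVars false

universe u v

open CategoryTheory MonoidalCategory CartesianMonoidalCategory MonObj GrpObj AlgebraicGeometry
open CategoryTheory.Limits

noncomputable section

namespace Groth.Agent.AlgGrp33.WordSpec

section Grp

variable {H : Type v} [Group H]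

open scoped commutatorElement

theorem closure_normal {s : Set H} (hs : ∀ (g : H), ∀ x ∈ s, g * x * g⁻¹ ∈ s) : (Subgroup.closure s).Normal := by
  refine ⟨fun n hn g => ?_⟩
  have h : (Subgroup.closure s).map (MulAut.conj g).toMonoidHom ≤ Subgroup.closure s := by
    rw [MonoidHom.map_closure]
    refine Subgroup.closure_mono ?_
    rintro _ ⟨x, hx, rfl⟩
    exact hs g x hx
  exact h ⟨n, hn, rfl⟩

theorem commutator_closure_eq {a b : Set H} (ha : ∀ (g : H), ∀ x ∈ a, g * x * g⁻¹ ∈ a)
    (hb : ∀ (g : H), ∀ x ∈ b, g * x * g⁻¹ ∈ b) :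
    ⁅Subgroup.closure a, Subgroup.closure b⁆ = Subgroup.closure (Set.image2 (fun x y => ⁅x, y⁆) a b) := by
  refine le_antisymm ?_ ((Subgroup.closure_le _).2 ?_)
  · haveI : (Subgroup.closure (Set.image2 (fun x y => ⁅x, y⁆) a b)).Normal := closure_normal fun g z hz => by
      obtain ⟨x, hx, y, hy, rfl⟩ := hz
      exact ⟨g * x * g⁻¹, ha g x hx, g * y * g⁻¹, hb g y hy, (map_commutatorElement (MulAut.conj g) x y).symm⟩
    set N := Subgroup.closure (Set.image2 (fun x y => ⁅x, y⁆) a b)
    let π := QuotientGroup.mk' N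
    have hπ : ⁅(Subgroup.closure a).map π, (Subgroup.closure b).map π⁆ = ⊥ := by
      rw [Subgroup.commutator_eq_bot_iff_le_centralizer, MonoidHom.map_closure, MonoidHom.map_closure,
        Subgroup.centralizer_closure, Subgroup.closure_le]
      rintro _ ⟨x, hx, rfl⟩
      simp only [SetLike.mem_coe, Subgroup.mem_centralizer_iff]
      rintro _ ⟨y, hy, rfl⟩
      symm
      rw [← commutatorElement_eq_one_iff_mul_comm, ← map_commutatorElement]
      exact (QuotientGroup.eq_one_iff _).2 (Subgroup.subset_closure ⟨x, hx, y, hy, rfl⟩)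
    rw [← Subgroup.map_commutator, Subgroup.map_eq_bot_iff, QuotientGroup.ker_mk'] at hπ
    exact hπ
  · rintro _ ⟨x, hx, y, hy, rfl⟩
    exact Subgroup.commutator_mem_commutator (Subgroup.subset_closure hx) (Subgroup.subset_closure hy)

end Grp

section Word

variable {C : Type*} [Category C] [CartesianMonoidalCategory C] (G : C) [GrpObj G]

open scoped commutatorElement

/-- the source of the derived word -/
def dSrc : ℕ → C
  | 0 => G
  | n + 1 => dSrc n ⊗ dSrc n

/-- the derived word -/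
def dWord : ∀ n, dSrc G n ⟶ G
  | 0 => 𝟙 G
  | n + 1 => (⁅fst (dSrc G n) (dSrc G n) ≫ dWord n, snd (dSrc G n) (dSrc G n) ≫ dWord n⁆ :
      dSrc G n ⊗ dSrc G n ⟶ G)

/-- the source of the central word -/
def lSrc : ℕ → C
  | 0 => G
  | n + 1 => lSrc n ⊗ G

/-- the central word -/
def lWord : ∀ n, lSrc G n ⟶ G
  | 0 => 𝟙 G
  | n + 1 => (⁅fst (lSrc G n) G ≫ lWord n, snd (lSrc G n) G⁆ : lSrc G n ⊗ G ⟶ G)

/-- values of a word -/
def values {P : C} (w : P ⟶ G) (X : C) : Set (X ⟶ G) := Set.range fun t : X ⟶ P => t ≫ w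

variable {G}

theorem comp_commutator {X Y : C} (f : X ⟶ Y) (a b : Y ⟶ G) : f ≫ ⁅a, b⁆ = ⁅f ≫ a, f ≫ b⁆ := by
  simp only [commutatorElement_def, MonObj.comp_mul, GrpObj.comp_inv]

theorem values_dWord_succ (n : ℕ) (X : C) :
    values G (dWord G (n + 1)) X =
      Set.image2 (fun x y => ⁅x, y⁆) (values G (dWord G n) X) (values G (dWord G n) X) := by
  ext z
  constructor
  · rintro ⟨t₀, rfl⟩
    revert t₀
    refine fun (t : X ⟶ dSrc G n ⊗ dSrc G n) => ?_
    refine ⟨(t ≫ fst _ _) ≫ dWord G n, ⟨_, rfl⟩, (t ≫ snd _ _) ≫ dWord G n, ⟨_, rfl⟩, ?_⟩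
    show _ = CategoryStruct.comp (Y := dSrc G n ⊗ dSrc G n) t
      (⁅fst (dSrc G n) (dSrc G n) ≫ dWord G n, snd (dSrc G n) (dSrc G n) ≫ dWord G n⁆ : dSrc G n ⊗ dSrc G n ⟶ G)
    rw [comp_commutator, Category.assoc, Category.assoc]
  · rintro ⟨_, ⟨s, rfl⟩, _, ⟨t, rfl⟩, rfl⟩
    refine ⟨lift s t, ?_⟩
    show lift s t ≫
      (⁅fst (dSrc G n) (dSrc G n) ≫ dWord G n, snd (dSrc G n) (dSrc G n) ≫ dWord G n⁆ : dSrc G n ⊗ dSrc G n ⟶ G) = _
    rw [comp_commutator, lift_fst_assoc, lift_snd_assoc]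

theorem values_lWord_succ (n : ℕ) (X : C) :
    values G (lWord G (n + 1)) X = Set.image2 (fun x y => ⁅x, y⁆) (values G (lWord G n) X) Set.univ := by
  ext z
  constructor
  · rintro ⟨t₀, rfl⟩
    revert t₀
    refine fun (t : X ⟶ lSrc G n ⊗ G) => ?_
    refine ⟨(t ≫ fst _ _) ≫ lWord G n, ⟨_, rfl⟩, t ≫ snd _ _, trivial, ?_⟩
    show _ = CategoryStruct.comp (Y := lSrc G n ⊗ G) t (⁅fst (lSrc G n) G ≫ lWord G n, snd (lSrc G n) G⁆ : lSrc G n ⊗ G ⟶ G)
    rw [comp_commutator, Category.assoc]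
  · rintro ⟨_, ⟨s, rfl⟩, y, -, rfl⟩
    refine ⟨lift s y, ?_⟩
    show lift s y ≫ (⁅fst (lSrc G n) G ≫ lWord G n, snd (lSrc G n) G⁆ : lSrc G n ⊗ G ⟶ G) = _
    rw [comp_commutator, lift_fst_assoc, lift_snd]

theorem values_dWord_conj (n : ℕ) (X : C) :
    ∀ (g : X ⟶ G), ∀ x ∈ values G (dWord G n) X, g * x * g⁻¹ ∈ values G (dWord G n) X := by
  induction n with
  | zero => exact fun g x _ => ⟨g * x * g⁻¹, Category.comp_id _⟩
  | succ n ih =>
    intro g z hz
    rw [values_dWord_succ] at hz ⊢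
    obtain ⟨x, hx, y, hy, rfl⟩ := hz
    exact ⟨g * x * g⁻¹, ih g x hx, g * y * g⁻¹, ih g y hy, (map_commutatorElement (MulAut.conj g) x y).symm⟩

theorem values_lWord_conj (n : ℕ) (X : C) :
    ∀ (g : X ⟶ G), ∀ x ∈ values G (lWord G n) X, g * x * g⁻¹ ∈ values G (lWord G n) X := by
  induction n with
  | zero => exact fun g x _ => ⟨g * x * g⁻¹, Category.comp_id _⟩
  | succ n ih =>
    intro g z hz
    rw [values_lWord_succ] at hz ⊢
    obtain ⟨x, hx, y, -, rfl⟩ := hz
    exact ⟨g * x * g⁻¹, ih g x hx, g * y * g⁻¹, trivial, (map_commutatorElement (MulAut.conj g) x y).symm⟩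

theorem derivedSeries_eq (n : ℕ) (X : C) :
    derivedSeries (X ⟶ G) n = Subgroup.closure (values G (dWord G n) X) := by
  induction n with
  | zero =>
    refine (eq_top_iff.2 fun x _ => ?_).symm
    exact Subgroup.subset_closure ⟨x, Category.comp_id _⟩
  | succ n ih =>
    rw [derivedSeries_succ, ih, commutator_closure_eq (values_dWord_conj n X) (values_dWord_conj n X),
      values_dWord_succ]

theorem lowerCentralSeries_eq (n : ℕ) (X : C) :
    (⊤ : Subgroup (X ⟶ G)).lowerCentralSeries n = Subgroup.closure (values G (lWord G n) X) := by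
  induction n with
  | zero =>
    refine (eq_top_iff.2 fun x _ => ?_).symm
    exact Subgroup.subset_closure ⟨x, Category.comp_id _⟩
  | succ n ih =>
    rw [Subgroup.lowerCentralSeries_succ, ih, values_lWord_succ,
      ← commutator_closure_eq (values_lWord_conj n X) (fun g x _ => Set.mem_univ _), Subgroup.closure_univ]

end Word

section Fibre

variable {S : Scheme.{u}} {G : Over S} [GrpObj G]

theorem flat_src [Flat G.hom] : (∀ n, Flat (dSrc G n).hom) ∧ ∀ n, Flat (lSrc G n).hom := by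
  have h : ∀ P Q : Over S, Flat P.hom → Flat Q.hom → Flat (P ⊗ Q).hom := fun P Q _ _ => by
    show Flat (pullback.fst P.hom Q.hom ≫ P.hom)
    infer_instance
  exact ⟨fun n => by induction n with
    | zero => exact ‹Flat G.hom›
    | succ n ih => exact h _ _ ih ih,
    fun n => by induction n with
    | zero => exact ‹Flat G.hom›
    | succ n ih => exact h _ _ ih ‹Flat G.hom›⟩

variable {S' : Scheme.{u}} (f : S' ⟶ S)

theorem toBase_one (X : Over S') : RedPts82.toBase f (1 : X ⟶ Red.bc f G) = 1 :=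
  mul_eq_left.1 (by rw [← RedPts82.toBase_mul, _root_.one_mul])

/-- points of the base change are points -/
def baseHom (X : Over S') : (X ⟶ Red.bc f G) →* ((Over.map f).obj X ⟶ G) :=
  MonoidHom.mk' (RedPts82.toBase f) (RedPts82.toBase_mul f)

theorem baseHom_bijective (X : Over S') : Function.Bijective (baseHom (G := G) f X) :=
  ⟨RedPts82.toBase_injective f, fun p => ⟨RedPts82.ofBase f p, RedPts82.toBase_ofBase f p⟩⟩

/-- a word trivial on a schematically dominant fibre is trivial -/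
theorem word_eq_one [IsSeparated G.hom] {P : Over S} (w : P ⟶ G) [Flat P.hom]
    [IsSchemeTheoreticallyDominant f] [QuasiCompact f]
    (h : ∀ X : Over S', ∀ t : (Over.map f).obj X ⟶ P, t ≫ w = 1) : w = 1 := by
  let X : Over S' := Over.mk (pullback.snd P.hom f)
  let t : (Over.map f).obj X ⟶ P := Over.homMk (pullback.fst P.hom f) pullback.condition
  haveI : IsSchemeTheoreticallyDominant (pullback.fst P.hom f) :=
    IsSchemeTheoreticallyDominant.of_isPullback (IsPullback.of_hasPullback P.hom f).flip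
  refine Over.OverMorphism.ext (H98.STDExt.ext_of_isSchemeTheoreticallyDominant G.hom
    (by rw [Over.w, Over.w]) (pullback.fst P.hom f) ?_)
  have h1 := congrArg CommaMorphism.left ((h X t).trans (MonObj.comp_one t).symm)
  exact h1

theorem solvable_of_fibre [Flat G.hom] [IsSeparated G.hom] [IsSchemeTheoreticallyDominant f] [QuasiCompact f]
    (hG : Red.IsSolvableGrp (Red.bc f G)) : Red.IsSolvableGrp G := by
  obtain ⟨n, hn⟩ := hG
  haveI := (flat_src (G := G)).1 n
  refine ⟨n, fun X => ?_⟩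
  have hw : dWord G n = 1 := word_eq_one f _ fun Y t => by
    have h2 : t ≫ dWord G n ∈ derivedSeries ((Over.map f).obj Y ⟶ G) n := by
      rw [derivedSeries_eq]
      exact Subgroup.subset_closure ⟨t, rfl⟩
    rw [← map_derivedSeries_eq (baseHom_bijective f Y).2, hn Y, Subgroup.map_bot, Subgroup.mem_bot] at h2
    exact h2
  rw [derivedSeries_eq, Subgroup.closure_eq_bot_iff]
  rintro _ ⟨t, rfl⟩
  show t ≫ dWord G n = 1
  rw [hw, MonObj.comp_one]

theorem nilpotent_of_fibre [Flat G.hom] [IsSeparated G.hom] [IsSchemeTheoreticallyDominant f] [QuasiCompact f]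
    (hG : AGF.IsNilpotentGrp (Red.bc f G)) : AGF.IsNilpotentGrp G := by
  obtain ⟨n, hn⟩ := hG
  haveI := (flat_src (G := G)).2 n
  refine ⟨n, fun X => Subgroup.lowerCentralSeries_eq_bot_iff_upperCentralSeries_eq_top.1 ?_⟩
  have hw : lWord G n = 1 := word_eq_one f _ fun Y t => by
    have h2 : t ≫ lWord G n ∈ (⊤ : Subgroup ((Over.map f).obj Y ⟶ G)).lowerCentralSeries n := by
      rw [lowerCentralSeries_eq]
      exact Subgroup.subset_closure ⟨t, rfl⟩
    rw [← Subgroup.map_top_of_surjective _ (baseHom_bijective f Y).2, ← Subgroup.map_lowerCentralSeries,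
      Subgroup.lowerCentralSeries_eq_bot_iff_upperCentralSeries_eq_top.2 (hn Y), Subgroup.map_bot,
      Subgroup.mem_bot] at h2
    exact h2
  rw [lowerCentralSeries_eq, Subgroup.closure_eq_bot_iff]
  rintro _ ⟨t, rfl⟩
  show t ≫ lWord G n = 1
  rw [hw, MonObj.comp_one]

theorem solvable_bc (hG : Red.IsSolvableGrp G) : Red.IsSolvableGrp (Red.bc f G) := by
  obtain ⟨n, hn⟩ := hG
  refine ⟨n, fun X => ?_⟩
  have h := map_derivedSeries_eq (baseHom_bijective (G := G) f X).2 n
  rw [hn] at h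
  exact (Subgroup.map_eq_bot_iff_of_injective _ (baseHom_bijective f X).1).1 h

theorem nilpotent_bc (hG : AGF.IsNilpotentGrp G) : AGF.IsNilpotentGrp (Red.bc f G) := by
  obtain ⟨n, hn⟩ := hG
  refine ⟨n, fun X => Subgroup.lowerCentralSeries_eq_bot_iff_upperCentralSeries_eq_top.1 ?_⟩
  refine (Subgroup.map_eq_bot_iff_of_injective _ (baseHom_bijective (G := G) f X).1).1 ?_
  rw [Subgroup.map_lowerCentralSeries, Subgroup.map_top_of_surjective _ (baseHom_bijective f X).2]
  exact Subgroup.lowerCentralSeries_eq_bot_iff_upperCentralSeries_eq_top.2 (hn _)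

end Fibre

end Groth.Agent.AlgGrp33.WordSpec
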