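import Groth.Agent.AlgGrp33.SpecClosure
import Groth.Agent.AlgGrp33.WordSpec
import Groth.Agent.AlgGrp33.FinSupp
import Groth.Agent.AlgGrp33.IsogSub
import Groth.Agent.NeronHD28.ClosureSubgroup
import Groth.Agent.CAlg6.GrpWordSpread
import Groth.Agent.RedPts82.ImageSub
import Groth.Agent.S5341
import Groth.Agent.Grp57.Component

/-!
Closed subgroups of the generic fibre over a discrete valuation ring specialize.
-/

set_option autoImplicit false
set_option linter.style.haveILetI false
set_option backward.isDefEq.respectTransparency.types false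
universe u

open CategoryTheory CategoryTheory.Limits MonoidalCategory CartesianMonoidalCategory MonObj GrpObj AlgebraicGeometry
open Groth.Agent.AlgGrp79

namespace Groth.Agent.AlgGrp33.DvrStep

noncomputable section

/-- `Spec` of a field over the base ring -/
abbrev pS (V : Type u) [CommRing V] (F : Type u) [Field F] [Algebra V F] : Spec (CommRingCat.of F) ⟶ Spec (CommRingCat.of V) :=
  Spec.map (CommRingCat.ofHom (algebraMap V F))

theorem comm_bc {S S' : Scheme.{u}} (f : S' ⟶ S) {G : Over S} [GrpObj G] (h : IsCommMonObj G) : IsCommMonObj (Red.bc f G) := by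
  have hc : ∀ (X : Over S') (a b : X ⟶ Red.bc f G), a * b = b * a := fun X a b => by
    apply RedPts82.toBase_injective f
    rw [RedPts82.toBase_mul, RedPts82.toBase_mul, _root_.mul_comm]
  refine ⟨?_⟩
  have hβ : (β_ (Red.bc f G) (Red.bc f G)).hom ≫ μ[Red.bc f G] = snd _ _ * fst _ _ := by
    rw [Hom.mul_def]
    congr 1
  rw [hβ, hc, Hom.mul_def, lift_fst_snd, Category.id_comp]

variable {V : Type u} [CommRing V] [IsDomain V] [IsDiscreteValuationRing V]
  {L : Type u} [Field L] [Algebra V L] [IsFractionRing V L] {K : Type u} [Field K] [Algebra V K]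

theorem step (hψ : Function.Surjective (algebraMap V K))
    (G : Over (Spec (CommRingCat.of V))) [GrpObj G] [LocallyOfFiniteType G.hom] [QuasiCompact G.hom]
    {H : Over (Spec (CommRingCat.of L))} [GrpObj H] (i : H ⟶ Red.bc (pS V L) G) [IsMonHom i] [IsClosedImmersion i.left] :
    ∃ (H' : Over (Spec (CommRingCat.of K))) (_ : GrpObj H') (j : H' ⟶ Red.bc (pS V K) G),
      IsMonHom j ∧ IsClosedImmersion j.left ∧ topologicalKrullDim ↥H'.left = topologicalKrullDim ↥H.left ∧
      (Flat G.hom → AlgGrp.IsNormalHom i → AlgGrp.IsNormalHom j) ∧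
      (IsSeparated G.hom → (IsCommMonObj H → IsCommMonObj H') ∧ (AGF.IsNilpotentGrp H → AGF.IsNilpotentGrp H') ∧
        (Red.IsSolvableGrp H → Red.IsSolvableGrp H')) := by
  let ζ := pS V L
  haveI : Flat ζ := by
    rw [Flat.SpecMap_iff, CommRingCat.hom_ofHom, RingHom.flat_algebraMap_iff]
    exact IsLocalization.flat _ (nonZeroDivisors V)
  haveI : IsPreimmersion ζ := IsPreimmersion.of_isLocalization (nonZeroDivisors V)
  haveI : IsAffineHom ζ := inferInstance
  haveI : IsDominant ζ := by
    rw [isDominant_iff]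
    show DenseRange (PrimeSpectrum.comap (algebraMap V L))
    refine (PrimeSpectrum.denseRange_comap_iff_ker_le_nilRadical (algebraMap V L)).2 ?_
    rw [(RingHom.injective_iff_ker_eq_bot _).1 (IsFractionRing.injective V L)]
    exact bot_le
  haveI : IsSchemeTheoreticallyDominant ζ := .of_isDominant _
  obtain ⟨Hc, _, j, φ, hj, hjc, hHf, hpb, hφj, hφker⟩ := NeronHD28.exists_closure_subgroup G ζ H i fun h hh => by
    haveI : Flat H.hom := inferInstance
    haveI : Flat (H.hom ≫ ζ) := inferInstance
    exact S19202.result V (H.hom ≫ ζ) G.hom h hh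
  -- the generic fibre of the closure
  let iL : Red.bc ζ Hc ⟶ Red.bc ζ G := (Over.pullback ζ).map j
  have hiL : IsClosedImmersion iL.left :=
    MorphismProperty.of_isPullback (AlgGrp79.map_left_isPullback ζ j) hjc
  let m : Red.bc ζ Hc ⟶ H := Over.homMk (hpb.lift (pullback.fst Hc.hom ζ) (pullback.snd Hc.hom ζ) pullback.condition)
    (hpb.lift_snd _ _ _)
  have hmi : m ≫ i = iL := by
    apply Over.OverMorphism.ext
    apply pullback.hom_ext
    · show ((hpb.lift _ _ _) ≫ i.left) ≫ pullback.fst G.hom ζ = iL.left ≫ pullback.fst G.hom ζ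
      rw [Category.assoc, ← hφj, hpb.lift_fst_assoc]
      exact (AlgGrp79.map_left_isPullback ζ j).w
    · exact (Over.w (m ≫ i)).trans (Over.w iL).symm
  haveI : Mono i := Over.mono_of_mono_left i
  haveI : Mono iL := Over.mono_of_mono_left iL
  haveI : Mono m := mono_of_mono_fac hmi
  haveI : IsMonHom m := AffineProper.isMonHom_of_mono m i iL hmi
  have hinj : ∀ X : Over (Spec (CommRingCat.of L)), Function.Injective
      (MonoidHom.mk' (fun x : X ⟶ Red.bc ζ Hc => x ≫ m) fun a b => mul_comp' a b m) :=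
    fun X a b h => (cancel_mono m).1 h
  -- the special fibre
  let jK : Red.bc (pS V K) Hc ⟶ Red.bc (pS V K) G := (Over.pullback (pS V K)).map j
  have hjK : IsClosedImmersion jK.left :=
    MorphismProperty.of_isPullback (AlgGrp79.map_left_isPullback (pS V K) j) hjc
  refine ⟨Red.bc (pS V K) Hc, inferInstance, jK, inferInstance, hjK, ?_, ?_, ?_⟩
  · -- dimension
    have hrj : Set.range j.left = closure (pullback.fst G.hom ζ '' Set.range i.left) := by
      haveI : IsSchemeTheoreticallyDominant φ := ⟨hφker⟩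
      haveI : QuasiCompact φ := by
        haveI : QuasiCompact (pullback.fst G.hom ζ) := inferInstance
        haveI : QuasiCompact (φ ≫ j.left) := by rw [hφj]; infer_instance
        exact QuasiCompact.of_comp φ j.left
      have hd : DenseRange φ := φ.denseRange
      refine le_antisymm ?_ (closure_minimal ?_ j.left.isClosedEmbedding.isClosed_range)
      · rw [← Set.image_univ, ← hd.closure_range]
        refine (image_closure_subset_closure_image j.left.continuous).trans (closure_mono ?_)
        rintro _ ⟨_, ⟨x, rfl⟩, rfl⟩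
        refine ⟨i.left x, ⟨x, rfl⟩, ?_⟩
        rw [← Scheme.Hom.comp_apply, ← Scheme.Hom.comp_apply, hφj]
      · rintro _ ⟨_, ⟨x, rfl⟩, rfl⟩
        exact ⟨φ x, by rw [← Scheme.Hom.comp_apply, ← Scheme.Hom.comp_apply, hφj]⟩
    have hrK : Set.range jK.left = pullback.fst G.hom (pS V K) ⁻¹' closure (pullback.fst G.hom ζ '' Set.range i.left) := by
      rw [← hrj]
      refine Set.ext fun y => ⟨?_, fun hy => ?_⟩
      · rintro ⟨x, rfl⟩
        refine ⟨pullback.fst Hc.hom (pS V K) x, ?_⟩
        rw [← Scheme.Hom.comp_apply, ← Scheme.Hom.comp_apply, (AlgGrp79.map_left_isPullback (pS V K) j).w]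
      · obtain ⟨a, ha⟩ := hy
        obtain ⟨z, hz1, hz2⟩ := Scheme.Pullback.exists_preimage_pullback (f := j.left) (g := pullback.fst G.hom (pS V K)) a y ha
        refine ⟨(AlgGrp79.map_left_isPullback (pS V K) j).isoPullback.inv z, ?_⟩
        rw [← Scheme.Hom.comp_apply, (AlgGrp79.map_left_isPullback (pS V K) j).isoPullback_inv_snd, hz2]
    have hL : IsPullback (pullback.fst G.hom ζ) (pullback.snd G.hom ζ) G.hom ζ := IsPullback.of_hasPullback _ _
    have hK : IsPullback (pullback.fst G.hom (pS V K)) (pullback.snd G.hom (pS V K)) G.hom (pS V K) := IsPullback.of_hasPullback _ _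
    rw [IsHomeomorph.topologicalKrullDim_eq _ jK.left.isEmbedding.toHomeomorph.isHomeomorph, hrK,
      IsHomeomorph.topologicalKrullDim_eq _ i.left.isEmbedding.toHomeomorph.isHomeomorph]
    refine le_antisymm (SpecClosure.dim_preimage_le hL hK hψ i.left.isClosedEmbedding.isClosed_range) ?_
    haveI : LocallyOfFiniteType (Red.bc ζ G).hom := inferInstanceAs (LocallyOfFiniteType (pullback.snd G.hom ζ))
    haveI : LocallyOfFiniteType H.hom := by rw [← Over.w i]; infer_instance
    -- the unit section joins the two fibres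
    let e := η[Hc].left
    have he : e ≫ Hc.hom = 𝟙 _ := Over.w η[Hc]
    let g₀ : Spec (CommRingCat.of V) := (⟨⊥, Ideal.isPrime_bot⟩ : PrimeSpectrum V)
    have hg₀ : ζ (IsLocalRing.closedPoint L) = g₀ := PrimeSpectrum.ext (by
      show (IsLocalRing.maximalIdeal L).comap (algebraMap V L) = ⊥
      rw [IsLocalRing.maximalIdeal_eq_bot, ← RingHom.ker_eq_comap_bot, ← RingHom.injective_iff_ker_eq_bot]
      exact IsFractionRing.injective V L)
    obtain ⟨h₀, hh₀, -⟩ := Scheme.Pullback.exists_preimage_pullback (f := Hc.hom) (g := ζ) (e g₀) (IsLocalRing.closedPoint L)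
      (by rw [← Scheme.Hom.comp_apply, he, hg₀]; rfl)
    let h₁ : H.left := hpb.isoPullback.inv h₀
    have hh₁ : φ h₁ = e g₀ := by rw [← hh₀, ← Scheme.Hom.comp_apply, hpb.isoPullback_inv_fst]
    obtain ⟨z₀, hz₀⟩ := SpecClosure.mem_range_right hK hψ (x := j.left (e (IsLocalRing.closedPoint V))) fun v hv => by
      rw [← Scheme.Hom.comp_apply, Over.w, ← Scheme.Hom.comp_apply, he]
      show v ∈ IsLocalRing.maximalIdeal V
      rwa [← IsLocalRing.eq_maximalIdeal (RingHom.ker_isMaximal_of_surjective _ hψ), RingHom.mem_ker]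
    let C := irreducibleComponent h₁
    have hξ := (isIrreducible_irreducibleComponent (x := h₁)).isGenericPoint_genericPoint isClosed_irreducibleComponent
    set ξ := (isIrreducible_irreducibleComponent (x := h₁)).genericPoint
    have hs : pullback.fst G.hom ζ (i.left ξ) ⤳ pullback.fst G.hom (pS V K) z₀ := by
      rw [hz₀]
      have h2 : pullback.fst G.hom ζ (i.left ξ) ⤳ pullback.fst G.hom ζ (i.left h₁) :=
        ((hξ.specializes mem_irreducibleComponent).map i.left.continuous).map (pullback.fst G.hom ζ).continuous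
      refine h2.trans ?_
      rw [← Scheme.Hom.comp_apply i.left, ← hφj, Scheme.Hom.comp_apply, hh₁]
      exact ((IsLocalRing.specializes_closedPoint g₀).map e.continuous).map j.left.continuous
    calc topologicalKrullDim ↥(Set.range i.left) = topologicalKrullDim ↥H.left :=
          (IsHomeomorph.topologicalKrullDim_eq _ i.left.isEmbedding.toHomeomorph.isHomeomorph).symm
      _ = topologicalKrullDim ↥C := ((S5341.result L H).1 C (irreducibleComponent_mem_irreducibleComponents _)).symm
      _ = topologicalKrullDim ↥(closure {ξ}) := by rw [hξ.def]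
      _ ≤ topologicalKrullDim ↥(closure {i.left ξ}) := by
          rw [show closure {i.left ξ} = i.left '' closure {ξ} by
            rw [← i.left.isClosedEmbedding.closure_image_eq, Set.image_singleton]]
          exact le_of_eq (IsHomeomorph.topologicalKrullDim_eq _
            (i.left.isEmbedding.homeomorphImage (closure {ξ})).isHomeomorph)
      _ ≤ _ := SpecClosure.le_dim_preimage hL hK hψ (Set.mem_range_self (f := i.left) ξ) hs
  · -- normality
    intro hGf hn
    refine CAlg6.GrpWord.isNormalHom_bcAny (pS V K) j fun T g n => ?_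
    let W : Over (Spec (CommRingCat.of V)) := G ⊗ Hc
    let θ : W ⟶ G := fst G Hc * (snd G Hc ≫ j) * (fst G Hc)⁻¹
    haveI : Flat W.hom := inferInstanceAs (Flat (pullback.fst G.hom Hc.hom ≫ G.hom))
    let T' : Over (Spec (CommRingCat.of L)) := Over.mk (pullback.snd W.hom ζ)
    let v : (Over.map ζ).obj T' ⟶ W := Over.homMk (pullback.fst W.hom ζ) pullback.condition
    haveI : IsSchemeTheoreticallyDominant v.left := inferInstanceAs (IsSchemeTheoreticallyDominant (pullback.fst W.hom ζ))
    haveI : QuasiCompact v.left := inferInstanceAs (QuasiCompact (pullback.fst W.hom ζ))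
    let x : T' ⟶ Red.bc ζ G := RedPts82.ofBase ζ (v ≫ fst G Hc)
    let y : T' ⟶ Red.bc ζ Hc := RedPts82.ofBase ζ (v ≫ snd G Hc)
    obtain ⟨n', hn'⟩ := hn T' x (y ≫ m)
    obtain ⟨z, hz⟩ : ∃ z : (Over.map ζ).obj T' ⟶ Hc, z ≫ j = v ≫ θ := by
      let z' : (Over.map ζ).obj T' ⟶ Hc := Over.homMk (n'.left ≫ φ) (by
        show (n'.left ≫ φ) ≫ Hc.hom = T'.hom ≫ ζ
        rw [Category.assoc, hpb.w, Over.w_assoc])
      refine ⟨z', ?_⟩
      have hz' : z' ≫ j = RedPts82.toBase ζ (n' ≫ i) := by
        apply Over.OverMorphism.ext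
        show (n'.left ≫ φ) ≫ j.left = _
        rw [Category.assoc, hφj, RedPts82.toBase_left, Over.comp_left, Category.assoc]
      rw [hz', ← hn', RedPts82.toBase_mul, RedPts82.toBase_mul, RedPts82.toBase_inv, Category.assoc, hmi,
        RedPts82.toBase_comp_map, RedPts82.toBase_ofBase, RedPts82.toBase_ofBase, Category.assoc,
        MonObj.comp_mul, MonObj.comp_mul, GrpObj.comp_inv]
    obtain ⟨θ', hθ'⟩ := S18029.exists_lift_dom v θ j z hz
    refine ⟨lift g n ≫ θ', ?_⟩
    rw [Category.assoc, hθ', MonObj.comp_mul, MonObj.comp_mul, GrpObj.comp_inv, lift_fst, lift_snd_assoc]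
  · -- laws
    intro hsep
    haveI : IsSeparated Hc.hom := by rw [← Over.w j]; infer_instance
    refine ⟨fun hH => comm_bc _ ?_, fun hH => WordSpec.nilpotent_bc _ ?_, fun hH => WordSpec.solvable_bc _ ?_⟩
    · haveI : Flat (Hc ⊗ Hc).hom := inferInstanceAs (Flat (pullback.fst Hc.hom Hc.hom ≫ Hc.hom))
      have hw : ((fst Hc Hc * snd Hc Hc) * (snd Hc Hc * fst Hc Hc)⁻¹ : Hc ⊗ Hc ⟶ Hc) = 1 :=
        WordSpec.word_eq_one ζ _ fun X t => by
          rw [MonObj.comp_mul, MonObj.comp_mul, GrpObj.comp_inv, MonObj.comp_mul, mul_inv_eq_one,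
            ← RedPts82.toBase_ofBase ζ (t ≫ fst Hc Hc), ← RedPts82.toBase_ofBase ζ (t ≫ snd Hc Hc),
            ← RedPts82.toBase_mul, ← RedPts82.toBase_mul]
          congr 1
          refine hinj X ?_
          rw [map_mul, map_mul]
          exact _root_.mul_comm (MonoidHom.mk' (fun x : X ⟶ Red.bc ζ Hc => x ≫ m) (fun a b => mul_comp' a b m) _) _
      rw [mul_inv_eq_one] at hw
      refine ⟨?_⟩
      have hβ : (β_ Hc Hc).hom ≫ μ[Hc] = snd Hc Hc * fst Hc Hc := by
        rw [Hom.mul_def]
        congr 1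
      rw [hβ, ← hw, Hom.mul_def, lift_fst_snd, Category.id_comp]
    · refine WordSpec.nilpotent_of_fibre ζ ?_
      obtain ⟨n, hn⟩ := hH
      refine ⟨n, fun X => Subgroup.lowerCentralSeries_eq_bot_iff_upperCentralSeries_eq_top.1 ?_⟩
      refine (Subgroup.map_eq_bot_iff_of_injective _ (hinj X)).1 (le_bot_iff.1 ?_)
      rw [Subgroup.map_lowerCentralSeries, ← Subgroup.lowerCentralSeries_eq_bot_iff_upperCentralSeries_eq_top.2 (hn X)]
      exact FinSupp.lcs_mono n le_top
    · refine WordSpec.solvable_of_fibre ζ ?_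
      obtain ⟨n, hn⟩ := hH
      refine ⟨n, fun X => (Subgroup.map_eq_bot_iff_of_injective _ (hinj X)).1 (le_bot_iff.1 ?_)⟩
      rw [← hn X]
      exact map_derivedSeries_le_derivedSeries _ n

end

end Groth.Agent.AlgGrp33.DvrStep
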