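import Groth.Agent.AlgGrp33.SpecLaws

/-!
Specialization of subgroups of geometric fibres.
-/

set_option autoImplicit false
set_option backward.isDefEq.respectTransparency.types false
universe u

open CategoryTheory CategoryTheory.Limits MonoidalCategory CartesianMonoidalCategory MonObj GrpObj AlgebraicGeometry
open Groth.Agent.AlgGrp79

namespace Groth.Agent.AlgGrp33.SpecStep

noncomputable section
open SpecPts

variable {S : Scheme.{u}}

/-- A subgroup of the generic fibre over a valuation ring gives a smooth connected subgroup of the special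
fibre of the same dimension satisfying the same laws. -/
theorem exists_spec_conn {V : Type u} [CommRing V] [IsDomain V] [ValuationRing V] {L : Type u} [Field L] [Algebra V L]
    [IsFractionRing V L] {K : Type u} [Field K] [IsAlgClosed K] [Algebra V K]
    (hψ : Function.Surjective (algebraMap V K)) (t : Spec (CommRingCat.of V) ⟶ S)
    {tL : Spec (CommRingCat.of L) ⟶ S} (hL : sp V L ≫ t = tL)
    {tK : Spec (CommRingCat.of K) ⟶ S} (hK : sp V K ≫ t = tK)
    (G : Over S) [GrpObj G] [LocallyOfFiniteType G.hom] [QuasiCompact G.hom]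
    {H : Over (Spec (CommRingCat.of L))} [GrpObj H] (i : H ⟶ Red.bc tL G) [IsMonHom i] [IsClosedImmersion i.left] :
    ∃ (C : Over (Spec (CommRingCat.of K))) (_ : GrpObj C) (c : C ⟶ Red.bc tK G),
      IsMonHom c ∧ IsClosedImmersion c.left ∧ Smooth C.hom ∧ ConnectedSpace ↥C.left ∧
      topologicalKrullDim ↥C.left = topologicalKrullDim ↥H.left ∧
      (IsCommMonObj H → IsCommMonObj C) ∧ (AGF.IsNilpotentGrp H → AGF.IsNilpotentGrp C) ∧
      (Red.IsSolvableGrp H → Red.IsSolvableGrp C) := by
  subst hL hK
  obtain ⟨N, _, j, hj, hjc, hN, hr, hdim⟩ := exists_spec_subgroup (K := K) i hψ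
  have : LocallyOfFiniteType (Red.bc (sp V K ≫ t) G).hom :=
    inferInstanceAs (LocallyOfFiniteType (pullback.snd G.hom (sp V K ≫ t)))
  have : LocallyOfFiniteType N.hom := by rw [← Over.w j]; infer_instance
  obtain ⟨C, _, c, hc, hcc, -, hC, hCc, hCdim⟩ := exists_smooth_component N
  have : Mono j := Over.mono_of_mono_left j
  have : Mono c := Over.mono_of_mono_left c
  have hcj : IsClosedImmersion (c ≫ j).left := inferInstanceAs (IsClosedImmersion (c.left ≫ j.left))
  refine ⟨C, inferInstance, c ≫ j, inferInstance, hcj, hC, hCc, hCdim.trans hdim, laws i (c ≫ j) hψ ?_⟩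
  rintro _ ⟨z, rfl⟩
  rw [← hr]
  exact ⟨c.left z, (Scheme.Hom.comp_apply _ _ _).symm⟩

/-- A valuation ring joining two geometric points in specialization. -/
theorem exists_geom_path {s s' : S} (h : s ⤳ s') :
    ∃ (V : ValuationSubring (AlgebraicClosure (S.residueField s))) (ψ : V →+* AlgebraicClosure (S.residueField s'))
      (t : Spec (CommRingCat.of V) ⟶ S), Function.Surjective ψ ∧
      Spec.map (CommRingCat.ofHom V.subtype) ≫ t = Red.geomPt s ∧
      Spec.map (CommRingCat.ofHom ψ) ≫ t = Red.geomPt s' := by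
  let θ : S.presheaf.stalk s' →+* AlgebraicClosure (S.residueField s) :=
    (algebraMap (S.residueField s) _).comp (S.presheaf.stalkSpecializes h ≫ S.residue s).hom
  let φ : S.presheaf.stalk s' →+* AlgebraicClosure (S.residueField s') :=
    (algebraMap (S.residueField s') _).comp (S.residue s').hom
  have hker : RingHom.ker θ ≤ RingHom.ker φ := fun a ha => by
    by_contra hne
    have hu : IsUnit a := by
      by_contra hu
      have h0 : (S.residue s').hom a = 0 := (IsLocalRing.residue_eq_zero_iff a).2 hu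
      exact hne (show algebraMap _ _ ((S.residue s').hom a) = 0 by rw [h0, map_zero])
    exact (hu.map θ).ne_zero ha
  obtain ⟨V, ψ, hV, hψ, hkerψ⟩ := Place.exists_valuationSubring θ.range
    (θ.rangeRestrict.liftOfSurjective θ.rangeRestrict_surjective ⟨φ, by rwa [RingHom.ker_rangeRestrict]⟩)
  let u : S.presheaf.stalk s' →+* V := (Subring.inclusion hV).comp θ.rangeRestrict
  have hu : ψ.comp u = φ := RingHom.ext fun a => by
    refine (hψ (θ.rangeRestrict a)).trans ?_
    exact RingHom.liftOfRightInverse_comp_apply _ _ _ ⟨φ, _⟩ a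
  refine ⟨V, ψ, Spec.map (CommRingCat.ofHom u) ≫ S.fromSpecStalk s', ?_, ?_, ?_⟩
  · refine Place.surjective_of_isAlgebraic V ψ hkerψ (F := S.residueField s') ?_
    rintro _ ⟨c, rfl⟩
    obtain ⟨a, rfl⟩ := S.residue_surjective s' c
    exact ⟨u a, RingHom.congr_fun hu a⟩
  · rw [← Spec.map_comp_assoc, ← CommRingCat.ofHom_comp]
    show Spec.map (CommRingCat.ofHom θ) ≫ _ = _
    rw [Red.geomPt, Scheme.fromSpecResidueField, ← S.SpecMap_stalkSpecializes_fromSpecStalk h, ← Spec.map_comp_assoc, ← Spec.map_comp_assoc]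
    rfl
  · rw [← Spec.map_comp_assoc, ← CommRingCat.ofHom_comp, hu, Red.geomPt, Scheme.fromSpecResidueField, ← Spec.map_comp_assoc]
    rfl

/-- Subgroups of geometric fibres specialize. -/
theorem exists_of_specializes {s s' : S} (h : s ⤳ s') (G : Over S) [GrpObj G] [LocallyOfFiniteType G.hom] [QuasiCompact G.hom]
    {H : Over (Spec (CommRingCat.of (AlgebraicClosure (S.residueField s))))} [GrpObj H] (i : H ⟶ Red.geomFibre s G)
    [IsMonHom i] [IsClosedImmersion i.left] :
    ∃ (C : Over (Spec (CommRingCat.of (AlgebraicClosure (S.residueField s'))))) (_ : GrpObj C) (c : C ⟶ Red.geomFibre s' G),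
      IsMonHom c ∧ IsClosedImmersion c.left ∧ Smooth C.hom ∧ ConnectedSpace ↥C.left ∧
      topologicalKrullDim ↥C.left = topologicalKrullDim ↥H.left ∧
      (IsCommMonObj H → IsCommMonObj C) ∧ (AGF.IsNilpotentGrp H → AGF.IsNilpotentGrp C) ∧
      (Red.IsSolvableGrp H → Red.IsSolvableGrp C) := by
  obtain ⟨V, ψ, t, hψ, hs, hs'⟩ := exists_geom_path h
  letI : Algebra V (AlgebraicClosure (S.residueField s')) := ψ.toAlgebra
  exact exists_spec_conn hψ t hs hs' G i

end

end Groth.Agent.AlgGrp33.SpecStep
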