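import Groth.Agent.AlgGrp33.AffGeom
import Groth.Agent.AlgGrp33.SpecStep

/-!
Specializations of connected affine subgroups are affine.
-/

set_option autoImplicit false
set_option linter.style.haveILetI false
set_option backward.isDefEq.respectTransparency.types false
universe u

open CategoryTheory CategoryTheory.Limits MonoidalCategory CartesianMonoidalCategory MonObj GrpObj AlgebraicGeometry
open Groth.Agent.AlgGrp79

namespace Groth.Agent.AlgGrp33.AffSpec

noncomputable section
open SpecPts

variable {S : Scheme.{u}} {V : Type u} [CommRing V] [IsDomain V] [ValuationRing V] {L : Type u} [Field L] [IsAlgClosed L]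
  [Algebra V L] [IsFractionRing V L] {K : Type u} [Field K] [IsAlgClosed K] [Algebra V K]
  {t : Spec (CommRingCat.of V) ⟶ S} {G : Over S} [GrpObj G] [LocallyOfFiniteType G.hom] [QuasiCompact G.hom]
  {H : Over (Spec (CommRingCat.of L))} [GrpObj H] (i : H ⟶ Red.bc (sp V L ≫ t) G) [IsClosedImmersion i.left]

/-- The identity component of the specialization of a connected affine subgroup is affine. -/
theorem isAffine_component (hψ : Function.Surjective (algebraMap V K)) [AlgebraicGeometry.IsIntegral H.left]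
    [IsAffine H.left] {N : Over (Spec (CommRingCat.of K))} (j : N ⟶ Red.bc (sp V K ≫ t) G) [IsClosedImmersion j.left]
    (hr : Set.range j.left = spSet K i) {C : Over (Spec (CommRingCat.of K))} [GrpObj C] (c : C ⟶ N)
    [IsClosedImmersion c.left] [IsOpenImmersion c.left] [Smooth C.hom] [ConnectedSpace ↥C.left] : IsAffine C.left := by
  have : LocallyOfFiniteType (Red.bc (sp V K ≫ t) G).hom :=
    inferInstanceAs (LocallyOfFiniteType (pullback.snd G.hom (sp V K ≫ t)))
  have : QuasiCompact (Red.bc (sp V K ≫ t) G).hom :=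
    inferInstanceAs (QuasiCompact (pullback.snd G.hom (sp V K ≫ t)))
  have : QuasiCompact C.hom := by
    rw [← Over.w c, ← Over.w j]
    infer_instance
  have : IrreducibleSpace C.left := S0348.result K C
  have : IsReduced C.left := AlgGrp79.isReduced_of_smooth C.hom
  have : AlgebraicGeometry.IsIntegral C.left := isIntegral_of_irreducibleSpace_of_isReduced _
  have hL := isPullback_jF t G L
  have hK := isPullback_jF t G K
  have := SpecClosure.isPreimmersion_left hL
  have := SpecClosure.isClosedImmersion_right hK hψ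
  -- the model
  have : IsReduced (ovV (V := V) L H).left := inferInstanceAs (IsReduced H.left)
  have haH : InZ i (fam L H i) := by
    rw [InZ, liftX_fam]
    rintro _ ⟨h, rfl⟩
    exact subset_closure ⟨i.left h, ⟨h, rfl⟩, (Scheme.Hom.comp_apply _ _ _).symm⟩
  obtain ⟨φ, hφ⟩ := exists_factor i haH
  rw [liftX_fam] at hφ
  replace hφ : (φ : H.left ⟶ zsub i) ≫ zι i = i.left ≫ jF t G L := hφ
  have : IsPreimmersion ((φ : H.left ⟶ zsub i) ≫ zι i) := by rw [hφ]; infer_instance
  have hφp : IsPreimmersion (φ : H.left ⟶ zsub i) := IsPreimmersion.of_comp _ (zι i)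
  have hzφ : ∀ h, zι i ((φ : H.left ⟶ zsub i) h) = jF t G L (i.left h) := fun h => by
    rw [← Scheme.Hom.comp_apply, hφ, Scheme.Hom.comp_apply]
  have hspec : ∀ z : zsub i, (φ : H.left ⟶ zsub i) (genericPoint H.left) ⤳ z := fun z => by
    rw [← (zι i).isEmbedding.isInducing.specializes_iff, hzφ, specializes_iff_mem_closure]
    refine closure_minimal ?_ isClosed_closure ((range_zι i).le ⟨z, rfl⟩)
    rintro _ ⟨_, ⟨h, rfl⟩, rfl⟩
    exact (((genericPoint_specializes h).map i.left.continuous).map (jF t G L).continuous).mem_closure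
  have hgp : IsGenericPoint ((φ : H.left ⟶ zsub i) (genericPoint H.left)) Set.univ :=
    Set.eq_univ_of_forall fun z => (hspec z).mem_closure
  have : IrreducibleSpace (zsub i) :=
    { toPreirreducibleSpace := ⟨hgp.isIrreducible.2⟩
      toNonempty := ⟨(φ : H.left ⟶ zsub i) (genericPoint H.left)⟩ }
  have : AlgebraicGeometry.IsIntegral (zsub i) := isIntegral_of_irreducibleSpace_of_isReduced _
  have hgen : (φ : H.left ⟶ zsub i) (genericPoint H.left) = genericPoint (zsub i) :=
    hgp.eq (genericPoint_spec _)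
  have hφf : (φ : H.left ⟶ zsub i) ≫ zhom i = H.hom ≫ sp V L := by
    rw [zhom, reassoc_of% hφ, hL.w, ← Category.assoc]
    exact congrArg (· ≫ sp V L) (Over.w i)
  have hgf : ∀ z : zsub i, (zhom i z).asIdeal = ⊥ → z ∈ Set.range (φ : H.left ⟶ zsub i) := by
    intro z hz
    rw [zhom, Scheme.Hom.comp_apply] at hz
    obtain ⟨y, hy⟩ := SpecClosure.mem_range_left hL (x := zι i z) (PrimeSpectrum.ext hz)
    have hy' : y ∈ jF t G L ⁻¹' closure (jF t G L '' Set.range i.left) := by
      show jF t G L y ∈ Zs (Set.range i.left)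
      rw [hy]
      exact (range_zι i).le ⟨z, rfl⟩
    rw [SpecClosure.preimage_closure hL i.left.isClosedEmbedding.isClosed_range] at hy'
    obtain ⟨h, rfl⟩ := hy'
    exact ⟨h, (zι i).isEmbedding.injective ((hzφ h).trans hy)⟩
  -- the special component
  have : IsReduced (ovV (V := V) K C).left := inferInstanceAs (IsReduced C.left)
  have haC : InZ i (fam K C (c ≫ j)) := by
    rw [inZ_fam_iff, ← hr]
    rintro _ ⟨x, rfl⟩
    exact ⟨c.left x, (Scheme.Hom.comp_apply _ _ _).symm⟩
  obtain ⟨ψ, hψZ⟩ := exists_factor i haC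
  rw [liftX_fam] at hψZ
  replace hψZ : (ψ : C.left ⟶ zsub i) ≫ zι i = c.left ≫ j.left ≫ jF t G K := hψZ.trans (Category.assoc _ _ _)
  have : IsClosedImmersion ((ψ : C.left ⟶ zsub i) ≫ zι i) := by rw [hψZ]; infer_instance
  have hψc : IsClosedImmersion (ψ : C.left ⟶ zsub i) := IsClosedImmersion.of_comp _ (zι i)
  have hzψ : ∀ x, zι i ((ψ : C.left ⟶ zsub i) x) = jF t G K (j.left (c.left x)) := fun x => by
    rw [← Scheme.Hom.comp_apply, hψZ, Scheme.Hom.comp_apply, Scheme.Hom.comp_apply]
  have hψf : (ψ : C.left ⟶ zsub i) ≫ zhom i = C.hom ≫ sp V K := by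
    rw [zhom, reassoc_of% hψZ, hK.w, ← Category.assoc j.left, ← Category.assoc c.left]
    refine congrArg (· ≫ sp V K) ?_
    exact (congrArg (c.left ≫ ·) (Over.w j)).trans (Over.w c)
  let Zo : (zsub i).Opens := ⟨(zι i ⁻¹' (jF t G K '' (j.left '' (Set.range c.left)ᶜ)))ᶜ,
    ((((jF t G K).isClosedEmbedding.isClosedMap _ (j.left.isClosedEmbedding.isClosedMap _
      c.left.isOpenEmbedding.isOpen_range.isClosed_compl))).preimage (zι i).continuous).isOpen_compl⟩
  have hCo : ∀ x, (ψ : C.left ⟶ zsub i) x ∈ Zo := fun x hx => by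
    obtain ⟨_, ⟨n, hn, rfl⟩, he⟩ := hx
    rw [hzψ] at he
    exact hn ⟨x, (j.left.isEmbedding.injective ((jF t G K).isEmbedding.injective he)).symm⟩
  have hsp : ∀ z ∈ Zo, (∀ v, algebraMap V K v = 0 → v ∈ (zhom i z).asIdeal) →
      z ∈ Set.range (ψ : C.left ⟶ zsub i) := by
    intro z hz hv
    obtain ⟨y, hy⟩ := SpecClosure.mem_range_right hK hψ (x := zι i z) (by
      intro v h
      have := hv v h
      rwa [zhom, Scheme.Hom.comp_apply] at this)
    have hys : y ∈ Set.range j.left := by
      rw [hr]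
      show jF t G K y ∈ Zs (Set.range i.left)
      rw [hy]
      exact (range_zι i).le ⟨z, rfl⟩
    obtain ⟨n, rfl⟩ := hys
    by_cases hn : n ∈ Set.range c.left
    · obtain ⟨x, rfl⟩ := hn
      exact ⟨x, (zι i).isEmbedding.injective ((hzψ x).trans hy)⟩
    · exact absurd ⟨j.left n, ⟨n, hn, rfl⟩, hy⟩ hz
  have : LocallyOfFiniteType (zhom i) :=
    inferInstanceAs (LocallyOfFiniteType (zι i ≫ pullback.snd G.hom t))
  refine AffCrit.isAffine_of_algebraic C fun z => ?_
  obtain ⟨w, rfl⟩ := C.left.residue_surjective _ z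
  obtain ⟨Q, hQ0, hQ⟩ := AffGeom.isAlgebraic_global (L := L) (H := H.left) (C := C.left) hψ (zhom i) (φ : H.left ⟶ zsub i) hgen H.hom hφf hgf
    (ψ : C.left ⟶ zsub i) C.hom hψf Zo hCo hsp (fun x => (Curves2.isIntegrallyClosed_stalk_of_smooth C.hom x).2) w
  have he : (C.left.evaluation ⊤ (genericPoint C.left) trivial).hom =
      (C.left.residue (genericPoint C.left)).hom.comp (C.left.presheaf.germ ⊤ (genericPoint C.left) trivial).hom := rfl
  have hinj : Function.Injective (C.left.residue (genericPoint C.left)).hom :=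
    RingHom.injective (show C.left.functionField →+* _ from (C.left.residue (genericPoint C.left)).hom)
  refine ⟨Q, fun h => hQ0 (Polynomial.map_injective _ hinj ?_), ?_⟩
  · rw [Polynomial.map_zero, Polynomial.map_map, ← he, h]
  · rw [he, ← Polynomial.hom_eval₂]
    exact (congrArg _ hQ).trans (map_zero _)

/-- A connected affine subgroup of the generic fibre gives an affine one of the special fibre. -/
theorem exists_spec_affine (hψ : Function.Surjective (algebraMap V K)) [IsMonHom i]
    [Smooth H.hom] [ConnectedSpace ↥H.left] [IsAffine H.left] :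
    ∃ (C : Over (Spec (CommRingCat.of K))) (_ : GrpObj C) (c : C ⟶ Red.bc (sp V K ≫ t) G),
      IsMonHom c ∧ IsClosedImmersion c.left ∧ Smooth C.hom ∧ IsAffine C.left ∧ ConnectedSpace ↥C.left ∧
      topologicalKrullDim ↥C.left = topologicalKrullDim ↥H.left ∧
      (IsCommMonObj H → IsCommMonObj C) ∧ (AGF.IsNilpotentGrp H → AGF.IsNilpotentGrp C) ∧
      (Red.IsSolvableGrp H → Red.IsSolvableGrp C) := by
  have : IrreducibleSpace H.left := S0348.result L H
  have : IsReduced H.left := AlgGrp79.isReduced_of_smooth H.hom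
  have : AlgebraicGeometry.IsIntegral H.left := isIntegral_of_irreducibleSpace_of_isReduced _
  obtain ⟨N, _, j, hj, hjc, hN, hr, hdim⟩ := exists_spec_subgroup (K := K) i hψ
  have : LocallyOfFiniteType (Red.bc (sp V K ≫ t) G).hom :=
    inferInstanceAs (LocallyOfFiniteType (pullback.snd G.hom (sp V K ≫ t)))
  have : LocallyOfFiniteType N.hom := by rw [← Over.w j]; infer_instance
  obtain ⟨C, _, c, hc, hcc, hco, hC, hCc, hCdim⟩ := exists_smooth_component N
  have hCaff := isAffine_component i hψ j hr c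
  have : Mono j := Over.mono_of_mono_left j
  have : Mono c := Over.mono_of_mono_left c
  have hcj : IsClosedImmersion (c ≫ j).left := inferInstanceAs (IsClosedImmersion (c.left ≫ j.left))
  refine ⟨C, inferInstance, c ≫ j, inferInstance, hcj, hC, hCaff, hCc, hCdim.trans hdim, laws i (c ≫ j) hψ ?_⟩
  rintro _ ⟨z, rfl⟩
  rw [← hr]
  exact ⟨c.left z, (Scheme.Hom.comp_apply _ _ _).symm⟩

end

/-- The same, for any presentation of the two fibres. -/
theorem exists_spec_affine' {S : Scheme.{u}} {V : Type u} [CommRing V] [IsDomain V] [ValuationRing V] {L : Type u} [Field L]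
    [IsAlgClosed L] [Algebra V L] [IsFractionRing V L] {K : Type u} [Field K] [IsAlgClosed K] [Algebra V K]
    (hψ : Function.Surjective (algebraMap V K)) (t : Spec (CommRingCat.of V) ⟶ S)
    {tL : Spec (CommRingCat.of L) ⟶ S} (hL : SpecPts.sp V L ≫ t = tL)
    {tK : Spec (CommRingCat.of K) ⟶ S} (hK : SpecPts.sp V K ≫ t = tK)
    (G : Over S) [GrpObj G] [LocallyOfFiniteType G.hom] [QuasiCompact G.hom]
    {H : Over (Spec (CommRingCat.of L))} [GrpObj H] (i : H ⟶ Red.bc tL G) [IsMonHom i] [IsClosedImmersion i.left]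
    [Smooth H.hom] [ConnectedSpace ↥H.left] [IsAffine H.left] :
    ∃ (C : Over (Spec (CommRingCat.of K))) (_ : GrpObj C) (c : C ⟶ Red.bc tK G),
      IsMonHom c ∧ IsClosedImmersion c.left ∧ Smooth C.hom ∧ IsAffine C.left ∧ ConnectedSpace ↥C.left ∧
      topologicalKrullDim ↥C.left = topologicalKrullDim ↥H.left ∧
      (IsCommMonObj H → IsCommMonObj C) ∧ (AGF.IsNilpotentGrp H → AGF.IsNilpotentGrp C) ∧
      (Red.IsSolvableGrp H → Red.IsSolvableGrp C) := by
  subst hL hK
  exact exists_spec_affine i hψ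

end Groth.Agent.AlgGrp33.AffSpec

namespace Groth.Agent.AlgGrp33.AffSpec

/-- Affine subgroups of geometric fibres specialize. -/
theorem exists_affine_of_specializes {S : Scheme.{u}} {s s' : S} (h : s ⤳ s') (G : Over S) [GrpObj G]
    [LocallyOfFiniteType G.hom] [QuasiCompact G.hom]
    {H : Over (Spec (CommRingCat.of (AlgebraicClosure (S.residueField s))))} [GrpObj H] (i : H ⟶ Red.geomFibre s G)
    [IsMonHom i] [IsClosedImmersion i.left] [Smooth H.hom] [ConnectedSpace ↥H.left] [IsAffine H.left] :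
    ∃ (C : Over (Spec (CommRingCat.of (AlgebraicClosure (S.residueField s'))))) (_ : GrpObj C) (c : C ⟶ Red.geomFibre s' G),
      IsMonHom c ∧ IsClosedImmersion c.left ∧ Smooth C.hom ∧ IsAffine C.left ∧ ConnectedSpace ↥C.left ∧
      topologicalKrullDim ↥C.left = topologicalKrullDim ↥H.left ∧
      (IsCommMonObj H → IsCommMonObj C) ∧ (AGF.IsNilpotentGrp H → AGF.IsNilpotentGrp C) ∧
      (Red.IsSolvableGrp H → Red.IsSolvableGrp C) := by
  obtain ⟨V, ψ, t, hψ, hs, hs'⟩ := SpecStep.exists_geom_path h
  letI : Algebra V (AlgebraicClosure (S.residueField s')) := ψ.toAlgebra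
  exact exists_spec_affine' hψ t hs hs' G i

end Groth.Agent.AlgGrp33.AffSpec
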