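import Groth.Agent.AlgGrp33.WordSpec
import Groth.Agent.Alb96.MaxAbelian
import Groth.Agent.AlgGrp79.SepDense
import Groth.Agent.AlgGrp79.Act
import Groth.Agent.AlgGrp79.NeutralHomog

/-!
Word maps under isogenies.
-/

set_option autoImplicit false
set_option linter.unusedSectionVars false
universe u

open CategoryTheory CategoryTheory.Limits MonoidalCategory CartesianMonoidalCategory MonObj GrpObj AlgebraicGeometry
open Groth.Agent.AlgGrp79
open scoped commutatorElement

noncomputable section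

namespace Groth.Agent.AlgGrp33.IsogWords

open WordSpec

variable {k : Type u} [Field k] {G H : Over (Spec (CommRingCat.of k))} [GrpObj G] [GrpObj H]

theorem comm_comp {T : Over (Spec (CommRingCat.of k))} (a b : T ⟶ G) (f : G ⟶ H) [IsMonHom f] :
    (⁅a, b⁆ : T ⟶ G) ≫ f = ⁅a ≫ f, b ≫ f⁆ := by
  simp only [commutatorElement_def, mul_comp', GrpObj.inv_comp]

/-- the induced map on sources of derived words -/
def dMap (f : G ⟶ H) : ∀ n, dSrc G n ⟶ dSrc H n
  | 0 => f
  | n + 1 => dMap f n ⊗ₘ dMap f n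

/-- the induced map on sources of central words -/
def lMap (f : G ⟶ H) : ∀ n, lSrc G n ⟶ lSrc H n
  | 0 => f
  | n + 1 => lMap f n ⊗ₘ f

theorem dMap_dWord (f : G ⟶ H) [IsMonHom f] : ∀ n, dMap f n ≫ dWord H n = dWord G n ≫ f
  | 0 => (Category.comp_id f).trans (Category.id_comp f).symm
  | n + 1 => by
    show (dMap f n ⊗ₘ dMap f n) ≫
        (⁅fst (dSrc H n) (dSrc H n) ≫ dWord H n, snd (dSrc H n) (dSrc H n) ≫ dWord H n⁆ : dSrc H n ⊗ dSrc H n ⟶ H) =
      (⁅fst (dSrc G n) (dSrc G n) ≫ dWord G n, snd (dSrc G n) (dSrc G n) ≫ dWord G n⁆ : dSrc G n ⊗ dSrc G n ⟶ G) ≫ f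
    rw [comp_commutator, comm_comp, tensorHom_fst_assoc, tensorHom_snd_assoc, dMap_dWord f n, Category.assoc,
      Category.assoc]

theorem lMap_lWord (f : G ⟶ H) [IsMonHom f] : ∀ n, lMap f n ≫ lWord H n = lWord G n ≫ f
  | 0 => (Category.comp_id f).trans (Category.id_comp f).symm
  | n + 1 => by
    show (lMap f n ⊗ₘ f) ≫ (⁅fst (lSrc H n) H ≫ lWord H n, snd (lSrc H n) H⁆ : lSrc H n ⊗ H ⟶ H) =
      (⁅fst (lSrc G n) G ≫ lWord G n, snd (lSrc G n) G⁆ : lSrc G n ⊗ G ⟶ G) ≫ f
    rw [comp_commutator, comm_comp, tensorHom_fst_assoc, tensorHom_snd, lMap_lWord f n, Category.assoc]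

theorem src_props [GeometricallyIntegral G.hom] [LocallyOfFiniteType G.hom] :
    (∀ n, GeometricallyIntegral (dSrc G n).hom ∧ LocallyOfFiniteType (dSrc G n).hom) ∧
      ∀ n, GeometricallyIntegral (lSrc G n).hom ∧ LocallyOfFiniteType (lSrc G n).hom := by
  have h : ∀ P Q : Over (Spec (CommRingCat.of k)), GeometricallyIntegral P.hom → LocallyOfFiniteType P.hom →
      GeometricallyIntegral Q.hom → LocallyOfFiniteType Q.hom →
      GeometricallyIntegral (P ⊗ Q).hom ∧ LocallyOfFiniteType (P ⊗ Q).hom := fun P Q _ _ _ _ =>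
    ⟨Alb96.geometricallyIntegral_tensor P Q,
      inferInstanceAs (LocallyOfFiniteType (pullback.fst P.hom Q.hom ≫ P.hom))⟩
  exact ⟨fun n => by induction n with
    | zero => exact ⟨‹_›, ‹_›⟩
    | succ n ih => exact h _ _ ih.1 ih.2 ih.1 ih.2,
    fun n => by induction n with
    | zero => exact ⟨‹_›, ‹_›⟩
    | succ n ih => exact h _ _ ih.1 ih.2 ‹_› ‹_›⟩

theorem exists_unit_pt : (∀ n, ∃ p : 𝟙_ (Over (Spec (CommRingCat.of k))) ⟶ dSrc G n, p ≫ dWord G n = 1) ∧
    ∀ n, ∃ p : 𝟙_ (Over (Spec (CommRingCat.of k))) ⟶ lSrc G n, p ≫ lWord G n = 1 := by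
  refine ⟨fun n => ?_, fun n => ?_⟩
  · induction n with
    | zero => exact ⟨(1 : 𝟙_ (Over (Spec (CommRingCat.of k))) ⟶ G), Category.comp_id _⟩
    | succ n ih =>
      obtain ⟨p, hp⟩ := ih
      refine ⟨lift p p, ?_⟩
      show lift p p ≫ (⁅fst (dSrc G n) (dSrc G n) ≫ dWord G n, snd (dSrc G n) (dSrc G n) ≫ dWord G n⁆ :
        dSrc G n ⊗ dSrc G n ⟶ G) = 1
      rw [comp_commutator, lift_fst_assoc, lift_snd_assoc, hp, commutatorElement_self]
  · induction n with
    | zero => exact ⟨(1 : 𝟙_ (Over (Spec (CommRingCat.of k))) ⟶ G), Category.comp_id _⟩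
    | succ n ih =>
      obtain ⟨p, hp⟩ := ih
      refine ⟨lift p 1, ?_⟩
      show lift p 1 ≫ (⁅fst (lSrc G n) G ≫ lWord G n, snd (lSrc G n) G⁆ : lSrc G n ⊗ G ⟶ G) = 1
      rw [comp_commutator, lift_fst_assoc, lift_snd, hp, commutatorElement_self]

/-- A map from an integral scheme killed by a finite homomorphism is trivial. -/
theorem eq_one_of_finite {P : Over (Spec (CommRingCat.of k))} [IsIntegral P.left]
    (f : G ⟶ H) [IsMonHom f] [IsFinite f.left] (w : P ⟶ G)
    (p : 𝟙_ (Over (Spec (CommRingCat.of k))) ⟶ P) (hp : p ≫ w = 1) (h : w ≫ f = 1) : w = 1 := by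
  have := isSeparated_grp G
  have hη : IsClosedImmersion η[G].left := by
    have : IsClosedImmersion (η[G].left ≫ G.hom) := by
      rw [Over.w]; exact inferInstanceAs (IsClosedImmersion (𝟙 (Spec (CommRingCat.of k))))
    exact IsClosedImmersion.of_comp _ G.hom
  let c := IsLocalRing.closedPoint k
  have hsub : Set.range w.left ⊆ f.left ⁻¹' {η[H].left c} := by
    rintro _ ⟨x, rfl⟩
    show f.left (w.left x) = η[H].left c
    rw [← Scheme.Hom.comp_apply, ← Over.comp_left, h, Hom.one_def, Over.comp_left, Scheme.Hom.comp_apply]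
    exact congrArg η[H].left (Subsingleton.elim (α := PrimeSpectrum k) _ _)
  have hd := f.left.isDiscrete_preimage_singleton (η[H].left c)
  have hir : IsPreirreducible (Set.range w.left) := by
    rw [← Set.image_univ]
    exact ((IrreducibleSpace.isIrreducible_univ _).image _ w.left.continuous.continuousOn).isPreirreducible
  have hss : (Set.range w.left).Subsingleton :=
    (hd.mono hsub).subsingleton_of_isPreirreducible hir
  obtain ⟨t, ht⟩ := Alb96.exists_lift_of_range_subset η[G] w (by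
    rintro _ ⟨x, rfl⟩
    refine ⟨c, hss ⟨p.left c, ?_⟩ ⟨x, rfl⟩⟩
    have h1 : p ≫ w = η[G] := by rw [hp, Hom.one_def, toUnit_unique (toUnit (𝟙_ _)) (𝟙 _), Category.id_comp]
    rw [← h1]
    exact (Scheme.Hom.comp_apply _ _ _).symm)
  rw [← ht, toUnit_unique t (toUnit P), Hom.one_def]

theorem solvable_of_finite [GeometricallyIntegral G.hom] [LocallyOfFiniteType G.hom]
    (f : G ⟶ H) [IsMonHom f] [IsFinite f.left] (hH : Red.IsSolvableGrp H) : Red.IsSolvableGrp G := by
  obtain ⟨n, hn⟩ := hH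
  have := (src_props (G := G)).1 n
  have := this.1
  have : IsIntegral (dSrc G n).left := GeometricallyIntegral.isIntegral_of_subsingleton (dSrc G n).hom
  obtain ⟨p, hp⟩ := (exists_unit_pt (G := G)).1 n
  have hw : dWord G n = 1 := eq_one_of_finite f _ p hp (by
    rw [← dMap_dWord, ← Subgroup.mem_bot, ← hn, derivedSeries_eq]
    exact Subgroup.subset_closure ⟨_, rfl⟩)
  refine ⟨n, fun X => ?_⟩
  rw [derivedSeries_eq, Subgroup.closure_eq_bot_iff]
  rintro _ ⟨t, rfl⟩
  show t ≫ dWord G n = 1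
  rw [hw, MonObj.comp_one]

theorem nilpotent_of_finite [GeometricallyIntegral G.hom] [LocallyOfFiniteType G.hom]
    (f : G ⟶ H) [IsMonHom f] [IsFinite f.left] (hH : AGF.IsNilpotentGrp H) : AGF.IsNilpotentGrp G := by
  obtain ⟨n, hn⟩ := hH
  have := (src_props (G := G)).2 n
  have := this.1
  have : IsIntegral (lSrc G n).left := GeometricallyIntegral.isIntegral_of_subsingleton (lSrc G n).hom
  obtain ⟨p, hp⟩ := (exists_unit_pt (G := G)).2 n
  have hw : lWord G n = 1 := eq_one_of_finite f _ p hp (by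
    rw [← lMap_lWord, ← Subgroup.mem_bot,
      ← Subgroup.lowerCentralSeries_eq_bot_iff_upperCentralSeries_eq_top.2 (hn _), lowerCentralSeries_eq]
    exact Subgroup.subset_closure ⟨_, rfl⟩)
  refine ⟨n, fun X => Subgroup.lowerCentralSeries_eq_bot_iff_upperCentralSeries_eq_top.1 ?_⟩
  rw [lowerCentralSeries_eq, Subgroup.closure_eq_bot_iff]
  rintro _ ⟨t, rfl⟩
  show t ≫ lWord G n = 1
  rw [hw, MonObj.comp_one]

theorem surjective_tensorHom {A A' B B' : Over (Spec (CommRingCat.of k))} (f : A ⟶ B) (g : A' ⟶ B')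
    [Surjective f.left] [Surjective g.left] : Surjective (f ⊗ₘ g).left := by
  have s1 : Surjective (f ▷ A').left :=
    MorphismProperty.of_isPullback (isPullback_left (whiskerRight_isPullback' f A')) ‹_›
  have s2 : Surjective (B ◁ g).left :=
    MorphismProperty.of_isPullback (isPullback_left (whiskerLeft_isPullback B g)).flip ‹_›
  rw [MonoidalCategory.tensorHom_def, Over.comp_left]
  infer_instance

theorem eq_one_of_surjective {P Q : Over (Spec (CommRingCat.of k))} [IsReduced Q.left] (g : P ⟶ Q)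
    [Surjective g.left] (w : Q ⟶ H) (h : g ≫ w = 1) : w = 1 := by
  have := isSeparated_grp H
  have : IsDominant g.left := ⟨g.left.surjective.denseRange⟩
  refine Over.OverMorphism.ext (ext_of_isDominant_of_isSeparated H.hom (by rw [Over.w, Over.w]) g.left ?_)
  exact congrArg CommaMorphism.left (h.trans (MonObj.comp_one g).symm)

theorem solvable_of_surjective [GeometricallyIntegral H.hom] [LocallyOfFiniteType H.hom]
    (f : G ⟶ H) [IsMonHom f] [Surjective f.left] (hG : Red.IsSolvableGrp G) : Red.IsSolvableGrp H := by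
  obtain ⟨n, hn⟩ := hG
  have := (src_props (G := H)).1 n
  have := this.1
  have : IsIntegral (dSrc H n).left := GeometricallyIntegral.isIntegral_of_subsingleton (dSrc H n).hom
  have hs : ∀ m, Surjective (dMap f m).left := fun m => by
    induction m with
    | zero => exact ‹Surjective f.left›
    | succ m ih => exact surjective_tensorHom _ _
  have := hs n
  have hG1 : dWord G n = 1 := by
    rw [← Subgroup.mem_bot, ← hn, derivedSeries_eq]
    exact Subgroup.subset_closure ⟨𝟙 _, Category.id_comp _⟩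
  have hw : dWord H n = 1 := eq_one_of_surjective (dMap f n) _ (by rw [dMap_dWord, hG1, MonObj.one_comp])
  refine ⟨n, fun X => ?_⟩
  rw [derivedSeries_eq, Subgroup.closure_eq_bot_iff]
  rintro _ ⟨t, rfl⟩
  show t ≫ dWord H n = 1
  rw [hw, MonObj.comp_one]

theorem nilpotent_of_surjective [GeometricallyIntegral H.hom] [LocallyOfFiniteType H.hom]
    (f : G ⟶ H) [IsMonHom f] [Surjective f.left] (hG : AGF.IsNilpotentGrp G) : AGF.IsNilpotentGrp H := by
  obtain ⟨n, hn⟩ := hG
  have := (src_props (G := H)).2 n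
  have := this.1
  have : IsIntegral (lSrc H n).left := GeometricallyIntegral.isIntegral_of_subsingleton (lSrc H n).hom
  have hs : ∀ m, Surjective (lMap f m).left := fun m => by
    induction m with
    | zero => exact ‹Surjective f.left›
    | succ m ih => exact surjective_tensorHom _ _
  have := hs n
  have hG1 : lWord G n = 1 := by
    rw [← Subgroup.mem_bot, ← Subgroup.lowerCentralSeries_eq_bot_iff_upperCentralSeries_eq_top.2 (hn _),
      lowerCentralSeries_eq]
    exact Subgroup.subset_closure ⟨𝟙 _, Category.id_comp _⟩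
  have hw : lWord H n = 1 := eq_one_of_surjective (lMap f n) _ (by rw [lMap_lWord, hG1, MonObj.one_comp])
  refine ⟨n, fun X => Subgroup.lowerCentralSeries_eq_bot_iff_upperCentralSeries_eq_top.1 ?_⟩
  rw [lowerCentralSeries_eq, Subgroup.closure_eq_bot_iff]
  rintro _ ⟨t, rfl⟩
  show t ≫ lWord H n = 1
  rw [hw, MonObj.comp_one]

theorem comm_of_finite [GeometricallyIntegral G.hom] [LocallyOfFiniteType G.hom]
    (f : G ⟶ H) [IsMonHom f] [IsFinite f.left]
    (hH : ∀ {X : Over (Spec (CommRingCat.of k))} (a b : X ⟶ H), a * b = b * a)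
    {X : Over (Spec (CommRingCat.of k))} (a b : X ⟶ G) : a * b = b * a := by
  have := Alb96.geometricallyIntegral_tensor G G
  have : IsIntegral (G ⊗ G).left := GeometricallyIntegral.isIntegral_of_subsingleton (G ⊗ G).hom
  have hw : (⁅fst G G, snd G G⁆ : G ⊗ G ⟶ G) = 1 :=
    eq_one_of_finite f _ (lift 1 1) (by rw [comp_commutator, lift_fst, lift_snd, commutatorElement_self]) (by
      rw [comm_comp, commutatorElement_eq_one_iff_mul_comm]; exact hH _ _)
  rw [← commutatorElement_eq_one_iff_mul_comm]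
  have h := congrArg (lift a b ≫ ·) hw
  simpa only [comp_commutator, lift_fst, lift_snd, MonObj.comp_one] using h

theorem comm_of_surjective [GeometricallyIntegral H.hom] [LocallyOfFiniteType H.hom]
    (f : G ⟶ H) [IsMonHom f] [Surjective f.left]
    (hG : ∀ {X : Over (Spec (CommRingCat.of k))} (a b : X ⟶ G), a * b = b * a)
    {X : Over (Spec (CommRingCat.of k))} (a b : X ⟶ H) : a * b = b * a := by
  have := Alb96.geometricallyIntegral_tensor H H
  have : IsIntegral (H ⊗ H).left := GeometricallyIntegral.isIntegral_of_subsingleton (H ⊗ H).hom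
  have := surjective_tensorHom f f
  have hw : (⁅fst H H, snd H H⁆ : H ⊗ H ⟶ H) = 1 := eq_one_of_surjective (f ⊗ₘ f) _ (by
    rw [comp_commutator, tensorHom_fst, tensorHom_snd, ← comm_comp,
      commutatorElement_eq_one_iff_mul_comm.2 (hG _ _), MonObj.one_comp])
  rw [← commutatorElement_eq_one_iff_mul_comm]
  have h := congrArg (lift a b ≫ ·) hw
  simpa only [comp_commutator, lift_fst, lift_snd, MonObj.comp_one] using h

end Groth.Agent.AlgGrp33.IsogWords
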