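import Groth.Agent.AlgGrp33.SpecWords
import Groth.Agent.AlgGrp33.FinSupp
import Groth.Agent.AlgGrp33.IsogWords
import Groth.Agent.AlgGrp79.BorelFixed

/-!
Commutativity, nilpotency and solvability pass to the specialized subgroup.
-/

set_option autoImplicit false
set_option backward.isDefEq.respectTransparency.types false
universe u

open CategoryTheory CategoryTheory.Limits MonoidalCategory CartesianMonoidalCategory MonObj GrpObj AlgebraicGeometry
open Groth.Agent.AlgGrp79
open scoped commutatorElement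

namespace Groth.Agent.AlgGrp33.SpecPts

noncomputable section

section Global
variable {k : Type u} [Field k] [IsAlgClosed k] {C : Over (Spec (CommRingCat.of k))} [GrpObj C]
  [GeometricallyIntegral C.hom] [LocallyOfFiniteType C.hom]

theorem comm_of_rat (h : ∀ x y : 𝟙_ (Over (Spec (CommRingCat.of k))) ⟶ C, x * y = y * x) : IsCommMonObj C := by
  have := isSeparated_grp C
  have := Alb96.geometricallyIntegral_tensor C C
  have : IsIntegral (C ⊗ C).left := GeometricallyIntegral.isIntegral_of_subsingleton (C ⊗ C).hom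
  have : LocallyOfFiniteType (C ⊗ C).hom := inferInstanceAs (LocallyOfFiniteType (pullback.fst C.hom C.hom ≫ C.hom))
  refine IsogSub.isCommMonObj_of_pts fun {X} a b => ?_
  have e : (fst C C * snd C C : C ⊗ C ⟶ C) = snd C C * fst C C :=
    BorelFixed.hom_ext_pts _ _ fun p => by rw [MonObj.comp_mul, MonObj.comp_mul, h]
  have := congrArg (fun z => lift a b ≫ z) e
  simpa [MonObj.comp_mul] using this

theorem solvable_of_rat (n : ℕ) (h : derivedSeries (𝟙_ (Over (Spec (CommRingCat.of k))) ⟶ C) n = ⊥) :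
    Red.IsSolvableGrp C := by
  have := isSeparated_grp C
  have := ((IsogWords.src_props (G := C)).1 n).1
  have := ((IsogWords.src_props (G := C)).1 n).2
  have : IsIntegral (WordSpec.dSrc C n).left := GeometricallyIntegral.isIntegral_of_subsingleton (WordSpec.dSrc C n).hom
  have hw : WordSpec.dWord C n = 1 := BorelFixed.hom_ext_pts _ _ fun p => by
    rw [MonObj.comp_one, ← Subgroup.mem_bot, ← h, WordSpec.derivedSeries_eq]
    exact Subgroup.subset_closure ⟨p, rfl⟩
  refine ⟨n, fun X => ?_⟩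
  rw [WordSpec.derivedSeries_eq, Subgroup.closure_eq_bot_iff]
  rintro _ ⟨p, rfl⟩
  show p ≫ WordSpec.dWord C n = 1
  rw [hw, MonObj.comp_one]

theorem nilpotent_of_rat (n : ℕ)
    (h : (⊤ : Subgroup (𝟙_ (Over (Spec (CommRingCat.of k))) ⟶ C)).lowerCentralSeries n = ⊥) :
    AGF.IsNilpotentGrp C := by
  have := isSeparated_grp C
  have := ((IsogWords.src_props (G := C)).2 n).1
  have := ((IsogWords.src_props (G := C)).2 n).2
  have : IsIntegral (WordSpec.lSrc C n).left := GeometricallyIntegral.isIntegral_of_subsingleton (WordSpec.lSrc C n).hom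
  have hw : WordSpec.lWord C n = 1 := BorelFixed.hom_ext_pts _ _ fun p => by
    rw [MonObj.comp_one, ← Subgroup.mem_bot, ← h, WordSpec.lowerCentralSeries_eq]
    exact Subgroup.subset_closure ⟨p, rfl⟩
  refine ⟨n, fun X => Subgroup.lowerCentralSeries_eq_bot_iff_upperCentralSeries_eq_top.1 ?_⟩
  rw [WordSpec.lowerCentralSeries_eq, Subgroup.closure_eq_bot_iff]
  rintro _ ⟨p, rfl⟩
  show p ≫ WordSpec.lWord C n = 1
  rw [hw, MonObj.comp_one]

end Global

variable {S : Scheme.{u}} {V : Type u} [CommRing V] [IsDomain V] [ValuationRing V]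
  {L : Type u} [Field L] [Algebra V L] [IsFractionRing V L] {K : Type u} [Field K] [IsAlgClosed K] [Algebra V K]
  {t : Spec (CommRingCat.of V) ⟶ S} {G : Over S} [GrpObj G] [LocallyOfFiniteType G.hom] [QuasiCompact G.hom]
  {H : Over (Spec (CommRingCat.of L))} [GrpObj H] (i : H ⟶ Red.bc (sp V L ≫ t) G) [IsClosedImmersion i.left] [IsMonHom i]
  {C : Over (Spec (CommRingCat.of K))} [GrpObj C] [Smooth C.hom] [ConnectedSpace ↥C.left]
  (e : C ⟶ Red.bc (sp V K ≫ t) G) [IsMonHom e] [Mono e]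

theorem eq_one_of_lift (hψ : Function.Surjective (algebraMap V K)) (he : Set.range e.left ⊆ spSet K i)
    (l : List (𝟙_ (Over (Spec (CommRingCat.of K))) ⟶ C)) (x : 𝟙_ (Over (Spec (CommRingCat.of K))) ⟶ C)
    (hl : ∀ (M : Type u) [Group M] (a : M →* (𝟙_ (Over (Spec (CommRingCat.of K))) ⟶ Red.bc (sp V K ≫ t) G))
      (U' : Over (Spec (CommRingCat.of L))) (c : M →* (U' ⟶ H)),
      (Subgroup.closure {y | y ∈ l}).map (MonoidHom.mk' (fun p : 𝟙_ (Over (Spec (CommRingCat.of K))) ⟶ C => p ≫ e) fun p q => mul_comp' p q e) ≤ a.range →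
        ∃ w, a w = x ≫ e ∧ c w = 1) : x = 1 := by
  have := IsogSub.geometricallyIntegral_of_smooth C
  have : IsIntegral C.left := GeometricallyIntegral.isIntegral_of_subsingleton C.hom
  have := LocallyOfFiniteType.jacobsonSpace C.hom
  let φ : C.left ⟶ tot t G := e.left ≫ jF t G K
  let c₀ := φ (η[C].left (IsLocalRing.closedPoint K))
  obtain ⟨U₀, hU₀, hc₀, -⟩ := exists_isAffineOpen_mem_and_subset (U := ⊤) (show c₀ ∈ (⊤ : (tot t G).Opens) from trivial)
  let W : Set C.left := φ ⁻¹' U₀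
  have hW : IsOpen W := U₀.2.preimage φ.continuous
  let τ : C ⟶ C := (toUnit C ≫ x) * 𝟙 C
  have hτ : ∀ u : 𝟙_ (Over (Spec (CommRingCat.of K))) ⟶ C, u ≫ τ = x * u := fun u => by
    rw [MonObj.comp_mul, Category.comp_id, ← Category.assoc, toUnit_unique (u ≫ toUnit C) (𝟙 _), Category.id_comp]
  have hW' : (τ.left ⁻¹' W).Nonempty := ⟨(x⁻¹).left (IsLocalRing.closedPoint K), by
    show τ.left ((x⁻¹).left _) ∈ W
    rw [← Scheme.Hom.comp_apply, ← Over.comp_left, hτ, mul_inv_cancel, ← MonObj.one_eq_one]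
    exact hc₀⟩
  have hne : (W ∩ τ.left ⁻¹' W).Nonempty :=
    nonempty_preirreducible_inter hW (hW.preimage τ.left.continuous) ⟨_, hc₀⟩ hW'
  obtain ⟨z, ⟨hzW, hzτ⟩, hz⟩ := nonempty_inter_closedPoints hne (hW.inter (hW.preimage τ.left.continuous)).isLocallyClosed
  let u : 𝟙_ (Over (Spec (CommRingCat.of K))) ⟶ C :=
    Over.homMk (pointOfClosedPoint C.hom z hz) (pointOfClosedPoint_comp _ _ _)
  have hu : u.left (IsLocalRing.closedPoint K) = z := pointOfClosedPoint_apply C.hom z hz _
  let E : (𝟙_ (Over (Spec (CommRingCat.of K))) ⟶ C) →* (𝟙_ (Over (Spec (CommRingCat.of K))) ⟶ Red.bc (sp V K ≫ t) G) :=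
    MonoidHom.mk' (fun p => p ≫ e) fun p q => mul_comp' p q e
  obtain ⟨U', M, _, a, c, hsub, hdet⟩ := exists_lift_group i hψ ((u :: l).map E) (fun b hb => by
    obtain ⟨p, -, rfl⟩ := List.mem_map.1 hb
    rintro _ ⟨y, rfl⟩
    exact he ⟨p.left y, (Scheme.Hom.comp_apply _ _ _).symm⟩) hU₀
  obtain ⟨w, haw, hcw⟩ := hl M a U' c (by
    rw [Subgroup.map_le_iff_le_comap, Subgroup.closure_le]
    exact fun y hy => hsub _ (List.mem_map.2 ⟨y, List.mem_cons_of_mem _ hy, rfl⟩))
  obtain ⟨v, hv⟩ := hsub (E u) (List.mem_map.2 ⟨u, List.mem_cons_self, rfl⟩)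
  have hmw : a (w * v) = E (x * u) := by rw [map_mul, haw, hv, map_mul]; rfl
  have key := hdet (w * v) v (by rw [map_mul, hcw, _root_.one_mul]) (by
      rw [hmw]
      show φ ((x * u).left (IsLocalRing.closedPoint K)) ∈ U₀
      rw [← hτ]
      show φ (τ.left (u.left (IsLocalRing.closedPoint K))) ∈ U₀
      rw [hu]
      exact hzτ) (by
      rw [hv]
      show φ (u.left (IsLocalRing.closedPoint K)) ∈ U₀
      rw [hu]
      exact hzW)
  rw [hmw, hv] at key
  exact mul_eq_right.1 ((cancel_mono e).1 key)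

/-- The laws hold for a smooth connected subgroup inside the specialized set. -/
theorem laws (hψ : Function.Surjective (algebraMap V K)) (he : Set.range e.left ⊆ spSet K i) :
    (IsCommMonObj H → IsCommMonObj C) ∧ (AGF.IsNilpotentGrp H → AGF.IsNilpotentGrp C) ∧
      (Red.IsSolvableGrp H → Red.IsSolvableGrp C) := by
  have := IsogSub.geometricallyIntegral_of_smooth C
  refine ⟨fun hH => comm_of_rat fun x y => ?_, fun hH => ?_, fun hH => ?_⟩
  · rw [← commutatorElement_eq_one_iff_mul_comm]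
    refine eq_one_of_lift i e hψ he [x, y] _ fun M _ a U' c hle => ?_
    obtain ⟨p, hp⟩ := hle ⟨x, Subgroup.subset_closure List.mem_cons_self, rfl⟩
    obtain ⟨q, hq⟩ := hle ⟨y, Subgroup.subset_closure (List.mem_cons_of_mem _ List.mem_cons_self), rfl⟩
    refine ⟨⁅p, q⁆, ?_, ?_⟩
    · rw [map_commutatorElement, hp, hq]
      exact (map_commutatorElement (MonoidHom.mk' (fun p : 𝟙_ (Over (Spec (CommRingCat.of K))) ⟶ C => p ≫ e)
        fun p q => mul_comp' p q e) x y).symm
    · rw [map_commutatorElement, commutatorElement_eq_one_iff_mul_comm]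
      exact mul_comm (c p) (c q)
  · obtain ⟨n, hn⟩ := hH
    refine nilpotent_of_rat n ((Subgroup.eq_bot_iff_forall _).2 fun x hx => ?_)
    obtain ⟨l, hl⟩ := FinSupp.exists_list_lcs n x hx
    refine eq_one_of_lift i e hψ he l x fun M _ a U' c hle => ?_
    have h1 := Subgroup.mem_map_of_mem (MonoidHom.mk' (fun p : 𝟙_ (Over (Spec (CommRingCat.of K))) ⟶ C => p ≫ e)
      fun p q => mul_comp' p q e) hl
    rw [Subgroup.map_lowerCentralSeries] at h1
    replace h1 := FinSupp.lcs_mono n hle h1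
    rw [MonoidHom.range_eq_map, ← Subgroup.map_lowerCentralSeries] at h1
    obtain ⟨w, hw, haw⟩ := h1
    refine ⟨w, haw, ?_⟩
    have h2 := Subgroup.mem_map_of_mem c hw
    rw [Subgroup.map_lowerCentralSeries] at h2
    replace h2 := FinSupp.lcs_mono n le_top h2
    rwa [Subgroup.lowerCentralSeries_eq_bot_iff_upperCentralSeries_eq_top.2 (hn U'), Subgroup.mem_bot] at h2
  · obtain ⟨n, hn⟩ := hH
    refine solvable_of_rat n ((Subgroup.eq_bot_iff_forall _).2 fun x hx => ?_)
    rw [← FinSupp.dD_top] at hx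
    obtain ⟨l, hl⟩ := FinSupp.exists_list_derived n x hx
    refine eq_one_of_lift i e hψ he l x fun M _ a U' c hle => ?_
    have h1 := Subgroup.mem_map_of_mem (MonoidHom.mk' (fun p : 𝟙_ (Over (Spec (CommRingCat.of K))) ⟶ C => p ≫ e)
      fun p q => mul_comp' p q e) hl
    rw [FinSupp.map_dD] at h1
    replace h1 := FinSupp.dD_mono n hle h1
    rw [MonoidHom.range_eq_map, ← FinSupp.map_dD] at h1
    obtain ⟨w, hw, haw⟩ := h1
    refine ⟨w, haw, ?_⟩
    have h2 := Subgroup.mem_map_of_mem c hw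
    rw [FinSupp.map_dD] at h2
    replace h2 := FinSupp.dD_mono n le_top h2
    rwa [FinSupp.dD_top, hn U', Subgroup.mem_bot] at h2

end

end Groth.Agent.AlgGrp33.SpecPts
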