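import Groth.Agent.AlgGrp33.AffScale
import Mathlib.RingTheory.NoetherNormalization
import Mathlib.RingTheory.ZariskisMainTheorem

/-!
Charts of a model over a valuation ring with irreducible special fibre: regularity and scaling of rational functions.
-/

set_option autoImplicit false
set_option linter.style.haveILetI false
set_option linter.unusedSectionVars false
universe u

open MvPolynomial

namespace Groth.Agent.AlgGrp33.AffCore

noncomputable section

variable {V : Type u} [CommRing V] [IsDomain V] [ValuationRing V]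
  {A : Type u} [CommRing A] [IsDomain A] [Algebra V A] [Algebra.FiniteType V A]

/-- Parameters: lifts of a Noether normalisation of the special fibre. -/
theorem exists_param (p : Ideal A) [p.IsPrime] (hmp : ∀ c ∈ IsLocalRing.maximalIdeal V, algebraMap V A c ∈ p)
    (hrad : ∀ a ∈ p, ∃ N : ℕ, a ^ N ∈ (IsLocalRing.maximalIdeal V).map (algebraMap V A)) :
    ∃ (n : ℕ) (φ : MvPolynomial (Fin n) V →ₐ[V] A),
      (∀ f, φ f ∈ p → ∀ d, f.coeff d ∈ IsLocalRing.maximalIdeal V) ∧
      ((Ideal.Quotient.mk ((IsLocalRing.maximalIdeal V).map (algebraMap V A))).comp φ.toRingHom).Finite := by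
  classical
  set m := IsLocalRing.maximalIdeal V with hm
  set J := m.map (algebraMap V A) with hJ
  have hJp : J ≤ p := Ideal.map_le_iff_le_comap.2 hmp
  haveI : Nontrivial (A ⧸ J) := Ideal.Quotient.nontrivial_iff.2 fun h => ‹p.IsPrime›.ne_top (top_le_iff.1 (h ▸ hJp))
  letI : Field (V ⧸ m) := Ideal.Quotient.field m
  haveI : IsScalarTower V (V ⧸ m) (A ⧸ J) := .of_algebraMap_eq fun _ => rfl
  haveI : Algebra.FiniteType V (A ⧸ J) :=
    .of_surjective (Ideal.Quotient.mkₐ V J) (Ideal.Quotient.mkₐ_surjective V J)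
  haveI : Algebra.FiniteType (V ⧸ m) (A ⧸ J) := Algebra.FiniteType.of_restrictScalars_finiteType V (V ⧸ m) (A ⧸ J)
  obtain ⟨n, g, hinj, hfin⟩ := exists_finite_inj_algHom_of_fg (V ⧸ m) (A ⧸ J)
  choose y hy using fun i => Ideal.Quotient.mk_surjective (g (X i))
  let φ : MvPolynomial (Fin n) V →ₐ[V] A := aeval y
  have hcomp : (Ideal.Quotient.mk J).comp φ.toRingHom = g.toRingHom.comp (MvPolynomial.map (Ideal.Quotient.mk m)) := by
    refine MvPolynomial.ringHom_ext (fun c => ?_) fun i => ?_
    · simp only [RingHom.comp_apply, AlgHom.toRingHom_eq_coe, RingHom.coe_coe, φ, aeval_C, MvPolynomial.map_C]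
      rw [← algebraMap_eq, g.commutes]
      rfl
    · simp [φ, hy]
  refine ⟨n, φ, fun f hf d => ?_, ?_⟩
  · obtain ⟨N, hN⟩ := hrad _ hf
    have h0 : g ((MvPolynomial.map (Ideal.Quotient.mk m)) f ^ N) = 0 := by
      rw [map_pow, ← (Ideal.Quotient.eq_zero_iff_mem).2 hN, map_pow]
      exact congrArg (· ^ N) (RingHom.congr_fun hcomp f).symm
    have h1 := eq_zero_of_pow_eq_zero (hinj (h0.trans (map_zero g).symm))
    have h2 := congrArg (MvPolynomial.coeff d) h1
    rwa [coeff_map, coeff_zero, Ideal.Quotient.eq_zero_iff_mem] at h2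
  · rw [hcomp]
    exact RingHom.Finite.comp hfin
      (RingHom.Finite.of_surjective _ (MvPolynomial.map_surjective _ Ideal.Quotient.mk_surjective))

variable {F : Type u} [Field F] [Algebra A F] [IsFractionRing A F]

/-- On a chart whose special fibre is irreducible, a function integral at its generic point is integral near any point
of the fibre, and every function can be scaled to a unit at some valuation centred there. -/
theorem exists_data (p : Ideal A) [p.IsPrime] (hinjV : Function.Injective (algebraMap V A))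
    (hmp : ∀ c ∈ IsLocalRing.maximalIdeal V, algebraMap V A c ∈ p)
    (hrad : ∀ a ∈ p, ∃ N : ℕ, a ^ N ∈ (IsLocalRing.maximalIdeal V).map (algebraMap V A))
    (x : Ideal A) [x.IsPrime] (hpx : p ≤ x) :
    (∀ (b : F) (γ : V), γ ≠ 0 → (∃ a₀, algebraMap A F (algebraMap V A γ) * b = algebraMap A F a₀) →
      (∀ W : ValuationSubring F, InT p W → b ∈ W) → ∃ s ∉ x, IsIntegral A (algebraMap A F s * b)) ∧
    ∀ {L : Type u} [Field L] [IsAlgClosed L] [Algebra V L] [IsFractionRing V L] [Algebra L F],
      (∀ c : V, algebraMap L F (algebraMap V L c) = algebraMap A F (algebraMap V A c)) →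
      ∀ b : F, b ≠ 0 → ∃ l : L, l ≠ 0 ∧ (∀ W : ValuationSubring F, InT p W → b / algebraMap L F l ∈ W) ∧
        ∃ W : ValuationSubring F, InT p W ∧ b / algebraMap L F l ∉ W.nonunits := by
  classical
  obtain ⟨n, φ, hind₀, hfin⟩ := exists_param p hmp hrad
  let P := MvPolynomial (Fin n) V
  letI algPA : Algebra P A := φ.toRingHom.toAlgebra
  haveI : IsScalarTower V P A := .of_algebraMap_eq fun c => (φ.commutes c).symm
  letI : Algebra P F := ((algebraMap A F).comp φ.toRingHom).toAlgebra
  haveI : IsScalarTower P A F := .of_algebraMap_eq fun _ => rfl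
  have hind : Indep (n := n) (V := V) p := hind₀
  haveI : Algebra.FiniteType P A := Algebra.FiniteType.of_restrictScalars_finiteType V P A
  set J := (IsLocalRing.maximalIdeal V).map (algebraMap V A)
  have hJI : J ≤ (x.under P).map (algebraMap P A) := by
    refine Ideal.map_le_iff_le_comap.2 fun c hc => ?_
    rw [Ideal.mem_comap, IsScalarTower.algebraMap_apply V P A]
    refine Ideal.mem_map_of_mem _ ?_
    show algebraMap P A (algebraMap V P c) ∈ x
    rw [← IsScalarTower.algebraMap_apply]
    exact hpx (hmp c hc)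
  haveI hAJ : Module.Finite P (A ⧸ J) := hfin
  haveI : Module.Finite P (A ⧸ (x.under P).map (algebraMap P A)) :=
    Module.Finite.of_surjective (Ideal.Quotient.factorₐ P hJI).toLinearMap (Ideal.Quotient.factor_surjective hJI)
  haveI : Algebra.WeaklyQuasiFiniteAt P x := inferInstance
  obtain ⟨g, hgx, hg, hga⟩ := Algebra.zariskisMainProperty_iff.1
    (Algebra.ZariskisMainProperty.of_finiteType_of_weaklyQuasiFiniteAt (R := P) x)
  have hfin' : ∀ a : A, ∃ f : Polynomial P, f.Monic ∧ Polynomial.aeval a f ∈ p := fun a => by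
    obtain ⟨f, hf, h0⟩ := Algebra.IsIntegral.isIntegral (R := P) (Ideal.Quotient.mk J a)
    refine ⟨f, hf, Ideal.map_le_iff_le_comap.2 hmp (Ideal.Quotient.eq_zero_iff_mem.1 ?_)⟩
    rw [← h0, Polynomial.aeval_def, Polynomial.hom_eval₂]
    rfl
  refine ⟨fun b γ hγ ⟨a₀, ha₀⟩ hb => ?_, fun {L} _ _ _ _ _ hLF b hb => ?_⟩
  · exact exists_mul_isIntegral p hind hinjV hmp hrad hfin' x hpx g hgx hg hga b γ hγ a₀ ha₀ hb
  · refine exists_scale p hind hmp hLF b hb ?_
    have hg0 : g ≠ 0 := fun h => hgx (h ▸ x.zero_mem)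
    have hA : ∀ a : A, IsAlgebraic P (algebraMap A F a) := fun a => by
      obtain ⟨m, hm⟩ := hga a
      have h1 : IsAlgebraic P (algebraMap A F (g ^ m * a)) :=
        (hm.isAlgebraic).algHom (IsScalarTower.toAlgHom P A F)
      have h2 : IsAlgebraic P (algebraMap A F (g ^ m)) :=
        ((hg.pow m).isAlgebraic).algHom (IsScalarTower.toAlgHom P A F)
      rw [show algebraMap A F a = algebraMap A F (g ^ m * a) * (algebraMap A F (g ^ m))⁻¹ by
        rw [map_mul, mul_comm, ← mul_assoc, inv_mul_cancel₀, one_mul]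
        exact (map_ne_zero_iff _ (IsFractionRing.injective A F)).2 (pow_ne_zero _ hg0)]
      exact h1.mul h2.inv
    obtain ⟨a₁, a₂, -, rfl⟩ := IsFractionRing.div_surjective (A := A) b
    rw [div_eq_mul_inv]
    exact (hA a₁).mul (hA a₂).inv

end

end Groth.Agent.AlgGrp33.AffCore
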