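import Mathlib

/-!
Going down for integral extensions of integrally closed domains.
-/

set_option autoImplicit false
universe u v

open Polynomial

namespace Groth.Agent.AlgGrp33.GoingDownNormal

variable {A : Type u} [CommRing A] [IsDomain A] [IsIntegrallyClosed A]
  {B : Type v} [CommRing B] [IsDomain B] [Algebra A B] [FaithfulSMul A B] [Algebra.IsIntegral A B]

/-- The minimal polynomial of an element of the extension of a prime has its lower coefficients in the prime. -/
theorem coeff_minpoly_mem (p : Ideal A) [p.IsPrime] {y : B} (hy : y ∈ p.map (algebraMap A B)) :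
    ∀ i, i < (minpoly A y).natDegree → (minpoly A y).coeff i ∈ p := by
  have hint : IsIntegral A y := Algebra.IsIntegral.isIntegral y
  obtain ⟨f, hf, hfy, hfc⟩ := Polynomial.exists_monic_aeval_eq_zero_forall_mem_of_mem_map hy
  have hdvd : (minpoly A y).map (Ideal.Quotient.mk p) ∣ (X : (A ⧸ p)[X]) ^ f.natDegree := by
    have h1 : f.map (Ideal.Quotient.mk p) = X ^ f.natDegree := by
      ext j
      rw [coeff_map, coeff_X_pow]
      by_cases hj : j = f.natDegree
      · rw [if_pos hj, hj, hf.coeff_natDegree, map_one]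
      · rw [if_neg hj, Ideal.Quotient.eq_zero_iff_mem.2 (hfc j hj)]
    rw [← h1]
    exact Polynomial.map_dvd _ (minpoly.isIntegrallyClosed_dvd hint hfy)
  obtain ⟨m, -, hm⟩ := (dvd_prime_pow prime_X _).1 hdvd
  have hm' : (minpoly A y).map (Ideal.Quotient.mk p) = X ^ m :=
    eq_of_monic_of_associated ((minpoly.monic hint).map _) (monic_X_pow m) hm
  have hdeg : (minpoly A y).natDegree = m := by
    rw [← (minpoly.monic hint).natDegree_map (Ideal.Quotient.mk p), hm', natDegree_X_pow]
  intro i hi
  have := congrArg (fun q => q.coeff i) hm'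
  simp only [coeff_map, coeff_X_pow] at this
  rw [if_neg (by omega)] at this
  exact Ideal.Quotient.eq_zero_iff_mem.1 this

/-- Scaling an integral element scales the roots of its minimal polynomial. -/
theorem minpoly_mul {x : A} (hx0 : x ≠ 0) {s : B} :
    minpoly A (algebraMap A B x * s) = (minpoly A s).scaleRoots x := by
  have hint : IsIntegral A s := Algebra.IsIntegral.isIntegral s
  have hintxs : IsIntegral A (algebraMap A B x * s) := Algebra.IsIntegral.isIntegral _
  set g := minpoly A s
  set h' := minpoly A (algebraMap A B x * s)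
  have hG : aeval (algebraMap A B x * s) (g.scaleRoots x) = 0 := scaleRoots_aeval_eq_zero (minpoly.aeval A s)
  have hGm : (g.scaleRoots x).Monic := (monic_scaleRoots_iff x).2 (minpoly.monic hint)
  have hq : aeval s (h'.comp (C x * X)) = 0 := by
    rw [aeval_comp]
    simp only [map_mul, aeval_C, aeval_X]
    exact minpoly.aeval A _
  have hne : h'.comp (C x * X) ≠ 0 := by
    intro h0
    have := congrArg (fun q => q.coeff h'.natDegree) h0
    simp only [coeff_zero] at this
    rw [comp_C_mul_X_coeff, (minpoly.monic hintxs).coeff_natDegree, _root_.one_mul] at this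
    exact pow_ne_zero _ hx0 this
  have hle : g.natDegree ≤ h'.natDegree := by
    refine (natDegree_le_of_dvd (minpoly.isIntegrallyClosed_dvd hint hq) hne).trans ?_
    rw [natDegree_comp, natDegree_C_mul_X _ hx0, Nat.mul_one]
  refine (eq_of_monic_of_dvd_of_natDegree_le (minpoly.monic hintxs) hGm (minpoly.isIntegrallyClosed_dvd hintxs hG) ?_).symm
  rw [natDegree_scaleRoots]
  exact hle

/-- Going down. -/
theorem exists_le (p : Ideal A) [p.IsPrime] (Q : Ideal B) [Q.IsPrime] (h : p ≤ Q.comap (algebraMap A B)) :
    ∃ P : Ideal B, P ≤ Q ∧ P.IsPrime ∧ P.comap (algebraMap A B) = p := by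
  let M : Submonoid B := (p.primeCompl.map (algebraMap A B).toMonoidHom) ⊔ Q.primeCompl
  have hM : Disjoint (p.map (algebraMap A B) : Set B) (M : Set B) := by
    rw [Set.disjoint_left]
    intro y hy hyM
    obtain ⟨a, ⟨x, hx, rfl⟩, s, hs, rfl⟩ := Submonoid.mem_sup.1 hyM
    have hint : IsIntegral A s := Algebra.IsIntegral.isIntegral s
    change algebraMap A B x * s ∈ p.map (algebraMap A B) at hy
    have hx0 : x ≠ 0 := fun h => hx (h ▸ p.zero_mem)
    set g := minpoly A s
    have heq := minpoly_mul (B := B) hx0 (s := s)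
    have hmem : ∀ j, j < g.natDegree → g.coeff j ∈ p := fun j hj => by
      have := coeff_minpoly_mem p hy j (by rw [heq, natDegree_scaleRoots]; exact hj)
      rw [heq, coeff_scaleRoots] at this
      exact (‹p.IsPrime›.mem_or_mem this).resolve_right fun h => hx (‹p.IsPrime›.mem_of_pow_mem _ h)
    have hsn : s ^ g.natDegree ∈ Q := by
      have h0 := minpoly.aeval A s
      rw [aeval_eq_sum_range, Finset.sum_range_succ, (minpoly.monic hint).coeff_natDegree, one_smul] at h0
      rw [eq_neg_of_add_eq_zero_right h0]
      refine Q.neg_mem (Q.sum_mem fun j hj => ?_)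
      rw [Algebra.smul_def]
      exact Q.mul_mem_right _ (h (hmem j (Finset.mem_range.1 hj)))
    exact hs (‹Q.IsPrime›.mem_of_pow_mem _ hsn)
  obtain ⟨P, hP, hle, hd⟩ := Ideal.exists_le_prime_disjoint _ M hM
  refine ⟨P, fun z hz => ?_, hP, le_antisymm (fun z hz => ?_) (Ideal.map_le_iff_le_comap.1 hle)⟩
  · by_contra hzQ
    exact Set.disjoint_left.1 hd hz (Submonoid.mem_sup_right hzQ)
  · by_contra hzp
    exact Set.disjoint_left.1 hd hz (Submonoid.mem_sup_left ⟨z, hzp, rfl⟩)

end Groth.Agent.AlgGrp33.GoingDownNormal
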