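import Mathlib
import Groth.Agent.AlgGrp33.GoingDownNormal
import Groth.Agent.E4O.UnibranchPoly

/-!
Rational functions integral at all valuations centred at the generic point of the special fibre.
-/

set_option autoImplicit false
set_option linter.style.haveILetI false
set_option linter.unusedSectionVars false
universe u

open MvPolynomial

namespace Groth.Agent.AlgGrp33.AffCore

noncomputable section

variable {V : Type u} [CommRing V] [IsDomain V] [ValuationRing V]

theorem exists_primitive' {σ : Type*} (p : MvPolynomial σ V) (hp : p ≠ 0) :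
    ∃ (c : V) (p' : MvPolynomial σ V), p = MvPolynomial.C c * p' ∧ c ≠ 0 ∧ ∃ d, p'.coeff d = 1 := by
  classical
  obtain ⟨d₀, hd₀⟩ := (MvPolynomial.support_nonempty (p := p)).2 hp
  have key : ∀ s : Finset (σ →₀ ℕ), ∀ d ∈ s, ∃ e ∈ s, ∀ d' ∈ s, p.coeff e ∣ p.coeff d' := by
    intro s
    induction s using Finset.induction with
    | empty => simp
    | @insert a s _ ih =>
      intro _ _
      rcases s.eq_empty_or_nonempty with rfl | ⟨b, hb⟩
      · exact ⟨a, by simp, by simp⟩
      · obtain ⟨e, he, hedvd⟩ := ih b hb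
        rcases ValuationRing.dvd_total (p.coeff a) (p.coeff e) with h | h
        · exact ⟨a, by simp, fun d' hd' => by
            rcases Finset.mem_insert.1 hd' with rfl | h'
            · exact dvd_rfl
            · exact h.trans (hedvd d' h')⟩
        · exact ⟨e, Finset.mem_insert_of_mem he, fun d' hd' => by
            rcases Finset.mem_insert.1 hd' with rfl | h'
            · exact h
            · exact hedvd d' h'⟩
  obtain ⟨e, he, hdvd⟩ := key p.support d₀ hd₀
  have hc : p.coeff e ≠ 0 := MvPolynomial.mem_support_iff.1 he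
  have hC : MvPolynomial.C (p.coeff e) ∣ p := (MvPolynomial.C_dvd_iff_dvd_coeff _ _).2 fun d => by
    by_cases hd : d ∈ p.support
    · exact hdvd d hd
    · rw [MvPolynomial.notMem_support_iff.1 hd]; exact dvd_zero _
  obtain ⟨p', hp'⟩ := hC
  refine ⟨p.coeff e, p', hp', hc, e, ?_⟩
  have := congrArg (MvPolynomial.coeff e) hp'
  rw [MvPolynomial.coeff_C_mul] at this
  exact mul_left_cancel₀ hc (this.symm.trans (mul_one _).symm)

section Content

variable {n : ℕ} {A : Type u} [CommRing A] [IsDomain A] [Algebra (MvPolynomial (Fin n) V) A]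
  {p : Ideal A} [p.IsPrime]

/-- Reduction of the parameters is injective. -/
def Indep (p : Ideal A) : Prop :=
  ∀ f : MvPolynomial (Fin n) V, algebraMap (MvPolynomial (Fin n) V) A f ∈ p → ∀ d, f.coeff d ∈ IsLocalRing.maximalIdeal V

variable (hp : Indep (n := n) (V := V) p)
include hp

theorem notMem_of_coeff_one {f : MvPolynomial (Fin n) V} [IsLocalRing V] (hf : ∃ d, IsUnit (f.coeff d)) :
    algebraMap (MvPolynomial (Fin n) V) A f ∉ p := fun h => by
  obtain ⟨d, hd⟩ := hf
  exact hp f h d hd

theorem dvd_of_mul_eq {f s u : MvPolynomial (Fin n) V} {γ : V} (hγ : γ ≠ 0) (hs : ∃ d, IsUnit (s.coeff d))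
    (hmul : ∀ a b : MvPolynomial (Fin n) V, (∃ d, IsUnit (a.coeff d)) → (∃ d, IsUnit (b.coeff d)) →
      algebraMap (MvPolynomial (Fin n) V) A (a * b) ∉ p)
    (hC : ∀ c ∈ IsLocalRing.maximalIdeal V, algebraMap (MvPolynomial (Fin n) V) A (C c) ∈ p)
    (h : f * s = C γ * u) : C γ ∣ f := by
  rcases eq_or_ne f 0 with rfl | hf
  · exact dvd_zero _
  obtain ⟨δ, f', rfl, hδ, d, hd⟩ := exists_primitive' f hf
  rcases ValuationRing.dvd_total γ δ with hdvd | ⟨ε, rfl⟩
  · exact (map_dvd C hdvd).trans (dvd_mul_right _ _)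
  · by_cases hε : IsUnit ε
    · exact (map_dvd C ((IsUnit.mul_right_dvd hε).2 dvd_rfl)).trans (dvd_mul_right _ _)
    · exfalso
      have h' : f' * s = C ε * u := by
        refine mul_left_cancel₀ (C_ne_zero.2 hδ) ?_
        rw [← mul_assoc, h, map_mul, mul_assoc]
      refine hmul f' s ⟨d, hd ▸ isUnit_one⟩ hs ?_
      rw [h', map_mul]
      exact p.mul_mem_right _ (hC ε hε)

end Content

/-- the quotient of the parameter ring by an extended prime is normal -/
theorem isIntegrallyClosed_quotient {n : ℕ} (I : Ideal (MvPolynomial (Fin n) V)) [I.IsPrime]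
    (hI : ∀ f ∈ I, ∀ d, C (f.coeff d) ∈ I) : IsIntegrallyClosed (MvPolynomial (Fin n) V ⧸ I) := by
  let P₀ : Ideal V := I.comap C
  have hP₀ : P₀.IsPrime := Ideal.IsPrime.comap _
  have hIeq : I = P₀.map (C : V →+* MvPolynomial (Fin n) V) :=
    le_antisymm (fun f hf => mem_map_C_iff.2 fun d => hI f hf d) (Ideal.map_comap_le)
  have : IsDomain (V ⧸ P₀) := Ideal.Quotient.isDomain P₀
  have : ValuationRing (V ⧸ P₀) := Function.Surjective.valuationRing (Ideal.Quotient.mk P₀) Ideal.Quotient.mk_surjective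
  have := E4O.isIntegrallyClosed_mvPolynomial (V ⧸ P₀) (ULift.{u} (Fin n))
  have h2 : IsIntegrallyClosed (MvPolynomial (Fin n) (V ⧸ P₀)) :=
    .of_equiv (renameEquiv (V ⧸ P₀) Equiv.ulift).toRingEquiv
  exact .of_equiv ((quotientEquivQuotientMvPolynomial P₀).toRingEquiv.trans (Ideal.quotEquivOfEq hIeq.symm))

variable {n : ℕ} {A : Type u} [CommRing A] [IsDomain A] [Algebra V A]
  [Algebra (MvPolynomial (Fin n) V) A] [IsScalarTower V (MvPolynomial (Fin n) V) A]
  {F : Type u} [Field F] [Algebra A F] [IsFractionRing A F]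
  [Algebra (MvPolynomial (Fin n) V) F] [IsScalarTower (MvPolynomial (Fin n) V) A F]

/-- valuation rings centred at the prime -/
def InT (p : Ideal A) (W : ValuationSubring F) : Prop :=
  ∀ a : A, algebraMap A F a ∈ W ∧ (algebraMap A F a ∈ W.nonunits ↔ a ∈ p)

/-- An element integral at all valuation rings centred at the generic point of the special fibre is
integral, up to a denominator not vanishing at a given special point. -/
theorem exists_mul_isIntegral (p : Ideal A) [p.IsPrime] (hind : Indep (n := n) (V := V) p)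
    (hinjV : Function.Injective (algebraMap V A))
    (hmp : ∀ c ∈ IsLocalRing.maximalIdeal V, algebraMap V A c ∈ p)
    (hrad : ∀ a ∈ p, ∃ N : ℕ, a ^ N ∈ (IsLocalRing.maximalIdeal V).map (algebraMap V A))
    (hfin : ∀ a : A, ∃ f : Polynomial (MvPolynomial (Fin n) V), f.Monic ∧ Polynomial.aeval a f ∈ p)
    (x : Ideal A) [x.IsPrime] (hpx : p ≤ x) (g : A) (hgx : g ∉ x) (hg : IsIntegral (MvPolynomial (Fin n) V) g)
    (hga : ∀ a : A, ∃ m, IsIntegral (MvPolynomial (Fin n) V) (g ^ m * a))
    (b : F) (γ : V) (hγ : γ ≠ 0) (a₀ : A) (ha₀ : algebraMap A F (algebraMap V A γ) * b = algebraMap A F a₀)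
    (hb : ∀ W : ValuationSubring F, InT p W → b ∈ W) :
    ∃ s ∉ x, IsIntegral A (algebraMap A F s * b) := by
  classical
  let P := MvPolynomial (Fin n) V
  have hC : ∀ c ∈ IsLocalRing.maximalIdeal V, algebraMap P A (C c) ∈ p := fun c hc => by
    rw [← algebraMap_eq, ← IsScalarTower.algebraMap_apply V P A]; exact hmp c hc
  have hmul : ∀ a b : P, (∃ d, IsUnit (a.coeff d)) → (∃ d, IsUnit (b.coeff d)) → algebraMap P A (a * b) ∉ p :=
    fun a b ha hb h => by
      rw [map_mul] at h
      exact (‹p.IsPrime›.mem_or_mem h).elim (notMem_of_coeff_one hind ha) (notMem_of_coeff_one hind hb)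
  have hinjP : Function.Injective (algebraMap P A) := by
    rw [injective_iff_map_eq_zero]
    intro f hf
    by_contra hne
    obtain ⟨c, f', rfl, hc, d, hd⟩ := exists_primitive' f hne
    rw [map_mul, mul_eq_zero, ← algebraMap_eq, ← IsScalarTower.algebraMap_apply V P A] at hf
    rcases hf with h | h
    · exact hc (hinjV (h.trans (map_zero _).symm))
    · exact notMem_of_coeff_one hind ⟨d, hd ▸ isUnit_one⟩ (h ▸ p.zero_mem)
  have hinjF : Function.Injective (algebraMap P F) := by
    rw [IsScalarTower.algebraMap_eq P A F]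
    exact (IsFractionRing.injective A F).comp hinjP
  haveI : FaithfulSMul P F := (faithfulSMul_iff_algebraMap_injective P F).2 hinjF
  haveI : IsIntegrallyClosed P := by
    have := E4O.isIntegrallyClosed_mvPolynomial V (ULift.{u} (Fin n))
    exact .of_equiv (renameEquiv V Equiv.ulift).toRingEquiv
  let Bt : Subalgebra P F := integralClosure P F
  haveI : FaithfulSMul P Bt := (faithfulSMul_iff_algebraMap_injective P Bt).2 fun a b h => hinjF (congrArg Subtype.val h)
  -- removing denominators from both `V` and the primitive polynomials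
  have L1 : ∀ (z : F) (s₀ : P) (c : V), (∃ d, IsUnit (s₀.coeff d)) → c ≠ 0 →
      IsIntegral P (algebraMap P F s₀ * z) → IsIntegral P (algebraMap P F (C c) * z) → IsIntegral P z := by
    intro z s₀ c hs₀ hc hsz hcz
    have hs₀0 : s₀ ≠ 0 := fun h => by
      obtain ⟨d, hd⟩ := hs₀
      rw [h, coeff_zero] at hd
      exact not_isUnit_zero hd
    let y : Bt := ⟨algebraMap P F (C c) * z, hcz⟩
    let w : Bt := ⟨algebraMap P F s₀ * z, hsz⟩
    have heq : algebraMap P Bt (C c) * w = algebraMap P Bt s₀ * y := Subtype.ext (by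
      show algebraMap P F (C c) * (algebraMap P F s₀ * z) = algebraMap P F s₀ * (algebraMap P F (C c) * z)
      ring)
    have h1 : (minpoly P w).scaleRoots (C c) = (minpoly P y).scaleRoots s₀ := by
      rw [← GoingDownNormal.minpoly_mul (C_ne_zero.2 hc), ← GoingDownNormal.minpoly_mul hs₀0, heq]
    have hdeg : (minpoly P w).natDegree = (minpoly P y).natDegree := by
      have := congrArg Polynomial.natDegree h1
      rwa [Polynomial.natDegree_scaleRoots, Polynomial.natDegree_scaleRoots] at this
    have hsp : ∀ k : ℕ, ∃ d, IsUnit ((s₀ ^ k).coeff d) := by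
      intro k
      by_contra hno
      push Not at hno
      refine notMem_of_coeff_one hind hs₀ (‹p.IsPrime›.mem_of_pow_mem k ?_)
      rw [← map_pow]
      rw [(s₀ ^ k).as_sum, map_sum]
      refine Ideal.sum_mem _ fun d _ => ?_
      rw [show monomial d ((s₀ ^ k).coeff d) = C ((s₀ ^ k).coeff d) * monomial d 1 by rw [C_mul_monomial, mul_one], map_mul]
      exact p.mul_mem_right _ (hC _ (hno d))
    set N := (minpoly P y).natDegree
    have hdvd : ∀ j, ∃ q : P, (minpoly P y).coeff j = C (c ^ (N - j)) * q := fun j => by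
      have h2 := congrArg (fun q => q.coeff j) h1
      simp only [Polynomial.coeff_scaleRoots, hdeg, ← map_pow] at h2
      exact dvd_of_mul_eq hind (pow_ne_zero _ hc) (hsp _) hmul hC (h2.symm.trans (mul_comm _ _))
    choose q hq using hdvd
    let Q : Polynomial P := Polynomial.X ^ N + ∑ j ∈ Finset.range N, Polynomial.C (q j) * Polynomial.X ^ j
    refine ⟨Q, ?_, ?_⟩
    · refine Polynomial.monic_X_pow_add ((Polynomial.degree_sum_le _ _).trans_lt ?_)
      refine (Finset.sup_lt_iff (WithBot.bot_lt_coe N : (⊥ : WithBot ℕ) < _)).2 ?_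
      exact fun j hj => (Polynomial.degree_C_mul_X_pow_le _ _).trans_lt (WithBot.coe_lt_coe.2 (Finset.mem_range.1 hj))
    · rw [← Polynomial.aeval_def]
      have h3 : Polynomial.aeval (algebraMap P F (C c) * z) (minpoly P y) = 0 := by
        have h0 : (algebraMap Bt F) (Polynomial.aeval y (minpoly P y)) = 0 := by rw [minpoly.aeval, map_zero]
        rwa [← Polynomial.aeval_algebraMap_apply] at h0
      have hint : IsIntegral P y := Algebra.IsIntegral.isIntegral y
      rw [Polynomial.aeval_eq_sum_range, Finset.sum_range_succ, show (minpoly P y).natDegree = N from rfl,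
        show (minpoly P y).coeff N = 1 from (minpoly.monic hint).coeff_natDegree, one_smul] at h3
      have h4 : algebraMap P F (C c) ^ N * Polynomial.aeval z Q = 0 := by
        rw [← h3]
        simp only [Q, map_add, map_sum, map_mul, map_pow, Polynomial.aeval_C, Polynomial.aeval_X, mul_add, Finset.mul_sum]
        rw [add_comm, mul_pow]
        refine congrArg (· + _) (Finset.sum_congr rfl fun j hj => ?_)
        rw [Algebra.smul_def, hq, map_mul, map_pow, map_pow, mul_pow]
        have hN : N = (N - j) + j := (Nat.sub_add_cancel (Finset.mem_range.1 hj).le).symm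
        conv_lhs => rw [hN, pow_add]
        ring
      exact (mul_eq_zero.1 h4).resolve_left (pow_ne_zero _ fun h => C_ne_zero.2 hc (hinjF (h.trans (map_zero _).symm)))
  -- the ideal of denominators
  let B : Subalgebra P A := integralClosure P A
  let ι : B →+* Bt :=
    { toFun := fun z => ⟨algebraMap A F z.1, z.2.map (IsScalarTower.toAlgHom P A F)⟩
      map_one' := Subtype.ext (map_one _)
      map_mul' := fun _ _ => Subtype.ext (map_mul _ _ _)
      map_zero' := Subtype.ext (map_zero _)
      map_add' := fun _ _ => Subtype.ext (map_add _ _ _) }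
  let It : Ideal Bt :=
    { carrier := {r | IsIntegral P ((r : F) * b)}
      zero_mem' := by
        show IsIntegral P (((0 : Bt) : F) * b)
        rw [ZeroMemClass.coe_zero, zero_mul]
        exact isIntegral_zero
      add_mem' := fun {r s} hr hs => by
        show IsIntegral P (((r + s : Bt) : F) * b)
        rw [AddMemClass.coe_add, add_mul]
        exact IsIntegral.add hr hs
      smul_mem' := fun r s hs => by
        show IsIntegral P (((r * s : Bt) : F) * b)
        rw [MulMemClass.coe_mul, mul_assoc]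
        exact IsIntegral.mul r.2 hs }
  suffices h : ¬ (It.comap ι ≤ x.comap B.val.toRingHom) by
    obtain ⟨s, hs, hsx⟩ := SetLike.not_le_iff_exists.1 h
    exact ⟨s.1, hsx, IsIntegral.tower_top (R := P) hs⟩
  intro hle
  letI : Algebra B Bt := ι.toAlgebra
  haveI : IsScalarTower P B Bt := .of_algebraMap_eq fun f => Subtype.ext (IsScalarTower.algebraMap_apply P A F f)
  haveI : Algebra.IsIntegral B Bt := ⟨fun z => (Algebra.IsIntegral.isIntegral (R := P) z).tower_top⟩
  obtain ⟨xt, hIt, hxtp, hxt⟩ := Ideal.exists_ideal_over_prime_of_isIntegral (x.comap B.val.toRingHom) It hle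
  have hgxt : ι ⟨g, hg⟩ ∉ xt := fun h => by
    have : (⟨g, hg⟩ : B) ∈ xt.comap (algebraMap B Bt) := h
    rw [hxt] at this
    exact hgx this
  have hCxt : ∀ f : P, algebraMap P A f ∈ p → algebraMap P Bt f ∈ xt := fun f hf => by
    have h' : algebraMap P B f ∈ xt.comap (algebraMap B Bt) := by rw [hxt]; exact hpx hf
    rwa [Ideal.mem_comap, ← IsScalarTower.algebraMap_apply] at h'
  -- enlarge to a prime disjoint from the two kinds of denominators
  let Prim : Submonoid P := (p.comap (algebraMap P A)).primeCompl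
  let M : Submonoid Bt := Prim.map (algebraMap P Bt).toMonoidHom ⊔ xt.primeCompl
  have hdis : Disjoint (It : Set Bt) (M : Set Bt) := by
    rw [Set.disjoint_left]
    intro r hr hrM
    obtain ⟨_, ⟨s₀, hs₀, rfl⟩, s, hs, rfl⟩ := Submonoid.mem_sup.1 hrM
    have hs₀' : ∃ d, IsUnit (s₀.coeff d) := by
      by_contra hno
      push Not at hno
      apply hs₀
      show algebraMap P A s₀ ∈ p
      rw [s₀.as_sum, map_sum]
      refine Ideal.sum_mem _ fun d _ => ?_
      rw [show monomial d (s₀.coeff d) = C (s₀.coeff d) * monomial d 1 by rw [C_mul_monomial, mul_one], map_mul]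
      exact p.mul_mem_right _ (hC _ (hno d))
    obtain ⟨m, hm⟩ := hga a₀
    have hsx : (s * ι ⟨g, hg⟩ ^ m) ∉ xt := fun h =>
      (hxtp.mem_or_mem h).elim hs fun h => hgxt (hxtp.mem_of_pow_mem m h)
    refine hsx (hIt (show IsIntegral P (((s * ι ⟨g, hg⟩ ^ m : Bt) : F) * b) from L1 _ s₀ γ hs₀' hγ ?_ ?_))
    · have h' : IsIntegral P ((((algebraMap P Bt s₀) * s * ι ⟨g, hg⟩ ^ m : Bt) : F) * b) :=
        It.mul_mem_right (ι ⟨g, hg⟩ ^ m) hr
      rw [← mul_assoc]
      simpa [mul_assoc] using h'
    · have h' : IsIntegral P ((s : F) * algebraMap A F (g ^ m * a₀)) :=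
        IsIntegral.mul s.2 (hm.map (IsScalarTower.toAlgHom P A F))
      rw [map_mul, map_pow, ← ha₀, IsScalarTower.algebraMap_apply V P A γ, algebraMap_eq,
        ← IsScalarTower.algebraMap_apply P A F] at h'
      convert h' using 1
      simp only [MulMemClass.coe_mul, SubmonoidClass.coe_pow]
      rw [show ((ι ⟨g, hg⟩ : Bt) : F) = algebraMap A F g from rfl]
      ring
  obtain ⟨q, hq, hItq, hqd⟩ := Ideal.exists_le_prime_disjoint It M hdis
  have hqxt : q ≤ xt := fun r hr => by
    by_contra hrx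
    exact Set.disjoint_left.1 hqd hr (Submonoid.mem_sup_right hrx)
  let I := q.comap (algebraMap P Bt)
  have hIp : I ≤ p.comap (algebraMap P A) := fun f hf => by
    by_contra hfp
    exact Set.disjoint_left.1 hqd hf (Submonoid.mem_sup_left ⟨f, hfp, rfl⟩)
  have hI : ∀ f ∈ I, ∀ d, C (f.coeff d) ∈ I := fun f hf d => by
    rcases eq_or_ne f 0 with rfl | hf0
    · rw [coeff_zero, map_zero]; exact I.zero_mem
    obtain ⟨c, f', rfl, -, e, he⟩ := exists_primitive' f hf0
    have hf' : f' ∉ I := fun h => notMem_of_coeff_one hind ⟨e, he ▸ isUnit_one⟩ (hIp h)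
    rw [coeff_C_mul, map_mul]
    exact I.mul_mem_right _ (((hq.comap (algebraMap P Bt)).mem_or_mem hf).resolve_right hf')
  -- go down to the generic point of the special fibre
  haveI : (q.comap (algebraMap P Bt)).IsPrime := hq.comap _
  haveI : IsIntegrallyClosed (P ⧸ I) := isIntegrallyClosed_quotient I hI
  haveI : IsDomain (P ⧸ I) := Ideal.Quotient.isDomain I
  haveI : IsDomain (Bt ⧸ q) := Ideal.Quotient.isDomain q
  letI : Algebra (P ⧸ I) (Bt ⧸ q) := Ideal.quotientAlgebra
  haveI : FaithfulSMul (P ⧸ I) (Bt ⧸ q) :=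
    (faithfulSMul_iff_algebraMap_injective _ _).2 Ideal.algebraMap_quotient_injective
  haveI : Algebra.IsIntegral (P ⧸ I) (Bt ⧸ q) := by
    refine ⟨fun z => ?_⟩
    obtain ⟨r, rfl⟩ := Ideal.Quotient.mk_surjective z
    exact IsIntegral.map_of_comp_eq (Ideal.Quotient.mk I) (Ideal.Quotient.mk q) (RingHom.ext fun f => rfl)
      (Algebra.IsIntegral.isIntegral (R := P) r)
  let pI : Ideal (P ⧸ I) := (p.comap (algebraMap P A)).map (Ideal.Quotient.mk I)
  haveI : pI.IsPrime := Ideal.map_isPrime_of_surjective Ideal.Quotient.mk_surjective (by rwa [Ideal.mk_ker])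
  haveI : (xt.map (Ideal.Quotient.mk q)).IsPrime :=
    Ideal.map_isPrime_of_surjective Ideal.Quotient.mk_surjective (by rwa [Ideal.mk_ker])
  obtain ⟨Q', hQ'le, hQ', hQ'c⟩ := GoingDownNormal.exists_le pI (xt.map (Ideal.Quotient.mk q)) (by
    rw [Ideal.map_le_iff_le_comap]
    intro f hf
    exact Ideal.mem_map_of_mem (Ideal.Quotient.mk q) (hCxt f hf))
  let Q : Ideal Bt := Q'.comap (Ideal.Quotient.mk q)
  haveI hQ : Q.IsPrime := hQ'.comap _
  have hqQ : q ≤ Q := fun r hr => by
    show Ideal.Quotient.mk q r ∈ Q'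
    rw [Ideal.Quotient.eq_zero_iff_mem.2 hr]
    exact Q'.zero_mem
  have hQx : Q ≤ xt := fun r hr => by
    obtain ⟨r', hr', he⟩ := (Ideal.mem_map_iff_of_surjective _ Ideal.Quotient.mk_surjective).1 (hQ'le hr)
    have := hqxt ((Ideal.Quotient.eq).1 he)
    simpa using xt.sub_mem hr' this
  have hQP : ∀ f : P, algebraMap P Bt f ∈ Q ↔ algebraMap P A f ∈ p := fun f => by
    show Ideal.Quotient.mk q (algebraMap P Bt f) ∈ Q' ↔ _
    rw [show Ideal.Quotient.mk q (algebraMap P Bt f) = algebraMap (P ⧸ I) (Bt ⧸ q) (Ideal.Quotient.mk I f) from rfl,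
      ← Ideal.mem_comap, hQ'c, Ideal.mem_map_iff_of_surjective _ Ideal.Quotient.mk_surjective]
    constructor
    · rintro ⟨f', hf', he⟩
      have := hIp (Ideal.Quotient.eq.1 he)
      simpa using (p.comap (algebraMap P A)).sub_mem hf' this
    · exact fun h => ⟨f, h, rfl⟩
  -- a valuation ring centred there which misses `b`
  let R : Subring F :=
    { carrier := {z | ∃ r s : Bt, s ∉ Q ∧ z * s = r}
      one_mem' := ⟨1, 1, fun h => hQ.ne_top ((Ideal.eq_top_iff_one _).2 h), by simp⟩
      zero_mem' := ⟨0, 1, fun h => hQ.ne_top ((Ideal.eq_top_iff_one _).2 h), by simp⟩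
      add_mem' := by
        rintro z w ⟨r, s, hs, e⟩ ⟨r', s', hs', e'⟩
        exact ⟨r * s' + r' * s, s * s', fun h => (hQ.mem_or_mem h).elim hs hs', by
          simp only [AddMemClass.coe_add, MulMemClass.coe_mul, ← e, ← e']; ring⟩
      mul_mem' := by
        rintro z w ⟨r, s, hs, e⟩ ⟨r', s', hs', e'⟩
        exact ⟨r * r', s * s', fun h => (hQ.mem_or_mem h).elim hs hs', by
          simp only [MulMemClass.coe_mul, ← e, ← e']; ring⟩
      neg_mem' := by
        rintro z ⟨r, s, hs, e⟩
        exact ⟨-r, s, hs, by simp only [NegMemClass.coe_neg, ← e]; ring⟩ }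
  have hne : ∀ s : Bt, s ∉ Q → (s : F) ≠ 0 := fun s hs h => hs (by rw [show s = 0 from Subtype.ext h]; exact Q.zero_mem)
  have hbR : b ∉ R := by
    rintro ⟨r, s, hs, e⟩
    refine hs (hqQ (hItq (show IsIntegral P ((s : F) * b) from ?_)))
    rw [mul_comm, e]
    exact r.2
  let φ : Bt →+* R :=
    { toFun := fun r => ⟨r, r, 1, fun h => hQ.ne_top ((Ideal.eq_top_iff_one _).2 h), by simp⟩
      map_one' := rfl
      map_mul' := fun _ _ => rfl
      map_zero' := rfl
      map_add' := fun _ _ => rfl }
  letI : Algebra Bt R := φ.toAlgebra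
  haveI : IsLocalization.AtPrime R Q :=
    { map_units := fun s => isUnit_iff_exists_inv.2 ⟨⟨(s.1 : F)⁻¹, 1, s.1, s.2, by
        rw [inv_mul_cancel₀ (hne _ s.2)]; simp⟩, Subtype.ext (mul_inv_cancel₀ (hne _ s.2))⟩
      surj := fun z => by
        obtain ⟨r, s, hs, e⟩ := z.2
        exact ⟨(r, ⟨s, hs⟩), Subtype.ext e⟩
      exists_of_eq := fun {r s} h => ⟨1, by
        have : (r : F) = s := congrArg (fun z : R => (z : F)) h
        rw [Subtype.ext this]⟩ }
  haveI : IsLocalRing R := IsLocalization.AtPrime.isLocalRing R Q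
  haveI : IsIntegrallyClosedIn R F := by
    refine isIntegrallyClosedIn_iff.2 ⟨Subtype.val_injective, fun {z} hz => ?_⟩
    haveI : IsScalarTower Bt R F := .of_algebraMap_eq fun r => rfl
    obtain ⟨⟨s, hs⟩, hsz⟩ := IsIntegral.exists_multiple_integral_of_isLocalization Q.primeCompl (Rₘ := R) z hz
    have hint : IsIntegral P ((s : F) * z) := isIntegral_trans _ (by simpa [Submonoid.smul_def, Algebra.smul_def] using hsz)
    exact ⟨⟨z, ⟨⟨_, hint⟩, s, hs, mul_comm _ _⟩⟩, rfl⟩
  let RL : LocalSubring F := @LocalSubring.mk F _ R ‹IsLocalRing R›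
  haveI : IsIntegrallyClosedIn RL.toSubring F := ‹IsIntegrallyClosedIn R F›
  obtain ⟨W, ⟨hRW, hloc⟩, hbW⟩ := RL.exists_le_valuationSubring_of_isIntegrallyClosedIn hbR
  refine hbW (hb W ?_)
  have hgQ : ι ⟨g, hg⟩ ∉ Q := fun h => hgxt (hQx h)
  have hAR : ∀ a : A, algebraMap A F a ∈ R := fun a => by
    obtain ⟨m, hm⟩ := hga a
    refine ⟨ι ⟨_, hm⟩, ι ⟨g, hg⟩ ^ m, fun h => hgQ (hQ.mem_of_pow_mem m h), ?_⟩
    show algebraMap A F a * ((ι ⟨g, hg⟩ ^ m : Bt) : F) = algebraMap A F (g ^ m * a)
    rw [SubmonoidClass.coe_pow, map_mul, map_pow, mul_comm]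
    rfl
  let θ : A →+* W.toSubring := (Subring.inclusion hRW).comp ((algebraMap A F).codRestrict R hAR)
  let z : Ideal A := (IsLocalRing.maximalIdeal W).comap θ
  haveI hz : z.IsPrime := Ideal.IsPrime.comap _
  have hzP : ∀ f : P, algebraMap P A f ∈ z ↔ algebraMap P A f ∈ p := fun f => by
    rw [← hQP f, Ideal.mem_comap, IsLocalRing.mem_maximalIdeal]
    show θ (algebraMap P A f) ∈ nonunits W.toSubring ↔ _
    haveI : IsLocalHom (Subring.inclusion hRW) := hloc
    refine (not_congr (isUnit_map_iff (Subring.inclusion hRW) (((algebraMap A F).codRestrict R hAR) (algebraMap P A f)))).trans ?_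
    rw [show ((algebraMap A F).codRestrict R hAR) (algebraMap P A f) = algebraMap Bt R (algebraMap P Bt f) from
        Subtype.ext (IsScalarTower.algebraMap_apply P A F f).symm]
    refine Iff.trans (IsLocalRing.mem_maximalIdeal (algebraMap Bt R (algebraMap P Bt f))).symm ?_
    exact Set.ext_iff.1 (congrArg SetLike.coe (IsLocalization.AtPrime.comap_maximalIdeal R Q)) (algebraMap P Bt f)
  have hpz : p ≤ z := fun a ha => by
    obtain ⟨N, hN⟩ := hrad a ha
    refine hz.mem_of_pow_mem N ((Ideal.map_le_iff_le_comap.2 fun c hc => ?_) hN)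
    show algebraMap V A c ∈ z
    rw [IsScalarTower.algebraMap_apply V P A, hzP, algebraMap_eq]
    exact hC c hc
  have hzp : z ≤ p := by
    intro a ha
    by_contra hap
    obtain ⟨f, hf, hfa⟩ := hfin a
    induction hd : f.natDegree generalizing f with
    | zero =>
      rw [hf.natDegree_eq_zero.1 hd, map_one] at hfa
      exact ‹p.IsPrime›.ne_top ((Ideal.eq_top_iff_one _).2 hfa)
    | succ N ih =>
      have h1 := f.X_mul_divX_add
      have h0 : algebraMap P A (f.coeff 0) ∈ p := by
        rw [← hzP]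
        have h2 := hpz hfa
        rw [← h1, map_add, map_mul, Polynomial.aeval_X, Polynomial.aeval_C] at h2
        exact (Ideal.add_mem_iff_right z (z.mul_mem_right _ ha)).1 h2
      have hdeg : f.divX.natDegree = N := by rw [Polynomial.natDegree_divX_eq_natDegree_tsub_one, hd]; rfl
      refine ih f.divX ?_ ?_ hdeg
      · rw [Polynomial.Monic, Polynomial.leadingCoeff, hdeg, Polynomial.coeff_divX, ← hd, hf.coeff_natDegree]
      · rw [← h1, map_add, map_mul, Polynomial.aeval_X, Polynomial.aeval_C] at hfa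
        exact (‹p.IsPrime›.mem_or_mem ((Ideal.add_mem_iff_left p h0).1 hfa)).resolve_left hap
  intro a
  refine ⟨hRW (hAR a), ?_⟩
  rw [show algebraMap A F a = ((θ a : W.toSubring) : F) from rfl]
  refine (ValuationSubring.coe_mem_nonunits_iff (A := W) (a := θ a)).trans ?_
  exact ⟨fun h => hzp h, fun h => hpz h⟩

end

end Groth.Agent.AlgGrp33.AffCore
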