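import Groth.Agent.SGA3a.Affinization
import Groth.Agent.AlgGrp79.OrbitDim
import Groth.Agent.AlgGrp79.FiniteKernelHom
import Groth.Agent.S13792
import Groth.Agent.S0348

/-!
A connected group whose rational functions are algebraic over its global functions is affine.
-/

set_option autoImplicit false
set_option linter.style.haveILetI false
set_option backward.isDefEq.respectTransparency.types false
universe u

open CategoryTheory CategoryTheory.Limits MonoidalCategory CartesianMonoidalCategory MonObj GrpObj AlgebraicGeometry
open Groth.Agent.AlgGrp79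
open Groth.Agent.WC97 (tdegN)
open Groth.Agent.E4O (fdeg)

namespace Groth.Agent.AlgGrp33.AffCrit

variable {k : Type u} [Field k]

/-- A group acts on the target of a homomorphism. -/
noncomputable def homAction {G Q : Over (Spec (CommRingCat.of k))} [GrpObj G] [GrpObj Q] (q : G ⟶ Q) [IsMonHom q] :
    AlgGrp.Action G Q where
  act := (fst G Q ≫ q) * snd G Q
  one_act := by
    rw [MonObj.comp_mul, whiskerRight_fst_assoc, IsMonHom.one_hom, whiskerRight_snd, leftUnitor_hom,
      ← toUnit_unique (toUnit (𝟙_ (Over (Spec (CommRingCat.of k))) ⊗ Q)) (fst _ Q), ← Hom.one_def, _root_.one_mul]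
  mul_act := by
    simp only [MonObj.comp_mul, whiskerRight_fst_assoc, whiskerRight_snd, whiskerLeft_fst_assoc,
      whiskerLeft_snd, associator_hom_fst_assoc, associator_hom_snd_fst_assoc,
      associator_hom_snd_snd, MonObj.mul_eq_mul, MonObj.mul_comp, _root_.mul_assoc]

theorem homAction_orbitMap {G Q : Over (Spec (CommRingCat.of k))} [GrpObj G] [GrpObj Q] (q : G ⟶ Q) [IsMonHom q] :
    (homAction q).orbitMap η[Q] = q := by
  simp only [AlgGrp.Action.orbitMap, homAction]
  rw [MonObj.comp_mul, lift_fst_assoc, lift_snd, Category.id_comp, ← Hom.one_def, _root_.mul_one]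

/-- The criterion. -/
theorem isAffine_of_algebraic [IsAlgClosed k] (C : Over (Spec (CommRingCat.of k))) [GrpObj C] [Smooth C.hom]
    [QuasiCompact C.hom] [IrreducibleSpace ↥C.left]
    (halg : ∀ z : C.left.residueField (genericPoint C.left), ∃ p : Polynomial Γ(C.left, ⊤),
      p.map (C.left.evaluation ⊤ (genericPoint C.left) trivial).hom ≠ 0 ∧
      p.eval₂ (C.left.evaluation ⊤ (genericPoint C.left) trivial).hom z = 0) :
    IsAffine C.left := by
  haveI : LocallyOfFiniteType C.hom := inferInstance
  obtain ⟨Q, hQg, q, hq, hQ, hQft, hfl, hsurj, hlfp, hiso⟩ := SGA3a.Affinization.exists_affinization k C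
  set η₀ := genericPoint C.left
  have hqft : LocallyOfFiniteType q.left := inferInstance
  -- the residue extension at the generic point is algebraic
  have hd : fdeg q.left η₀ = 0 := by
    let : Algebra (Q.left.residueField (q.left η₀)) (C.left.residueField η₀) := (q.left.residueFieldMap η₀).hom.toAlgebra
    have hev : ∀ a : Γ(Q.left, ⊤), C.left.evaluation ⊤ η₀ trivial (q.left.appTop a) =
        q.left.residueFieldMap η₀ (Q.left.evaluation ⊤ (q.left η₀) trivial a) := fun a =>
      (ConcreteCategory.congr_hom (Scheme.evaluation_naturality q.left (V := ⊤) η₀ trivial) a).symm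
    have hbij : Function.Bijective q.left.appTop := (ConcreteCategory.isIso_iff_bijective _).1 hiso
    have : Algebra.IsAlgebraic (Q.left.residueField (q.left η₀)) (C.left.residueField η₀) := ⟨fun z => by
      obtain ⟨p, hp0, hpz⟩ := halg z
      obtain ⟨p', rfl⟩ := Polynomial.map_surjective q.left.appTop.hom hbij.2 p
      have e : (C.left.evaluation ⊤ η₀ trivial).hom.comp q.left.appTop.hom =
          (algebraMap (Q.left.residueField (q.left η₀)) (C.left.residueField η₀)).comp
            (Q.left.evaluation ⊤ (q.left η₀) trivial).hom := RingHom.ext hev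
      refine ⟨p'.map (Q.left.evaluation ⊤ (q.left η₀) trivial).hom, fun h0 => hp0 ?_, ?_⟩
      · rw [Polynomial.map_map, e, ← Polynomial.map_map, h0, Polynomial.map_zero]
      · rw [Polynomial.aeval_def, Polynomial.eval₂_map, ← e, ← Polynomial.eval₂_map]
        exact hpz⟩
    have h := Cyc90.trdeg_residueField_eq_fdeg q.left η₀
    rw [trdeg_eq_zero] at h
    exact_mod_cast h.symm
  -- the generic fibre is a point
  have hfib : topologicalKrullDim ↥(q.left.fiber (q.left η₀)) ≤ ((0 : ℕ) : WithBot ℕ∞) := by
    refine (E4O.dim_fiber_le_iff q.left _ _).2 fun x hx => ?_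
    have h1 := Var76.FibreBound.tdegN_eq_add q.left (qX := C.hom) (qY := Q.hom) (Over.w q) x
    have h2 := Var76.FibreBound.tdegN_eq_add q.left (qX := C.hom) (qY := Q.hom) (Over.w q) η₀
    rw [hx] at h1
    have hxη : η₀ = x :=
      Var76.FibreBound.eq_of_tdegN_le C.hom (genericPoint_specializes x) (by omega)
    rw [← hxη, hd]
  have hdim := AlgGrp79.dim_orbit_fibre (homAction q) η[Q] η₀
  rw [homAction_orbitMap] at hdim
  have : LocallyOfFiniteType (SGA3a.GrpHomFinite.ker q).hom := by
    rw [SGA3a.GrpHomFinite.ker_hom]
    exact MorphismProperty.pullback_snd (P := @LocallyOfFiniteType) _ _ hqft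
  have : QuasiCompact q.left := by
    have : QuasiCompact (q.left ≫ Q.hom) := by rw [Over.w]; infer_instance
    exact QuasiCompact.of_comp q.left Q.hom
  have : QuasiCompact (SGA3a.GrpHomFinite.ker q).hom := by
    rw [SGA3a.GrpHomFinite.ker_hom]
    exact MorphismProperty.pullback_snd (P := @QuasiCompact) _ _ inferInstance
  have hker : IsFinite (SGA3a.GrpHomFinite.ker q).hom :=
    S13792.isFinite_of_krullDim_le_zero _ (hdim ▸ hfib)
  have := AlgGrp79.isFinite_hom_of_finite_kernel q _ (SGA3a.GrpHomFinite.isKernel_ker q) hker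
  exact isAffine_of_isAffineHom q.left

end Groth.Agent.AlgGrp33.AffCrit
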