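import Mathlib.RingTheory.Valuation.LocalSubring
import Mathlib.RingTheory.Jacobson.Ring
import Mathlib.FieldTheory.IsAlgClosed.Basic

/-!
Places with values in an algebraically closed field.
-/

set_option autoImplicit false
universe u v

namespace Groth.Agent.AlgGrp33.Place

variable {L : Type u} {K : Type v} [Field L] [Field K]

/-- A ring homomorphism defined on a subring. -/
structure PHom (L : Type u) (K : Type v) [Field L] [Field K] where
  /-- the domain -/
  dom : Subring L
  /-- the map -/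
  map : dom →+* K

/-- Extension of partial homomorphisms. -/
def PHom.Ext (p q : PHom L K) : Prop := ∃ h : p.dom ≤ q.dom, q.map.comp (Subring.inclusion h) = p.map

/-- The graph. -/
def PHom.graph (p : PHom L K) : Subring (L × K) := (p.dom.subtype.prod p.map).range

theorem PHom.mem_graph {p : PHom L K} {x : L × K} : x ∈ p.graph ↔ ∃ r : p.dom, ((r : L), p.map r) = x := Iff.rfl

theorem exists_max (p₀ : PHom L K) :
    ∃ p : PHom L K, p₀.Ext p ∧ ∀ q : PHom L K, p.Ext q → q.dom ≤ p.dom := by
  let P : Set (Subring (L × K)) := {Γ | ∀ x ∈ Γ, x.1 = 0 → x.2 = 0}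
  have h0 : p₀.graph ∈ P := by
    rintro _ ⟨r, rfl⟩ h
    show p₀.map r = 0
    rw [show r = 0 from Subtype.ext h, map_zero]
  obtain ⟨Γ, hle, hmax⟩ := zorn_le_nonempty₀ P (fun c hc hchain y hy => by
    refine ⟨sSup c, fun x hx hx0 => ?_, fun z hz => le_sSup hz⟩
    obtain ⟨z, hz, hxz⟩ := (Subring.mem_sSup_of_directedOn ⟨y, hy⟩ hchain.directedOn).1 hx
    exact hc hz x hxz hx0) p₀.graph h0
  have hΓ : ∀ x ∈ Γ, x.1 = 0 → x.2 = 0 := hmax.1
  let D : Subring L := Γ.map (RingHom.fst L K)
  have hD : ∀ r : D, ∃ c : K, ((r : L), c) ∈ Γ := fun r => by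
    obtain ⟨⟨a, c⟩, hx, e⟩ := r.2
    exact ⟨c, by change a = (r : L) at e; rw [← e]; exact hx⟩
  have huniq : ∀ {a : L} {c c' : K}, (a, c) ∈ Γ → (a, c') ∈ Γ → c = c' := fun h h' =>
    sub_eq_zero.1 (hΓ _ (Γ.sub_mem h h') (sub_self _))
  choose φ hφ using hD
  let f : D →+* K :=
    { toFun := φ
      map_one' := huniq (hφ 1) Γ.one_mem
      map_mul' := fun a b => huniq (hφ (a * b)) (Γ.mul_mem (hφ a) (hφ b))
      map_zero' := huniq (hφ 0) Γ.zero_mem
      map_add' := fun a b => huniq (hφ (a + b)) (Γ.add_mem (hφ a) (hφ b)) }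
  refine ⟨⟨D, f⟩, ?_, fun q hq => ?_⟩
  · have h1 : ∀ r : p₀.dom, ((r : L), p₀.map r) ∈ Γ := fun r => hle ⟨r, rfl⟩
    exact ⟨fun r hr => ⟨_, h1 ⟨r, hr⟩, rfl⟩, RingHom.ext fun r => huniq (hφ _) (h1 r)⟩
  · obtain ⟨hDq, hq⟩ := hq
    have hq0 : q.graph ∈ P := by
      rintro _ ⟨r, rfl⟩ h
      show q.map r = 0
      rw [show r = 0 from Subtype.ext h, map_zero]
    have hΓq : Γ ≤ q.graph := fun x hx => by
      have hr : x.1 ∈ D := ⟨x, hx, rfl⟩
      refine ⟨Subring.inclusion hDq ⟨x.1, hr⟩, Prod.ext rfl ?_⟩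
      have := RingHom.congr_fun hq ⟨x.1, hr⟩
      exact this.trans (huniq (hφ ⟨x.1, hr⟩) hx)
    have := hmax.2 hq0 hΓq
    intro r hr
    exact ⟨((r : L), q.map ⟨r, hr⟩), this ⟨⟨r, hr⟩, rfl⟩, rfl⟩

/-- A homomorphism from a subring to an algebraically closed field extends to a valuation ring, with
kernel the maximal ideal. -/
theorem exists_valuationSubring [IsAlgClosed K] (R : Subring L) (φ : R →+* K) :
    ∃ (V : ValuationSubring L) (ψ : V →+* K) (h : R ≤ V.toSubring),
      (∀ r : R, ψ ⟨r, h r.2⟩ = φ r) ∧ RingHom.ker ψ = IsLocalRing.maximalIdeal V := by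
  obtain ⟨⟨A, f⟩, ⟨hRA, hf⟩, hmax⟩ := exists_max ⟨R, φ⟩
  let P := RingHom.ker f
  have hP : P.IsPrime := RingHom.ker_isPrime f
  -- the domain is local with maximal ideal the kernel
  have hunit : ∀ a : A, f a ≠ 0 → IsUnit a := fun a ha => by
    let B := LocalSubring.ofPrime A P
    let g : B.toSubring →+* K := IsLocalization.lift (M := P.primeCompl) (g := f) fun s => (Ne.isUnit s.2)
    have hle := hmax ⟨B.toSubring, g⟩ ⟨LocalSubring.le_ofPrime A P, RingHom.ext fun r => by
      exact IsLocalization.lift_eq (M := P.primeCompl) (S := B.toSubring) (g := f) _ r⟩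
    obtain ⟨b, hb⟩ := isUnit_iff_exists_inv.1 (IsLocalization.map_units (M := P.primeCompl) B.toSubring ⟨a, ha⟩)
    exact isUnit_iff_exists_inv.2 ⟨⟨b, hle b.2⟩, Subtype.ext (show (a : L) * (b : L) = 1 from congrArg Subtype.val hb)⟩
  have hlocal : IsLocalRing A := .of_nonunits_add fun a b ha hb h => by
    have ha' : f a = 0 := not_ne_iff.1 (mt (hunit a) ha)
    have hb' : f b = 0 := not_ne_iff.1 (mt (hunit b) hb)
    exact (h.map f).ne_zero (by rw [map_add, ha', hb', add_zero])
  have hker : RingHom.ker f = IsLocalRing.maximalIdeal A := by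
    ext a
    exact ⟨fun ha hu => (hu.map f).ne_zero ha, fun ha => not_ne_iff.1 (mt (hunit a) ha)⟩
  -- it is maximal for domination
  have hisMax : IsMax (@LocalSubring.mk L _ A hlocal) := by
    rintro ⟨S⟩ ⟨hAS, hloc⟩
    refine ⟨?_, ?_⟩
    · intro y hy
      have hfi : Function.Injective (algebraMap A L) := Subtype.val_injective
      let alg : Algebra A S := (Subring.inclusion hAS).toAlgebra
      let C : Subalgebra A S := Algebra.adjoin A {(⟨y, hy⟩ : S)}
      let m : Ideal C := (IsLocalRing.maximalIdeal S).comap C.val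
      obtain ⟨M, hM, hmM⟩ := Ideal.exists_le_maximal m (Ideal.IsPrime.ne_top inferInstance)
      let : Field (C ⧸ M) := Ideal.Quotient.field M
      let k₀ := IsLocalRing.ResidueField A
      have hMA : ∀ a : A, a ∈ IsLocalRing.maximalIdeal A → algebraMap A C a ∈ M := fun a ha => hmM (by
        show Subring.inclusion hAS a ∈ IsLocalRing.maximalIdeal S
        exact fun hu => ha (isUnit_of_map_unit (Subring.inclusion hAS) a hu))
      let j : k₀ →+* C ⧸ M := Ideal.Quotient.lift _ ((Ideal.Quotient.mk M).comp (algebraMap A C))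
        fun a ha => Ideal.Quotient.eq_zero_iff_mem.2 (hMA a ha)
      let f₀ : k₀ →+* K := Ideal.Quotient.lift _ f fun a ha => by rwa [← hker] at ha
      let : Algebra k₀ (C ⧸ M) := j.toAlgebra
      let : Algebra k₀ K := f₀.toAlgebra
      have : IsScalarTower A k₀ (C ⧸ M) := .of_algebraMap_eq fun a => rfl
      have hCft : Algebra.FiniteType A C := (Subalgebra.fg_iff_finiteType C).1 (Subalgebra.fg_adjoin_finset {(⟨y, hy⟩ : S)} |> fun h => by simpa [C] using h)
      have : Algebra.FiniteType A (C ⧸ M) := hCft.of_surjective (Ideal.Quotient.mkₐ A M) Ideal.Quotient.mk_surjective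
      have : Algebra.FiniteType k₀ (C ⧸ M) := Algebra.FiniteType.of_restrictScalars_finiteType A k₀ _
      have : Module.Finite k₀ (C ⧸ M) := finite_of_finite_type_of_isJacobsonRing k₀ _
      have : Algebra.IsAlgebraic k₀ (C ⧸ M) := Algebra.IsAlgebraic.of_finite k₀ _
      let e : (C ⧸ M) →ₐ[k₀] K := IsAlgClosed.lift
      let D : Subring L := C.toSubring.map S.subtype
      let eD : C.toSubring ≃+* D := C.toSubring.equivMapOfInjective S.subtype Subtype.val_injective
      let g : D →+* K := (e.toRingHom.comp (Ideal.Quotient.mk M)).comp eD.symm.toRingHom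
      have hAD : A ≤ D := fun a ha => ⟨Subring.inclusion hAS ⟨a, ha⟩, C.algebraMap_mem ⟨a, ha⟩, rfl⟩
      refine hmax ⟨D, g⟩ ⟨hAD, RingHom.ext fun a => ?_⟩ ⟨⟨y, hy⟩, Algebra.subset_adjoin rfl, rfl⟩
      have h1 : eD.symm (Subring.inclusion hAD a) = algebraMap A C a := by
        apply eD.injective
        rw [RingEquiv.apply_symm_apply]
        rfl
      show e (Ideal.Quotient.mk M (eD.symm (Subring.inclusion hAD a))) = f a
      rw [h1]
      exact e.commutes (Ideal.Quotient.mk _ a)
    · constructor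
      intro a ha
      exact ha.map (Subring.inclusion hAS)
  obtain ⟨V, hV⟩ := LocalSubring.exists_valuationRing_of_isMax hisMax
  have hVA : V.toSubring = A := congrArg LocalSubring.toSubring hV
  subst hVA
  exact ⟨V, f, hRA, fun r => RingHom.congr_fun hf r, hker⟩

/-- If every element of `K` is algebraic over a subfield hit by the place, the place is surjective. -/
theorem surjective_of_isAlgebraic [IsAlgClosed L] [IsAlgClosed K] (V : ValuationSubring L) (ψ : V →+* K)
    (hψ : RingHom.ker ψ = IsLocalRing.maximalIdeal V) {F : Type*} [Field F] [Algebra F K]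
    [Algebra.IsAlgebraic F K] (hF : Set.range (algebraMap F K) ⊆ Set.range ψ) : Function.Surjective ψ := by
  intro c
  obtain ⟨p, hp0, hpc⟩ : ∃ p : Polynomial F, p.Monic ∧ Polynomial.aeval c p = 0 :=
    ⟨minpoly F c, minpoly.monic (Algebra.IsIntegral.isIntegral c), minpoly.aeval F c⟩
  choose w hw using fun a : F => hF ⟨a, rfl⟩
  -- lift the polynomial to a monic polynomial over `V`
  have hl : p.map (algebraMap F K) ∈ Polynomial.lifts ψ := (Polynomial.lifts_iff_coeff_lifts _).2 fun n => by
    rw [Polynomial.coeff_map]; exact ⟨_, hw _⟩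
  obtain ⟨q, hq, -, hqm⟩ := Polynomial.lifts_and_degree_eq_and_monic hl (hp0.map _)
  have hsplit := IsAlgClosed.splits (q.map (algebraMap V L))
  have hroots : ∀ a ∈ (q.map (algebraMap V L)).roots, ∃ b : V, algebraMap V L b = a := fun a ha => by
    refine (IsIntegrallyClosed.isIntegral_iff (R := V) (K := L)).1 ⟨q, hqm, ?_⟩
    rw [← Polynomial.eval_map]
    exact Polynomial.isRoot_of_mem_roots ha
  choose b hb using hroots
  let s : Multiset V := (q.map (algebraMap V L)).roots.attach.map fun a => b a.1 a.2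
  have hqs : q = (s.map fun a => Polynomial.X - Polynomial.C a).prod := by
    apply Polynomial.map_injective (algebraMap V L) Subtype.val_injective
    rw [Polynomial.map_multiset_prod, hsplit.eq_prod_roots_of_monic (hqm.map _)]
    congr 1
    rw [Multiset.map_map, Multiset.map_map]
    conv_lhs => rw [← Multiset.attach_map_val (q.map (algebraMap V L)).roots, Multiset.map_map]
    refine Multiset.map_congr rfl fun a _ => ?_
    simp [hb]
  have h0 : (q.map ψ).eval c = 0 := by
    rw [hq, Polynomial.eval_map, ← Polynomial.aeval_def, hpc]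
  rw [hqs, Polynomial.map_multiset_prod, Polynomial.eval_multiset_prod, Multiset.prod_eq_zero_iff] at h0
  simp only [Multiset.mem_map] at h0
  obtain ⟨_, ⟨_, ⟨a, -, rfl⟩, rfl⟩, h⟩ := h0
  simp at h
  exact ⟨a, (sub_eq_zero.1 h).symm⟩

end Groth.Agent.AlgGrp33.Place
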