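import Groth.Agent.AlgGrp33.AffSpec
import Groth.Agent.AlgGrp33.Place
import Groth.Agent.AlgGrp79.AffineKernelHom
import Groth.Agent.Curves2.AffineNil

/-!
A flat group over a valuation ring with affine generic fibre has affine special fibre.
-/

set_option autoImplicit false
set_option linter.style.haveILetI false
set_option backward.isDefEq.respectTransparency.types false
universe u

open CategoryTheory CategoryTheory.Limits MonoidalCategory CartesianMonoidalCategory MonObj GrpObj AlgebraicGeometry
open Groth.Agent.AlgGrp79 TopologicalSpace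

namespace Groth.Agent.AlgGrp33.AffFlat

noncomputable section
open SpecPts

theorem isAffine_special {S : Scheme.{u}} {V : Type u} [CommRing V] [IsDomain V] [ValuationRing V] {L : Type u} [Field L]
    [IsAlgClosed L] [Algebra V L] [IsFractionRing V L] {K : Type u} [Field K] [IsAlgClosed K] [Algebra V K]
    (hψ : Function.Surjective (algebraMap V K)) (t : Spec (CommRingCat.of V) ⟶ S) (G : Over S) [GrpObj G]
    [LocallyOfFiniteType G.hom] [QuasiCompact G.hom] [Flat G.hom] [IsAffine (Red.bc (sp V L ≫ t) G).left] :
    IsAffine (Red.bc (sp V K ≫ t) G).left := by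
  set GLg := Red.bc (sp V L ≫ t) G
  set GK := Red.bc (sp V K ≫ t) G
  have : LocallyOfFiniteType GLg.hom := inferInstanceAs (LocallyOfFiniteType (pullback.snd G.hom (sp V L ≫ t)))
  have : LocallyOfFiniteType GK.hom := inferInstanceAs (LocallyOfFiniteType (pullback.snd G.hom (sp V K ≫ t)))
  have : QuasiCompact GK.hom := inferInstanceAs (QuasiCompact (pullback.snd G.hom (sp V K ≫ t)))
  -- the identity component of the generic fibre
  obtain ⟨Gr, _, r, hr, hrc, hrs, hGr⟩ := AlgGrp79.exists_reduced_subgroup GLg
  have : LocallyOfFiniteType Gr.hom := by rw [← Over.w r]; infer_instance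
  obtain ⟨H, _, h₀, hh, hhc, -, hH, hHc, hHd⟩ := exists_smooth_component Gr
  let i : H ⟶ GLg := h₀ ≫ r
  have : IsClosedImmersion i.left := inferInstanceAs (IsClosedImmersion (h₀.left ≫ r.left))
  have : IsAffine H.left := isAffine_of_isAffineHom i.left
  have : IrreducibleSpace H.left := S0348.result L H
  have : IsReduced H.left := AlgGrp79.isReduced_of_smooth H.hom
  have : AlgebraicGeometry.IsIntegral H.left := isIntegral_of_irreducibleSpace_of_isReduced _
  obtain ⟨N, _, j, hj, hjc, hN, hjr, hdim⟩ := exists_spec_subgroup (K := K) i hψ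
  have : LocallyOfFiniteType N.hom := by rw [← Over.w j]; infer_instance
  obtain ⟨C, _, c, hc, hcc, hco, hC, hCc, hCdim⟩ := exists_smooth_component N
  have hCaff := AffSpec.isAffine_component i hψ j hjr c
  -- dimensions
  have hL := isPullback_jF t G L
  have hK := isPullback_jF t G K
  have hsurj : jF t G K ⁻¹' closure (jF t G L '' Set.univ) = Set.univ := by
    refine Set.eq_univ_of_forall fun y => ?_
    obtain ⟨z', hz', hT⟩ := Flat.generalizingMap (pullback.snd G.hom t) (a := jF t G K y)
      (b := (⟨⊥, Ideal.isPrime_bot⟩ : PrimeSpectrum V)) ((PrimeSpectrum.le_iff_specializes _ _).1 bot_le)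
    obtain ⟨ξ, rfl⟩ := SpecClosure.mem_range_left hL hT
    exact hz'.mem_closed isClosed_closure (subset_closure ⟨ξ, trivial, rfl⟩)
  have hdimK : topologicalKrullDim ↥GK.left ≤ topologicalKrullDim ↥C.left := by
    have h1 := SpecClosure.dim_preimage_le hL hK hψ (C := (Set.univ : Set GLg.left)) isClosed_univ
    rw [hsurj, (IsHomeomorph.topologicalKrullDim_eq _ (Homeomorph.Set.univ GK.left).isHomeomorph),
      (IsHomeomorph.topologicalKrullDim_eq _ (Homeomorph.Set.univ GLg.left).isHomeomorph)] at h1
    refine h1.trans (le_of_eq ?_)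
    rw [hCdim, hdim, hHd]
    exact (IsHomeomorph.topologicalKrullDim_eq _ (r.left.isEmbedding.toHomeomorph.trans
      ((Homeomorph.setCongr r.left.surjective.range_eq).trans (Homeomorph.Set.univ _))).isHomeomorph).symm
  -- the component fills the identity component of the special fibre
  have : IrreducibleSpace C.left := S0348.result K C
  let e : C ⟶ GK := c ≫ j
  have he : IsClosedImmersion e.left := inferInstanceAs (IsClosedImmersion (c.left ≫ j.left))
  set η₀ := genericPoint C.left
  have hgen : IsGenericPoint (e.left η₀) (Set.range e.left) := by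
    have := (genericPoint_spec C.left).image e.left.continuous
    rwa [Set.image_univ, e.left.isClosedEmbedding.isClosed_range.closure_eq] at this
  have hmax : ∀ w, w ⤳ e.left η₀ → w = e.left η₀ := by
    intro w hw
    refine Var76.FibreBound.eq_of_tdegN_le GK.hom hw ?_
    have h1 : (WC97.tdegN GK.hom w : WithBot ℕ∞) ≤ (WC97.tdegN GK.hom (e.left η₀) : ℕ) := by
      refine (Var76.FibreBound.tdegN_le_dim GK.hom w).trans (hdimK.trans (le_of_eq ?_))
      rw [← WC97.topologicalKrullDim_closure GK.hom, hgen.def]
      exact IsHomeomorph.topologicalKrullDim_eq _ e.left.isEmbedding.toHomeomorph.isHomeomorph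
    exact_mod_cast h1
  have hcomp : Set.range e.left = connectedComponent (Grp57.unitPt GK) := by
    refine Grp57.component_eq_connectedComponent GK ⟨hgen.isIrreducible, fun Z hZ hle => ?_⟩ ?_
    · obtain ⟨w, hw⟩ := QuasiSober.sober hZ.closure isClosed_closure
      have hwe : w = e.left η₀ := hmax w (hw.specializes (subset_closure (hle ⟨η₀, rfl⟩)))
      refine subset_closure.trans ?_
      rw [← hw.def, hwe, hgen.def]
    · exact ⟨η[C].left (IsLocalRing.closedPoint K), by
        rw [← Scheme.Hom.comp_apply, ← Over.comp_left, IsMonHom.one_hom e]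
        rfl⟩
  -- the identity component of the special fibre is affine
  obtain ⟨G₀, _, incl, hincl, hclo, hflat, hrg, -, -⟩ := Grp57.exists_identityComponent GK
  have : IsLocallyNoetherian GK.left := LocallyOfFiniteType.isLocallyNoetherian GK.hom
  have : Mono incl := Over.mono_of_mono_left incl
  have : IsOpenImmersion incl.left := IsOpenImmersion.of_flat_of_mono incl.left
  have : IsReduced C.left := AlgGrp79.isReduced_of_smooth C.hom
  obtain ⟨d, hd⟩ := Alb96.exists_lift_of_range_subset incl e (hcomp.trans hrg.symm).le
  have hd' : d.left ≫ incl.left = e.left := by rw [← Over.comp_left, hd]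
  have : IsClosedImmersion (d.left ≫ incl.left) := hd' ▸ he
  have : IsClosedImmersion d.left := IsClosedImmersion.of_comp _ incl.left
  have : Surjective d.left := ⟨fun x => by
    obtain ⟨y, hy⟩ : incl.left x ∈ Set.range e.left := by exact (hrg.trans hcomp.symm).le ⟨x, rfl⟩
    exact ⟨y, incl.left.isEmbedding.injective (by rw [← Scheme.Hom.comp_apply, hd']; exact hy)⟩⟩
  have : LocallyOfFiniteType G₀.hom := by rw [← Over.w incl]; infer_instance
  have : IsLocallyNoetherian G₀.left := LocallyOfFiniteType.isLocallyNoetherian G₀.hom
  have := Curves2.isAffine_of_surjective_closedImmersion d.left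
  exact AlgGrp79.isAffine_of_closedSubgroup_open incl

end

end Groth.Agent.AlgGrp33.AffFlat
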