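import Groth.Agent.AlgGrp33.AffAlg
import Groth.Agent.AlgGrp33.AffCrit
import Groth.Agent.Curves2.CurvePlaces
import Groth.Agent.Curves2.SmoothNormal

/-!
An affine integral generic fibre forces affineness of a group in the special fibre of the closure.
-/

set_option autoImplicit false
set_option linter.style.haveILetI false
set_option backward.isDefEq.respectTransparency.types false
universe u

open CategoryTheory CategoryTheory.Limits AlgebraicGeometry TopologicalSpace

namespace Groth.Agent.AlgGrp33.AffGeom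

noncomputable section

variable {V : Type u} [CommRing V]

section Chart

variable {Z : Scheme.{u}} (f : Z ⟶ Spec (CommRingCat.of V))

/-- sections of a chart as a `V`-algebra -/
def chartHom (U : Z.Opens) : CommRingCat.of V ⟶ Γ(Z, U) :=
  (Scheme.ΓSpecIso (CommRingCat.of V)).inv ≫ f.appLE ⊤ U le_top

theorem spec_chartHom {U : Z.Opens} (hU : IsAffineOpen U) : Spec.map (chartHom f U) = hU.fromSpec ≫ f := by
  rw [chartHom, Spec.map_comp, ← IsAffineOpen.SpecMap_appLE_fromSpec f (isAffineOpen_top _) hU le_top]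
  congr 1
  rw [IsAffineOpen.fromSpec_top, Scheme.isoSpec_Spec_inv]

theorem mem_prime_iff {U : Z.Opens} (hU : IsAffineOpen U) (z : Z) (hz : z ∈ U) (c : V) :
    chartHom f U c ∈ (hU.primeIdealOf ⟨z, hz⟩).asIdeal ↔ c ∈ (f z).asIdeal := by
  have h : Spec.map (chartHom f U) (hU.primeIdealOf ⟨z, hz⟩) = f z := by
    rw [spec_chartHom f hU, Scheme.Hom.comp_apply, hU.fromSpec_primeIdealOf]
  rw [← h]
  exact Iff.rfl

theorem chartHom_top {L : Type u} [CommRing L] {a : CommRingCat.of V ⟶ CommRingCat.of L} {H : Scheme.{u}}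
    (g : H ⟶ Spec (CommRingCat.of L)) :
    chartHom (g ≫ Spec.map a) ⊤ = a ≫ (Scheme.ΓSpecIso (CommRingCat.of L)).inv ≫ g.appTop := by
  rw [chartHom, show (g ≫ Spec.map a).appLE ⊤ ⊤ le_top = (g ≫ Spec.map a).appTop from (Scheme.Hom.app_eq_appLE _).symm,
    Scheme.Hom.comp_appTop, Scheme.ΓSpecIso_inv_naturality_assoc]

theorem germ_chartHom_comp {H : Scheme.{u}} (φ : H ⟶ Z) (U : Z.Opens) (y : H) (hy : φ y ∈ U) :
    chartHom (φ ≫ f) ⊤ ≫ H.presheaf.germ ⊤ y trivial =
      chartHom f U ≫ φ.app U ≫ H.presheaf.germ (φ ⁻¹ᵁ U) y hy := by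
  have h1 : chartHom f U ≫ φ.app U = chartHom (φ ≫ f) (φ ⁻¹ᵁ U) := by
    rw [chartHom, chartHom, Category.assoc, φ.app_eq_appLE, Scheme.Hom.appLE_comp_appLE]
  have h2 : chartHom (φ ≫ f) ⊤ ≫ H.presheaf.map (homOfLE le_top).op = chartHom (φ ≫ f) (φ ⁻¹ᵁ U) := by
    rw [chartHom, chartHom, Category.assoc, Scheme.Hom.appLE_map]
  rw [← Category.assoc (chartHom f U), h1, ← h2, Category.assoc, TopCat.Presheaf.germ_res]

end Chart

section Abstract

variable [IsDomain V] [ValuationRing V] {L : Type u} [Field L] [IsAlgClosed L] [Algebra V L] [IsFractionRing V L]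
  {K : Type u} [Field K] [Algebra V K]

/-- a valuation ring of the function field centred at a point -/
def CentredAt {Z : Scheme.{u}} [IsIntegral Z] (ξ : Z) (W : ValuationSubring Z.functionField) : Prop :=
  AffCore.InT (A := Z.presheaf.stalk ξ) (IsLocalRing.maximalIdeal (Z.presheaf.stalk ξ)) W

theorem inT_iff {Z : Scheme.{u}} [IsIntegral Z] {U : Z.Opens} [Nonempty U] (hU : IsAffineOpen U) (ξ : Z) (hξ : ξ ∈ U)
    (W : ValuationSubring Z.functionField) :
    AffCore.InT (A := Γ(Z, U)) (hU.primeIdealOf ⟨ξ, hξ⟩).asIdeal W ↔ CentredAt ξ W := by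
  let := TopCat.Presheaf.algebra_section_stalk Z.presheaf (⟨ξ, hξ⟩ : U)
  have := functionField_isScalarTower Z U ⟨ξ, hξ⟩
  have := hU.isLocalization_stalk ⟨ξ, hξ⟩
  set p := (hU.primeIdealOf ⟨ξ, hξ⟩).asIdeal
  let O := Z.presheaf.stalk ξ
  have hmax : ∀ a : Γ(Z, U), algebraMap Γ(Z, U) O a ∈ IsLocalRing.maximalIdeal O ↔ a ∈ p := fun a =>
    IsLocalization.AtPrime.to_map_mem_maximal_iff O p a inferInstance
  constructor
  · intro h u
    obtain ⟨a, s, rfl⟩ := IsLocalization.exists_mk'_eq p.primeCompl u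
    set u := IsLocalization.mk' O a s
    have hu : algebraMap O Z.functionField u * algebraMap Γ(Z, U) Z.functionField s = algebraMap Γ(Z, U) Z.functionField a := by
      rw [IsScalarTower.algebraMap_apply Γ(Z, U) O Z.functionField (s : Γ(Z, U)), ← map_mul, IsLocalization.mk'_spec,
        ← IsScalarTower.algebraMap_apply]
    obtain ⟨hs, hs'⟩ := h s
    have hv : W.valuation (algebraMap Γ(Z, U) Z.functionField s) = 1 :=
      le_antisymm ((W.valuation_le_one_iff _).2 hs) (not_lt.1 fun hlt => s.2 (hs'.1 hlt))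
    have hval : W.valuation (algebraMap O Z.functionField u) = W.valuation (algebraMap Γ(Z, U) Z.functionField a) := by
      rw [← hu, map_mul, hv, mul_one]
    refine ⟨(W.valuation_le_one_iff _).1 (hval ▸ (W.valuation_le_one_iff _).2 (h a).1), ?_⟩
    show W.valuation _ < 1 ↔ _
    rw [hval]
    refine (h a).2.trans ((hmax a).symm.trans ?_)
    rw [← IsLocalization.mk'_spec O a s]
    exact (IsLocalRing.maximalIdeal.isMaximal O).isPrime.mul_mem_iff_mem_or_mem.trans
      (or_iff_left fun hm => s.2 ((hmax _).1 hm))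
  · intro h a
    rw [IsScalarTower.algebraMap_apply Γ(Z, U) O Z.functionField a]
    exact ⟨(h _).1, (h _).2.trans (hmax a)⟩

/-- An element of an extension of the function field of a normal variety integral over all local rings is integral
over the global functions. -/
theorem isIntegralElem_top {C : Scheme.{u}} [IsIntegral C] (hN : ∀ c : C, IsIntegrallyClosed (C.presheaf.stalk c))
    {E : Type u} [Field E] (e : C.functionField →+* E) (r : E)
    (h : ∀ c : C, (e.comp (algebraMap (C.presheaf.stalk c) C.functionField)).IsIntegralElem r) :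
    (e.comp (C.presheaf.germ ⊤ (genericPoint C) trivial).hom).IsIntegralElem r := by
  letI : Algebra C.functionField E := e.toAlgebra
  have hcoef : ∀ (i : ℕ) (c : C), Curves2.RegAt c ((minpoly C.functionField r).coeff i) := fun i c => by
    have := hN c
    letI : Algebra (C.presheaf.stalk c) E := (e.comp (algebraMap (C.presheaf.stalk c) C.functionField)).toAlgebra
    haveI : IsScalarTower (C.presheaf.stalk c) C.functionField E := .of_algebraMap_eq fun _ => rfl
    have hint : IsIntegral (C.presheaf.stalk c) r := h c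
    rw [minpoly.isIntegrallyClosed_eq_field_fractions' C.functionField hint, Polynomial.coeff_map]
    exact ⟨_, rfl⟩
  have hint : IsIntegral C.functionField r := by
    obtain ⟨Q, hQ, hQr⟩ := h (genericPoint C)
    exact ⟨Q.map (@algebraMap _ _ _ _ (stalkFunctionFieldAlgebra C (genericPoint C))), hQ.map _,
      (Polynomial.eval₂_map _ _ _).trans hQr⟩
  choose σ hσ using fun i => Curves2.exists_section_of_regAt ⊤ trivial _ fun c _ => hcoef i c
  obtain ⟨Q, hQ, -, hQm⟩ := Polynomial.lifts_and_degree_eq_and_monic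
    ((Polynomial.lifts_iff_coeff_lifts (f := (C.presheaf.germ ⊤ (genericPoint C) trivial).hom) _).2
      fun i => ⟨σ i, hσ i⟩) (minpoly.monic hint)
  refine ⟨Q, hQm, ?_⟩
  rw [← Polynomial.eval₂_map, hQ]
  exact minpoly.aeval C.functionField r

variable (hψ : Function.Surjective (algebraMap V K))
  {Z H C : Scheme.{u}} [IsIntegral Z] [IsIntegral H] [IsAffine H] [IsIntegral C]
  (f : Z ⟶ Spec (CommRingCat.of V)) [LocallyOfFiniteType f]
  (φ : H ⟶ Z) [IsPreimmersion φ] (hgen : φ (genericPoint H) = genericPoint Z)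
  (fH : H ⟶ Spec (CommRingCat.of L)) (hφ : φ ≫ f = fH ≫ Spec.map (CommRingCat.ofHom (algebraMap V L)))
  (hgf : ∀ z : Z, (f z).asIdeal = ⊥ → z ∈ Set.range φ)
  (ψ : C ⟶ Z) [IsClosedImmersion ψ] (fC : C ⟶ Spec (CommRingCat.of K))
  (hψf : ψ ≫ f = fC ≫ Spec.map (CommRingCat.ofHom (algebraMap V K)))
  (Zo : Z.Opens) (hCo : ∀ c, ψ c ∈ Zo)
  (hsp : ∀ z ∈ Zo, (∀ v, algebraMap V K v = 0 → v ∈ (f z).asIdeal) → z ∈ Set.range ψ)
  (hN : ∀ c : C, IsIntegrallyClosed (C.presheaf.stalk c))

set_option maxHeartbeats 4000000 in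
include hψ hgen hφ hgf hψf hCo hsp hN in
/-- Rational functions on the special variety are algebraic over its global functions. -/
theorem isAlgebraic_global (z : C.functionField) : ∃ p : Polynomial Γ(C, ⊤),
    p.map (C.presheaf.germ ⊤ (genericPoint C) trivial).hom ≠ 0 ∧
      p.eval₂ (C.presheaf.germ ⊤ (genericPoint C) trivial).hom z = 0 := by
  classical
  set ηC := genericPoint C
  set ξ := ψ ηC
  let F := Z.functionField
  let O := Z.presheaf.stalk ξ
  -- the function field of the generic fibre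
  let jm : Z.functionField →+* H.functionField :=
    (Z.presheaf.stalkSpecializes (specializes_of_eq hgen) ≫ φ.stalkMap (genericPoint H)).hom
  have hjm : ∀ (U : Z.Opens) (hU : genericPoint Z ∈ U) (a : Γ(Z, U)),
      jm (Z.presheaf.germ U _ hU a) =
        H.presheaf.germ (φ ⁻¹ᵁ U) (genericPoint H) (hgen.symm ▸ hU : φ (genericPoint H) ∈ U) (φ.app U a) := by
    intro U hU a
    show φ.stalkMap _ (Z.presheaf.stalkSpecializes _ (Z.presheaf.germ U _ hU a)) = _
    erw [TopCat.Presheaf.germ_stalkSpecializes_apply]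
    exact Scheme.Hom.germ_stalkMap_apply φ U _ _ a
  have hjbij : Function.Bijective jm := by
    refine ⟨jm.injective, ?_⟩
    intro w
    obtain ⟨s, rfl⟩ := φ.stalkMap_surjective (genericPoint H) w
    refine ⟨Z.presheaf.stalkSpecializes (specializes_of_eq hgen.symm) s, ?_⟩
    show φ.stalkMap _ (Z.presheaf.stalkSpecializes _ (Z.presheaf.stalkSpecializes _ s)) = _
    rw [TopCat.Presheaf.stalkSpecializes_comp_apply, TopCat.Presheaf.stalkSpecializes_refl]
    rfl
  let je : Z.functionField ≃+* H.functionField := RingEquiv.ofBijective jm hjbij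
  haveI : Nonempty (⊤ : H.Opens) := ⟨⟨genericPoint H, trivial⟩⟩
  let ρ : Γ(H, ⊤) →+* F := je.symm.toRingHom.comp (algebraMap Γ(H, ⊤) H.functionField)
  have hjρ : ∀ s, jm (ρ s) = algebraMap Γ(H, ⊤) H.functionField s := fun s => je.apply_symm_apply _
  let kL : L →+* Γ(H, ⊤) := ((Scheme.ΓSpecIso (CommRingCat.of L)).inv ≫ fH.appTop).hom
  letI : Algebra L F := (ρ.comp kL).toAlgebra
  have hkV : ∀ (U : Z.Opens) (hU : genericPoint Z ∈ U) (c : V),
      algebraMap L F (algebraMap V L c) = Z.presheaf.germ U _ hU (chartHom f U c) := by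
    intro U hU c
    apply hjbij.1
    rw [hjm]
    refine (hjρ _).trans ?_
    show H.presheaf.germ ⊤ _ _ (kL (algebraMap V L c)) = _
    have h1 : kL (algebraMap V L c) = chartHom (φ ≫ f) ⊤ c := by
      rw [hφ, chartHom_top]
      rfl
    rw [h1]
    exact congrArg (fun q : CommRingCat.of V ⟶ _ => q c) (germ_chartHom_comp f φ U (genericPoint H) (hgen.symm ▸ hU))
  -- a chart
  have hξ : ∀ c : C, ξ ⤳ ψ c := fun c => (genericPoint_specializes c).map ψ.continuous
  have hfξ : ∀ c : C, ∀ v, algebraMap V K v = 0 → v ∈ (f (ψ c)).asIdeal := by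
    intro c v hv
    rw [← Scheme.Hom.comp_apply, hψf, Scheme.Hom.comp_apply]
    show algebraMap V K v ∈ (fC c).asIdeal
    rw [hv]
    exact zero_mem _
  have hker : ∀ v, v ∈ IsLocalRing.maximalIdeal V ↔ algebraMap V K v = 0 := fun v => by
    rw [← IsLocalRing.eq_maximalIdeal (RingHom.ker_isMaximal_of_surjective _ hψ), RingHom.mem_ker]
  have chart : ∀ c : C, ∃ (U : Z.Opens) (hU : IsAffineOpen U) (hxU : ψ c ∈ U) (hξU : ξ ∈ U) (hne : Nonempty U),
      ∀ b : F, b ≠ 0 →
        ((∃ s₀, b = ρ s₀) → (∀ W, CentredAt ξ W → b ∈ W) →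
          ∃ s : Γ(Z, U), s ∉ (hU.primeIdealOf ⟨ψ c, hxU⟩).asIdeal ∧ IsIntegral Γ(Z, U) (algebraMap Γ(Z, U) F s * b)) ∧
        ∃ l : L, l ≠ 0 ∧ (∀ W, CentredAt ξ W → b / algebraMap L F l ∈ W) ∧
          ∃ W, CentredAt ξ W ∧ b / algebraMap L F l ∉ W.nonunits := by
    intro c
    obtain ⟨U, hU, hxU, hUo⟩ := exists_isAffineOpen_mem_and_subset (hCo c)
    have hξU : ξ ∈ U := (hξ c).mem_open U.2 hxU
    haveI hne : Nonempty U := ⟨⟨_, hξU⟩⟩
    have hgU : genericPoint Z ∈ U := (genericPoint_specializes ξ).mem_open U.2 hξU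
    refine ⟨U, hU, hxU, hξU, hne, ?_⟩
    let A := Γ(Z, U)
    letI : Algebra V A := (chartHom f U).hom.toAlgebra
    haveI := functionField_isFractionRing_of_isAffineOpen Z U hU
    haveI : Algebra.FiniteType V A := by
      have h : LocallyOfFiniteType (Spec.map (chartHom f U)) := by rw [spec_chartHom f hU]; infer_instance
      exact (HasRingHomProperty.Spec_iff (P := @LocallyOfFiniteType)).1 h
    set p := (hU.primeIdealOf ⟨ξ, hξU⟩).asIdeal
    set x := (hU.primeIdealOf ⟨ψ c, hxU⟩).asIdeal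
    have hmem : ∀ (q : PrimeSpectrum A), (∀ v ∈ IsLocalRing.maximalIdeal V, algebraMap V A v ∈ q.asIdeal) → p ≤ q.asIdeal := by
      intro q hq
      let z := hU.fromSpec q
      have hzU : z ∈ U := by rw [← SetLike.mem_coe, ← hU.range_fromSpec]; exact ⟨_, rfl⟩
      have hqz : hU.primeIdealOf ⟨z, hzU⟩ = q :=
        hU.fromSpec.isOpenEmbedding.injective (hU.fromSpec_primeIdealOf ⟨z, hzU⟩)
      obtain ⟨c', hc'⟩ := hsp z (hUo hzU) fun v hv =>
        (mem_prime_iff f hU z hzU v).1 (by rw [hqz]; exact hq v ((hker v).2 hv))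
      rw [← hqz]
      refine (PrimeSpectrum.le_iff_specializes (hU.primeIdealOf ⟨ξ, hξU⟩) (hU.primeIdealOf ⟨z, hzU⟩)).2
        (hU.fromSpec.isOpenEmbedding.isInducing.specializes_iff.1 ?_)
      rw [hU.fromSpec_primeIdealOf, hU.fromSpec_primeIdealOf]
      show ξ ⤳ z
      rw [← hc']
      exact hξ c'
    have hmp : ∀ v ∈ IsLocalRing.maximalIdeal V, algebraMap V A v ∈ p := fun v hv =>
      (mem_prime_iff f hU ξ hξU v).2 (hfξ ηC v ((hker v).1 hv))
    have hpx : p ≤ x := hmem (hU.primeIdealOf ⟨ψ c, hxU⟩) fun v hv =>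
      (mem_prime_iff f hU (ψ c) hxU v).2 (hfξ c v ((hker v).1 hv))
    have hinjV : Function.Injective (algebraMap V A) := fun a b h => IsFractionRing.injective V L
      ((algebraMap L F).injective ((hkV U hgU a).trans ((congrArg _ h).trans (hkV U hgU b).symm)))
    have hrad : ∀ a ∈ p, ∃ N : ℕ, a ^ N ∈ (IsLocalRing.maximalIdeal V).map (algebraMap V A) := by
      intro a ha
      rw [← Ideal.mem_radical_iff, Ideal.radical_eq_sInf, Submodule.mem_sInf]
      intro q ⟨hq, hqp⟩
      exact hmem ⟨q, hqp⟩ (fun v hv => hq (Ideal.mem_map_of_mem _ hv)) ha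
    obtain ⟨hreg, hscale⟩ := AffCore.exists_data (F := F) p hinjV hmp hrad x hpx
    intro b hb
    refine ⟨fun ⟨s₀, hs₀⟩ hbW => ?_, ?_⟩
    · -- clear the denominators
      have hden : ∃ γ : V, γ ≠ 0 ∧ ∃ a₀, algebraMap A F (algebraMap V A γ) * b = algebraMap A F a₀ := by
        by_contra hno
        push Not at hno
        let D : Ideal A :=
          { carrier := {a | ∃ a₀, algebraMap A F a * b = algebraMap A F a₀}
            zero_mem' := ⟨0, by rw [map_zero, zero_mul]⟩
            add_mem' := by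
              rintro r s ⟨r₀, hr⟩ ⟨s₀, hs⟩
              exact ⟨r₀ + s₀, by rw [map_add, map_add, add_mul, hr, hs]⟩
            smul_mem' := by
              rintro r s ⟨s₀, hs⟩
              exact ⟨r * s₀, by rw [smul_eq_mul, map_mul, map_mul, mul_assoc, hs]⟩ }
        have hdis : Disjoint (D : Set A) (((nonZeroDivisors V).map (algebraMap V A).toMonoidHom : Submonoid A) : Set A) := by
          rw [Set.disjoint_left]
          rintro _ ⟨a₀, ha₀⟩ ⟨γ, hγ, rfl⟩
          exact hno γ (nonZeroDivisors.ne_zero hγ) a₀ ha₀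
        obtain ⟨q, hq, hDq, hqd⟩ := Ideal.exists_le_prime_disjoint D _ hdis
        let z := hU.fromSpec ⟨q, hq⟩
        have hzU : z ∈ U := by rw [← SetLike.mem_coe, ← hU.range_fromSpec]; exact ⟨_, rfl⟩
        have hqz : hU.primeIdealOf ⟨z, hzU⟩ = ⟨q, hq⟩ :=
          hU.fromSpec.isOpenEmbedding.injective (hU.fromSpec_primeIdealOf ⟨z, hzU⟩)
        obtain ⟨y, hy⟩ := hgf z (eq_bot_iff.2 fun v hv => by
          by_contra hv0
          have h1 := (mem_prime_iff f hU z hzU v).2 hv
          rw [hqz] at h1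
          exact Set.disjoint_left.1 hqd h1 ⟨v, mem_nonZeroDivisors_of_ne_zero hv0, rfl⟩)
        have hyU : φ y ∈ U := hy ▸ hzU
        obtain ⟨st, hst⟩ := φ.stalkMap_surjective y (H.presheaf.germ ⊤ y trivial s₀)
        have hstb : algebraMap (Z.presheaf.stalk (φ y)) F st = b := by
          apply hjbij.1
          rw [hs₀, hjρ]
          show φ.stalkMap _ (Z.presheaf.stalkSpecializes _ (Z.presheaf.stalkSpecializes _ st)) = _
          rw [TopCat.Presheaf.stalkSpecializes_comp_apply, Scheme.Hom.stalkSpecializes_stalkMap_apply φ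
            (genericPoint H) y (genericPoint_specializes y), hst, TopCat.Presheaf.germ_stalkSpecializes_apply]
          rfl
        letI := TopCat.Presheaf.algebra_section_stalk Z.presheaf (⟨φ y, hyU⟩ : U)
        haveI := functionField_isScalarTower Z U ⟨φ y, hyU⟩
        haveI := hU.isLocalization_stalk ⟨φ y, hyU⟩
        obtain ⟨⟨a, d⟩, had⟩ := IsLocalization.surj (hU.primeIdealOf ⟨φ y, hyU⟩).asIdeal.primeCompl st
        have hdD : (d : A) ∈ D := ⟨a, by
          have h2 := congrArg (algebraMap (Z.presheaf.stalk (φ y)) F) had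
          rw [map_mul, hstb, ← IsScalarTower.algebraMap_apply, ← IsScalarTower.algebraMap_apply] at h2
          rw [mul_comm]; exact h2⟩
        refine d.2 ?_
        have h3 : hU.primeIdealOf ⟨φ y, hyU⟩ = ⟨q, hq⟩ := by
          rw [← hqz]
          exact congrArg _ (Subtype.ext hy)
        exact (SetLike.ext_iff.1 (congrArg PrimeSpectrum.asIdeal h3) _).2 (hDq hdD)
      obtain ⟨γ, hγ, ha₀⟩ := hden
      exact hreg b γ hγ ha₀ fun W hW => hbW W ((inT_iff hU ξ hξU W).1 hW)
    · obtain ⟨l, hl, hall, W, hW, hWu⟩ := hscale (L := L) (fun v => hkV U hgU v) b hb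
      exact ⟨l, hl, fun W hW => hall W ((inT_iff hU ξ hξU W).2 hW), W, (inT_iff hU ξ hξU W).1 hW, hWu⟩
  -- residues
  have hsurj := ψ.stalkMap_surjective ηC
  let gC := (C.presheaf.germ ⊤ ηC trivial).hom
  have hres : ∀ W : ValuationSubring F, CentredAt ξ W → ∃ e : C.functionField →+* IsLocalRing.ResidueField W,
      ∀ (u : O) (hu : algebraMap O F u ∈ W),
        e (ψ.stalkMap ηC u) = IsLocalRing.residue W ⟨algebraMap O F u, hu⟩ := by
    intro W hW
    let θ : O →+* W := (algebraMap O F).codRestrict W.toSubring fun u => (hW u).1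
    let r : O →+* IsLocalRing.ResidueField W := (IsLocalRing.residue W).comp θ
    have hk : RingHom.ker (ψ.stalkMap ηC).hom ≤ RingHom.ker r := fun u hu => by
      have hu' : u ∈ IsLocalRing.maximalIdeal O := by
        rw [IsLocalRing.mem_maximalIdeal]
        intro hun
        exact (hun.map (ψ.stalkMap ηC).hom).ne_zero hu
      rw [RingHom.mem_ker]
      exact (IsLocalRing.residue_eq_zero_iff _).2
        ((ValuationSubring.coe_mem_nonunits_iff (A := W) (a := θ u)).1 ((hW u).2.2 hu'))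
    refine ⟨(ψ.stalkMap ηC).hom.liftOfSurjective hsurj ⟨r, hk⟩, fun u hu => ?_⟩
    exact RingHom.liftOfRightInverse_comp_apply _ _ _ ⟨r, hk⟩ u
  have hint : ∀ (W : ValuationSubring F) (hW : CentredAt ξ W) (e : C.functionField →+* IsLocalRing.ResidueField W),
      (∀ (u : O) (hu : algebraMap O F u ∈ W), e (ψ.stalkMap ηC u) = IsLocalRing.residue W ⟨algebraMap O F u, hu⟩) →
      ∀ b : F, (∃ s₀, b = ρ s₀) → (∀ W, CentredAt ξ W → b ∈ W) → ∀ hbW : b ∈ W,
        (e.comp gC).IsIntegralElem (IsLocalRing.residue W ⟨b, hbW⟩) := by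
    intro W hW e he b hbρ hall hbW
    rcases eq_or_ne b 0 with rfl | hb
    · refine ⟨Polynomial.X, Polynomial.monic_X, ?_⟩
      rw [Polynomial.eval₂_X]
      exact map_zero _
    refine isIntegralElem_top hN e _ fun c => ?_
    obtain ⟨U, hU, hxU, hξU, hne, hdata⟩ := chart c
    obtain ⟨s, hsx, Q, hQm, hQ⟩ := (hdata b hb).1 hbρ hall
    let A := Γ(Z, U)
    have hgU : genericPoint Z ∈ U := (genericPoint_specializes ξ).mem_open U.2 hξU
    let θA : A →+* W := (algebraMap A F).codRestrict W.toSubring fun a => ((inT_iff hU ξ hξU W).2 hW a).1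
    let sC : A →+* C.presheaf.stalk c := (Z.presheaf.germ U (ψ c) hxU ≫ ψ.stalkMap c).hom
    let eC : C.presheaf.stalk c →+* IsLocalRing.ResidueField W := e.comp (algebraMap (C.presheaf.stalk c) C.functionField)
    have key : ∀ a, eC (sC a) = IsLocalRing.residue W (θA a) := by
      intro a
      have h1 : algebraMap (C.presheaf.stalk c) C.functionField (sC a) = ψ.stalkMap ηC (Z.presheaf.germ U ξ hξU a) := by
        show C.presheaf.stalkSpecializes _ (ψ.stalkMap c (Z.presheaf.germ U (ψ c) hxU a)) = _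
        rw [← Scheme.Hom.stalkSpecializes_stalkMap_apply ψ ηC c (genericPoint_specializes c),
          TopCat.Presheaf.germ_stalkSpecializes_apply]
      have h2 : algebraMap O F (Z.presheaf.germ U ξ hξU a) = algebraMap A F a := Curves2.algebraMap_germ ξ hξU a
      show e (algebraMap _ _ (sC a)) = _
      rw [h1, he _ (by rw [h2]; exact (θA a).2)]
      exact congrArg _ (Subtype.ext h2)
    have hunit : IsUnit (sC s) := by
      refine IsUnit.map (ψ.stalkMap c).hom ?_
      letI := TopCat.Presheaf.algebra_section_stalk Z.presheaf (⟨ψ c, hxU⟩ : U)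
      haveI := hU.isLocalization_stalk ⟨ψ c, hxU⟩
      exact IsLocalization.map_units (Z.presheaf.stalk (ψ c)) (⟨s, hsx⟩ : (hU.primeIdealOf ⟨ψ c, hxU⟩).asIdeal.primeCompl)
    let w : W := θA s * ⟨b, hbW⟩
    have hw : Polynomial.eval₂ θA w Q = 0 := by
      apply Subtype.val_injective
      have := Polynomial.hom_eval₂ Q θA W.subtype w
      exact this.trans hQ
    have hwC : eC.IsIntegralElem (IsLocalRing.residue W w) := by
      refine ⟨Q.map sC, hQm.map _, ?_⟩
      rw [Polynomial.eval₂_map, show eC.comp sC = (IsLocalRing.residue W).comp θA from RingHom.ext key,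
        ← Polynomial.hom_eval₂, hw, map_zero]
    obtain ⟨t, ht⟩ := hunit
    have hb' : IsLocalRing.residue W ⟨b, hbW⟩ = eC (↑t⁻¹ : C.presheaf.stalk c) * IsLocalRing.residue W w := by
      rw [map_mul, ← key, ← mul_assoc, ← map_mul, ← ht, Units.inv_mul, map_one, one_mul]
    rw [hb']
    exact eC.isIntegralElem_map.mul eC hwC
  -- every element of a chart has algebraic residue
  let R₀ := Γ(C, ⊤)
  haveI : Nonempty (⊤ : C.Opens) := ⟨⟨ηC, trivial⟩⟩
  letI : Algebra R₀ C.functionField := gC.toAlgebra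
  obtain ⟨U, hU, hxU, hξU, hne, hdata⟩ := chart ηC
  let A := Γ(Z, U)
  let π : A →+* C.functionField := (Z.presheaf.germ U ξ hξU ≫ ψ.stalkMap ηC).hom
  have halgA : ∀ a : A, IsAlgebraic R₀ (π a) := by
    intro a
    rcases eq_or_ne (π a) 0 with h0 | h0
    · rw [h0]; exact isAlgebraic_zero
    haveI := functionField_isFractionRing_of_isAffineOpen H ⊤ (isAffineOpen_top H)
    obtain ⟨s, t, ht, hst⟩ := IsFractionRing.div_surjective (A := Γ(H, ⊤)) (jm (algebraMap A F a))
    have hρt : ρ t ≠ 0 := fun h => nonZeroDivisors.ne_zero ht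
      (IsFractionRing.injective Γ(H, ⊤) H.functionField (by rw [← hjρ, h, map_zero, map_zero]))
    have hst' : algebraMap A F a * ρ t = ρ s := by
      apply hjbij.1
      rw [map_mul, hjρ, hjρ, ← hst, div_mul_cancel₀]
      rw [← hjρ]
      exact fun h => hρt (hjbij.1 (h.trans (map_zero _).symm))
    obtain ⟨l, hl, hall, W, hW, hWu⟩ := (hdata _ hρt).2
    obtain ⟨e, he⟩ := hres W hW
    have hmemA : ∀ W', CentredAt ξ W' → algebraMap A F a ∈ W' := fun W' hW' => ((inT_iff hU ξ hξU W').2 hW' a).1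
    have hdiv : ∀ s₁, ∃ s₀, ρ s₁ / algebraMap L F l = ρ s₀ := fun s₁ => ⟨s₁ * kL l⁻¹, by
      rw [div_eq_mul_inv, map_mul, ← map_inv₀]; rfl⟩
    have hball : ∀ W', CentredAt ξ W' → ρ s / algebraMap L F l ∈ W' := fun W' hW' => by
      rw [← hst', mul_div_assoc]
      exact mul_mem (hmemA W' hW') (hall W' hW')
    letI : Algebra R₀ (IsLocalRing.ResidueField W) := (e.comp gC).toAlgebra
    have ht' : IsAlgebraic R₀ (IsLocalRing.residue W ⟨_, hall W hW⟩) :=
      IsIntegral.isAlgebraic (hint W hW e he _ (hdiv t) hall (hall W hW))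
    have hs' : IsAlgebraic R₀ (IsLocalRing.residue W ⟨_, hball W hW⟩) :=
      IsIntegral.isAlgebraic (hint W hW e he _ (hdiv s) hball (hball W hW))
    have hne0 : IsLocalRing.residue W ⟨_, hall W hW⟩ ≠ 0 := fun h =>
      hWu ((ValuationSubring.coe_mem_nonunits_iff (A := W)).2 ((IsLocalRing.residue_eq_zero_iff _).1 h))
    have h2 : algebraMap O F (Z.presheaf.germ U ξ hξU a) = algebraMap A F a := Curves2.algebraMap_germ ξ hξU a
    have heq : e (π a) = IsLocalRing.residue W ⟨_, hball W hW⟩ * (IsLocalRing.residue W ⟨_, hall W hW⟩)⁻¹ := by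
      rw [eq_mul_inv_iff_mul_eq₀ hne0, show e (π a) = _ from he (Z.presheaf.germ U ξ hξU a) (h2.symm ▸ hmemA W hW), ← map_mul]
      refine congrArg _ (Subtype.ext ?_)
      show algebraMap O F _ * (ρ t / _) = ρ s / _
      erw [h2]
      rw [← mul_div_assoc, hst']
    let eA : C.functionField →ₐ[R₀] IsLocalRing.ResidueField W := { e with commutes' := fun _ => rfl }
    refine (isAlgebraic_algHom_iff eA e.injective).1 ?_
    show IsAlgebraic R₀ (e (π a))
    rw [heq]
    exact hs'.mul ht'.inv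
  -- fractions
  obtain ⟨u, rfl⟩ := hsurj z
  letI := TopCat.Presheaf.algebra_section_stalk Z.presheaf (⟨ξ, hξU⟩ : U)
  haveI := hU.isLocalization_stalk ⟨ξ, hξU⟩
  obtain ⟨⟨a, d⟩, had⟩ := IsLocalization.surj (hU.primeIdealOf ⟨ξ, hξU⟩).asIdeal.primeCompl u
  have hd : π (d : A) ≠ 0 :=
    (((IsLocalization.map_units (Z.presheaf.stalk ξ) d)).map (ψ.stalkMap ηC).hom).ne_zero
  have hu : ψ.stalkMap ηC u = π a * (π (d : A))⁻¹ := by
    rw [eq_mul_inv_iff_mul_eq₀ hd]
    exact (map_mul (ψ.stalkMap ηC).hom _ _).symm.trans (congrArg _ had)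
  obtain ⟨Q, hQ0, hQ⟩ := hu ▸ (halgA a).mul (halgA d).inv
  refine ⟨Q, fun h0 => hQ0 (Polynomial.map_injective _ ?_ (h0.trans (Polynomial.map_zero _).symm)), hQ⟩
  exact germ_injective_of_isIntegral C (U := ⊤) ηC trivial

end Abstract

end

end Groth.Agent.AlgGrp33.AffGeom
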