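import Groth.Agent.AlgGrp33.AffCore

/-!
Scaling a rational function at the valuations centred at the generic point of the special fibre.
-/

set_option autoImplicit false
set_option linter.style.haveILetI false
set_option linter.unusedSectionVars false
universe u

open MvPolynomial

namespace Groth.Agent.AlgGrp33.AffCore

noncomputable section

variable {V : Type u} [CommRing V] [IsDomain V] [ValuationRing V]

/-- Among finitely many scalars one dominates the others. -/
theorem exists_dominant {L : Type u} [Field L] [Algebra V L] [IsFractionRing V L] :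
    ∀ S : Finset L, S.Nonempty → (∀ l ∈ S, l ≠ 0) → ∃ l₀ ∈ S, ∀ l ∈ S, ∃ c : V, algebraMap V L c = l / l₀ := by
  intro S
  induction S using Finset.cons_induction with
  | empty => intro h; exact absurd h (by simp)
  | cons a s ha ih =>
    intro _ h0
    have ha0 : a ≠ 0 := h0 a (Finset.mem_cons_self a s)
    rcases s.eq_empty_or_nonempty with rfl | hne
    · refine ⟨a, Finset.mem_cons_self _ _, fun l hl => ⟨1, ?_⟩⟩
      rw [Finset.mem_cons] at hl
      rcases hl with rfl | hl
      · rw [map_one, div_self ha0]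
      · simp at hl
    obtain ⟨l₀, hl₀, hdom⟩ := ih hne fun l hl => h0 l (Finset.mem_cons_of_mem hl)
    rcases ValuationRing.isInteger_or_isInteger V (a / l₀) with ⟨c, hc⟩ | ⟨c, hc⟩
    · refine ⟨l₀, Finset.mem_cons_of_mem hl₀, fun l hl => ?_⟩
      rcases Finset.mem_cons.1 hl with rfl | hl
      · exact ⟨c, hc⟩
      · exact hdom l hl
    · refine ⟨a, Finset.mem_cons_self _ _, fun l hl => ?_⟩
      rcases Finset.mem_cons.1 hl with rfl | hl
      · exact ⟨1, by rw [map_one, div_self ha0]⟩
      · obtain ⟨e, he⟩ := hdom l hl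
        refine ⟨e * c, ?_⟩
        rw [map_mul, he, hc, inv_div]
        field_simp [h0 l₀ (Finset.mem_cons_of_mem hl₀), ha0]

variable {n : ℕ} {A : Type u} [CommRing A] [IsDomain A] [Algebra V A]
  [Algebra (MvPolynomial (Fin n) V) A] [IsScalarTower V (MvPolynomial (Fin n) V) A]
  {F : Type u} [Field F] [Algebra A F] [IsFractionRing A F]
  [Algebra (MvPolynomial (Fin n) V) F] [IsScalarTower (MvPolynomial (Fin n) V) A F]
  {L : Type u} [Field L] [IsAlgClosed L] [Algebra V L] [IsFractionRing V L] [Algebra L F]

/-- A valuation ring centred at the prime. -/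
theorem exists_inT (p : Ideal A) [p.IsPrime] : ∃ W : ValuationSubring F, InT p W := by
  let f : Localization.AtPrime p →+* F := IsLocalization.lift (M := p.primeCompl) (g := algebraMap A F) fun s =>
    Ne.isUnit fun h => s.2 (by
      rw [show (s : A) = 0 from IsFractionRing.injective A F (h.trans (map_zero _).symm)]
      exact p.zero_mem)
  obtain ⟨W, hW, hloc⟩ := (LocalSubring.range f).exists_le_valuationSubring
  have hmem : ∀ a : A, algebraMap A F a ∈ f.range := fun a =>
    ⟨algebraMap A _ a, IsLocalization.lift_eq _ a⟩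
  refine ⟨W, fun a => ⟨hW (hmem a), ?_⟩⟩
  haveI : IsLocalHom f.rangeRestrict := .of_surjective _ f.rangeRestrict_surjective
  haveI := hloc
  let r : (LocalSubring.range f).toSubring := f.rangeRestrict (algebraMap A _ a)
  rw [show algebraMap A F a = ((Subring.inclusion hW r : W.toLocalSubring.toSubring) : F) from
    (IsLocalization.lift_eq _ a).symm]
  refine (ValuationSubring.coe_mem_nonunits_iff (A := W) (a := Subring.inclusion hW r)).trans ?_
  refine ((not_congr (isUnit_map_iff (Subring.inclusion hW) r)).trans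
    (not_congr (isUnit_map_iff f.rangeRestrict (algebraMap A (Localization.AtPrime p) a)))).trans ?_
  rw [IsLocalization.AtPrime.isUnit_to_map_iff (Localization.AtPrime p) p a]
  exact not_not

/-- Every element of the fraction field has a scalar multiple integral at all valuations centred at the prime and a
unit at one of them. -/
theorem exists_scale (p : Ideal A) [p.IsPrime] (hind : Indep (n := n) (V := V) p)
    (hmp : ∀ c ∈ IsLocalRing.maximalIdeal V, algebraMap V A c ∈ p)
    (hLF : ∀ c : V, algebraMap L F (algebraMap V L c) = algebraMap A F (algebraMap V A c))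
    (b : F) (hb : b ≠ 0) (halg : IsAlgebraic (MvPolynomial (Fin n) V) b) :
    ∃ l : L, l ≠ 0 ∧ (∀ W : ValuationSubring F, InT p W → b / algebraMap L F l ∈ W) ∧
      ∃ W : ValuationSubring F, InT p W ∧ b / algebraMap L F l ∉ W.nonunits := by
  classical
  let P := MvPolynomial (Fin n) V
  obtain ⟨f, hf0, hfb⟩ := halg
  -- contents of the coefficients
  have hcont : ∀ i : ℕ, ∃ c : V, (f.coeff i ≠ 0 → c ≠ 0) ∧ ∀ W : ValuationSubring F, InT p W →
      W.valuation (algebraMap P F (f.coeff i)) = W.valuation (algebraMap L F (algebraMap V L c)) := by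
    intro i
    rcases eq_or_ne (f.coeff i) 0 with h | h
    · exact ⟨0, fun h' => absurd h h', fun W _ => by simp [h]⟩
    obtain ⟨c, f', hff', hc, d, hd⟩ := exists_primitive' _ h
    refine ⟨c, fun _ => hc, fun W hW => ?_⟩
    rw [hff', map_mul, map_mul, IsScalarTower.algebraMap_apply P A F f', IsScalarTower.algebraMap_apply P A F (C c),
      ← algebraMap_eq, ← IsScalarTower.algebraMap_apply V P A, hLF]
    obtain ⟨hmem, hiff⟩ := hW (algebraMap P A f')
    have h1 : W.valuation (algebraMap A F (algebraMap P A f')) = 1 :=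
      le_antisymm ((W.valuation_le_one_iff _).2 hmem) (not_lt.1 fun hlt =>
        notMem_of_coeff_one hind ⟨d, hd ▸ isUnit_one⟩ (hiff.1 hlt))
    rw [h1, mul_one]
  choose c hc hcv using hcont
  -- candidate scalars
  have hroot : ∀ q : ℕ × ℕ, ∃ l : L, q.1 < q.2 → l ^ (q.2 - q.1) = algebraMap V L (c q.1) / algebraMap V L (c q.2) := by
    intro q
    by_cases hq : q.1 < q.2
    · obtain ⟨l, hl⟩ := IsAlgClosed.exists_pow_nat_eq (algebraMap V L (c q.1) / algebraMap V L (c q.2)) (Nat.sub_pos_of_lt hq)
      exact ⟨l, fun _ => hl⟩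
    · exact ⟨0, fun h => absurd h hq⟩
  choose root hroot using hroot
  have hdata : ∀ W : ValuationSubring F, InT p W →
      ∃ q ∈ f.support ×ˢ f.support, q.1 < q.2 ∧ W.valuation (b / algebraMap L F (root q)) = 1 := by
    intro W hW
    let v := W.valuation
    let T : ℕ → F := fun i => algebraMap P F (f.coeff i) * b ^ i
    have hsum : ∑ i ∈ f.support, T i = 0 := by
      rw [← hfb, Polynomial.aeval_def, Polynomial.eval₂_eq_sum, Polynomial.sum_def]
    have hinjF : Function.Injective (algebraMap P F) := by
      rw [injective_iff_map_eq_zero]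
      intro g hg
      by_contra hne
      obtain ⟨e, g', rfl, he, d, hd⟩ := exists_primitive' g hne
      rw [map_mul, mul_eq_zero, IsScalarTower.algebraMap_apply P A F g', IsScalarTower.algebraMap_apply P A F (C e),
        ← algebraMap_eq, ← IsScalarTower.algebraMap_apply V P A, ← hLF] at hg
      rcases hg with hg | hg
      · exact he (IsFractionRing.injective V L ((map_eq_zero_iff _ (algebraMap L F).injective).1 hg |>.trans (map_zero _).symm))
      · have hg' : algebraMap P A g' = 0 := IsFractionRing.injective A F (hg.trans (map_zero _).symm)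
        exact notMem_of_coeff_one hind ⟨d, hd ▸ isUnit_one⟩ (hg' ▸ p.zero_mem)
    have hT0 : ∀ i ∈ f.support, T i ≠ 0 := fun i hi =>
      mul_ne_zero (fun h => Polynomial.mem_support_iff.1 hi (hinjF (h.trans (map_zero _).symm))) (pow_ne_zero _ hb)
    obtain ⟨j, hj, hmax⟩ := f.support.exists_max_image (fun i => v (T i)) (Polynomial.nonempty_support_iff.2 hf0)
    have htie : ∃ i ∈ f.support, i ≠ j ∧ v (T i) = v (T j) := by
      by_contra h
      push Not at h
      have h2 := Valuation.map_sum_eq_of_lt v hj (f := T) fun i hi => by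
        have hij : i ≠ j := by simpa using (Finset.mem_sdiff.1 hi).2
        exact lt_of_le_of_ne (hmax i (Finset.mem_sdiff.1 hi).1) (h i (Finset.mem_sdiff.1 hi).1 hij)
      rw [hsum, map_zero] at h2
      exact (Valuation.ne_zero_iff v).2 (hT0 j hj) h2.symm
    obtain ⟨i, hi, hij, hval⟩ := htie
    have key : ∀ i j : ℕ, i ∈ f.support → j ∈ f.support → i < j → v (T i) = v (T j) →
        v (b / algebraMap L F (root (i, j))) = 1 := by
      intro i j hi hj hlt hval
      have hci : c i ≠ 0 := hc i (Polynomial.mem_support_iff.1 hi)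
      have hcj : c j ≠ 0 := hc j (Polynomial.mem_support_iff.1 hj)
      simp only [T, map_mul, map_pow, v, hcv i W hW, hcv j W hW] at hval
      have hb0 : W.valuation b ≠ 0 := (Valuation.ne_zero_iff _).2 hb
      have hcj0 : W.valuation (algebraMap L F (algebraMap V L (c j))) ≠ 0 := (Valuation.ne_zero_iff _).2
        ((map_ne_zero _).2 fun h => hcj (IsFractionRing.injective V L (h.trans (map_zero _).symm)))
      have h3 : W.valuation b ^ (j - i) = W.valuation (algebraMap L F (root (i, j))) ^ (j - i) := by
        have h6 : root (i, j) ^ (j - i) = algebraMap V L (c i) / algebraMap V L (c j) := hroot (i, j) hlt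
        rw [← map_pow W.valuation (algebraMap L F (root (i, j))), ← map_pow (algebraMap L F), h6, map_div₀, map_div₀]
        rw [eq_div_iff hcj0]
        have h5 : W.valuation b ^ j = W.valuation b ^ (j - i) * W.valuation b ^ i := by
          rw [← pow_add, Nat.sub_add_cancel hlt.le]
        rw [h5, ← mul_assoc] at hval
        rw [mul_comm]
        exact (mul_right_cancel₀ (pow_ne_zero _ hb0) hval).symm
      have hr0 : W.valuation (algebraMap L F (root (i, j))) ≠ 0 := fun h => by
        rw [h, zero_pow (Nat.sub_pos_of_lt hlt).ne'] at h3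
        exact pow_ne_zero _ hb0 h3
      show W.valuation _ = 1
      rw [map_div₀, (pow_left_inj₀ zero_le zero_le (Nat.sub_pos_of_lt hlt).ne').1 h3, div_self hr0]
    rcases lt_or_gt_of_ne hij with hlt | hlt
    · exact ⟨(i, j), Finset.mk_mem_product hi hj, hlt, key i j hi hj hlt hval⟩
    · exact ⟨(j, i), Finset.mk_mem_product hj hi, hlt, key j i hj hi hlt hval.symm⟩
  let S : Finset L := ((f.support ×ˢ f.support).filter fun q => q.1 < q.2 ∧
    ∃ W : ValuationSubring F, InT p W ∧ W.valuation (b / algebraMap L F (root q)) = 1).image root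
  obtain ⟨W₀, hW₀⟩ := exists_inT (F := F) p
  have hS : ∀ l ∈ S, l ≠ 0 ∧ ∃ W : ValuationSubring F, InT p W ∧ W.valuation (b / algebraMap L F l) = 1 := fun l hl => by
    obtain ⟨q, hq, rfl⟩ := Finset.mem_image.1 hl
    obtain ⟨W, hW, hv⟩ := (Finset.mem_filter.1 hq).2.2
    refine ⟨fun h => ?_, W, hW, hv⟩
    rw [h, map_zero, div_zero, map_zero] at hv
    exact zero_ne_one hv
  have hSne : S.Nonempty := by
    obtain ⟨q, hq, hlt, hv⟩ := hdata W₀ hW₀
    exact ⟨root q, Finset.mem_image.2 ⟨q, Finset.mem_filter.2 ⟨hq, hlt, W₀, hW₀, hv⟩, rfl⟩⟩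
  obtain ⟨l₀, hl₀, hdom⟩ := exists_dominant (V := V) S hSne fun l hl => (hS l hl).1
  obtain ⟨hl₀0, W₁, hW₁, hv₁⟩ := hS l₀ hl₀
  refine ⟨l₀, hl₀0, fun W hW => ?_, W₁, hW₁, fun h => (ne_of_lt h) hv₁⟩
  obtain ⟨q, hq, hlt, hv⟩ := hdata W hW
  have hqS : root q ∈ S := Finset.mem_image.2 ⟨q, Finset.mem_filter.2 ⟨hq, hlt, W, hW, hv⟩, rfl⟩
  obtain ⟨e, he⟩ := hdom _ hqS
  have hr0 : algebraMap L F (root q) ≠ 0 := (map_ne_zero _).2 (hS _ hqS).1
  have : b / algebraMap L F l₀ = (b / algebraMap L F (root q)) * algebraMap A F (algebraMap V A e) := by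
    rw [← hLF, he, map_div₀]
    field_simp
  rw [this]
  exact mul_mem ((W.valuation_le_one_iff _).1 hv.le) (hW _).1

end

end Groth.Agent.AlgGrp33.AffCore
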