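import Groth.Agent.AlgGrp33.AffineProper
import Groth.Agent.SGA3a.Affinization
import Groth.Agent.SGA3a.AntiAffineSmooth
import Groth.Agent.AlgGrp79.AntiAffine
import Groth.Agent.Desc59.SourceLft
import Groth.Agent.S3030
import Groth.Agent.S3293
import Groth.Agent.S7996

/-!
The largest anti-affine subgroup as the kernel of the affinization, and its complementarity to affine subgroups with
proper quotient.
-/

set_option autoImplicit false
universe u

open CategoryTheory MonoidalCategory CartesianMonoidalCategory MonObj GrpObj AlgebraicGeometry CategoryTheory.Limits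
open Groth.Agent.AlgGrp79

namespace Groth.Agent.AlgGrp33.Affinize

variable {k : Type u} [Field k]

/-- the affinization with its anti-affine kernel -/
theorem exists_kernel (G : Over (Spec (CommRingCat.of k))) [GrpObj G] [LocallyOfFiniteType G.hom] [QuasiCompact G.hom] :
    ∃ (Q : Over (Spec (CommRingCat.of k))) (_ : GrpObj Q) (q : G ⟶ Q) (K : Over (Spec (CommRingCat.of k))) (_ : GrpObj K)
      (i : K ⟶ G), IsMonHom q ∧ IsAffine Q.left ∧ LocallyOfFiniteType Q.hom ∧ IsCov q ∧ IsMonHom i ∧
      IsClosedImmersion i.left ∧ AlgGrp.IsKernel i q ∧ AlgGrp.IsNormalHom i ∧ LocallyOfFiniteType K.hom ∧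
      QuasiCompact K.hom ∧ AntiAff K := by
  have := isSeparated_grp G
  obtain ⟨Q, hQ, q, hq, hA, hQft, hflat, hsurj, hlfp, hiso⟩ := SGA3a.Affinization.exists_affinization k G
  obtain ⟨K, hK, i, him, hci, hker, hn⟩ := AlgGrp33.AffineProper.exists_kernel q
  have hlft : LocallyOfFiniteType K.hom := by rw [← Over.w i]; infer_instance
  have hqc : QuasiCompact K.hom := by rw [← Over.w i]; infer_instance
  exact ⟨Q, hQ, q, K, hK, i, hq, hA, hQft, ⟨hflat, hsurj, hlfp⟩, him, hci, hker, hn, hlft, hqc,
    SGA3a.Affinization.antiAff_kernel q i hker⟩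

/-- a homomorphism from an anti-affine group to an affine one is trivial -/
theorem eq_one {M Q : Over (Spec (CommRingCat.of k))} [GrpObj M] [GrpObj Q] [IsAffine Q.left] (hM : AntiAff M)
    (f : M ⟶ Q) [IsMonHom f] : f = 1 := by
  rw [eq_const_of_isAffine hM η[M] f, IsMonHom.one_hom, one_def']

/-- the largest anti-affine subgroup is the kernel of the affinization -/
theorem isKernel_of_max {G Q K M : Over (Spec (CommRingCat.of k))} [GrpObj G] [GrpObj Q] [GrpObj K] [GrpObj M]
    [IsAffine Q.left] (q : G ⟶ Q) [IsMonHom q] (i : K ⟶ G) (hker : AlgGrp.IsKernel i q)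
    (j : M ⟶ G) [IsMonHom j] [IsClosedImmersion j.left] (hM : AntiAff M) (g : K ⟶ M) (hg : g ≫ j = i) :
    AlgGrp.IsKernel j q := by
  have := Over.mono_of_mono_left j
  refine isKernel_of_pts j q (eq_one hM (j ≫ q)) fun T x hx => ?_
  obtain ⟨n, hn⟩ := exists_ker_of_comp_one hker x hx
  exact ⟨n ≫ g, by rw [Category.assoc, hg, hn]⟩

/-- complement to a kernel: anything surjecting onto the quotient -/
theorem surjective_mul {S : Scheme.{u}} {N G A M : Over S} [GrpObj G] [GrpObj A] (i : N ⟶ G) (q : G ⟶ A) [IsMonHom q]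
    (hK : AlgGrp.IsKernel i q) (j : M ⟶ G) [Surjective (j ≫ q).left] :
    Surjective ((j ⊗ₘ i) ≫ μ[G]).left := by
  let p₁ := pullback.fst (j ≫ q) q
  let p₂ := pullback.snd (j ≫ q) q
  have hs : Surjective p₂.left :=
    MorphismProperty.of_isPullback (isPullback_left (IsPullback.of_hasPullback (j ≫ q) q)) ‹Surjective (j ≫ q).left›
  obtain ⟨n, hn⟩ := exists_ker_of_comp_one hK ((p₁ ≫ j)⁻¹ * p₂) (by
    rw [mul_comp', GrpObj.inv_comp, Category.assoc, pullback.condition, inv_mul_cancel])
  have e : lift p₁ n ≫ (j ⊗ₘ i) ≫ μ[G] = p₂ := by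
    rw [lift_map_assoc, ← Hom.mul_def, hn, mul_inv_cancel_left]
  have : Surjective ((lift p₁ n).left ≫ ((j ⊗ₘ i) ≫ μ[G]).left) := by rwa [← Over.comp_left, e]
  exact Surjective.of_comp (lift p₁ n).left _

/-- the closed image of a homomorphism, normal when a covering conjugates the source into itself -/
theorem exists_normal_image {N Q X : Over (Spec (CommRingCat.of k))} [GrpObj N] [GrpObj Q]
    [LocallyOfFiniteType N.hom] [QuasiCompact N.hom] [LocallyOfFiniteType Q.hom]
    (f : N ⟶ Q) [IsMonHom f] (c : X ⟶ Q) (hc : IsCov c)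
    (hconj : ∃ n : X ⊗ N ⟶ N, n ≫ f = (fst X N ≫ c) * (snd X N ≫ f) * (fst X N ≫ c)⁻¹) :
    ∃ (B : Over (Spec (CommRingCat.of k))) (_ : GrpObj B) (b : B ⟶ Q) (g : N ⟶ B), IsMonHom b ∧
      IsClosedImmersion b.left ∧ g ≫ b = f ∧ Surjective g.left ∧ AlgGrp.IsNormalHom b := by
  have := isSeparated_grp Q
  have : QuasiCompact (f.left ≫ Q.hom) := by rw [Over.w]; infer_instance
  have : QuasiCompact f.left := QuasiCompact.of_comp f.left Q.hom
  let B : Over (Spec (CommRingCat.of k)) := Over.mk (f.left.imageι ≫ Q.hom)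
  let b : B ⟶ Q := Over.homMk f.left.imageι rfl
  let g : N ⟶ B := Over.homMk f.left.toImage (by
    show f.left.toImage ≫ f.left.imageι ≫ Q.hom = N.hom
    rw [Scheme.Hom.toImage_imageι_assoc, Over.w])
  have hgb : g ≫ b = f := by ext : 1; exact f.left.toImage_imageι
  have : IsSchemeTheoreticallyDominant g.left := schDominant_toImage f.left
  have : QuasiCompact g.left := inferInstanceAs (QuasiCompact f.left.toImage)
  have : IsClosedImmersion b.left := inferInstanceAs (IsClosedImmersion f.left.imageι)
  have := Over.mono_of_mono_left b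
  have hK := closed_of_dominant f b g hgb
  obtain ⟨_, _⟩ := exists_grpObj_closed b hK.1 hK.2
  have : IsMonHom g := AlgGrp33.AffineProper.isMonHom_of_mono g b f hgb
  have : LocallyOfFiniteType B.hom := inferInstanceAs (LocallyOfFiniteType (f.left.imageι ≫ Q.hom))
  have hs : Surjective g.left := surjective_of_dominant_hom g
  refine ⟨B, ‹_›, b, g, ‹_›, ‹_›, hgb, hs, ?_⟩
  obtain ⟨n, hn⟩ := hconj
  have : IsIso (𝟙 X : X ⟶ X).left := inferInstanceAs (IsIso (𝟙 X.left))
  have hd := schDominant_tensor (𝟙 X) g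
  have := hd.1
  have := hd.2
  obtain ⟨m, hm⟩ := exists_lift_of_dominant (𝟙 X ⊗ₘ g) ((fst X B ≫ c) * (snd X B ≫ b) * (fst X B ≫ c)⁻¹) b (n ≫ g) (by
    simp only [Category.assoc, hgb, hn, MonObj.comp_mul, GrpObj.comp_inv, tensorHom_fst_assoc, tensorHom_snd_assoc,
      Category.id_comp])
  obtain ⟨w, hw⟩ := (hc.whiskerRight B).lift_mono b ((fst Q B) * (snd Q B ≫ b) * (fst Q B)⁻¹) m (by
    simp only [hm, MonObj.comp_mul, GrpObj.comp_inv, whiskerRight_fst, whiskerRight_snd_assoc])
  intro T x y
  refine ⟨lift x y ≫ w, ?_⟩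
  simp only [Category.assoc, hw, MonObj.comp_mul, GrpObj.comp_inv, lift_fst, lift_snd_assoc]

/-- a connected proper group receiving a surjective homomorphism from an affine one is a single point -/
theorem subsingleton_of_affine {Z Y : Over (Spec (CommRingCat.of k))} [GrpObj Z] [GrpObj Y] [IsAffine Z.left]
    [LocallyOfFiniteType Z.hom] [IsProper Y.hom] [ConnectedSpace Y.left] (φ : Z ⟶ Y) [IsMonHom φ]
    [Surjective φ.left] : Subsingleton Y.left := by
  obtain ⟨K, _, i, _, _, hker, hn⟩ := AlgGrp33.AffineProper.exists_kernel φ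
  obtain ⟨Q, _, q, _, _, _, _, _, hq⟩ := S3278.result k Z K i hn
  have hcov : IsCov q := isCov_of_flat_surjective q
  obtain ⟨e, he⟩ := hcov.desc φ fun T a b hab => by
    obtain ⟨n, hn⟩ := exists_ker_of_comp_eq q i hq a b hab
    have hb : b = a * (n ≫ i) := by rw [← hn, mul_inv_cancel_left]
    rw [hb, mul_comp', isKernel_comp_one hker, _root_.mul_one]
  have hepi := hcov.epi
  have : IsMonHom e := by
    have h2 : Epi (q ⊗ₘ q) := by
      have h := ((hcov.whiskerRight Z).comp (hcov.whiskerLeft Q)).epi
      rwa [← MonoidalCategory.tensorHom_def] at h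
    refine ⟨by rw [← IsMonHom.one_hom q, Category.assoc, he, IsMonHom.one_hom], ?_⟩
    rw [← cancel_epi (q ⊗ₘ q), ← IsMonHom.mul_hom_assoc q, he, tensorHom_comp_tensorHom_assoc, he, IsMonHom.mul_hom]
  have : IsClosedImmersion e.left := isClosedImmersion_hom_of_trivial_kernel e fun T g hg => by
    obtain ⟨T', c, x, hc, hx⟩ := hcov.exists_lift g
    obtain ⟨n, hn'⟩ := exists_ker_of_comp_one hker x (by
      rw [← he, reassoc_of% hx, hg, MonObj.comp_one])
    have := hc.epi
    rw [← cancel_epi c, MonObj.comp_one, ← hx, ← hn', isKernel_comp_one hq]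
  have : Surjective (q.left ≫ e.left) := by rwa [← Over.comp_left, he]
  have : Surjective e.left := Surjective.of_comp q.left _
  let ee := IsHomeomorph.homeomorph e.left
    { continuous := e.left.continuous
      isOpenMap := by
        intro U hU
        have h1 := e.left.isClosedEmbedding.isClosedMap _ hU.isClosed_compl
        rw [Set.image_compl_eq ⟨e.left.isClosedEmbedding.injective, e.left.surjective⟩] at h1
        exact isClosed_compl_iff.1 h1
      bijective := ⟨e.left.isClosedEmbedding.injective, e.left.surjective⟩ }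
  have : ConnectedSpace Q.left := ee.symm.surjective.connectedSpace ee.symm.continuous
  have : IsProper Q.hom := by rw [← Over.w e]; infer_instance
  have h := subsingleton_range_of_proper_to_affine Q.hom (𝟙 Q.left) Q.hom (Category.id_comp _)
  have : Subsingleton Q.left := ⟨fun a b => h ⟨a, rfl⟩ ⟨b, rfl⟩⟩
  exact ee.symm.subsingleton

/-- If `G` has affine kernel `N` over a proper connected quotient, then `N` surjects onto every affine quotient. -/
theorem surjective_restrict {G N A Q : Over (Spec (CommRingCat.of k))} [GrpObj G] [GrpObj N] [GrpObj A] [GrpObj Q]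
    [LocallyOfFiniteType G.hom] [QuasiCompact G.hom] [ConnectedSpace G.left]
    (i : N ⟶ G) [IsMonHom i] [IsClosedImmersion i.left] (hN : AlgGrp.IsNormalHom i) [IsProper A.hom]
    (q : G ⟶ A) [IsMonHom q] [Surjective q.left] [Flat q.left] (hq : AlgGrp.IsKernel i q)
    [IsAffine Q.left] [LocallyOfFiniteType Q.hom] (qa : G ⟶ Q) [IsMonHom qa] (hqa : IsCov qa) :
    Surjective (i ≫ qa).left := by
  have : LocallyOfFiniteType N.hom := by rw [← Over.w i]; infer_instance
  have : QuasiCompact N.hom := by rw [← Over.w i]; infer_instance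
  obtain ⟨c, hc⟩ := hN (G ⊗ N) (fst G N) (snd G N)
  obtain ⟨B, _, b, g, _, _, hgb, hs, hn⟩ := exists_normal_image (i ≫ qa) qa hqa ⟨c, by
    rw [← Category.assoc, ← hc, mul_comp', mul_comp', GrpObj.inv_comp]
    simp only [Category.assoc]⟩
  obtain ⟨R, _, p, _, _, _, _, _, hp⟩ := S3278.result k Q B b hn
  have hcq : IsCov q := isCov_of_flat_surjective q
  have h0 : i ≫ qa ≫ p = 1 := by
    rw [← Category.assoc, ← hgb, Category.assoc]
    exact (Category.assoc _ _ _).symm.trans (isKernel_comp_one hp g)
  obtain ⟨e, he⟩ := hcq.desc (qa ≫ p) fun T a b hab => by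
    obtain ⟨n, hn⟩ := exists_ker_of_comp_eq q i hq a b hab
    have hb : b = a * (n ≫ i) := by rw [← hn, mul_inv_cancel_left]
    rw [hb, mul_comp', Category.assoc n, h0, MonObj.comp_one, _root_.mul_one]
  have := hqa.surj
  have hs2 : Surjective (qa ≫ p).left := by rw [Over.comp_left]; infer_instance
  have : Surjective (q.left ≫ e.left) := by rw [← Over.comp_left, he]; exact hs2
  have : Surjective e.left := Surjective.of_comp q.left _
  have : ConnectedSpace R.left := (qa ≫ p).left.surjective.connectedSpace (qa ≫ p).left.continuous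
  have : Subsingleton R.left := AlgGrp33.AffineProper.subsingleton_of_surjective e
  have hη : Surjective η[R].left := ⟨fun r => ⟨IsLocalRing.closedPoint k, Subsingleton.elim _ _⟩⟩
  have hb : Surjective b.left := MorphismProperty.of_isPullback (isPullback_left hp).flip hη
  rw [← hgb, Over.comp_left]
  infer_instance

/-- If `H` surjects onto the proper connected quotient with affine kernel, it contains the anti-affine part. -/
theorem exists_factor {G N A M H : Over (Spec (CommRingCat.of k))} [GrpObj G] [GrpObj N] [GrpObj A] [GrpObj M] [GrpObj H]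
    [LocallyOfFiniteType G.hom] [QuasiCompact G.hom] [ConnectedSpace G.left]
    (i : N ⟶ G) [IsMonHom i] [IsAffine N.left] [IsClosedImmersion i.left] [IsProper A.hom]
    (q : G ⟶ A) [IsMonHom q] [Surjective q.left] (hq : AlgGrp.IsKernel i q)
    [LocallyOfFiniteType M.hom] [QuasiCompact M.hom] (j : M ⟶ G) [IsMonHom j] [IsClosedImmersion j.left]
    (hM : AntiAff M)
    (hMmax : ∀ (M₁ : Over (Spec (CommRingCat.of k))) [GrpObj M₁] [LocallyOfFiniteType M₁.hom] [QuasiCompact M₁.hom] (j₁ : M₁ ⟶ G) [IsMonHom j₁] [IsClosedImmersion j₁.left],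
      AntiAff M₁ → ∃ g : M₁ ⟶ M, g ≫ j = j₁)
    (h : H ⟶ G) [IsMonHom h] [IsClosedImmersion h.left] [Surjective (h ≫ q).left] :
    ∃ g : M ⟶ H, g ≫ h = j := by
  have : LocallyOfFiniteType H.hom := by rw [← Over.w h]; infer_instance
  have : QuasiCompact H.hom := by rw [← Over.w h]; infer_instance
  obtain ⟨Q, _, qa, K, _, ι', _, _, _, hqa, _, _, hker, -, _, _, hK⟩ := exists_kernel H
  have : IsClosedImmersion (ι' ≫ h).left := by rw [Over.comp_left]; infer_instance
  obtain ⟨u, hu⟩ := hMmax K (ι' ≫ h) hK
  have := Over.mono_of_mono_left j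
  have : IsMonHom u := AlgGrp33.AffineProper.isMonHom_of_mono u j (ι' ≫ h) hu
  have : IsClosedImmersion (u.left ≫ j.left) := by rw [← Over.comp_left, hu]; infer_instance
  have : IsClosedImmersion u.left := IsClosedImmersion.of_comp u.left j.left
  have : ConnectedSpace A.left := q.left.surjective.connectedSpace q.left.continuous
  -- `K` surjects onto `A`
  have hKA : Surjective ((u ≫ j) ≫ q).left := by
    rw [hu]
    have hcent := S7996.result k K A hK ((ι' ≫ h) ≫ q)
    obtain ⟨B, _, b, g, _, _, hgb, hs, hn⟩ := exists_normal_image ((ι' ≫ h) ≫ q) (𝟙 A) (IsCov.id A) ⟨snd A K, by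
      have h1 := hcent K (𝟙 K) (A ⊗ K) (snd A K) (fst A K)
      simp only [Category.id_comp] at h1
      simp only [Category.comp_id]
      rw [← h1, mul_inv_cancel_right]⟩
    have : QuasiCompact b.left := inferInstance
    have := Over.mono_of_mono_left b
    have : LocallyOfFiniteType B.hom := by rw [← Over.w b]; infer_instance
    obtain ⟨R, _, p, _, _, _, _, hp, hRsep, -, -⟩ := S3030.result k B A b hn
    have h0 : ι' ≫ h ≫ q ≫ p = 1 := by
      rw [← Category.assoc ι', ← Category.assoc (ι' ≫ h), ← hgb, Category.assoc]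
      exact (Category.assoc _ _ _).symm.trans (isKernel_comp_one hp g)
    obtain ⟨e, he⟩ := hqa.desc (h ≫ q ≫ p) fun T a b hab => by
      obtain ⟨n, hn⟩ := exists_ker_of_comp_eq qa ι' hker a b hab
      have hb : b = a * (n ≫ ι') := by rw [← hn, mul_inv_cancel_left]
      rw [hb, mul_comp', Category.assoc n, h0, MonObj.comp_one, _root_.mul_one]
    have hepi := hqa.epi
    have : IsMonHom e := by
      have h2 : Epi (qa ⊗ₘ qa) := by
        have h := ((hqa.whiskerRight H).comp (hqa.whiskerLeft Q)).epi
        rwa [← MonoidalCategory.tensorHom_def] at h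
      refine ⟨by rw [← IsMonHom.one_hom qa, Category.assoc, he, IsMonHom.one_hom], ?_⟩
      rw [← cancel_epi (qa ⊗ₘ qa), ← IsMonHom.mul_hom_assoc qa, he, tensorHom_comp_tensorHom_assoc, he,
        IsMonHom.mul_hom (h ≫ q ≫ p)]
    have : Surjective (h ≫ q ≫ p).left := by rw [← Category.assoc, Over.comp_left]; infer_instance
    have : Surjective (qa.left ≫ e.left) := by rwa [← Over.comp_left, he]
    have : Surjective e.left := Surjective.of_comp qa.left _
    have : ConnectedSpace R.left := p.left.surjective.connectedSpace p.left.continuous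
    have : LocallyOfFiniteType R.hom := by
      have : LocallyOfFiniteType (p.left ≫ R.hom) := by rw [Over.w]; infer_instance
      exact Desc59.lft_of_comp p.left R.hom
    have : UniversallyClosed (p.left ≫ R.hom) := by rw [Over.w]; infer_instance
    have : UniversallyClosed R.hom := .of_comp_surjective p.left _
    have : IsProper R.hom := {}
    have : Subsingleton R.left := subsingleton_of_affine e
    have hη : Surjective η[R].left := ⟨fun r => ⟨IsLocalRing.closedPoint k, Subsingleton.elim _ _⟩⟩
    have hb : Surjective b.left := MorphismProperty.of_isPullback (isPullback_left hp).flip hη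
    rw [← hgb, Over.comp_left]
    infer_instance
  -- so `M / K` is affine, hence trivial
  have := (S3293.result k M hM).2
  have := Over.mono_of_mono_left u
  have hnu : AlgGrp.IsNormalHom u := fun T x y => ⟨y, by rw [mul_comm x, mul_inv_cancel_right]⟩
  obtain ⟨R, _, p, _, _, _, _, hp, hRsep, -, hsm⟩ := S3030.result k K M u hnu
  have : Smooth M.hom := SGA3a.Affinization.smooth_of_antiAff M hM
  have : Smooth R.hom := hsm inferInstance
  have hR : AntiAff R := antiAff_of_flat_surjective p (isCov_of_flat_surjective p) hM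
  obtain ⟨L, _, l, _, _, hl, -⟩ := AlgGrp33.AffineProper.exists_kernel (j ≫ q)
  have : LocallyOfFiniteType L.hom := by rw [← Over.w l]; infer_instance
  have : IsAffine L.left := by
    obtain ⟨n, hn⟩ := exists_ker_of_comp_one hq (l ≫ j) (by simpa using isKernel_comp_one hl (𝟙 L))
    have : IsClosedImmersion (n.left ≫ i.left) := by rw [← Over.comp_left, hn, Over.comp_left]; infer_instance
    have : IsClosedImmersion n.left := IsClosedImmersion.of_comp n.left i.left
    exact isAffine_of_isAffineHom n.left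
  have hKA' : Surjective (u ≫ j ≫ q).left := by rwa [← Category.assoc]
  have hmul := surjective_mul l (j ≫ q) hl u
  have hLR : Surjective (l ≫ p).left := by
    have e : ((u ⊗ₘ l) ≫ μ[M]) ≫ p = snd K L ≫ l ≫ p := by
      rw [Category.assoc, IsMonHom.mul_hom p, tensorHom_comp_tensorHom_assoc,
        show (u ≫ p) = 1 by simpa using isKernel_comp_one hp (𝟙 K)]
      rw [show ((1 : K ⟶ R) ⊗ₘ (l ≫ p)) = lift (fst K L ≫ 1) (snd K L ≫ l ≫ p) by ext : 1 <;> simp, ← Hom.mul_def,
        MonObj.comp_one, _root_.one_mul]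
    have : Surjective (((u ⊗ₘ l) ≫ μ[M]) ≫ p).left := by rw [Over.comp_left]; infer_instance
    rw [e, Over.comp_left] at this
    exact Surjective.of_comp (snd K L).left _
  have : LocallyOfFiniteType R.hom := inferInstance
  have : QuasiCompact R.hom := by
    have : QuasiCompact (p.left ≫ R.hom) := by rw [Over.w]; infer_instance
    exact SGA3a.QuotCover.quasiCompact_of_comp p.left R.hom
  have : IsReduced R.left := isReduced_of_smooth R.hom
  obtain ⟨L₀, _, l₀, _, _, hl₀, hn₀⟩ := AlgGrp33.AffineProper.exists_kernel (l ≫ p)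
  obtain ⟨R', _, p', _, _, _, _, _, hp'⟩ := S3278.result k L L₀ l₀ hn₀
  have hcp' : IsCov p' := isCov_of_flat_surjective p'
  obtain ⟨e, he⟩ := hcp'.desc (l ≫ p) fun T a b hab => by
    obtain ⟨n, hn⟩ := exists_ker_of_comp_eq p' l₀ hp' a b hab
    have hb : b = a * (n ≫ l₀) := by rw [← hn, mul_inv_cancel_left]
    rw [hb, mul_comp', isKernel_comp_one hl₀, _root_.mul_one]
  have := hcp'.epi
  have : IsMonHom e := by
    have h2 : Epi (p' ⊗ₘ p') := by
      have h := ((hcp'.whiskerRight L).comp (hcp'.whiskerLeft R')).epi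
      rwa [← MonoidalCategory.tensorHom_def] at h
    refine ⟨by rw [← IsMonHom.one_hom p', Category.assoc, he, IsMonHom.one_hom], ?_⟩
    rw [← cancel_epi (p' ⊗ₘ p'), ← IsMonHom.mul_hom_assoc p', he, tensorHom_comp_tensorHom_assoc, he,
      IsMonHom.mul_hom (l ≫ p)]
  have : IsClosedImmersion e.left := isClosedImmersion_hom_of_trivial_kernel e fun T g hg => by
    obtain ⟨T', c, x, hc, hx⟩ := hcp'.exists_lift g
    obtain ⟨n, hn'⟩ := exists_ker_of_comp_one hl₀ x (by
      rw [← he, reassoc_of% hx, hg, MonObj.comp_one])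
    have := hc.epi
    rw [← cancel_epi c, MonObj.comp_one, ← hx, ← hn', isKernel_comp_one hp']
  have : Surjective (p'.left ≫ e.left) := by rwa [← Over.comp_left, he]
  have : Surjective e.left := Surjective.of_comp p'.left _
  have : IsIso e.left := isIso_of_isClosedImmersion_of_surjective e.left
  have : IsAffine R.left := IsAffine.of_isIso (inv e.left)
  have hp1 : p = 1 := eq_one hM p
  obtain ⟨w, hw⟩ := exists_ker_of_comp_one hp (𝟙 M) (by rw [Category.id_comp, hp1])
  exact ⟨w ≫ ι', by rw [Category.assoc, ← hu, reassoc_of% hw]⟩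

end Groth.Agent.AlgGrp33.Affinize
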