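import Groth.Agent.AlgGrp33.Affinize
import Groth.Agent.AlgGrp79.GenSubgroup
import Groth.Agent.AlgGrp79.Batch

/-!
A group acting birationally on an affine model: the stabilizer of a point is affine.

`i : Z ⟶ G` and `j : Z ⟶ U` are the common open of the group and the model. A morphism on an open of `G ⊗ U` is
*good* when it is `(g, j z) ↦ j (g · z)` wherever this makes sense.
-/

set_option autoImplicit false
set_option linter.unusedSectionVars false
set_option linter.style.haveILetI false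
set_option maxHeartbeats 800000
set_option backward.isDefEq.respectTransparency.types false
universe u

open CategoryTheory MonoidalCategory CartesianMonoidalCategory MonObj GrpObj AlgebraicGeometry CategoryTheory.Limits
open Groth.Agent.AlgGrp79

namespace Groth.Agent.AlgGrp33.BirAction

noncomputable section

variable {k : Type u} [Field k] {G U Z : Over (Spec (CommRingCat.of k))} [GrpObj G] (i : Z ⟶ G) (j : Z ⟶ U)

/-- the translation of `Z` by `G` -/
def mv : G ⊗ Z ⟶ G := fst G Z * (snd G Z ≫ i)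

/-- pairs `(g, z)` with `g · z` in `Z` -/
abbrev Pr : Over (Spec (CommRingCat.of k)) := pullback (mv i) i

/-- `(g, z) ↦ (g, j z)` -/
def incl : Pr i ⟶ G ⊗ U := pullback.fst (mv i) i ≫ (G ◁ j)

/-- `(g, z) ↦ j (g · z)` -/
def act : Pr i ⟶ U := pullback.snd (mv i) i ≫ j

/-- gluing morphisms over `k` along an open cover -/
lemma exists_glue {S : Scheme.{u}} {X Y : Over S} {I : Type u} (V : I → X.left.Opens) (hV : ∀ t, ∃ a, t ∈ V a)
    (f : ∀ a, Over.mk ((V a).ι ≫ X.hom) ⟶ Y)
    (hf : ∀ (a b : I) (T : Over S) (s : T ⟶ Over.mk ((V a).ι ≫ X.hom)) (t : T ⟶ Over.mk ((V b).ι ≫ X.hom)),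
      s.left ≫ (V a).ι = t.left ≫ (V b).ι → s ≫ f a = t ≫ f b) :
    ∃ m : X ⟶ Y, ∀ a, Over.homMk (V a).ι rfl ≫ m = f a := by
  have hcov : TopologicalSpace.IsOpenCover V :=
    TopologicalSpace.IsOpenCover.mk (top_le_iff.1 fun t _ => TopologicalSpace.Opens.mem_iSup.2 (hV t))
  let 𝒰 : X.left.OpenCover := Scheme.openCoverOfIsOpenCover X.left V hcov
  let f' : ∀ a : 𝒰.I₀, 𝒰.X a ⟶ Y.left := fun a => (f a).left
  have h : ∀ a b : 𝒰.I₀, pullback.fst (𝒰.f a) (𝒰.f b) ≫ f' a = pullback.snd (𝒰.f a) (𝒰.f b) ≫ f' b := fun a b => by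
    let P : Over S := Over.mk (pullback.fst (𝒰.f a) (𝒰.f b) ≫ 𝒰.f a ≫ X.hom)
    have e := hf a b P (Over.homMk (pullback.fst (𝒰.f a) (𝒰.f b)) rfl)
      (Over.homMk (pullback.snd (𝒰.f a) (𝒰.f b)) (by
        show pullback.snd _ _ ≫ 𝒰.f b ≫ _ = pullback.fst _ _ ≫ 𝒰.f a ≫ _
        exact (pullback.condition_assoc _).symm))
      (pullback.condition (f := 𝒰.f a) (g := 𝒰.f b))
    exact congr($(e).left)
  have hw : 𝒰.glueMorphisms f' h ≫ Y.hom = X.hom := 𝒰.hom_ext _ _ fun a => by
    rw [← Category.assoc, Scheme.Cover.ι_glueMorphisms]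
    exact Over.w (f a)
  exact ⟨Over.homMk (𝒰.glueMorphisms f' h) hw, fun a => Over.OverMorphism.ext (Scheme.Cover.ι_glueMorphisms 𝒰 f' h a)⟩

/-- lifting a map into an open -/
lemma exists_open_lift {S : Scheme.{u}} {X T : Over S} (f : T ⟶ X) (V : X.left.Opens) (h : ∀ t, f.left t ∈ V) :
    ∃ w : T ⟶ Over.mk (V.ι ≫ X.hom), w ≫ Over.homMk V.ι rfl = f := by
  have h' : Set.range f.left ⊆ Set.range V.ι := by
    rw [Scheme.Opens.range_ι]; rintro _ ⟨t, rfl⟩; exact h t
  refine ⟨Over.homMk (IsOpenImmersion.lift V.ι f.left h') ?_, Over.OverMorphism.ext (IsOpenImmersion.lift_fac _ _ _)⟩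
  show IsOpenImmersion.lift V.ι f.left h' ≫ V.ι ≫ X.hom = T.hom
  rw [IsOpenImmersion.lift_fac_assoc, Over.w]

variable {i j}

/-- an open of `G ⊗ U` as an object over `k` -/
abbrev opn (W : (G ⊗ U).left.Opens) : Over (Spec (CommRingCat.of k)) := Over.mk (W.ι ≫ (G ⊗ U).hom)

/-- the inclusion of an open -/
def opι (W : (G ⊗ U).left.Opens) : opn W ⟶ G ⊗ U := Over.homMk W.ι rfl

instance (W : (G ⊗ U).left.Opens) : IsOpenImmersion (opι W).left := inferInstanceAs (IsOpenImmersion W.ι)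

variable (i j) in
/-- a morphism extending the birational action -/
def Good (W : (G ⊗ U).left.Opens) (m : opn W ⟶ U) : Prop :=
  ∀ (T : Over (Spec (CommRingCat.of k))) (w : T ⟶ opn W) (p : T ⟶ Pr i), w ≫ opι W = p ≫ incl i j → w ≫ m = p ≫ act i j

variable (i j) in
/-- `g` moves `x` to `y` -/
def Rel (g : 𝟙_ (Over (Spec (CommRingCat.of k))) ⟶ G) (x y : 𝟙_ (Over (Spec (CommRingCat.of k))) ⟶ U) : Prop :=
  ∃ (W : (G ⊗ U).left.Opens) (m : opn W ⟶ U) (w : 𝟙_ (Over (Spec (CommRingCat.of k))) ⟶ opn W),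
    Good i j W m ∧ w ≫ opι W = lift g x ∧ w ≫ m = y

/-- lifting a map into an open -/
lemma exists_opn_lift {T : Over (Spec (CommRingCat.of k))} (f : T ⟶ G ⊗ U) (W : (G ⊗ U).left.Opens)
    (h : ∀ t, f.left t ∈ W) : ∃ w : T ⟶ opn W, w ≫ opι W = f := by
  have h' : Set.range f.left ⊆ Set.range W.ι := by
    rw [Scheme.Opens.range_ι]; rintro _ ⟨t, rfl⟩; exact h t
  refine ⟨Over.homMk (IsOpenImmersion.lift W.ι f.left h') ?_, Over.OverMorphism.ext (IsOpenImmersion.lift_fac _ _ _)⟩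
  show IsOpenImmersion.lift W.ι f.left h' ≫ W.ι ≫ (G ⊗ U).hom = T.hom
  rw [IsOpenImmersion.lift_fac_assoc, Over.w]

lemma opn_mem {W : (G ⊗ U).left.Opens} {T : Over (Spec (CommRingCat.of k))} (w : T ⟶ opn W) (t : T.left) :
    (w ≫ opι W).left t ∈ W := by
  rw [Over.comp_left, Scheme.Hom.comp_apply]
  exact (w.left t).2

lemma opn_hom_ext {W : (G ⊗ U).left.Opens} {T : Over (Spec (CommRingCat.of k))} (a b : T ⟶ opn W)
    (h : a ≫ opι W = b ≫ opι W) : a = b :=
  Over.OverMorphism.ext ((cancel_mono W.ι).1 (congr($(h).left)))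

lemma irred_of_surjective {α β : Type*} [TopologicalSpace α] [TopologicalSpace β] [IrreducibleSpace α] (f : α → β)
    (hf : Continuous f) (hs : Function.Surjective f) : IrreducibleSpace β := by
  have h := (IrreducibleSpace.isIrreducible_univ α).image f hf.continuousOn
  rw [Set.image_univ, hs.range_eq] at h
  exact { isPreirreducible_univ := h.2, toNonempty := ⟨h.1.some⟩ }

section Geometry

variable [IsAlgClosed k] [LocallyOfFiniteType G.hom] [LocallyOfFiniteType U.hom] [IsSeparated U.hom]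
  [IsIntegral (G ⊗ U).left] [IsOpenImmersion i.left] [IsOpenImmersion j.left] [IrreducibleSpace (G ⊗ Z).left]

include k in
omit [IsSeparated U.hom] [IsIntegral (G ⊗ U).left] in
lemma incl_isOpenImmersion : IsOpenImmersion (incl i j).left := by
  have h1 : IsOpenImmersion (pullback.fst (mv i) i).left :=
    MorphismProperty.of_isPullback (isPullback_left (IsPullback.of_hasPullback (mv i) i)).flip ‹_›
  have h2 : IsOpenImmersion (G ◁ j).left :=
    MorphismProperty.of_isPullback (P := @IsOpenImmersion) (isPullback_left (whiskerLeft_isPullback G j)).flip ‹_›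
  show IsOpenImmersion ((pullback.fst (mv i) i).left ≫ (G ◁ j).left)
  infer_instance

omit [IsSeparated U.hom] [IsIntegral (G ⊗ U).left] [IsOpenImmersion j.left] [IrreducibleSpace (G ⊗ Z).left] in
lemma nonempty_Pr [Nonempty Z.left] : Nonempty (Pr i).left := by
  have : LocallyOfFiniteType Z.hom := by rw [← Over.w i]; infer_instance
  have : JacobsonSpace Z.left := LocallyOfFiniteType.jacobsonSpace Z.hom
  obtain ⟨z, -, hz⟩ := nonempty_inter_closedPoints (Z := (Set.univ : Set Z.left)) Set.univ_nonempty isOpen_univ.isLocallyClosed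
  obtain ⟨z', -⟩ := ptVal_eq z hz
  exact ⟨(pullback.lift (f := mv i) (g := i) (lift 1 z') z' (by
    rw [mv, MonObj.comp_mul, lift_fst, lift_snd_assoc, _root_.one_mul])).left (IsLocalRing.closedPoint k)⟩

/-- morphisms out of an open agreeing on the good locus are equal -/
lemma eq_of_agree [Nonempty Z.left] {W : (G ⊗ U).left.Opens} (m m' : opn W ⟶ U)
    (h : ∀ (T : Over (Spec (CommRingCat.of k))) (w : T ⟶ opn W) (p : T ⟶ Pr i), w ≫ opι W = p ≫ incl i j → w ≫ m = w ≫ m') :
    m = m' := by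
  rcases isEmpty_or_nonempty (opn W).left with hW | ⟨⟨w₀⟩⟩
  · exact Over.OverMorphism.ext ((isInitialOfIsEmpty).hom_ext _ _)
  have : IsReduced (opn W).left := isReduced_of_isOpenImmersion (opι W).left
  have : IrreducibleSpace (opn W).left := by
    have := (W.ι.isOpenEmbedding)
    have : Nonempty W.toScheme := ⟨w₀⟩
    have : IsIntegral W.toScheme := isIntegral_of_isOpenImmersion W.ι
    exact inferInstanceAs (IrreducibleSpace ↥W.toScheme)
  let T := pullback (opι W) (incl i j)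
  let w := pullback.fst (opι W) (incl i j)
  have := incl_isOpenImmersion (i := i) (j := j)
  have hwo : IsOpenImmersion w.left :=
    MorphismProperty.of_isPullback (P := @IsOpenImmersion) (isPullback_left (IsPullback.of_hasPullback (opι W) (incl i j))).flip ‹_›
  have hTne : Nonempty T.left := by
    obtain ⟨q⟩ := nonempty_Pr (i := i)
    obtain ⟨x, ⟨a, rfl⟩, ⟨b, hb⟩⟩ := nonempty_preirreducible_inter (opι W).left.isOpenEmbedding.isOpen_range
      (incl i j).left.isOpenEmbedding.isOpen_range ⟨_, w₀, rfl⟩ ⟨_, q, rfl⟩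
    obtain ⟨z, -, -⟩ := Scheme.Pullback.exists_preimage_pullback a b hb.symm
    exact ⟨(isPullback_left (IsPullback.of_hasPullback (opι W) (incl i j))).isoPullback.inv z⟩
  have : IsDominant w.left := by
    constructor
    exact (w.left.isOpenEmbedding.isOpen_range).dense (Set.range_nonempty _)
  have e := h T w (pullback.snd _ _) pullback.condition
  exact Over.OverMorphism.ext (ext_of_isDominant_of_isSeparated U.hom (by rw [Over.w, Over.w]) w.left (congr($(e).left)))

/-- good morphisms agree on overlaps -/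
lemma good_agree [Nonempty Z.left] {W W' : (G ⊗ U).left.Opens} {m : opn W ⟶ U} {m' : opn W' ⟶ U}
    (hm : Good i j W m) (hm' : Good i j W' m') {T : Over (Spec (CommRingCat.of k))} (w : T ⟶ opn W) (w' : T ⟶ opn W')
    (h : w ≫ opι W = w' ≫ opι W') : w ≫ m = w' ≫ m' := by
  obtain ⟨a, ha⟩ := exists_opn_lift (opι (W ⊓ W')) W fun t => (Set.mem_of_eq_of_mem rfl t.2.1)
  obtain ⟨b, hb⟩ := exists_opn_lift (opι (W ⊓ W')) W' fun t => (Set.mem_of_eq_of_mem rfl t.2.2)
  have e : a ≫ m = b ≫ m' := eq_of_agree (i := i) (j := j) _ _ fun S s p hs => by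
    rw [← Category.assoc, ← Category.assoc, hm S (s ≫ a) p (by rw [Category.assoc, ha, hs]),
      hm' S (s ≫ b) p (by rw [Category.assoc, hb, hs])]
  obtain ⟨c, hc⟩ := exists_opn_lift (w ≫ opι W) (W ⊓ W') fun t => ⟨opn_mem w t, h ▸ opn_mem w' t⟩
  rw [show w = c ≫ a from opn_hom_ext _ _ (by rw [Category.assoc, ha, hc]),
    show w' = c ≫ b from opn_hom_ext _ _ (by rw [Category.assoc, hb, hc, h]), Category.assoc, Category.assoc, e]

variable (i j) in
/-- the largest domain of the action -/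
lemma exists_domain [Nonempty Z.left] : ∃ (Ω : (G ⊗ U).left.Opens) (m : opn Ω ⟶ U), Good i j Ω m ∧
    ∀ (W : (G ⊗ U).left.Opens) (m' : opn W ⟶ U), Good i j W m' → W ≤ Ω := by
  let I := Σ W : (G ⊗ U).left.Opens, {m : opn W ⟶ U // Good i j W m}
  let Ω : (G ⊗ U).left.Opens := ⨆ a : I, a.1
  let V : I → (opn Ω).left.Opens := fun a => Ω.ι ⁻¹ᵁ a.1
  have hcov : ∀ t, ∃ a, t ∈ V a := fun t => by
    obtain ⟨a, ha⟩ := TopologicalSpace.Opens.mem_iSup.1 t.2
    exact ⟨a, ha⟩
  let Tc := fun a : I => Over.mk ((V a).ι ≫ (opn Ω).hom)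
  let tc : ∀ a : I, Tc a ⟶ opn Ω := fun a => Over.homMk (V a).ι rfl
  have hl : ∀ a : I, ∃ w : Tc a ⟶ opn a.1, w ≫ opι a.1 = tc a ≫ opι Ω := fun a =>
    exists_opn_lift _ _ fun t => t.2
  choose l hl using hl
  obtain ⟨m, hm⟩ := exists_glue V hcov (fun a => l a ≫ a.2.1) fun a b T s t hst => by
    have e := good_agree a.2.2 b.2.2 (s ≫ l a) (t ≫ l b) (by
      rw [Category.assoc, Category.assoc, hl, hl, ← Category.assoc, ← Category.assoc,
        show s ≫ tc a = t ≫ tc b from Over.OverMorphism.ext hst])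
    simpa only [Category.assoc] using e
  refine ⟨Ω, m, fun T w p hwp => ?_, fun W m' hm' => le_iSup (fun a : I => a.1) ⟨W, m', hm'⟩⟩
  let C := fun a : I => w.left ⁻¹ᵁ V a
  have hC : TopologicalSpace.IsOpenCover C := TopologicalSpace.IsOpenCover.mk (top_le_iff.1 fun t _ =>
    TopologicalSpace.Opens.mem_iSup.2 (hcov (w.left t)))
  refine Over.OverMorphism.ext ((Scheme.openCoverOfIsOpenCover T.left C hC).hom_ext _ _ fun a => ?_)
  let Sa : Over (Spec (CommRingCat.of k)) := Over.mk ((C a).ι ≫ T.hom)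
  let ca : Sa ⟶ T := Over.homMk (C a).ι rfl
  obtain ⟨wa, hwa⟩ := exists_open_lift (ca ≫ w) (V a) fun t => t.2
  have h2 := a.2.2 Sa (wa ≫ l a) (ca ≫ p) (by
    rw [Category.assoc, hl, ← Category.assoc, show wa ≫ tc a = ca ≫ w from hwa, Category.assoc, hwp, Category.assoc])
  have h3 : ca ≫ w ≫ m = ca ≫ p ≫ act i j := by
    rw [← Category.assoc, ← hwa, Category.assoc, hm a, ← Category.assoc, h2, Category.assoc]
  exact congr($(h3).left)

/-- the identity fixes every point -/
lemma eq_of_rel_one [Nonempty Z.left] [IsIntegral U.left] {x y : 𝟙_ (Over (Spec (CommRingCat.of k))) ⟶ U}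
    {W : (G ⊗ U).left.Opens} {m : opn W ⟶ U} (hm : Good i j W m) (w : 𝟙_ (Over (Spec (CommRingCat.of k))) ⟶ opn W)
    (hw : w ≫ opι W = lift 1 x) (hy : w ≫ m = y) : y = x ∧
      ∀ (T : Over (Spec (CommRingCat.of k))) (t : T ⟶ opn W) (u : T ⟶ U), t ≫ opι W = lift 1 u → t ≫ m = u := by
  let s : U ⟶ G ⊗ U := lift 1 (𝟙 U)
  let V : U.left.Opens := s.left ⁻¹ᵁ W
  let Vo : Over (Spec (CommRingCat.of k)) := Over.mk (V.ι ≫ U.hom)
  let vι : Vo ⟶ U := Over.homMk V.ι rfl
  obtain ⟨v, hv⟩ := exists_opn_lift (vι ≫ s) W fun t => t.2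
  have key : v ≫ m = vι := by
    let T := pullback vι j
    let a := pullback.fst vι j
    have hxV : x.left (IsLocalRing.closedPoint k) ∈ V := by
      show (x ≫ s).left (IsLocalRing.closedPoint k) ∈ W
      rw [show x ≫ s = lift 1 x by simp [s, comp_lift, MonObj.comp_one], ← hw]
      exact opn_mem w _
    have hao : IsOpenImmersion a.left :=
      MorphismProperty.of_isPullback (P := @IsOpenImmersion) (isPullback_left (IsPullback.of_hasPullback vι j)).flip ‹_›
    have : Nonempty Vo.left := ⟨⟨_, hxV⟩⟩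
    have : Nonempty V.toScheme := ⟨⟨_, hxV⟩⟩
    have : IsIntegral Vo.left := isIntegral_of_isOpenImmersion (X := V.toScheme) V.ι
    obtain ⟨z₀⟩ := ‹Nonempty Z.left›
    obtain ⟨x', ⟨a', rfl⟩, ⟨b, hb⟩⟩ := nonempty_preirreducible_inter V.ι.isOpenEmbedding.isOpen_range
      j.left.isOpenEmbedding.isOpen_range ⟨_, ⟨_, hxV⟩, rfl⟩ ⟨_, z₀, rfl⟩
    obtain ⟨z, -, -⟩ := Scheme.Pullback.exists_preimage_pullback a' b hb.symm
    have : Nonempty T.left := ⟨(isPullback_left (IsPullback.of_hasPullback vι j)).isoPullback.inv z⟩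
    have : IsDominant a.left := ⟨(a.left.isOpenEmbedding.isOpen_range).dense (Set.range_nonempty _)⟩
    let z' := pullback.snd vι j
    let p : T ⟶ Pr i := pullback.lift (lift 1 z') z' (by
      rw [mv, MonObj.comp_mul, lift_fst, lift_snd_assoc, _root_.one_mul])
    have e := hm T (a ≫ v) p (by
      rw [Category.assoc, hv, incl, pullback.lift_fst_assoc, lift_whiskerLeft]
      show a ≫ vι ≫ lift 1 (𝟙 U) = _
      rw [← Category.assoc, comp_lift, MonObj.comp_one, Category.comp_id, pullback.condition])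
    rw [act, pullback.lift_snd_assoc, ← pullback.condition, Category.assoc] at e
    exact Over.OverMorphism.ext (ext_of_isDominant_of_isSeparated U.hom (by rw [Over.w, Over.w]) a.left (congr($(e).left)))
  have gen : ∀ (T : Over (Spec (CommRingCat.of k))) (t : T ⟶ opn W) (u : T ⟶ U), t ≫ opι W = lift 1 u → t ≫ m = u := by
    intro T t u ht
    have hu : ∀ q, u.left q ∈ V := fun q => by
      show (u ≫ s).left q ∈ W
      rw [show u ≫ s = lift 1 u by simp [s, comp_lift, MonObj.comp_one], ← ht]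
      exact opn_mem t q
    obtain ⟨u', hu'⟩ : ∃ u' : T ⟶ Vo, u' ≫ vι = u := by
      have h' : Set.range u.left ⊆ Set.range V.ι := by
        rw [Scheme.Opens.range_ι]; rintro _ ⟨q, rfl⟩; exact hu q
      refine ⟨Over.homMk (IsOpenImmersion.lift V.ι u.left h') ?_, Over.OverMorphism.ext (IsOpenImmersion.lift_fac _ _ _)⟩
      show IsOpenImmersion.lift V.ι u.left h' ≫ V.ι ≫ U.hom = T.hom
      rw [IsOpenImmersion.lift_fac_assoc, Over.w]
    rw [show t = u' ≫ v from opn_hom_ext _ _ (by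
      rw [Category.assoc, hv, reassoc_of% hu', comp_lift, MonObj.comp_one, Category.comp_id, ht]), Category.assoc, key, hu']
  exact ⟨hy.symm.trans (gen _ w x hw), gen⟩

lemma pr_cond {T : Over (Spec (CommRingCat.of k))} (p : T ⟶ Pr i) :
    (p ≫ pullback.fst (mv i) i ≫ fst G Z) * (p ≫ pullback.fst (mv i) i ≫ snd G Z ≫ i) = p ≫ pullback.snd (mv i) i ≫ i := by
  have key : ∀ {S : Over (Spec (CommRingCat.of k))} (q : S ⟶ G ⊗ Z) (r : S ⟶ Z), q ≫ mv i = r ≫ i →
      (q ≫ fst G Z) * (q ≫ snd G Z ≫ i) = r ≫ i := fun q r h => by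
    rw [mv, MonObj.comp_mul] at h; exact h
  have h := key (p ≫ pullback.fst (mv i) i) (p ≫ pullback.snd (mv i) i) (by
    simp only [Category.assoc, pullback.condition])
  simpa only [Category.assoc] using h

/-- composition of the action -/
lemma rel_mul [Nonempty Z.left] {g a : 𝟙_ (Over (Spec (CommRingCat.of k))) ⟶ G}
    {x y z : 𝟙_ (Over (Spec (CommRingCat.of k))) ⟶ U} (h1 : Rel i j a x y) (h2 : Rel i j g y z) :
    Rel i j (g * a) x z := by
  obtain ⟨W, m, w, hm, hw, hy⟩ := h1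
  obtain ⟨W', m', w', hm', hw', hz⟩ := h2
  let ψ : G ⊗ U ⟶ G ⊗ U := lift ((toUnit _ ≫ g)⁻¹ * fst G U) (snd G U)
  let V₁ : (G ⊗ U).left.Opens := ψ.left ⁻¹ᵁ W
  obtain ⟨l₁, hl₁⟩ := exists_opn_lift (opι V₁ ≫ ψ) W fun t => t.2
  let pr₁ : opn V₁ ⟶ G ⊗ U := lift (toUnit _ ≫ g) (l₁ ≫ m)
  let Wc : (G ⊗ U).left.Opens := V₁.ι ''ᵁ (pr₁.left ⁻¹ᵁ W')
  have hWc : Wc ≤ V₁ := Scheme.Opens.ι_image_le _ _
  obtain ⟨c, hc⟩ := exists_opn_lift (opι Wc) V₁ fun t => hWc t.2
  obtain ⟨d, hd⟩ := exists_opn_lift (c ≫ pr₁) W' fun t => by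
    have ht : (opι Wc).left t ∈ V₁.ι ''ᵁ (pr₁.left ⁻¹ᵁ W') := t.2
    obtain ⟨q, hq, hqt⟩ := ht
    have h := congr(($hc).left t)
    rw [Over.comp_left, Scheme.Hom.comp_apply] at h
    have : c.left t = q := V₁.ι.isOpenEmbedding.injective (h.trans hqt.symm)
    rw [Over.comp_left, Scheme.Hom.comp_apply, this]
    exact hq
  -- the required point
  obtain ⟨v, hv⟩ := exists_opn_lift (lift (g * a) x) V₁ fun t => by
    show (lift (g * a) x ≫ ψ).left t ∈ W
    rw [show lift (g * a) x ≫ ψ = lift a x by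
      simp [ψ, comp_lift, MonObj.comp_mul, GrpObj.comp_inv, toUnit_unique (lift (g * a) x ≫ toUnit (G ⊗ U)) (𝟙 _)], ← hw]
    exact opn_mem w t
  have hvl : v ≫ l₁ = w := opn_hom_ext _ _ (by
    rw [Category.assoc, hl₁, reassoc_of% hv, hw]
    simp [ψ, comp_lift, MonObj.comp_mul, GrpObj.comp_inv, toUnit_unique (lift (g * a) x ≫ toUnit (G ⊗ U)) (𝟙 _)])
  have hvp : v ≫ pr₁ = lift g y := by
    simp only [pr₁, comp_lift]
    rw [reassoc_of% hvl, hy, ← Category.assoc, toUnit_unique (v ≫ toUnit _) (𝟙 _), Category.id_comp]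
  obtain ⟨u, hu⟩ := exists_opn_lift (lift (g * a) x) Wc fun t => by
    rw [← hv, Over.comp_left, Scheme.Hom.comp_apply]
    exact ⟨v.left t, show (v ≫ pr₁).left t ∈ W' by rw [hvp, ← hw']; exact opn_mem w' t, rfl⟩
  refine ⟨Wc, d ≫ m', u, ?_, hu, ?_⟩
  · intro T t p htp
    let D : (G ⊗ U).left.Opens := ⟨Set.range (incl i j).left, by
      have := incl_isOpenImmersion (i := i) (j := j); exact (incl i j).left.isOpenEmbedding.isOpen_range⟩
    let S₀ := pullback (opι Wc) (incl i j)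
    let a₀ := pullback.fst (opι Wc) (incl i j)
    let b₀ := pullback.snd (opι Wc) (incl i j)
    suffices e : a₀ ≫ d ≫ m' = b₀ ≫ act i j by
      have h := congrArg (pullback.lift t p htp ≫ ·) e
      simp only [a₀, b₀, ← Category.assoc, pullback.lift_fst, pullback.lift_snd] at h
      simpa [Category.assoc] using h
    let E : S₀.left.Opens := (a₀ ≫ opι Wc ≫ ψ).left ⁻¹ᵁ D
    let Eo : Over (Spec (CommRingCat.of k)) := Over.mk (E.ι ≫ S₀.hom)
    let eι : Eo ⟶ S₀ := Over.homMk E.ι rfl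
    have hincl := incl_isOpenImmersion (i := i) (j := j)
    have hao : IsOpenImmersion a₀.left :=
      MorphismProperty.of_isPullback (P := @IsOpenImmersion) (isPullback_left (IsPullback.of_hasPullback (opι Wc) (incl i j))).flip hincl
    have hoo : IsOpenImmersion (a₀.left ≫ Wc.ι) := inferInstance
    rcases isEmpty_or_nonempty S₀.left with hS | ⟨⟨s₀⟩⟩
    · exact Over.OverMorphism.ext ((isInitialOfIsEmpty).hom_ext _ _)
    have : Nonempty S₀.left := ⟨s₀⟩
    have : IsIntegral S₀.left := isIntegral_of_isOpenImmersion (a₀.left ≫ Wc.ι)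
    have hψ : IsIso ψ := ⟨lift ((toUnit _ ≫ g) * fst G U) (snd G U), by
      constructor <;> ext : 1 <;> simp [ψ, MonObj.comp_mul, GrpObj.comp_inv, toUnit_unique (_ ≫ toUnit (G ⊗ U)) (toUnit _)]⟩
    have hψl : IsIso ψ.left := (Over.forget _).map_isIso ψ
    have : Nonempty Eo.left := by
      obtain ⟨q⟩ := nonempty_Pr (i := i)
      obtain ⟨x', ⟨e', rfl⟩, he'⟩ := nonempty_preirreducible_inter (a₀.left ≫ Wc.ι).isOpenEmbedding.isOpen_range
        (D.2.preimage ψ.left.continuous) ⟨_, s₀, rfl⟩ (by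
          obtain ⟨r, hr⟩ := ψ.left.surjective ((incl i j).left q)
          exact ⟨r, show ψ.left r ∈ Set.range (incl i j).left by rw [hr]; exact ⟨q, rfl⟩⟩)
      exact ⟨⟨e', he'⟩⟩
    have : IsDominant eι.left := ⟨(E.ι.isOpenEmbedding.isOpen_range).dense ⟨_, ‹Nonempty Eo.left›.some, rfl⟩⟩
    suffices e : eι ≫ a₀ ≫ d ≫ m' = eι ≫ b₀ ≫ act i j from
      Over.OverMorphism.ext (ext_of_isDominant_of_isSeparated U.hom (by rw [Over.w, Over.w]) eι.left (congr($(e).left)))
    obtain ⟨p₁, hp₁⟩ : ∃ p₁ : Eo ⟶ Pr i, p₁ ≫ incl i j = eι ≫ a₀ ≫ opι Wc ≫ ψ := by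
      have h' : Set.range (eι ≫ a₀ ≫ opι Wc ≫ ψ).left ⊆ Set.range (incl i j).left := by
        rintro _ ⟨q, rfl⟩; exact q.2
      refine ⟨Over.homMk (IsOpenImmersion.lift (incl i j).left _ h') ?_, Over.OverMorphism.ext (IsOpenImmersion.lift_fac _ _ _)⟩
      rw [← Over.w (incl i j), IsOpenImmersion.lift_fac_assoc, Over.w]
    let p₀ : Eo ⟶ Pr i := eι ≫ b₀
    -- first step
    have hc₁ : eι ≫ a₀ ≫ c ≫ l₁ ≫ m = p₁ ≫ act i j := by
      have := hm Eo (eι ≫ a₀ ≫ c ≫ l₁) p₁ (by simp only [Category.assoc, hl₁, reassoc_of% hc, hp₁])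
      simpa only [Category.assoc] using this
    -- coordinates
    let z₀ := p₀ ≫ pullback.fst (mv i) i ≫ snd G Z
    let z₁ := p₁ ≫ pullback.snd (mv i) i
    let z₂ := p₀ ≫ pullback.snd (mv i) i
    have h00 : p₀ ≫ incl i j = eι ≫ a₀ ≫ opι Wc := by
      simp only [p₀, a₀, b₀, Category.assoc, pullback.condition]
    let g₀ := p₀ ≫ pullback.fst (mv i) i ≫ fst G Z
    let g₁ := p₁ ≫ pullback.fst (mv i) i ≫ fst G Z
    have hg : g₁ = (toUnit _ ≫ g)⁻¹ * g₀ := by
      have h := congrArg (· ≫ fst G U) hp₁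
      simp only [incl, Category.assoc, whiskerLeft_fst, ψ, lift_fst, MonObj.comp_mul, GrpObj.comp_inv] at h
      have h' := congrArg (· ≫ fst G U) h00
      simp only [incl, Category.assoc, whiskerLeft_fst] at h'
      simp only [g₁, g₀, h, h', ← Category.assoc, toUnit_unique (_ ≫ toUnit (G ⊗ U)) (toUnit Eo)]
    have hz : (p₁ ≫ pullback.fst (mv i) i ≫ snd G Z) = z₀ := by
      have h := congrArg (· ≫ snd G U) hp₁
      simp only [incl, Category.assoc, whiskerLeft_snd, ψ, lift_snd] at h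
      have h' := congrArg (· ≫ snd G U) h00
      simp only [incl, Category.assoc, whiskerLeft_snd] at h'
      have hj : Mono j := Over.mono_of_mono_left j
      rw [← cancel_mono j]
      simp only [z₀, Category.assoc, h, h']
    have e₀ : g₀ * (z₀ ≫ i) = z₂ ≫ i := by
      simp only [g₀, z₀, z₂, Category.assoc]
      exact pr_cond p₀
    have e₁ : g₁ * (z₀ ≫ i) = z₁ ≫ i := by
      rw [← hz]
      simp only [g₁, z₁, Category.assoc]
      exact pr_cond p₁
    let p₂ : Eo ⟶ Pr i := pullback.lift (lift (toUnit _ ≫ g) z₁) z₂ (by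
      rw [mv, MonObj.comp_mul, lift_fst, lift_snd_assoc, ← e₁, hg, _root_.mul_assoc, e₀, mul_inv_cancel_left])
    have hd₁ : (eι ≫ a₀ ≫ d) ≫ opι W' = p₂ ≫ incl i j := by
      simp only [Category.assoc, hd, pr₁, comp_lift, hc₁, incl, p₂, pullback.lift_fst_assoc, lift_whiskerLeft, act, z₁]
      congr 1
      simp only [← Category.assoc, toUnit_unique (_ ≫ toUnit (opn V₁)) (toUnit Eo)]
    have := hm' Eo (eι ≫ a₀ ≫ d) p₂ hd₁
    simp only [Category.assoc] at this
    rw [this]
    simp only [p₂, act, pullback.lift_snd_assoc, z₂, p₀, Category.assoc]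
  · have huc : u ≫ c = v := opn_hom_ext _ _ (by rw [Category.assoc, hc, hu, hv])
    rw [← Category.assoc, show u ≫ d = w' from opn_hom_ext _ _ (by rw [Category.assoc, hd, reassoc_of% huc, hvp, hw']), hz]

/-- A connected subgroup fixing a closed point of the model is affine. -/
theorem isAffine_stab [Nonempty Z.left] [IsIntegral U.left] [IsAffine U.left] [QuasiCompact G.hom]
    {H : Over (Spec (CommRingCat.of k))} [GrpObj H] [LocallyOfFiniteType H.hom] [QuasiCompact H.hom]
    (ι' : H ⟶ G) [IsMonHom ι'] [Mono ι'] (x : 𝟙_ (Over (Spec (CommRingCat.of k))) ⟶ U)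
    (hall : ∀ h : 𝟙_ (Over (Spec (CommRingCat.of k))) ⟶ H, Rel i j (h ≫ ι') x x) : IsAffine H.left := by
  obtain ⟨Q, _, qa, K, _, κ, _, hQ, _, hqa, _, _, hker, -, _, _, hK⟩ := Affinize.exists_kernel H
  have := isSeparated_grp K
  have hKs : Smooth K.hom := SGA3a.Affinization.smooth_of_antiAff K hK
  have hKr : IsReduced K.left := isReduced_of_smooth K.hom
  obtain ⟨Ω, μΩ, hgood, hmax⟩ := exists_domain i j
  let x₀ := x.left (IsLocalRing.closedPoint k)
  have hpt : ∀ h : 𝟙_ (Over (Spec (CommRingCat.of k))) ⟶ K,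
      (lift (h ≫ κ ≫ ι') x).left (IsLocalRing.closedPoint k) ∈ Ω := fun h => by
    obtain ⟨W, m, w, hm, hw, -⟩ := hall (h ≫ κ)
    rw [← Category.assoc, ← hw]
    exact hmax W m hm (opn_mem w _)
  have hone : ∀ h : 𝟙_ (Over (Spec (CommRingCat.of k))) ⟶ K, h = 1 := fun h => by
    let F : K ⊗ U ⟶ G ⊗ U := (κ ≫ ι') ▷ U
    let O : (K ⊗ U).left.Opens := F.left ⁻¹ᵁ Ω
    let sx : K ⟶ K ⊗ U := lift (𝟙 K) (toUnit K ≫ x)
    have hsx : ∀ q, sx.left q ∈ O := by
      by_contra hne
      push Not at hne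
      obtain ⟨q, hq⟩ := hne
      have : JacobsonSpace K.left := LocallyOfFiniteType.jacobsonSpace K.hom
      obtain ⟨q', hq', hc⟩ := nonempty_inter_closedPoints (Z := (sx.left ⁻¹' (O : Set (K ⊗ U).left))ᶜ) ⟨q, hq⟩
        (O.2.preimage sx.left.continuous).isClosed_compl.isLocallyClosed
      obtain ⟨p, rfl⟩ := ptVal_eq q' hc
      refine hq' ?_
      show (p ≫ sx ≫ F).left (IsLocalRing.closedPoint k) ∈ Ω
      rw [show p ≫ sx ≫ F = lift (p ≫ κ ≫ ι') x by
        ext : 1 <;> simp [F, sx, reassoc_of% (toUnit_unique (p ≫ toUnit K) (𝟙 _))]]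
      exact hpt p
    -- the translation near `x`
    let th : U ⟶ G ⊗ U := lift (toUnit U ≫ h ≫ κ ≫ ι') (𝟙 U)
    let s₁ : U ⟶ G ⊗ U := lift 1 (𝟙 U)
    let V : U.left.Opens := th.left ⁻¹ᵁ Ω ⊓ s₁.left ⁻¹ᵁ Ω
    have hxV : x₀ ∈ V := by
      refine ⟨?_, ?_⟩
      · show (x ≫ th).left (IsLocalRing.closedPoint k) ∈ Ω
        rw [show x ≫ th = lift (h ≫ κ ≫ ι') x by
          ext : 1 <;> simp [th, reassoc_of% (toUnit_unique (x ≫ toUnit U) (𝟙 _))]]
        exact hpt h
      · show (x ≫ s₁).left (IsLocalRing.closedPoint k) ∈ Ω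
        have h1 := hpt 1
        rw [MonObj.one_comp] at h1
        rwa [show x ≫ s₁ = lift 1 x by simp [s₁, comp_lift, MonObj.comp_one]]
    let Vo : Over (Spec (CommRingCat.of k)) := Over.mk (V.ι ≫ U.hom)
    let vι : Vo ⟶ U := Over.homMk V.ι rfl
    obtain ⟨a, ha⟩ := exists_opn_lift (vι ≫ th) Ω fun t => t.2.1
    obtain ⟨b, hb⟩ := exists_opn_lift (vι ≫ s₁) Ω fun t => t.2.2
    have hbid : b ≫ μΩ = vι := by
      obtain ⟨w, hw⟩ := exists_opn_lift (lift (1 : 𝟙_ (Over (Spec (CommRingCat.of k))) ⟶ G) x) Ω fun t => by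
        rw [Subsingleton.elim (α := PrimeSpectrum k) t (IsLocalRing.closedPoint k)]
        have h1 := hpt 1
        rwa [MonObj.one_comp] at h1
      exact (eq_of_rel_one hgood w hw rfl).2 Vo b vι (by rw [hb, comp_lift, MonObj.comp_one, Category.comp_id])
    -- infinitesimal neighbourhoods
    let R := U.left.presheaf.stalk x₀
    have : IsLocallyNoetherian U.left := LocallyOfFiniteType.isLocallyNoetherian U.hom
    have hloc : ∀ n : ℕ, 1 ≤ n → Spec.map (CommRingCat.ofHom (Ideal.Quotient.mk ((IsLocalRing.maximalIdeal R) ^ n))) ≫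
        V.fromSpecStalkOfMem x₀ hxV ≫ (a ≫ μΩ).left =
        Spec.map (CommRingCat.ofHom (Ideal.Quotient.mk ((IsLocalRing.maximalIdeal R) ^ n))) ≫
        V.fromSpecStalkOfMem x₀ hxV ≫ (b ≫ μΩ).left := by
      intro n hn
      let N : Over (Spec (CommRingCat.of k)) :=
        Over.mk (Spec.map (CommRingCat.ofHom (Ideal.Quotient.mk ((IsLocalRing.maximalIdeal R) ^ n))) ≫
          V.fromSpecStalkOfMem x₀ hxV ≫ Vo.hom)
      let nι : N ⟶ Vo := Over.homMk
        (Spec.map (CommRingCat.ofHom (Ideal.Quotient.mk ((IsLocalRing.maximalIdeal R) ^ n))) ≫ V.fromSpecStalkOfMem x₀ hxV) (by simp [N])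
      have hpts : ∀ t : N.left, (nι ≫ vι).left t = x₀ := fun t => by
        have ht : Spec.map (CommRingCat.ofHom (Ideal.Quotient.mk ((IsLocalRing.maximalIdeal R) ^ n))) t =
            IsLocalRing.closedPoint R := by
          refine PrimeSpectrum.ext ((IsLocalRing.maximalIdeal.isMaximal R).eq_of_le (Ideal.IsPrime.ne_top inferInstance) ?_).symm
          show IsLocalRing.maximalIdeal R ≤ Ideal.comap _ (t : PrimeSpectrum _).asIdeal
          intro r hr
          refine (t : PrimeSpectrum _).isPrime.mem_of_pow_mem n ?_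
          show (Ideal.Quotient.mk _ r) ^ n ∈ (t : PrimeSpectrum _).asIdeal
          rw [← map_pow, Ideal.Quotient.eq_zero_iff_mem.2 (Ideal.pow_mem_pow hr n)]
          exact zero_mem _
        show V.ι (V.fromSpecStalkOfMem x₀ hxV _) = x₀
        rw [← Scheme.Hom.comp_apply, Scheme.Opens.fromSpecStalkOfMem_ι]
        exact (congrArg (fun r => U.left.fromSpecStalk x₀ r) ht).trans Scheme.fromSpecStalk_closedPoint
      let T := K ⊗ N
      obtain ⟨t, ht⟩ := exists_opn_lift ((K ◁ (nι ≫ vι)) ≫ F) Ω fun q => by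
        show (K ◁ (nι ≫ vι)).left q ∈ O
        have h2 : (snd K U).left ((K ◁ (nι ≫ vι)).left q) = x₀ := by
          rw [← Scheme.Hom.comp_apply, ← Over.comp_left, whiskerLeft_snd, Over.comp_left, Scheme.Hom.comp_apply]
          exact hpts _
        have hsq : IsPullback sx (toUnit K) (snd K U) x := by
          refine ⟨⟨by simp [sx]⟩, ⟨PullbackCone.IsLimit.mk _ (fun s => s.fst ≫ fst K U) ?_ ?_ ?_⟩⟩
          · intro s
            ext : 1
            · simp [sx]
            · simp [sx, s.condition, toUnit_unique s.snd (toUnit _)]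
          · intro s; exact toUnit_unique _ _
          · intro s m h1 _
            rw [← h1]; simp [sx]
        obtain ⟨z, hz, -⟩ := Scheme.Pullback.exists_preimage_pullback (f := (snd K U).left) (g := x.left) ((K ◁ (nι ≫ vι)).left q) (IsLocalRing.closedPoint k) h2
        have h3 := congrArg (fun f : _ ⟶ (K ⊗ U).left => f z) (isPullback_left hsq).isoPullback_inv_fst
        simp only [Scheme.Hom.comp_apply, hz] at h3
        rw [← h3]
        exact hsx _
      have hsep : QuasiSeparated K.hom := inferInstance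
      have hconst : t ≫ μΩ = snd K N ≫ lift (toUnit N ≫ η[K]) (𝟙 N) ≫ t ≫ μΩ := by
        have e : (snd K N ≫ lift (toUnit N ≫ η[K]) (𝟙 N)).left.appTop = 𝟙 _ := toSpecΓ_prod (Y := N) hK η[K]
        rw [← Scheme.Hom.id_appTop, ← comp_toSpecΓ_eq_iff] at e
        refine Over.OverMorphism.ext ?_
        rw [← cancel_mono U.left.toSpecΓ, ← Category.assoc (snd K N), Over.comp_left (f := snd K N ≫ _), Category.assoc,
          Scheme.toSpecΓ_naturality, reassoc_of% e]
      have e1 : lift (toUnit N ≫ h) (𝟙 N) ≫ t = nι ≫ a := opn_hom_ext _ _ (by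
        rw [Category.assoc, ht, Category.assoc, ha]
        ext : 1 <;> simp [F, th, reassoc_of% (toUnit_unique (nι ≫ vι ≫ toUnit U) (toUnit N))])
      have e2 : lift (toUnit N ≫ η[K]) (𝟙 N) ≫ t = nι ≫ b := opn_hom_ext _ _ (by
        rw [Category.assoc, ht, Category.assoc, hb]
        ext : 1
        · simp [F, s₁, MonObj.comp_one, IsMonHom.one_hom, one_def']
        · simp [F, s₁])
      have e3 : nι ≫ a ≫ μΩ = nι ≫ b ≫ μΩ := by
        rw [← reassoc_of% e1, hconst, ← Category.assoc _ (snd K N), lift_snd, Category.id_comp, ← reassoc_of% e2]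
      simpa [nι] using congr($(e3).left)
    let sS := V.fromSpecStalkOfMem x₀ hxV
    have hst : sS ≫ (a ≫ μΩ).left = sS ≫ (b ≫ μΩ).left := by
      refine ext_of_isAffine ?_
      apply CommRingCat.hom_ext
      ext c
      let e := (Scheme.ΓSpecIso R)
      have key : ∀ n : ℕ, 1 ≤ n → ∀ f : Spec R ⟶ U.left,
          Ideal.Quotient.mk ((IsLocalRing.maximalIdeal R) ^ n) (e.hom (f.appTop c)) =
          (Scheme.ΓSpecIso _).hom ((Spec.map (CommRingCat.ofHom (Ideal.Quotient.mk ((IsLocalRing.maximalIdeal R) ^ n))) ≫ f).appTop c) := by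
        intro n _ f
        rw [Scheme.Hom.comp_appTop, CommRingCat.comp_apply]
        exact (congr($(Scheme.ΓSpecIso_naturality (CommRingCat.ofHom (Ideal.Quotient.mk ((IsLocalRing.maximalIdeal R) ^ n)))) (f.appTop c))).symm
      have hz : e.hom ((sS ≫ (a ≫ μΩ).left).appTop c) - e.hom ((sS ≫ (b ≫ μΩ).left).appTop c) = 0 := by
        have hbot := Ideal.iInf_pow_eq_bot_of_isLocalRing (IsLocalRing.maximalIdeal R) (IsLocalRing.maximalIdeal.isMaximal R).ne_top
        rw [← Ideal.mem_bot, ← hbot, Submodule.mem_iInf]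
        intro n
        rcases Nat.eq_zero_or_pos n with rfl | hn
        · simp
        · rw [← Ideal.Quotient.eq, key n hn, key n hn, hloc n hn]
      exact ((ConcreteCategory.isIso_iff_bijective e.hom).1 inferInstance).1 (sub_eq_zero.1 hz)
    have hVne : Nonempty V.toScheme := ⟨⟨x₀, hxV⟩⟩
    have : IsIntegral V.toScheme := isIntegral_of_isOpenImmersion V.ι
    have : IsReduced Vo.left := inferInstanceAs (IsReduced V.toScheme)
    have : IsDominant sS := by
      refine ⟨fun t => closure_mono (Set.singleton_subset_iff.2 ?_) ((genericPoint_spec V.toScheme).ge trivial)⟩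
      have h1 : V.ι (genericPoint V.toScheme) ⤳ x₀ :=
        ((genericPoint_spec V.toScheme).specializes (y := ⟨x₀, hxV⟩) trivial).map V.ι.continuous
      obtain ⟨r, hr⟩ := (Scheme.range_fromSpecStalk (X := U.left) (x := x₀)).ge h1
      refine ⟨r, V.ι.isOpenEmbedding.injective ?_⟩
      rw [← Scheme.Hom.comp_apply, Scheme.Opens.fromSpecStalkOfMem_ι]
      exact hr
    have hav : a ≫ μΩ = vι := by
      rw [← hbid]
      exact Over.OverMorphism.ext (ext_of_isDominant_of_isSeparated U.hom (by rw [Over.w, Over.w]) sS hst)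
    -- so `h` fixes a point of `Z`
    let h' := h ≫ κ ≫ ι'
    have : LocallyOfFiniteType Z.hom := by rw [← Over.w i]; infer_instance
    have : IrreducibleSpace Z.left := by
      have hs : Function.Surjective (snd G Z).left := fun z => ⟨(lift 1 (𝟙 Z)).left z, by
        rw [← Scheme.Hom.comp_apply, ← Over.comp_left, lift_snd]; rfl⟩
      exact irred_of_surjective _ (snd G Z).left.continuous hs
    have : IrreducibleSpace G.left := by
      obtain ⟨q⟩ := ‹Nonempty Z.left›
      have : JacobsonSpace Z.left := LocallyOfFiniteType.jacobsonSpace Z.hom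
      obtain ⟨z, -, hz⟩ := nonempty_inter_closedPoints (Z := (Set.univ : Set Z.left)) ⟨q, trivial⟩ isOpen_univ.isLocallyClosed
      obtain ⟨z', -⟩ := ptVal_eq z hz
      have hs : Function.Surjective (fst G Z).left := fun g => ⟨(lift (𝟙 G) (toUnit G ≫ z')).left g, by
        rw [← Scheme.Hom.comp_apply, ← Over.comp_left, lift_fst]; rfl⟩
      exact irred_of_surjective _ (fst G Z).left.continuous hs
    let L : Z ⟶ G := (toUnit Z ≫ h') * i
    let Ri : G.left.Opens := ⟨Set.range i.left, i.left.isOpenEmbedding.isOpen_range⟩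
    have hN : ((L.left ⁻¹ᵁ Ri : Z.left.Opens) ⊓ j.left ⁻¹ᵁ V : Set Z.left).Nonempty := by
      refine nonempty_preirreducible_inter (L.left ⁻¹ᵁ Ri).2 (j.left ⁻¹ᵁ V).2 ?_ ?_
      · let Lh : G ⟶ G := (toUnit G ≫ h') * 𝟙 G
        have : IsIso Lh := ⟨(toUnit G ≫ h')⁻¹ * 𝟙 G, by
          constructor <;> simp [Lh, MonObj.comp_mul, GrpObj.comp_inv, toUnit_unique (_ ≫ toUnit G) (toUnit G)]⟩
        have : IsIso Lh.left := (Over.forget _).map_isIso Lh
        obtain ⟨q⟩ := ‹Nonempty Z.left›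
        obtain ⟨y, ⟨z, rfl⟩, hy⟩ := nonempty_preirreducible_inter i.left.isOpenEmbedding.isOpen_range
          (Ri.2.preimage Lh.left.continuous) ⟨_, q, rfl⟩ (by
            obtain ⟨r, hr⟩ := Lh.left.surjective (i.left q)
            exact ⟨r, show Lh.left r ∈ Ri by rw [hr]; exact ⟨q, rfl⟩⟩)
        refine ⟨z, ?_⟩
        show L.left z ∈ Ri
        rw [show L = i ≫ Lh by simp [L, Lh, MonObj.comp_mul, toUnit_unique (i ≫ toUnit G) (toUnit Z)], Over.comp_left,
          Scheme.Hom.comp_apply]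
        exact hy
      · obtain ⟨y, ⟨z, rfl⟩, hy⟩ := nonempty_preirreducible_inter j.left.isOpenEmbedding.isOpen_range V.2
          (Set.range_nonempty _) ⟨x₀, hxV⟩
        exact ⟨z, hy⟩
    have : JacobsonSpace Z.left := LocallyOfFiniteType.jacobsonSpace Z.hom
    obtain ⟨zt, ⟨hz1, hz2⟩, hzc⟩ := nonempty_inter_closedPoints hN
      ((L.left ⁻¹ᵁ Ri).2.inter (j.left ⁻¹ᵁ V).2).isLocallyClosed
    obtain ⟨z₀, rfl⟩ := ptVal_eq zt hzc
    obtain ⟨z₁, hz₁⟩ : ∃ z₁ : 𝟙_ (Over (Spec (CommRingCat.of k))) ⟶ Z, z₁ ≫ i = h' * (z₀ ≫ i) := by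
      obtain ⟨z, hz⟩ := hz1
      have h2 : Set.range (h' * (z₀ ≫ i)).left ⊆ Set.range i.left := by
        rintro _ ⟨q, rfl⟩
        rw [Subsingleton.elim (α := PrimeSpectrum k) q (IsLocalRing.closedPoint k)]
        refine ⟨z, ?_⟩
        rw [hz, show h' * (z₀ ≫ i) = z₀ ≫ L by simp [L, MonObj.comp_mul, reassoc_of% (toUnit_unique (z₀ ≫ toUnit Z) (𝟙 _))],
          Over.comp_left, Scheme.Hom.comp_apply]
      refine ⟨Over.homMk (IsOpenImmersion.lift i.left _ h2) ?_, Over.OverMorphism.ext (IsOpenImmersion.lift_fac _ _ _)⟩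
      rw [← Over.w i, IsOpenImmersion.lift_fac_assoc, Over.w]
    obtain ⟨v₀, hv₀⟩ := exists_open_lift (z₀ ≫ j) V fun t => by
      rw [Subsingleton.elim (α := PrimeSpectrum k) t (IsLocalRing.closedPoint k), Over.comp_left, Scheme.Hom.comp_apply]
      exact hz2
    let p₀ : 𝟙_ (Over (Spec (CommRingCat.of k))) ⟶ Pr i := pullback.lift (lift h' z₀) z₁ (by
      rw [mv, MonObj.comp_mul, lift_fst, lift_snd_assoc, hz₁])
    have e := hgood _ (v₀ ≫ a) p₀ (by
      rw [Category.assoc, ha, ← Category.assoc, show v₀ ≫ vι = z₀ ≫ j from hv₀, incl, pullback.lift_fst_assoc, lift_whiskerLeft]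
      ext : 1 <;> simp [th, h', reassoc_of% (toUnit_unique ((z₀ ≫ j) ≫ toUnit U) (𝟙 _))])
    rw [Category.assoc, hav, show v₀ ≫ vι = z₀ ≫ j from hv₀, act, pullback.lift_snd_assoc] at e
    have := Over.mono_of_mono_left j
    have hzz : z₁ = z₀ := ((cancel_mono j).1 e).symm
    rw [hzz, eq_comm, mul_eq_right] at hz₁
    have := Over.mono_of_mono_left κ
    rw [← cancel_mono (κ ≫ ι'), MonObj.one_comp]
    exact hz₁
  -- `K` is trivial
  have : JacobsonSpace K.left := LocallyOfFiniteType.jacobsonSpace K.hom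
  have hsub : ∀ q : K.left, q = η[K].left (IsLocalRing.closedPoint k) := fun q => by
    by_contra hne
    obtain ⟨q', hq', hc⟩ := nonempty_inter_closedPoints (Z := ({η[K].left (IsLocalRing.closedPoint k)} : Set K.left)ᶜ) ⟨q, hne⟩
      (rat_isClosed η[K]).isOpen_compl.isLocallyClosed
    obtain ⟨p, rfl⟩ := ptVal_eq q' hc
    refine hq' ?_
    rw [hone p, one_def', toUnit_unique (toUnit _) (𝟙 _), Category.id_comp]
    rfl
  have : IsClosedImmersion η[K].left := RedPts82.isClosedImmersion_section _ (toUnit _) (toUnit_unique _ _)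
  have : Surjective η[K].left := ⟨fun q => ⟨_, (hsub q).symm⟩⟩
  have := isIso_of_isClosedImmersion_of_surjective η[K].left
  have hη : IsIso η[K] := by
    have : IsIso ((Over.forget _).map η[K]) := this
    exact isIso_of_reflects_iso η[K] (Over.forget _)
  have : LocallyOfFiniteType Q.hom := inferInstance
  have : IsClosedImmersion qa.left := isClosedImmersion_hom_of_trivial_kernel qa fun T g hg => by
    obtain ⟨n, rfl⟩ := exists_ker_of_comp_one hker g hg
    rw [show n = (n ≫ inv η[K]) ≫ η[K] by simp, toUnit_unique (n ≫ inv η[K]) (toUnit T), ← one_def', MonObj.one_comp]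
  exact isAffine_of_isAffineHom qa.left

end Geometry

end

end Groth.Agent.AlgGrp33.BirAction
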