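import Groth.Agent.Comod33.LineStab
import Mathlib.RingTheory.Bialgebra.MonoidAlgebra
import Mathlib.RingTheory.Bialgebra.Hom

/-!
Characters extending the weight one of a central split torus.
-/

set_option autoImplicit false

universe u v

open TensorProduct Matrix

noncomputable section

namespace Groth.Agent.AlgGrp33.CentralChar

variable {k : Type u} [Field k] {M : Type v} [Monoid M]

/-- the coefficient at a monomial -/
def coeffLin (m : M) : MonoidAlgebra k M →ₗ[k] k where
  toFun p := p.coeff m
  map_add' p q := by simp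
  map_smul' c p := by simp

theorem coeffLin_comul (m : M) (b : MonoidAlgebra k M) :
    TensorProduct.rid k (MonoidAlgebra k M) ((coeffLin m).lTensor _ (CoalgebraStruct.comul (R := k) b)) =
      coeffLin m b • MonoidAlgebra.single m 1 := by
  classical
  induction b using MonoidAlgebra.induction_on with
  | of g =>
    rw [MonoidAlgebra.of_apply, (MonoidAlgebra.isGroupLikeElem_single_one g).comul_eq_tmul_self,
      LinearMap.lTensor_tmul, TensorProduct.rid_tmul]
    by_cases h : g = m
    · rw [h]
    · rw [show coeffLin m (MonoidAlgebra.single g (1 : k)) = 0 from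
        show (MonoidAlgebra.single g (1 : k)).coeff m = 0 by rw [MonoidAlgebra.coeff_single]; exact Finsupp.single_eq_of_ne (Ne.symm h)]
      simp
  | add p q hp hq => simp only [map_add, hp, hq, add_smul]
  | smul r p hp => simp only [map_smul, hp, smul_smul, smul_eq_mul]

variable {A : Type u} [CommRing A] [HopfAlgebra k A]

open Comod33.LineStab in
theorem exists_groupLike {B : Type u} [CommRing B] [Bialgebra k B] (δ : B →ₗ[k] k) (t : B)
    (hδ : ∀ b : B, TensorProduct.rid k B (δ.lTensor B (CoalgebraStruct.comul (R := k) b)) = δ b • t) (hδt : δ t = 1)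
    (π : A →ₐc[k] B) (hπ : Function.Surjective π)
    (hc : ∀ a, (π : A →ₐ[k] B).toLinearMap.lTensor A (CoalgebraStruct.comul (R := k) a) =
      TensorProduct.comm k B A ((π : A →ₐ[k] B).toLinearMap.rTensor A (CoalgebraStruct.comul (R := k) a))) :
    ∃ (D : A) (r : ℕ), CoalgebraStruct.comul (R := k) D = D ⊗ₜ[k] D ∧ CoalgebraStruct.counit (R := k) D = 1 ∧
      1 ≤ r ∧ π D = t ^ r := by
  classical
  obtain ⟨a, ha⟩ := hπ t
  obtain ⟨M, hM, haM, hst⟩ := exists_finite_stable (R := k) ({a} : Finset A)
  haveI : Module.Finite k M := Module.Finite.iff_fg.2 hM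
  let b := Module.finBasis k M
  let bb : Fin (Module.finrank k M) → A := fun i => (b i : A)
  have hb : LinearIndependent k bb := b.linearIndependent.map' M.subtype M.ker_subtype
  have hex : ∀ j, ∃ c : Fin (Module.finrank k M) → A,
      CoalgebraStruct.comul (R := k) (bb j) = ∑ i, bb i ⊗ₜ[k] c i := by
    intro j
    obtain ⟨z, hz⟩ := hst (bb j) (b j).2
    rw [← hz]
    clear hz
    induction z with
    | zero => exact ⟨0, by simp⟩
    | add p q hp hq =>
      obtain ⟨c, hc⟩ := hp
      obtain ⟨c', hc'⟩ := hq
      exact ⟨c + c', by simp [map_add, hc, hc', tmul_add, Finset.sum_add_distrib]⟩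
    | tmul x y =>
      refine ⟨fun i => b.repr x i • y, ?_⟩
      have hx : M.subtype x = ∑ i, b.repr x i • bb i := by
        conv_lhs => rw [← b.sum_repr x]
        rw [map_sum]
        exact Finset.sum_congr rfl fun i _ => M.subtype.map_smul _ _
      rw [LinearMap.rTensor_tmul, hx, sum_tmul]
      exact Finset.sum_congr rfl fun i _ => smul_tmul _ _ _
  choose c hcc using hex
  let C : Matrix (Fin (Module.finrank k M)) (Fin (Module.finrank k M)) A := Matrix.of fun i j => c j i
  have hrep : IsRep k C := isRep_of_family hb fun j => hcc j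
  -- the projection on the weight
  let P : Matrix (Fin (Module.finrank k M)) (Fin (Module.finrank k M)) k := C.map fun x => δ (π x)
  have hπΔ : ∀ i j, CoalgebraStruct.comul (R := k) (π (C i j)) = ∑ l, π (C i l) ⊗ₜ[k] π (C l j) := fun i j => by
    rw [← CoalgHomClass.map_comp_comul_apply, (isRep_iff.1 hrep).1, map_sum]
    rfl
  have hact : C.map π * P.map (algebraMap k B) = t • P.map (algebraMap k B) := by
    ext i j
    have h := hδ (π (C i j))
    rw [hπΔ, map_sum, map_sum] at h
    simp only [LinearMap.lTensor_tmul, TensorProduct.rid_tmul] at h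
    simp only [Matrix.mul_apply, Matrix.smul_apply, Matrix.map_apply, smul_eq_mul, P]
    rw [mul_comm t, ← Algebra.smul_def, ← h]
    exact Finset.sum_congr rfl fun l _ => by rw [mul_comm, ← Algebra.smul_def]
  have hPP : P * P = P := by
    ext i j
    have h := congrArg δ (congrFun (congrFun hact i) j)
    simp only [Matrix.mul_apply, Matrix.smul_apply, Matrix.map_apply, smul_eq_mul, map_sum] at h
    rw [mul_comm t, ← Algebra.smul_def, map_smul, hδt, smul_eq_mul, mul_one] at h
    refine Eq.trans ?_ h
    simp only [Matrix.mul_apply]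
    refine Finset.sum_congr rfl fun l _ => ?_
    rw [mul_comm (π _), ← Algebra.smul_def, map_smul, smul_eq_mul]
    exact mul_comm _ _
  have hcomm : C * P.map (algebraMap k A) = P.map (algebraMap k A) * C := by
    ext i j
    have h := congrArg (fun z => TensorProduct.rid k A (δ.lTensor A z)) (hc (C i j))
    simp only [(isRep_iff.1 hrep).1, map_sum, LinearMap.lTensor_tmul, LinearMap.rTensor_tmul,
      TensorProduct.comm_tmul, TensorProduct.rid_tmul, AlgHom.toLinearMap_apply] at h
    simp only [Matrix.mul_apply, Matrix.map_apply]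
    refine Eq.trans ?_ (h.trans ?_)
    · exact Finset.sum_congr rfl fun l _ => by rw [mul_comm, ← Algebra.smul_def]; rfl
    · exact Finset.sum_congr rfl fun l _ => by rw [← Algebra.smul_def]; rfl
  let f := Matrix.toLin' P
  have hf : ∀ v, f (f v) = f v := fun v => by
    rw [← LinearMap.comp_apply, ← Matrix.toLin'_mul, hPP]
  let W := LinearMap.range f
  let w := Module.finBasis k W
  let e := Pi.basisFun k (Fin (Module.finrank k M))
  let U : Matrix (Fin (Module.finrank k M)) (Fin (Module.finrank k W)) k := LinearMap.toMatrix w e W.subtype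
  let V : Matrix (Fin (Module.finrank k W)) (Fin (Module.finrank k M)) k :=
    LinearMap.toMatrix e w f.rangeRestrict
  have hVU : V * U = 1 := by
    rw [← LinearMap.toMatrix_comp, ← LinearMap.toMatrix_id w]
    congr 1
    refine LinearMap.ext fun x => Subtype.ext ?_
    obtain ⟨y, hy⟩ := x.2
    show f (x : Fin _ → k) = x
    rw [← hy, hf]
  have hUV : U * V = P := by
    rw [← LinearMap.toMatrix_comp, LinearMap.subtype_comp_codRestrict]
    exact LinearMap.toMatrix'_toLin' P
  have hPU : P * U = U := by rw [← hUV, Matrix.mul_assoc, hVU, Matrix.mul_one]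
  let C' : Matrix (Fin (Module.finrank k W)) (Fin (Module.finrank k W)) A :=
    V.map (algebraMap k A) * C * U.map (algebraMap k A)
  have hmap : ∀ {X : Type u} [CommRing X] [Algebra k X] {p q : ℕ} (g : A →ₐ[k] X) (N : Matrix (Fin p) (Fin q) k),
      (N.map (algebraMap k A)).map g = N.map (algebraMap k X) := by
    intro X _ _ p q g N
    ext i j
    simp
  have hC' : ∀ {X : Type u} [CommRing X] [Algebra k X] (g : A →ₐ[k] X),
      C'.map g = V.map (algebraMap k X) * C.map g * U.map (algebraMap k X) := by
    intro X _ _ g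
    simp only [C', Matrix.map_mul, hmap]
  have hrep' : IsRep k C' := by
    refine ⟨?_, ?_⟩
    · have hP : U.map (algebraMap k (A ⊗[k] A)) * V.map (algebraMap k (A ⊗[k] A)) =
          P.map (algebraMap k (A ⊗[k] A)) := by rw [← Matrix.map_mul, hUV]
      have hcommR : C.map (Algebra.TensorProduct.includeRight : A →ₐ[k] A ⊗[k] A) * P.map (algebraMap k _) =
          P.map (algebraMap k _) * C.map (Algebra.TensorProduct.includeRight : A →ₐ[k] A ⊗[k] A) := by
        rw [← hmap (Algebra.TensorProduct.includeRight : A →ₐ[k] A ⊗[k] A) P, ← Matrix.map_mul, ← Matrix.map_mul, hcomm]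
      have hU : P.map (algebraMap k (A ⊗[k] A)) * U.map (algebraMap k _) = U.map (algebraMap k _) := by
        rw [← Matrix.map_mul, hPU]
      rw [hC', hC', hC', hrep.comul]
      simp only [Matrix.mul_assoc]
      rw [← Matrix.mul_assoc (U.map (algebraMap k _)) (V.map (algebraMap k _)), hP,
        ← Matrix.mul_assoc (P.map (algebraMap k _)), ← hcommR, Matrix.mul_assoc, hU]
    · rw [hC', hrep.counit, Matrix.mul_one, ← Matrix.map_mul, hVU]
      exact Matrix.map_one _ (map_zero _) (map_one _)
  have hπC' : C'.map (π : A →ₐ[k] B) = t • (1 : Matrix _ _ B) := by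
    have hU : U.map (algebraMap k B) = P.map (algebraMap k B) * U.map (algebraMap k B) := by
      rw [← Matrix.map_mul, hPU]
    rw [hC', hU, Matrix.mul_assoc, ← Matrix.mul_assoc (C.map (π : A →ₐ[k] B)),
      show C.map (π : A →ₐ[k] B) = C.map π from rfl, hact, Matrix.smul_mul, ← hU, Matrix.mul_smul, ← Matrix.map_mul,
      hVU, Matrix.map_one _ (map_zero _) (map_one _)]
  refine ⟨C'.det, Module.finrank k W, ?_, ?_, ?_, ?_⟩
  · have h := congrArg Matrix.det hrep'.comul
    rw [Matrix.det_mul, ← AlgHom.mapMatrix_apply, ← AlgHom.map_det, ← AlgHom.mapMatrix_apply,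
      ← AlgHom.map_det, ← AlgHom.mapMatrix_apply, ← AlgHom.map_det] at h
    simpa using h
  · have h := congrArg Matrix.det hrep'.counit
    rw [Matrix.det_one, ← AlgHom.mapMatrix_apply, ← AlgHom.map_det] at h
    simpa using h
  · by_contra h0
    have hW : W = ⊥ := Submodule.finrank_eq_zero.1 (by omega)
    have hP0 : P = 0 := by
      have : f = 0 := LinearMap.range_eq_bot.1 hW
      simpa [f] using this
    obtain ⟨x, hx⟩ : ∃ x : M, (x : A) = a := ⟨⟨a, haM (by simp)⟩, rfl⟩
    have h1 : δ (π (x : A)) = 1 := by rw [hx, ha, hδt]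
    have h2 : ∀ j, δ (π (bb j)) = 0 := fun j => by
      rw [family_eq (fun j => hcc j) j, map_sum, map_sum]
      refine Finset.sum_eq_zero fun i _ => ?_
      rw [map_smul, map_smul, show δ (π (c j i)) = P i j from rfl, hP0, Matrix.zero_apply, smul_zero]
    rw [← b.sum_repr x, Submodule.coe_sum, map_sum, map_sum] at h1
    rw [Finset.sum_eq_zero fun j _ => by
      rw [Submodule.coe_smul, map_smul, map_smul, show δ (π (b j : A)) = 0 from h2 j, smul_zero]] at h1
    exact zero_ne_one h1
  · show (π : A →ₐ[k] B) C'.det = _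
    rw [AlgHom.map_det, AlgHom.mapMatrix_apply, hπC', Matrix.det_smul, Matrix.det_one, mul_one, Fintype.card_fin]


/-- the split one-dimensional torus -/
theorem exists_groupLike_Gm (π : A →ₐc[k] MonoidAlgebra k (Multiplicative ℤ)) (hπ : Function.Surjective π)
    (hc : ∀ a, (π : A →ₐ[k] MonoidAlgebra k (Multiplicative ℤ)).toLinearMap.lTensor A
        (CoalgebraStruct.comul (R := k) a) =
      TensorProduct.comm k _ A ((π : A →ₐ[k] MonoidAlgebra k (Multiplicative ℤ)).toLinearMap.rTensor A
        (CoalgebraStruct.comul (R := k) a))) :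
    ∃ (D : A) (r : ℕ), CoalgebraStruct.comul (R := k) D = D ⊗ₜ[k] D ∧ CoalgebraStruct.counit (R := k) D = 1 ∧
      1 ≤ r ∧ π D = MonoidAlgebra.single (Multiplicative.ofAdd (1 : ℤ)) 1 ^ r := by
  let m : Multiplicative ℤ := Multiplicative.ofAdd (1 : ℤ)
  have h2 : coeffLin (k := k) m (MonoidAlgebra.single m 1) = 1 := by
    simp [coeffLin, MonoidAlgebra.coeff_single]
  have h1 := coeffLin_comul (k := k) m
  exact exists_groupLike (coeffLin (k := k) m) (MonoidAlgebra.single m 1) h1 h2 π hπ hc

end Groth.Agent.AlgGrp33.CentralChar
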