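import Mathlib
import Groth.Agent.E4O.DimField
import Groth.Agent.E4O.DvrDom
import Groth.Agent.S10862

/-!
Divisorial valuations of a finitely generated field extension, their existence away from given functions, and their
restriction to subfields.
-/

set_option autoImplicit false
universe u

open scoped Classical

namespace Groth.Agent.AlgGrp33.Divisorial

noncomputable section

variable {k K : Type u} [Field k] [Field K] [Algebra k K]

/-- `V` is a discrete valuation ring over `k` with `m` residually independent elements, `m + 1 = trdeg K`. -/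
structure IsDiv (m : ℕ) (V : ValuationSubring K) (hk : ∀ c : k, algebraMap k K c ∈ V) : Prop where
  dvr : IsDiscreteValuationRing V
  indep : ∃ t : Fin m → V, ∀ p : MvPolynomial (Fin m) k, p ≠ 0 →
    V.valuation (MvPolynomial.aeval (fun i => (t i : K)) p) = 1

lemma aeval_mem {ι : Type*} (V : ValuationSubring K) (hk : ∀ c : k, algebraMap k K c ∈ V) (t : ι → K)
    (ht : ∀ i, t i ∈ V) (p : MvPolynomial ι k) : MvPolynomial.aeval t p ∈ V := by
  induction p using MvPolynomial.induction_on with
  | C a => simpa using hk a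
  | add p q hp hq => rw [map_add]; exact V.add_mem _ _ hp hq
  | mul_X p i hp => rw [map_mul, MvPolynomial.aeval_X]; exact V.mul_mem _ _ hp (ht i)

/-- the subalgebra of a valuation subring containing the constants -/
def valAlg (V : ValuationSubring K) (hk : ∀ c : k, algebraMap k K c ∈ V) : Subalgebra k K :=
  { V.toSubring with algebraMap_mem' := hk }

lemma trdeg_eq_of_isFractionRing (A : Type u) [CommRing A] [IsDomain A] [Algebra k A] [Algebra A K]
    [IsScalarTower k A K] [IsFractionRing A K] : Algebra.trdeg k A = Algebra.trdeg k K := by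
  have : FaithfulSMul A K := (faithfulSMul_iff_algebraMap_injective A K).2 (IsFractionRing.injective A K)
  have : Algebra.IsAlgebraic A K := IsLocalization.isAlgebraic _ (nonZeroDivisors A)
  have h := trdeg_add_eq k A (A := K)
  rwa [trdeg_eq_zero (R := A) (A := K), add_zero] at h

/-- a divisorial valuation ring is a localization of a finitely generated algebra at a prime -/
theorem exists_model {m : ℕ} (htr : Algebra.trdeg k K = (m + 1 : ℕ)) (hfg : (⊤ : IntermediateField k K).FG)
    {V : ValuationSubring K} {hk : ∀ c : k, algebraMap k K c ∈ V} (hV : IsDiv m V hk) :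
    ∃ A : Subalgebra k K, A.FG ∧ (∀ a ∈ A, a ∈ V) ∧ IsFractionRing A K ∧ (∃ a ∈ A, a ≠ 0 ∧ V.valuation a < 1) ∧
      ∀ a ∈ V, ∃ s ∈ A, V.valuation s = 1 ∧ a * s ∈ A := by
  obtain ⟨t, ht⟩ := hV.indep
  obtain ⟨S, hS⟩ := hfg
  obtain ⟨π, hπ⟩ := (Submodule.ne_bot_iff _).1 hV.dvr.not_a_field'
  let g : K → K := fun x => if x ∈ V then x else x⁻¹
  have hg : ∀ x, g x ∈ V := fun x => by
    by_cases h : x ∈ V
    · simp only [g, if_pos h, h]
    · simp only [g, if_neg h]; exact (V.mem_or_inv_mem x).resolve_left h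
  let gens : Finset K := Finset.univ.image (fun i => (t i : K)) ∪ S.image g ∪ {(π : K)}
  let A₀ : Subalgebra k K := Algebra.adjoin k (gens : Set K)
  have hgens : ∀ x ∈ gens, x ∈ V := by
    intro x hx
    simp only [gens, Finset.mem_union, Finset.mem_image, Finset.mem_singleton] at hx
    rcases hx with (⟨i, -, rfl⟩ | ⟨y, -, rfl⟩) | rfl
    · exact (t i).2
    · exact hg y
    · exact π.2
  have hA₀V : ∀ a ∈ A₀, a ∈ V := fun a ha =>
    Algebra.adjoin_le (S := valAlg V hk) (fun x hx => hgens x hx) ha
  have : Algebra.FiniteType k A₀ := (Subalgebra.fg_iff_finiteType _).1 ⟨gens, rfl⟩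
  have hfrac₀ : IsFractionRing A₀ K := by
    have key : ∀ x : K, x ∈ IntermediateField.adjoin k (A₀ : Set K) := fun x => by
      have hx : x ∈ (⊤ : IntermediateField k K) := trivial
      rw [← hS] at hx
      refine (IntermediateField.adjoin_le_iff.2 ?_) hx
      intro y hy
      have hgy : g y ∈ IntermediateField.adjoin k (A₀ : Set K) := IntermediateField.subset_adjoin k _
        (Algebra.subset_adjoin (Finset.mem_union_left _ (Finset.mem_union_right _ (Finset.mem_image_of_mem g hy))))
      by_cases h : y ∈ V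
      · simpa [g, h] using hgy
      · simp only [g, if_neg h] at hgy
        simpa using inv_mem hgy
    refine IsFractionRing.of_field A₀ K fun x => ?_
    obtain ⟨r, hr, s, hs, rfl⟩ := IntermediateField.mem_adjoin_iff_div.1 (key x)
    rw [Algebra.adjoin_eq] at hr hs
    exact ⟨⟨r, hr⟩, ⟨s, hs⟩, rfl⟩
  have hfin : Module.Finite A₀ (integralClosure A₀ K) := S10862.result k A₀ K K
  let A : Subalgebra k K := (integralClosure A₀ K).restrictScalars k
  have hAmem : ∀ a : K, a ∈ A ↔ IsIntegral A₀ a := fun a => Iff.rfl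
  have hAV : ∀ a ∈ A, a ∈ V := by
    intro a ha
    obtain ⟨p, hp, hpa⟩ := (hAmem a).1 ha
    let ι : A₀ →+* V := A₀.val.toRingHom.codRestrict V.toSubring fun a => hA₀V a a.2
    have h : IsIntegral V a := ⟨p.map ι, hp.map ι, by
      rw [Polynomial.eval₂_map, show (algebraMap V K).comp ι = algebraMap A₀ K from RingHom.ext fun _ => rfl]
      exact hpa⟩
    obtain ⟨b, hb⟩ := IsIntegrallyClosed.isIntegral_iff.1 h
    rw [← hb]; exact b.2
  have hft : Algebra.FiniteType k (integralClosure A₀ K) :=
    Algebra.FiniteType.trans (S := A₀) inferInstance inferInstance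
  have : Algebra.FiniteType k A := hft
  have hA₀A : ∀ a ∈ A₀, a ∈ A := fun a ha => isIntegral_algebraMap (R := A₀) (x := ⟨a, ha⟩)
  have hfrac : IsFractionRing A K := by
    refine IsFractionRing.of_field A K fun x => ?_
    obtain ⟨r, s, -, hrs⟩ := IsFractionRing.div_surjective (A := A₀) x
    exact ⟨⟨r, hA₀A _ r.2⟩, ⟨s, hA₀A _ s.2⟩, hrs.symm⟩
  have hπ0 : (π : K) ≠ 0 := fun h => hπ.2 (Subtype.ext h)
  have hπ1 : V.valuation (π : K) < 1 := (V.valuation_lt_one_iff π).1 hπ.1
  have hπA : (π : K) ∈ A := hA₀A _ (Algebra.subset_adjoin (by simp [gens]))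
  refine ⟨A, (Subalgebra.fg_iff_finiteType _).2 hft, hAV, hfrac, ⟨π, hπA, hπ0, hπ1⟩, ?_⟩
  -- the centre of `V` on `A` has height one
  let ιA : A →+* V := A.val.toRingHom.codRestrict V.toSubring fun a => hAV a a.2
  let P : Ideal A := (IsLocalRing.maximalIdeal V).comap ιA
  have hP0 : P ≠ ⊥ := (Submodule.ne_bot_iff _).2 ⟨⟨π, hπA⟩, show π ∈ IsLocalRing.maximalIdeal V from hπ.1,
    fun h => hπ0 (congrArg Subtype.val h)⟩
  have hmemP : ∀ a : A, a ∈ P ↔ V.valuation (a : K) < 1 := fun a =>
    (V.valuation_lt_one_iff (ιA a))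
  have htA : ∀ i, (t i : K) ∈ A := fun i => hA₀A _ (Algebra.subset_adjoin (by simp [gens]))
  let tA : Fin m → A := fun i => ⟨(t i : K), htA i⟩
  have hind : AlgebraicIndependent k (fun i => Ideal.Quotient.mk P (tA i)) := by
    rw [algebraicIndependent_iff]
    intro p hp
    by_contra hne
    have h1 := MvPolynomial.comp_aeval_apply tA (Ideal.Quotient.mkₐ k P) p
    have hmem : MvPolynomial.aeval tA p ∈ P := Ideal.Quotient.eq_zero_iff_mem.1 (h1.trans hp)
    rw [hmemP] at hmem
    have e : ((MvPolynomial.aeval tA p : A) : K) = MvPolynomial.aeval (fun i => (t i : K)) p :=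
      MvPolynomial.comp_aeval_apply tA A.val p
    rw [e, ht p hne] at hmem
    exact lt_irrefl _ hmem
  have hheight : P.height ≤ 1 := by
    have h1 : (m : Cardinal.{u}) ≤ Algebra.trdeg k (A ⧸ P) := by
      simpa using hind.lift_cardinalMk_le_trdeg
    have h2 := E4O.height_add_trdeg_eq k A P
    have h3 : Algebra.trdeg k A = (m + 1 : ℕ) := by
      rw [← htr]
      exact (trdeg_eq_of_isFractionRing A)
    obtain ⟨h, hh⟩ : ∃ h : ℕ, P.height = (h : ℕ∞) := by
      cases hP : P.height with
      | top =>
        rw [hP, h3] at h2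
        exact absurd h2 (ne_of_gt (lt_of_lt_of_le Cardinal.natCast_lt_aleph0 (le_add_right (by simp))))
      | coe h => exact ⟨h, rfl⟩
    rw [hh, h3] at h2
    rw [hh]
    have : (h : Cardinal.{u}) + m ≤ ((m + 1 : ℕ) : Cardinal.{u}) := by
      rw [← h2]; exact add_le_add (by simp) h1
    norm_cast at this ⊢
    omega
  have : IsIntegrallyClosed A := by
    have : IsIntegrallyClosed (integralClosure A₀ K) := integralClosure.isIntegrallyClosedOfFiniteExtension K
    exact this
  let L := Localization.AtPrime P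
  have : IsDomain L := IsLocalization.isDomain_localization P.primeCompl_le_nonZeroDivisors
  have : IsNoetherianRing A := Algebra.FiniteType.isNoetherianRing k A
  have hLnf : ¬ IsField L := fun hF => hP0 (by
    have h := (IsLocalRing.isField_iff_maximalIdeal_eq.1 hF)
    rw [← Localization.AtPrime.under_maximalIdeal (I := P), h]
    exact (RingHom.injective_iff_ker_eq_bot _).1 (IsLocalization.injective L P.primeCompl_le_nonZeroDivisors))
  have : IsDiscreteValuationRing L := by
    have hdim : ringKrullDim L ≤ 1 := by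
      rw [IsLocalization.AtPrime.ringKrullDim_eq_height P L]; exact_mod_cast hheight
    have : Ring.DimensionLEOne L := by
      refine ⟨fun {p} hp hpp => ?_⟩
      by_contra hmax
      obtain ⟨M, hM, hpM⟩ := Ideal.exists_le_maximal p hpp.ne_top
      have hlt : p < M := lt_of_le_of_ne hpM fun h => hmax (h ▸ hM)
      have h1 := Ideal.height_strict_mono_of_isPrime hlt
      have h2 : (⊥ : Ideal L) < p := bot_lt_iff_ne_bot.2 hp
      have h3 := Ideal.height_strict_mono_of_isPrime h2
      have h4 : (M.height : WithBot ℕ∞) ≤ ringKrullDim L := Ideal.height_le_ringKrullDim_of_ne_top hM.ne_top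
      have h5 : M.height ≤ 1 := by exact_mod_cast h4.trans hdim
      have h6 : (1 : ℕ∞) ≤ p.height := Order.one_le_iff_ne_zero.2 (fun h => by simp [h] at h3)
      exact absurd (h1.trans_le h5) (not_lt.2 h6)
    have : IsIntegrallyClosed L := isIntegrallyClosed_of_isLocalization L P.primeCompl P.primeCompl_le_nonZeroDivisors
    have : IsNoetherianRing L := IsLocalization.isNoetherianRing P.primeCompl L inferInstance
    have hdvr : IsDiscreteValuationRing L := (List.TFAE.out (IsDiscreteValuationRing.TFAE L hLnf) 0 3).2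
      (⟨‹_›, IsLocalRing.maximalIdeal L, ⟨fun h => hLnf (IsLocalRing.isField_iff_maximalIdeal_eq.2 h), inferInstance⟩,
        fun Q hQ => IsLocalRing.eq_maximalIdeal (hQ.2.isMaximal hQ.1)⟩ :
        IsIntegrallyClosed L ∧ ∃! Q : Ideal L, Q ≠ ⊥ ∧ Q.IsPrime)
    exact hdvr
  intro a ha
  by_cases ha0 : a = 0
  · exact ⟨1, one_mem A, map_one _, by simpa [ha0] using zero_mem A⟩
  obtain ⟨r, s, hs0, hrs⟩ := IsFractionRing.div_surjective (A := A) a
  -- a valuation ring lying between
  rcases ValuationRing.cond (algebraMap A L r) (algebraMap A L s) with ⟨c, hc⟩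
  rcases hc with hc | hc
  · -- `r ∣ s`: then `a⁻¹` is in the local ring
    obtain ⟨x, y, hxy⟩ := IsLocalization.exists_mk'_eq P.primeCompl c
    subst hxy
    have hy : V.valuation (y : K) = 1 := le_antisymm ((V.valuation_le_one_iff _).2 (hAV _ y.1.2))
      (not_lt.1 fun h => y.2 ((hmemP _).2 h))
    have hc' : (r : K) * x = (s : K) * y := by
      have h := congrArg (· * algebraMap A L y) hc
      simp only [mul_assoc, IsLocalization.mk'_spec, ← map_mul] at h
      exact congrArg Subtype.val (IsLocalization.injective L P.primeCompl_le_nonZeroDivisors h)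
    have hs : (s : K) ≠ 0 := fun h => (mem_nonZeroDivisors_iff_ne_zero.1 hs0) (Subtype.ext h)
    have hax : a * x = y := by
      rw [← hrs]
      show (r : K) / s * x = y
      rw [div_mul_eq_mul_div, hc', mul_div_cancel_left₀ _ hs]
    refine ⟨x, x.2, ?_, hax ▸ y.1.2⟩
    refine le_antisymm ((V.valuation_le_one_iff _).2 (hAV _ x.2)) ?_
    rw [← hy, ← hax, map_mul]
    exact mul_le_of_le_one_left' ((V.valuation_le_one_iff _).2 ha)
  · obtain ⟨x, y, hxy⟩ := IsLocalization.exists_mk'_eq P.primeCompl c
    subst hxy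
    have hy : V.valuation (y : K) = 1 := le_antisymm ((V.valuation_le_one_iff _).2 (hAV _ y.1.2))
      (not_lt.1 fun h => y.2 ((hmemP _).2 h))
    have hc' : (s : K) * x = (r : K) * y := by
      have h := congrArg (· * algebraMap A L y) hc
      simp only [mul_assoc, IsLocalization.mk'_spec, ← map_mul] at h
      exact congrArg Subtype.val (IsLocalization.injective L P.primeCompl_le_nonZeroDivisors h)
    have hs : (s : K) ≠ 0 := fun h => (mem_nonZeroDivisors_iff_ne_zero.1 hs0) (Subtype.ext h)
    refine ⟨y, y.1.2, hy, ?_⟩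
    rw [← hrs]
    show (r : K) / s * y ∈ A
    rw [div_mul_eq_mul_div, ← hc', mul_div_cancel_left₀ _ hs]
    exact x.2

/-- a divisorial valuation ring in which given functions, none of which lie in a valuation ring, have poles -/
theorem exists_of_poles {m : ℕ} (htr : Algebra.trdeg k K = (m + 1 : ℕ)) (hfg : (⊤ : IntermediateField k K).FG)
    (V₀ : ValuationSubring K) (hk₀ : ∀ c : k, algebraMap k K c ∈ V₀) (F : Finset K) (hne : F.Nonempty)
    (hF : ∀ f ∈ F, f ∉ V₀) :
    ∃ (V : ValuationSubring K) (hk : ∀ c : k, algebraMap k K c ∈ V), IsDiv m V hk ∧ ∀ f ∈ F, f ∉ V := by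
  obtain ⟨f₀, hf₀, hmax⟩ := F.exists_min_image (fun f => V₀.valuation f) hne
  obtain ⟨S, hS⟩ := hfg
  let g : K → K := fun x => if x ∈ V₀ then x else x⁻¹
  have hg : ∀ x, g x ∈ V₀ := fun x => by
    by_cases h : x ∈ V₀
    · simp only [g, if_pos h, h]
    · simp only [g, if_neg h]; exact (V₀.mem_or_inv_mem x).resolve_left h
  let gens : Finset K := F.image (fun f => f⁻¹) ∪ F.image (fun f => f₀ / f) ∪ S.image g
  let B : Subalgebra k K := Algebra.adjoin k (gens : Set K)
  have hgens : ∀ x ∈ gens, x ∈ V₀ := by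
    intro x hx
    simp only [gens, Finset.mem_union, Finset.mem_image] at hx
    rcases hx with (⟨f, hf, rfl⟩ | ⟨f, hf, rfl⟩) | ⟨y, -, rfl⟩
    · exact (V₀.mem_or_inv_mem f).resolve_left (hF f hf)
    · rw [← V₀.valuation_le_one_iff, map_div₀]
      exact div_le_one_of_le₀ (hmax f hf) zero_le
    · exact hg y
  have hBV : ∀ a ∈ B, a ∈ V₀ := fun a ha =>
    Algebra.adjoin_le (S := valAlg V₀ hk₀) (fun x hx => hgens x hx) ha
  have : Algebra.FiniteType k B := (Subalgebra.fg_iff_finiteType _).1 ⟨gens, rfl⟩
  have : IsNoetherianRing B := Algebra.FiniteType.isNoetherianRing k B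
  have hfrac : IsFractionRing B K := by
    have key : ∀ x : K, x ∈ IntermediateField.adjoin k (B : Set K) := fun x => by
      have hx : x ∈ (⊤ : IntermediateField k K) := trivial
      rw [← hS] at hx
      refine (IntermediateField.adjoin_le_iff.2 ?_) hx
      intro y hy
      have hgy : g y ∈ IntermediateField.adjoin k (B : Set K) := IntermediateField.subset_adjoin k _
        (Algebra.subset_adjoin (Finset.mem_union_right _ (Finset.mem_image_of_mem g hy)))
      by_cases h : y ∈ V₀
      · simpa [g, h] using hgy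
      · simp only [g, if_neg h] at hgy
        simpa using inv_mem hgy
    refine IsFractionRing.of_field B K fun x => ?_
    obtain ⟨r, hr, s, hs, rfl⟩ := IntermediateField.mem_adjoin_iff_div.1 (key x)
    rw [Algebra.adjoin_eq] at hr hs
    exact ⟨⟨r, hr⟩, ⟨s, hs⟩, rfl⟩
  have ha₀ : f₀⁻¹ ∈ B := Algebra.subset_adjoin (Finset.mem_union_left _ (Finset.mem_union_left _ (Finset.mem_image_of_mem (fun f => f⁻¹) hf₀)))
  have hf₀0 : f₀ ≠ 0 := fun h => hF f₀ hf₀ (h ▸ V₀.zero_mem)
  let a₀ : B := ⟨f₀⁻¹, ha₀⟩
  have hna : ¬ IsUnit a₀ := fun h => by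
    obtain ⟨b, hb⟩ := h.exists_right_inv
    have hb' : f₀⁻¹ * (b : K) = 1 := congrArg Subtype.val hb
    exact hF f₀ hf₀ ((inv_mul_eq_one₀ hf₀0).1 hb' ▸ hBV b b.2)
  obtain ⟨M, hM, haM⟩ := Ideal.exists_le_maximal (Ideal.span {a₀}) (by rwa [Ne, Ideal.span_singleton_eq_top])
  obtain ⟨q, hq, -⟩ := Ideal.exists_minimalPrimes_le haM
  have hqp : q.IsPrime := hq.1.1
  have haq : a₀ ∈ q := hq.1.2 (Ideal.mem_span_singleton_self a₀)
  have hFq : ∀ f ∈ F, ∀ h : f⁻¹ ∈ B, (⟨f⁻¹, h⟩ : B) ∈ q := by
    intro f hf h
    have hq' : f₀ / f ∈ B := Algebra.subset_adjoin (Finset.mem_union_left _ (Finset.mem_union_right _ (Finset.mem_image_of_mem (fun f => f₀ / f) hf)))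
    rw [show (⟨f⁻¹, h⟩ : B) = ⟨f₀ / f, hq'⟩ * a₀ from Subtype.ext (by
      show f⁻¹ = f₀ / f * f₀⁻¹
      field_simp)]
    exact q.mul_mem_left _ haq
  have hheight : q.height = 1 := by
    refine le_antisymm (Ideal.height_le_one_of_isPrincipal_of_mem_minimalPrimes _ _ hq) ?_
    refine Order.one_le_iff_ne_zero.2 fun h => ?_
    rw [Ideal.height_eq_zero_iff, IsDomain.minimalPrimes_eq_singleton_bot] at h
    rw [Set.mem_singleton_iff.1 h, Ideal.mem_bot] at haq
    exact inv_ne_zero hf₀0 (congrArg Subtype.val haq)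
  have htd : Algebra.trdeg k (B ⧸ q) = (m : Cardinal.{u}) := by
    have h2 := E4O.height_add_trdeg_eq k B q
    rw [hheight, trdeg_eq_of_isFractionRing (K := K) B, htr] at h2
    have h3 : ((1 : ℕ) : Cardinal.{u}) + Algebra.trdeg k (B ⧸ q) = ((m + 1 : ℕ) : Cardinal.{u}) := by
      simpa using h2
    have hfin : Algebra.trdeg k (B ⧸ q) < Cardinal.aleph0 :=
      lt_of_le_of_lt ((le_add_left le_rfl).trans_eq h3) Cardinal.natCast_lt_aleph0
    obtain ⟨d, hd⟩ := Cardinal.lt_aleph0.1 hfin
    rw [hd] at h3 ⊢
    norm_cast at h3 ⊢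
    omega
  have : Nontrivial (B ⧸ q) := Ideal.Quotient.nontrivial_iff.2 hqp.ne_top
  have : FaithfulSMul k (B ⧸ q) := (faithfulSMul_iff_algebraMap_injective k (B ⧸ q)).2 (RingHom.injective _)
  obtain ⟨s, hs⟩ := exists_isTranscendenceBasis k (B ⧸ q)
  have hscard := hs.cardinalMk_eq_trdeg
  rw [htd] at hscard
  have : Finite s := Cardinal.lt_aleph0_iff_finite.1 (hscard ▸ Cardinal.natCast_lt_aleph0)
  have := Fintype.ofFinite s
  have hcard : Fintype.card s = m := by
    have := hscard
    rw [Cardinal.mk_fintype] at this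
    exact_mod_cast this
  let e := (Fintype.equivFinOfCardEq hcard).symm
  have hind : AlgebraicIndependent k (fun i => ((e i : s) : B ⧸ q)) := hs.1.comp e e.injective
  choose t ht using fun i => Ideal.Quotient.mk_surjective ((e i : s) : B ⧸ q)
  let L := Localization.AtPrime q
  have : IsDomain L := IsLocalization.isDomain_localization q.primeCompl_le_nonZeroDivisors
  let φ : L →+* K := IsLocalization.lift (M := q.primeCompl) (g := algebraMap B K) fun y =>
    isUnit_iff_ne_zero.2 fun h => y.2 (by
      rw [show (y : B) = 0 from IsFractionRing.injective B K (h.trans (map_zero _).symm)]; exact zero_mem q)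
  letI : Algebra L K := φ.toAlgebra
  have : IsScalarTower B L K := IsScalarTower.of_algebraMap_eq fun b => (IsLocalization.lift_eq _ b).symm
  have : IsFractionRing L K := IsFractionRing.isFractionRing_of_isDomain_of_isLocalization q.primeCompl L K
  have : IsNoetherianRing L := IsLocalization.isNoetherianRing q.primeCompl L inferInstance
  have hLnf : ¬ IsField L := fun hF => by
    have h := (IsLocalRing.isField_iff_maximalIdeal_eq.1 hF)
    have : algebraMap B L a₀ ∈ IsLocalRing.maximalIdeal L := by
      rw [← Ideal.mem_comap]; show _ ∈ Ideal.under B _; rw [Localization.AtPrime.under_maximalIdeal]; exact haq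
    rw [h, Ideal.mem_bot, map_eq_zero_iff _ (IsLocalization.injective L q.primeCompl_le_nonZeroDivisors)] at this
    exact inv_ne_zero hf₀0 (congrArg Subtype.val this)
  obtain ⟨V, hV, hLV, hdom⟩ := E4O.exists_dvr_dominating (R := L) hLnf K K ⟨∅, Subsingleton.elim _ _⟩
  have hBV' : ∀ b : B, (b : K) ∈ V := fun b => by
    have := hLV (algebraMap B L b)
    rwa [← IsScalarTower.algebraMap_apply] at this
  have hqV : ∀ b : B, b ∈ q → V.valuation (b : K) < 1 := fun b hb => by
    have := hdom (algebraMap B L b) (by rw [← Ideal.mem_comap]; show _ ∈ Ideal.under B _; rw [Localization.AtPrime.under_maximalIdeal]; exact hb)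
    rwa [← IsScalarTower.algebraMap_apply] at this
  have hqV' : ∀ b : B, b ∉ q → V.valuation (b : K) = 1 := fun b hb => by
    obtain ⟨c, hc⟩ := (IsLocalization.map_units L (⟨b, hb⟩ : q.primeCompl) : IsUnit (algebraMap B L b)).exists_right_inv
    refine le_antisymm ((V.valuation_le_one_iff _).2 (hBV' b)) ?_
    have h1 : (b : K) * algebraMap L K c = 1 := by
      have := congrArg (algebraMap L K) hc
      rwa [map_mul, map_one, ← IsScalarTower.algebraMap_apply] at this
    have h2 := congrArg V.valuation h1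
    rw [map_mul, map_one] at h2
    rw [← h2]
    exact mul_le_of_le_one_right' ((V.valuation_le_one_iff _).2 (hLV c))
  have hk : ∀ c : k, algebraMap k K c ∈ V := fun c => hBV' (algebraMap k B c)
  refine ⟨V, hk, ⟨hV, fun i => ⟨t i, hBV' _⟩, fun p hp => ?_⟩, fun f hf hfV => ?_⟩
  · have e1 : MvPolynomial.aeval (fun i => ((t i : B) : K)) p = ((MvPolynomial.aeval t p : B) : K) :=
      (MvPolynomial.comp_aeval_apply t B.val p).symm
    rw [e1]
    refine hqV' _ fun hmem => hp (algebraicIndependent_iff.1 hind p ?_)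
    rw [← Ideal.Quotient.eq_zero_iff_mem, ← Ideal.Quotient.mkₐ_eq_mk k, MvPolynomial.comp_aeval_apply] at hmem
    simpa [Function.comp_def, ht] using hmem
  · have hfB : f⁻¹ ∈ B := Algebra.subset_adjoin (Finset.mem_union_left _ (Finset.mem_union_left _ (Finset.mem_image_of_mem (fun f => f⁻¹) hf)))
    have h1 := hqV _ (hFq f hf hfB)
    have hf0 : f ≠ 0 := fun h => hF f hf (h ▸ V₀.zero_mem)
    rw [← V.valuation_le_one_iff] at hfV
    have : V.valuation f⁻¹ * V.valuation f < 1 := by
      calc V.valuation f⁻¹ * V.valuation f ≤ V.valuation f⁻¹ * 1 := by gcongr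
        _ < 1 := by simpa using h1
    rw [← map_mul, inv_mul_cancel₀ hf0, map_one] at this
    exact lt_irrefl _ this

lemma exists_embedding {α : Type u} {n : ℕ} (h : (n : Cardinal.{u}) ≤ Cardinal.mk α) : Nonempty (Fin n ↪ α) := by
  have h' : Cardinal.mk (ULift.{u} (Fin n)) ≤ Cardinal.mk α := by simpa using h
  obtain ⟨e⟩ := (Cardinal.le_def _ _).1 h'
  exact ⟨Equiv.ulift.symm.toEmbedding.trans e⟩

/-- residually independent elements are independent -/
lemma card_le_trdeg {L : Type u} [Field L] [Algebra K L] (W : ValuationSubring L) {e : ℕ} (t : Fin e → W)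
    (h : ∀ p : MvPolynomial (Fin e) K, (∀ d, algebraMap K L (p.coeff d) ∈ W) →
      (∃ d, W.valuation (algebraMap K L (p.coeff d)) = 1) →
      W.valuation (MvPolynomial.aeval (fun i => (t i : L)) p) = 1) :
    (e : Cardinal.{u}) ≤ Algebra.trdeg K L := by
  have hind : AlgebraicIndependent K (fun i => (t i : L)) := by
    rw [algebraicIndependent_iff]
    intro p hp
    by_contra hne
    obtain ⟨d₀, hd₀, hmax⟩ := p.support.exists_max_image (fun d => W.valuation (algebraMap K L (p.coeff d)))
      (MvPolynomial.support_nonempty.2 hne)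
    have hc : p.coeff d₀ ≠ 0 := MvPolynomial.mem_support_iff.1 hd₀
    let q := MvPolynomial.C (p.coeff d₀)⁻¹ * p
    have hco : ∀ d, q.coeff d = (p.coeff d₀)⁻¹ * p.coeff d := fun d => MvPolynomial.coeff_C_mul _ _ _
    have h1 := h q (fun d => by
      rw [← W.valuation_le_one_iff, hco, map_mul, map_mul, map_inv₀, map_inv₀]
      by_cases hd : d ∈ p.support
      · exact (mul_le_mul_of_nonneg_left (hmax d hd) zero_le).trans (inv_mul_le_one)
      · rw [MvPolynomial.notMem_support_iff.1 hd]; simp) ⟨d₀, by rw [hco, inv_mul_cancel₀ hc]; simp⟩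
    rw [map_mul, hp, mul_zero, map_zero] at h1
    exact zero_ne_one h1
  simpa using hind.lift_cardinalMk_le_trdeg

/-- restriction of a divisorial valuation to a subfield -/
theorem exists_restrict {L : Type u} [Field L] [Algebra k L] [Algebra K L] [IsScalarTower k K L] {m m' : ℕ}
    (htr : Algebra.trdeg k K = (m + 1 : ℕ)) (htr' : Algebra.trdeg k L = (m' + 1 : ℕ))
    {W : ValuationSubring L} {hk : ∀ c : k, algebraMap k L c ∈ W} (hW : IsDiv m' W hk)
    (hne : ∃ f : K, algebraMap K L f ∉ W) :
    ∃ hk' : ∀ c : k, algebraMap k K c ∈ W.comap (algebraMap K L), IsDiv m (W.comap (algebraMap K L)) hk' := by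
  let V := W.comap (algebraMap K L)
  have hk' : ∀ c : k, algebraMap k K c ∈ V := fun c => by
    show algebraMap K L (algebraMap k K c) ∈ W
    rw [← IsScalarTower.algebraMap_apply]; exact hk c
  refine ⟨hk', ?_, ?_⟩
  · have := hW.dvr
    obtain ⟨f, hf⟩ := hne
    have hf0 : f ≠ 0 := fun h => hf (by simp [h])
    have hinv : f⁻¹ ∈ V := (V.mem_or_inv_mem f).resolve_left hf
    have hnu : ¬ IsUnit (⟨f⁻¹, hinv⟩ : V) := fun h => by
      obtain ⟨b, hb⟩ := h.exists_right_inv
      have hb' : f⁻¹ * (b : K) = 1 := congrArg Subtype.val hb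
      exact hf ((inv_mul_eq_one₀ hf0).1 hb' ▸ b.2)
    let j : V →+* W := ((algebraMap K L).comp V.subtype).codRestrict W.toSubring fun x => x.2
    obtain ⟨ϖ, hϖ⟩ := IsDiscreteValuationRing.exists_irreducible W
    have hord : ∀ x : V, x ≠ 0 → ∃ n : ℕ, Associated (j x) (ϖ ^ n) := fun x hx =>
      IsDiscreteValuationRing.associated_pow_irreducible (fun h => hx (Subtype.ext
        ((algebraMap K L).injective ((congrArg Subtype.val h).trans (map_zero _).symm)))) hϖ
    have hdvd : ∀ (x y : V) (n m : ℕ), x ≠ 0 → Associated (j x) (ϖ ^ n) → Associated (j y) (ϖ ^ m) → n ≤ m → x ∣ y := by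
      intro x y n m hx hn hm hnm
      obtain ⟨c, hc⟩ := (hn.dvd.trans (pow_dvd_pow ϖ hnm)).trans hm.symm.dvd
      have hx' : (x : K) ≠ 0 := fun h => hx (Subtype.ext h)
      refine ⟨⟨(y : K) / x, ?_⟩, Subtype.ext (by show (y : K) = x * (y / x); field_simp)⟩
      show algebraMap K L ((y : K) / x) ∈ W
      rw [map_div₀, show algebraMap K L (y : K) = algebraMap K L (x : K) * c from congrArg Subtype.val hc,
        mul_div_cancel_left₀ _ (by simpa using hx')]
      exact c.2
    have hpid : IsPrincipalIdealRing V := ⟨fun I => by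
      by_cases hI : I = ⊥
      · exact ⟨0, by simp [hI]⟩
      have hP : ∃ n, ∃ x ∈ I, x ≠ 0 ∧ Associated (j x) (ϖ ^ n) := by
        obtain ⟨x, hxI, hx⟩ := (Submodule.ne_bot_iff _).1 hI
        obtain ⟨n, hn⟩ := hord x hx
        exact ⟨n, x, hxI, hx, hn⟩
      obtain ⟨x, hxI, hx, hn⟩ := Nat.find_spec hP
      refine ⟨x, le_antisymm (fun y hy => ?_) ((Ideal.span_singleton_le_iff_mem _).2 hxI)⟩
      by_cases hy0 : y = 0
      · simp [hy0]
      obtain ⟨m, hm⟩ := hord y hy0
      exact Ideal.mem_span_singleton.2 (hdvd x y _ m hx hn hm (Nat.find_min' hP ⟨y, hy, hy0, hm⟩))⟩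
    exact { not_a_field' := fun h => hnu (by
      by_contra hu
      have := (IsLocalRing.mem_maximalIdeal _).2 hu
      rw [h, Ideal.mem_bot] at this
      exact inv_ne_zero hf0 (congrArg Subtype.val this)) }
  · letI : Algebra k V := ((algebraMap k K).codRestrict V.toSubring hk').toAlgebra
    letI : Algebra k W := ((algebraMap k L).codRestrict W.toSubring hk).toAlgebra
    letI : Algebra V W := (((algebraMap K L).comp V.subtype).codRestrict W.toSubring fun x => x.2).toAlgebra
    have : IsLocalHom (algebraMap V W) := ⟨fun x hx => by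
      obtain ⟨b, hb⟩ := hx.exists_right_inv
      have hb' : algebraMap K L (x : K) * (b : L) = 1 := congrArg Subtype.val hb
      have hx0 : (x : K) ≠ 0 := fun h => by simp [h] at hb'
      refine IsUnit.of_mul_eq_one (⟨(x : K)⁻¹, ?_⟩ : V) (Subtype.ext (mul_inv_cancel₀ hx0))
      show algebraMap K L (x : K)⁻¹ ∈ W
      rw [map_inv₀, ← eq_inv_of_mul_eq_one_right hb']
      exact b.2⟩
    have : IsScalarTower k V W := IsScalarTower.of_algebraMap_eq fun c => Subtype.ext (IsScalarTower.algebraMap_apply k K L c)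
    let κ := IsLocalRing.ResidueField V
    let κ' := IsLocalRing.ResidueField W
    letI : Algebra κ κ' := (IsLocalRing.ResidueField.map (algebraMap V W)).toAlgebra
    have : IsScalarTower k κ κ' := IsScalarTower.of_algebraMap_eq fun c => by
      show IsLocalRing.residue W (algebraMap k W c) = IsLocalRing.ResidueField.map (algebraMap V W) (IsLocalRing.residue V (algebraMap k V c))
      rw [IsLocalRing.ResidueField.map_residue, ← IsScalarTower.algebraMap_apply]
    have hres : ∀ x : W, W.valuation (x : L) = 1 ↔ IsLocalRing.residue W x ≠ 0 := fun x => by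
      rw [Ne, IsLocalRing.residue_eq_zero_iff, IsLocalRing.mem_maximalIdeal, mem_nonunits_iff, not_not,
        ← W.valuation_eq_one_iff]
    -- residue degree of `W`
    obtain ⟨t', ht'⟩ := hW.indep
    have h1 : (m' : Cardinal.{u}) ≤ Algebra.trdeg k κ' := by
      have hind : AlgebraicIndependent k (fun i => IsLocalRing.residue W (t' i)) := by
        rw [algebraicIndependent_iff]
        intro p hp
        by_contra hne
        have e : ((MvPolynomial.aeval t' p : W) : L) = MvPolynomial.aeval (fun i => (t' i : L)) p :=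
          MvPolynomial.comp_aeval_apply t' ({ W.subtype with commutes' := fun c => rfl } : W →ₐ[k] L) p
        have h := (hres _).1 (e ▸ ht' p hne)
        exact h ((MvPolynomial.comp_aeval_apply t' (IsScalarTower.toAlgHom k W κ') p).trans hp)
      simpa using hind.lift_cardinalMk_le_trdeg
    -- residual transcendence degree is at most that of `L / K`
    have hadd := trdeg_add_eq k K (A := L)
    rw [htr, htr'] at hadd
    have hKL : Algebra.trdeg K L < Cardinal.aleph0 :=
      lt_of_le_of_lt ((le_add_left le_rfl).trans_eq hadd) Cardinal.natCast_lt_aleph0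
    obtain ⟨e, he⟩ := Cardinal.lt_aleph0.1 hKL
    have hem : m + 1 + e = m' + 1 := by rw [he] at hadd; exact_mod_cast hadd
    have h2 : Algebra.trdeg κ κ' ≤ (e : Cardinal.{u}) := by
      by_contra hlt
      rw [not_le] at hlt
      obtain ⟨s, hs⟩ := exists_isTranscendenceBasis κ κ'
      rw [← hs.cardinalMk_eq_trdeg] at hlt
      have hle : ((e + 1 : ℕ) : Cardinal.{u}) ≤ Cardinal.mk s := by
        exact_mod_cast (Cardinal.natCast_add_one_le_iff).2 hlt
      obtain ⟨emb⟩ := exists_embedding hle
      choose t ht using fun i => IsLocalRing.residue_surjective ((emb i : s) : κ')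
      have := card_le_trdeg (K := K) W t fun p hp ⟨d₀, hd₀⟩ => by
        let ι : Fin (e + 1) → W := t
        let q : MvPolynomial (Fin (e + 1)) V := ∑ d ∈ p.support, MvPolynomial.monomial d (⟨p.coeff d, hp d⟩ : V)
        have hq : ∀ d, ((q.coeff d : V) : K) = p.coeff d := fun d => by
          simp only [q, MvPolynomial.coeff_sum, MvPolynomial.coeff_monomial, Finset.sum_ite_eq']
          split_ifs with h
          · rfl
          · exact (MvPolynomial.notMem_support_iff.1 h).symm
        have hqp : q.map V.subtype = p := MvPolynomial.ext _ _ fun d => by rw [MvPolynomial.coeff_map]; exact hq d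
        have e1 : ((MvPolynomial.aeval t q : W) : L) = MvPolynomial.aeval (fun i => (t i : L)) p := by
          rw [← hqp, MvPolynomial.aeval_def, MvPolynomial.aeval_def, MvPolynomial.eval₂_map]
          exact MvPolynomial.eval₂_comp_left W.subtype _ _ q
        rw [← e1, hres, MvPolynomial.aeval_def, MvPolynomial.eval₂_comp_left]
        intro h0
        have hind : AlgebraicIndependent κ (fun i => ((emb i : s) : κ')) := hs.1.comp emb emb.injective
        have h3 : MvPolynomial.map (IsLocalRing.residue V) q = 0 := by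
          refine algebraicIndependent_iff.1 hind _ ?_
          rw [MvPolynomial.aeval_def, MvPolynomial.eval₂_map]
          refine Eq.trans ?_ h0
          congr 1
          funext i
          exact (ht i).symm
        have h4 := congrArg (MvPolynomial.coeff d₀) h3
        rw [MvPolynomial.coeff_map, MvPolynomial.coeff_zero] at h4
        have h5 := (hres (algebraMap V W (q.coeff d₀))).1 (by
          show W.valuation (algebraMap K L ((q.coeff d₀ : V) : K)) = 1
          rw [hq]; exact hd₀)
        refine h5 ?_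
        rw [← IsLocalRing.ResidueField.map_residue, h4, map_zero]
      rw [he] at this
      norm_cast at this
      omega
    have h3 := trdeg_add_eq k κ (A := κ')
    have h4 : (m : Cardinal.{u}) ≤ Algebra.trdeg k κ := by
      by_contra hlt
      rw [not_le] at hlt
      obtain ⟨r, hr⟩ := Cardinal.lt_aleph0.1 (hlt.trans Cardinal.natCast_lt_aleph0)
      have h5 : (m' : Cardinal.{u}) ≤ ((r + e : ℕ) : Cardinal.{u}) := by
        push_cast
        exact h1.trans (h3 ▸ add_le_add hr.le h2)
      rw [hr] at hlt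
      norm_cast at hlt h5
      omega
    obtain ⟨s, hs⟩ := exists_isTranscendenceBasis k κ
    rw [← hs.cardinalMk_eq_trdeg] at h4
    obtain ⟨emb⟩ := exists_embedding h4
    choose t ht using fun i => IsLocalRing.residue_surjective ((emb i : s) : κ)
    refine ⟨t, fun p hp => ?_⟩
    have e1 : ((MvPolynomial.aeval t p : V) : K) = MvPolynomial.aeval (fun i => (t i : K)) p :=
      MvPolynomial.comp_aeval_apply t ({ V.subtype with commutes' := fun c => rfl } : V →ₐ[k] K) p
    rw [← e1]
    refine (V.valuation_eq_one_iff _).1 ?_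
    by_contra hu
    refine hp (algebraicIndependent_iff.1 (hs.1.comp emb emb.injective) p ?_)
    have h6 : (MvPolynomial.aeval (fun i => IsLocalRing.residue V (t i))) p = 0 :=
      (MvPolynomial.comp_aeval_apply t (IsScalarTower.toAlgHom k V κ) p).symm.trans
        ((IsLocalRing.residue_eq_zero_iff _).2 ((IsLocalRing.mem_maximalIdeal _).2 hu))
    simpa [Function.comp_def, ht] using h6

end

end Groth.Agent.AlgGrp33.Divisorial
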