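import Groth.Agent.AlgGrp33.DivField
import Groth.Agent.AlgGrp33.Divisorial
import Groth.Agent.AlgGrp33.Affinize
import Groth.Agent.S4449

/-!
A translation invariant divisorial valuation of the function field of a nonproper group.
-/

set_option autoImplicit false
set_option linter.unusedSectionVars false
set_option linter.style.haveILetI false
set_option maxHeartbeats 800000
set_option backward.isDefEq.respectTransparency.types false
universe u

open CategoryTheory MonoidalCategory CartesianMonoidalCategory MonObj GrpObj AlgebraicGeometry CategoryTheory.Limits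
open Groth.Agent.AlgGrp79
open scoped TensorProduct

namespace Groth.Agent.AlgGrp33.DivValuation

open Gauss DivField Divisorial

noncomputable section

variable {k : Type u} [Field k]

/-- transcendence degree of a doubled field -/
lemma trdeg_double {K : Type u} [Field K] [Algebra k K] [IsDomain (K ⊗[k] K)]
    (hdom : ∀ (κ : Type u) [Field κ] [Algebra k κ], IsDomain (K ⊗[k] κ)) {n : ℕ}
    (h : Algebra.trdeg k K = (n : Cardinal.{u})) : Algebra.trdeg k (Lam k K K) = ((n + n : ℕ) : Cardinal.{u}) := by
  classical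
  obtain ⟨s, hs⟩ := exists_isTranscendenceBasis k K
  have hcard : Cardinal.mk s = n := hs.cardinalMk_eq_trdeg.trans h
  obtain ⟨emb⟩ := exists_embedding (α := s) (le_of_eq hcard.symm)
  have : Finite s := Cardinal.lt_aleph0_iff_finite.1 (hcard ▸ Cardinal.natCast_lt_aleph0)
  let x : Fin n → K := fun i => ((emb i : s) : K)
  have hx : AlgebraicIndependent k x := hs.1.comp emb emb.injective
  apply le_antisymm
  · let S : Set (Lam k K K) := lamL k K K '' (s : Set K) ∪ lamR k K K '' (s : Set K)
    have hS : Cardinal.mk S ≤ ((n + n : ℕ) : Cardinal.{u}) := by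
      refine (Cardinal.mk_union_le _ _).trans ?_
      push_cast
      exact add_le_add (Cardinal.mk_image_le.trans hcard.le) (Cardinal.mk_image_le.trans hcard.le)
    have halg : ∀ (f : K →ₐ[k] Lam k K K), f '' (s : Set K) ⊆ S → ∀ a : K, IsAlgebraic (Algebra.adjoin k S) (f a) := by
      intro f hf a
      have ha : IsAlgebraic (Algebra.adjoin k (Set.range ((↑) : s → K))) a := hs.isAlgebraic.isAlgebraic a
      have hle : (Algebra.adjoin k (Set.range ((↑) : s → K))).map f ≤ Algebra.adjoin k S := by
        rw [AlgHom.map_adjoin, Subtype.range_coe]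
        exact Algebra.adjoin_mono hf
      obtain ⟨p, hp, hpa⟩ := ha
      let g : Algebra.adjoin k (Set.range ((↑) : s → K)) →+* Algebra.adjoin k S :=
        (f.toRingHom.comp (Subalgebra.val _).toRingHom).codRestrict _ fun c => hle ⟨c, c.2, rfl⟩
      refine ⟨p.map g, (Polynomial.map_ne_zero_iff (fun c d hcd => Subtype.ext (f.injective (congrArg Subtype.val hcd)))).2 hp, ?_⟩
      rw [Polynomial.aeval_def, Polynomial.eval₂_map]
      have e : (algebraMap (Algebra.adjoin k S) (Lam k K K)).comp g =
          f.toRingHom.comp (algebraMap (Algebra.adjoin k (Set.range ((↑) : s → K))) K) := rfl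
      rw [e]
      have h1 := congrArg f hpa
      rw [Polynomial.aeval_def, map_zero] at h1
      exact (Polynomial.hom_eval₂ _ _ f.toRingHom _).symm.trans h1
    have : Algebra.IsAlgebraic (Algebra.adjoin k S) (Lam k K K) := by
      refine ⟨fun z => ?_⟩
      obtain ⟨J, t, e, a, b, -, hne, hz⟩ := gen_lam k K K z
      let C := Subalgebra.algebraicClosure (Algebra.adjoin k S) (Lam k K K)
      have hsum : ∀ c : J → K, (∑ i ∈ t, lamL k K K (e i) * lamR k K K (c i)) ∈ C := fun c =>
        sum_mem fun i _ => mul_mem (halg _ Set.subset_union_left _) (halg _ Set.subset_union_right _)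
      have hz' : z = (∑ i ∈ t, lamL k K K (e i) * lamR k K K (a i)) * (∑ i ∈ t, lamL k K K (e i) * lamR k K K (b i))⁻¹ :=
        (eq_mul_inv_iff_mul_eq₀ hne).2 hz
      rw [hz']
      exact IsAlgebraic.mul (hsum a) (IsAlgebraic.inv (hsum b))
    exact (Algebra.IsAlgebraic.trdeg_le_cardinalMk k S).trans hS
  · have hkT : ∀ c : k, algebraMap k K c ∈ (⊤ : ValuationSubring K) := fun _ => trivial
    obtain ⟨W, hW, hWV⟩ := exists_gauss (F := K) (⊤ : ValuationSubring K) hkT hdom
    obtain ⟨t, ht⟩ := hW.exists_indep (α := lamL k K K) x hx hWV hkT (fun i => (⟨x i, trivial⟩ : (⊤ : ValuationSubring K)))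
      fun p hp => by
        have hne : MvPolynomial.aeval x p ≠ 0 := fun h0 => hp (algebraicIndependent_iff.1 hx p h0)
        refine le_antisymm (((⊤ : ValuationSubring K).valuation_le_one_iff _).2 trivial) ?_
        have h2 := ((⊤ : ValuationSubring K).valuation_le_one_iff (MvPolynomial.aeval x p)⁻¹).2 trivial
        rwa [map_inv₀, inv_le_one₀ (zero_lt_iff.2 ((map_ne_zero _).2 hne))] at h2
    have hind : AlgebraicIndependent k fun i => (t i : Lam k K K) := by
      rw [algebraicIndependent_iff]
      intro p hp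
      by_contra hne
      have h1 := ht p hne
      rw [hp, map_zero] at h1
      exact zero_ne_one h1
    simpa using hind.lift_cardinalMk_le_trdeg

/-- restriction of a divisorial valuation along an embedding -/
lemma restrict_along {K L : Type u} [Field K] [Algebra k K] [Field L] [Algebra k L] (φ : K →ₐ[k] L) {m m' : ℕ}
    (htr : Algebra.trdeg k K = (m + 1 : ℕ)) (htr' : Algebra.trdeg k L = (m' + 1 : ℕ))
    {W : ValuationSubring L} {hk : ∀ c : k, algebraMap k L c ∈ W} (hW : IsDiv m' W hk) (hne : ∃ f, φ f ∉ W) :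
    ∃ hk' : ∀ c : k, algebraMap k K c ∈ W.comap φ.toRingHom, IsDiv m (W.comap φ.toRingHom) hk' := by
  letI := φ.toRingHom.toAlgebra
  have : IsScalarTower k K L := IsScalarTower.of_algebraMap_eq fun c => (φ.commutes c).symm
  exact exists_restrict (K := K) (L := L) htr htr' hW hne

variable [IsAlgClosed k] {G : Over (Spec (CommRingCat.of k))} [IsIntegral G.left] [LocallyOfFiniteType G.hom]
  [Algebra k G.left.functionField]
  (halg : Spec.map (CommRingCat.ofHom (algebraMap k G.left.functionField)) =
    G.left.fromSpecStalk (genericPoint G.left) ≫ G.hom)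

include halg in
/-- the function field is finitely generated of finite transcendence degree -/
theorem fg_functionField : (⊤ : IntermediateField k G.left.functionField).FG ∧
    ∃ n : ℕ, Algebra.trdeg k G.left.functionField = (n : Cardinal.{u}) := by
  classical
  obtain ⟨_, ⟨U, hU, rfl⟩, hxU, -⟩ := G.left.isBasis_affineOpens.exists_subset_of_mem_open
    (Set.mem_univ (genericPoint G.left)) isOpen_univ
  have : Nonempty U := ⟨⟨_, hxU⟩⟩
  let g : Γ(G.left, U) ⟶ G.left.functionField := G.left.germToFunctionField U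
  let c₀ : CommRingCat.of k ⟶ Γ(G.left, U) :=
    (Scheme.ΓSpecIso (CommRingCat.of k)).inv ≫ G.hom.appLE ⊤ U le_top
  have hfrom : hU.fromSpec ≫ G.hom = Spec.map c₀ := by
    rw [Spec.map_comp, ← IsAffineOpen.SpecMap_appLE_fromSpec G.hom (isAffineOpen_top _) hU le_top,
      IsAffineOpen.fromSpec_top, Scheme.isoSpec_Spec_inv]
  have hgen : Spec.map g ≫ hU.fromSpec = G.left.fromSpecStalk (genericPoint G.left) := by
    rw [← IsAffineOpen.fromSpecStalk_eq_fromSpecStalk hU hxU]
    rfl
  have hcg : c₀ ≫ g = CommRingCat.ofHom (algebraMap k G.left.functionField) := by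
    apply Spec.map_injective
    rw [Spec.map_comp, halg, ← hfrom, ← Category.assoc, hgen]
  letI : Algebra k Γ(G.left, U) := c₀.hom.toAlgebra
  have : IsScalarTower k Γ(G.left, U) G.left.functionField :=
    IsScalarTower.of_algebraMap_eq fun c => (congr($hcg c)).symm
  have : Algebra.FiniteType k Γ(G.left, U) := by
    have h := G.hom.finiteType_appLE (isAffineOpen_top _) hU le_top
    exact h.comp (RingHom.FiniteType.of_surjective _
      (ConcreteCategory.bijective_of_isIso (Scheme.ΓSpecIso (CommRingCat.of k)).inv).2)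
  have hfU : IsFractionRing Γ(G.left, U) G.left.functionField := functionField_isFractionRing_of_isAffineOpen G.left U hU
  let φ : Γ(G.left, U) →ₐ[k] G.left.functionField := IsScalarTower.toAlgHom k _ _
  have hinj : Function.Injective φ := IsFractionRing.injective _ _
  have : IsDomain Γ(G.left, U) := hinj.isDomain φ
  refine ⟨?_, ⟨_, (trdeg_eq_of_isFractionRing Γ(G.left, U)).symm.trans (E4O.trdeg_eq_natCast k Γ(G.left, U))⟩⟩
  obtain ⟨S, hS⟩ := (Algebra.FiniteType.out : (⊤ : Subalgebra k Γ(G.left, U)).FG)
  refine ⟨S.image φ, top_le_iff.1 fun x _ => ?_⟩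
  have hmem : ∀ a, φ a ∈ IntermediateField.adjoin k ((S.image φ : Finset _) : Set G.left.functionField) := fun a => by
    have ha : a ∈ Algebra.adjoin k (S : Set Γ(G.left, U)) := by rw [hS]; trivial
    have h1 : φ a ∈ (Algebra.adjoin k (S : Set Γ(G.left, U))).map φ := ⟨a, ha, rfl⟩
    rw [AlgHom.map_adjoin, ← Finset.coe_image] at h1
    exact IntermediateField.algebra_adjoin_le_adjoin k _ h1
  obtain ⟨a, b, -, rfl⟩ := IsFractionRing.div_surjective (A := Γ(G.left, U)) x
  exact div_mem (hmem a) (hmem b)

include halg in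
/-- a nonproper variety has a valuation ring without centre -/
theorem exists_no_centre [QuasiCompact G.hom] [IsSeparated G.hom] (hG : ¬ IsProper G.hom) :
    ∃ (R : ValuationSubring G.left.functionField), R ≠ ⊤ ∧ (∀ c : k, algebraMap k G.left.functionField c ∈ R) ∧
      ∀ (U : G.left.Opens), IsAffineOpen U → ∀ hne : Nonempty U,
        ∃ f : Γ(G.left, U), algebraMap Γ(G.left, U) G.left.functionField f ∉ R := by
  have : G.left.IsSeparated := by
    have h : IsSeparated (G.hom ≫ terminal.from _) := inferInstance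
    exact ⟨by rwa [terminal.hom_ext (terminal.from G.left) (G.hom ≫ terminal.from _)]⟩
  have : IsDominant G.hom := ⟨fun y => subset_closure ⟨genericPoint G.left, Subsingleton.elim (α := PrimeSpectrum k) _ y⟩⟩
  by_contra hno
  refine hG (Groth.Agent.S4449.result G.hom fun R hR y hy hdom => ?_)
  by_contra hx
  refine hno ⟨R, hR, fun c => ?_, fun U hU hne => ?_⟩
  · obtain ⟨a, ha⟩ : ∃ a, (Spec (CommRingCat.of k)).presheaf.stalkSpecializes hy ≫ G.hom.stalkMap (genericPoint G.left) = a := ⟨_, rfl⟩
    have h0 : Spec.map ((Scheme.ΓSpecIso (CommRingCat.of k)).inv ≫ (Spec (CommRingCat.of k)).presheaf.germ ⊤ y trivial) =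
        (Spec (CommRingCat.of k)).fromSpecStalk y := by
      rw [Spec.map_comp, ← Scheme.fromSpecStalk_toSpecΓ, Category.assoc, toSpecΓ_SpecMap_ΓSpecIso_inv, Category.comp_id]
    have h1 : CommRingCat.ofHom (algebraMap k G.left.functionField) =
        ((Scheme.ΓSpecIso (CommRingCat.of k)).inv ≫ (Spec (CommRingCat.of k)).presheaf.germ ⊤ y trivial) ≫
          (Spec (CommRingCat.of k)).presheaf.stalkSpecializes hy ≫ G.hom.stalkMap (genericPoint G.left) := by
      apply Spec.map_injective
      rw [halg, Spec.map_comp, Spec.map_comp _ (G.hom.stalkMap _), Category.assoc, h0,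
        Scheme.SpecMap_stalkSpecializes_fromSpecStalk, Scheme.SpecMap_stalkMap_fromSpecStalk]
    rw [show algebraMap k G.left.functionField c = _ from congr($h1 c)]
    exact hdom.1 _
  · by_contra hall
    push Not at hall
    refine hx ?_
    let φ : Γ(G.left, U) →+* G.left.functionField := algebraMap _ _
    let p : Ideal Γ(G.left, U) :=
      { carrier := {f | R.valuation (φ f) < 1}
        zero_mem' := by simp
        add_mem' := fun ha hb => by
          simp only [Set.mem_setOf_eq, map_add] at ha hb ⊢
          exact (R.valuation.map_add _ _).trans_lt (max_lt ha hb)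
        smul_mem' := fun c f hf => by
          simp only [Set.mem_setOf_eq, smul_eq_mul, map_mul] at hf ⊢
          exact (mul_le_mul' ((R.valuation_le_one_iff _).2 (hall c)) le_rfl).trans_lt (by rwa [_root_.one_mul]) }
    have hp : p.IsPrime := by
      refine ⟨fun h => ?_, fun {a b} hab => ?_⟩
      · have h1 : (1 : Γ(G.left, U)) ∈ p := by rw [h]; trivial
        simp [p] at h1
      · by_contra hne
        push Not at hne
        change R.valuation (φ (a * b)) < 1 at hab
        rw [map_mul, map_mul, le_antisymm ((R.valuation_le_one_iff _).2 (hall a)) (not_lt.1 hne.1),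
          _root_.one_mul] at hab
        exact hne.2 hab
    let pp : PrimeSpectrum Γ(G.left, U) := ⟨p, hp⟩
    let x : U := ⟨hU.fromSpec pp, by rw [← SetLike.mem_coe, ← hU.range_fromSpec]; exact ⟨pp, rfl⟩⟩
    refine ⟨x.1, ?_⟩
    have hloc := hU.isLocalization_stalk x
    have hpp : hU.primeIdealOf x = pp :=
      hU.isOpenImmersion_fromSpec.base_open.injective (hU.fromSpec_primeIdealOf x)
    have hval : ∀ s ∈ (hU.primeIdealOf x).asIdeal.primeCompl, R.valuation (φ s) = 1 := fun s hs => by
      rw [hpp] at hs
      exact le_antisymm ((R.valuation_le_one_iff _).2 (hall s)) (not_lt.1 hs)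
    letI : Algebra Γ(G.left, U) (G.left.presheaf.stalk x.1) := TopCat.Presheaf.algebra_section_stalk G.left.presheaf x
    have htow : ∀ f : Γ(G.left, U), algebraMap (G.left.presheaf.stalk x.1) G.left.functionField
        (algebraMap Γ(G.left, U) (G.left.presheaf.stalk x.1) f) = φ f := fun f => by
      exact G.left.algebraMap_germ_eq_germToFunctionField x.2 f
    have key : ∀ a : G.left.presheaf.stalk x.1, R.valuation (algebraMap _ G.left.functionField a) ≤ 1 ∧
        (¬ IsUnit a → R.valuation (algebraMap _ G.left.functionField a) < 1) := by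
      intro a
      obtain ⟨⟨f, s⟩, hfs⟩ := IsLocalization.surj (hU.primeIdealOf x).asIdeal.primeCompl a
      have h1 := congrArg (fun z => R.valuation (algebraMap _ G.left.functionField z)) hfs
      simp only [map_mul, htow, hval s.1 s.2, _root_.mul_one] at h1
      rw [h1]
      refine ⟨(R.valuation_le_one_iff _).2 (hall f), fun hu => ?_⟩
      by_contra hlt
      refine hu (isUnit_of_mul_isUnit_left (y := algebraMap _ _ (s : Γ(G.left, U))) ?_)
      rw [hfs]
      exact IsLocalization.map_units (M := (hU.primeIdealOf x).asIdeal.primeCompl) _ ⟨f, by rw [hpp]; exact hlt⟩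
    exact ⟨fun a => (R.valuation_le_one_iff _).1 (key a).1,
      fun a ha => (key a).2 ((IsLocalRing.mem_maximalIdeal _).1 ha)⟩

include halg in
/-- A nonproper group has a translation invariant divisorial valuation. -/
theorem exists_invariant [GrpObj G] [QuasiCompact G.hom] (hG : ¬ IsProper G.hom) :
    ∃ (m : ℕ) (mu : G.left.functionField →ₐ[k] Lam2 G) (io : G.left.functionField →ₐ[k] G.left.functionField)
      (θ : Lam2 G →ₐ[k] Lam2 G) (w : ValuationSubring G.left.functionField)
      (hk : ∀ c : k, algebraMap k G.left.functionField c ∈ w) (W : ValuationSubring (Lam2 G)),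
    pt halg mu = pt halg (lamL k G.left.functionField G.left.functionField) * pt halg (lamR k G.left.functionField G.left.functionField) ∧
    pt halg io = (pt halg (AlgHom.id k G.left.functionField))⁻¹ ∧
    θ.comp (lamL k G.left.functionField G.left.functionField) = (lamL k G.left.functionField G.left.functionField).comp io ∧
    θ.comp (lamR k G.left.functionField G.left.functionField) = mu ∧
    Algebra.trdeg k G.left.functionField = ((m + 1 : ℕ) : Cardinal.{u}) ∧ IsDiv m w hk ∧
    Disj (lamL k G.left.functionField G.left.functionField).toLinearMap (lamR k G.left.functionField G.left.functionField) W ∧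
    W.comap (lamR k G.left.functionField G.left.functionField).toRingHom = w ∧ W.comap mu.toRingHom = w ∧
    W.comap θ.toRingHom = W := by
  classical
  have := isSeparated_grp G
  obtain ⟨hfg, n, hn⟩ := fg_functionField halg
  obtain ⟨R, hR, hkR, hRU⟩ := exists_no_centre halg hG
  obtain ⟨m, rfl⟩ : ∃ m, n = m + 1 := by
    rcases n with _ | m
    · exfalso
      rw [Nat.cast_zero, trdeg_eq_zero_iff] at hn
      refine hR (top_le_iff.1 fun z _ => ?_)
      obtain ⟨c, rfl⟩ := (IsAlgClosed.algebraMap_bijective_of_isIntegral (k := k) (K := G.left.functionField)).2 z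
      exact hkR c
    · exact ⟨m, rfl⟩
  -- finitely many affines
  have : CompactSpace G.left := QuasiCompact.compactSpace_of_compactSpace G.hom
  obtain ⟨T, hT, hTf, hTc⟩ := (isCompact_univ (X := G.left)).elim_finite_subcover_image
    (b := {U : G.left.Opens | IsAffineOpen U ∧ Nonempty U}) (c := fun U => (U : Set G.left))
    (fun U _ => U.2) (fun x _ => by
      obtain ⟨_, ⟨U, hU, rfl⟩, hxU, -⟩ := G.left.isBasis_affineOpens.exists_subset_of_mem_open (Set.mem_univ x) isOpen_univ
      exact Set.mem_biUnion ⟨hU, ⟨⟨x, hxU⟩⟩⟩ hxU)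
  have hsel : ∀ U : hTf.toFinset, ∃ f : G.left.functionField, f ∉ R ∧
      (haveI := (hT (hTf.mem_toFinset.1 U.2)).2; f ∈ Set.range (algebraMap Γ(G.left, U.1) G.left.functionField)) := fun U => by
    have hU' := hT (hTf.mem_toFinset.1 U.2)
    obtain ⟨f, hf⟩ := hRU U.1 hU'.1 hU'.2
    exact ⟨_, hf, f, rfl⟩
  choose f hfR hfr using hsel
  have hne : (Finset.univ.image f).Nonempty := by
    obtain ⟨U, hU, -⟩ := Set.mem_iUnion₂.1 (hTc (Set.mem_univ (genericPoint G.left)))
    exact ⟨_, Finset.mem_image_of_mem f (Finset.mem_univ ⟨U, hTf.mem_toFinset.2 hU⟩)⟩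
  obtain ⟨V, hkV, hV, hVf⟩ := exists_of_poles hn hfg R hkR (Finset.univ.image f) hne fun g hg => by
    obtain ⟨U, -, rfl⟩ := Finset.mem_image.1 hg; exact hfR U
  obtain ⟨mu, io, θ, hmu, hio, hθL, hθR⟩ := exists_maps halg
  obtain ⟨W₀, W, hW₀, hW₀V, hW, hWR, hWmu, hWθ⟩ := exists_stable halg hmu hio hθL hθR V hkV
  have hdom : ∀ (κ : Type u) [Field κ] [Algebra k κ], IsDomain (G.left.functionField ⊗[k] κ) := fun κ _ _ =>
    FBase64.isDomain_tensor_of_isAlgClosed k _ _
  have hL : Algebra.trdeg k (Lam2 G) = ((m + 1 + m + 1 : ℕ) : Cardinal.{u}) := by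
    rw [trdeg_double hdom hn]; congr 1
  have hdiv : IsDiv (m + 1 + m) W₀ fun c => hW₀.algebraMap_mem c := by
    refine ⟨haveI := hV.dvr; hW₀.isDVR (gen_lam k _ _) hW₀V, ?_⟩
    obtain ⟨s, hs⟩ := exists_isTranscendenceBasis k G.left.functionField
    obtain ⟨emb⟩ := exists_embedding (α := s) (le_of_eq (hn.symm.trans hs.cardinalMk_eq_trdeg.symm))
    obtain ⟨y, hy⟩ := hV.indep
    exact hW₀.exists_indep (fun i => ((emb i : s) : G.left.functionField)) (hs.1.comp emb emb.injective) hW₀V hkV y hy
  -- multiplication moves the centre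
  have hnontriv : ∃ g, mu g ∉ W₀ := by
    by_contra hall
    push Not at hall
    let L := lamL k G.left.functionField G.left.functionField
    let R' := lamR k G.left.functionField G.left.functionField
    have hLW : ∀ a, L a ∈ W₀ := fun a => by
      rcases eq_or_ne a 0 with rfl | ha
      · rw [map_zero]; exact W₀.zero_mem
      · exact (W₀.valuation_le_one_iff _).1 (hW₀.val_eq_one ha).le
    let Wa : Subalgebra k (Lam2 G) := { W₀.toSubring with algebraMap_mem' := fun c => hW₀.algebraMap_mem c }
    have : IsLocalRing Wa := inferInstanceAs (IsLocalRing W₀)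
    let L0 : G.left.functionField →ₐ[k] Wa := L.codRestrict Wa hLW
    let M0 : G.left.functionField →ₐ[k] Wa := mu.codRestrict Wa hall
    let SW : Over (Spec (CommRingCat.of k)) := Over.mk (Spec.map (CommRingCat.ofHom (algebraMap k Wa)))
    let ext : (G.left.functionField →ₐ[k] Wa) → (SW ⟶ G) := fun ψ => Over.homMk
      (Spec.map (CommRingCat.ofHom ψ.toRingHom) ≫ G.left.fromSpecStalk (genericPoint G.left)) (by
        show (Spec.map _ ≫ _) ≫ G.hom = Spec.map _
        rw [Category.assoc, ← halg, ← Spec.map_comp]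
        exact congrArg Spec.map (CommRingCat.hom_ext (RingHom.ext fun a => ψ.commutes a)))
    let res : spF (k := k) (Lam2 G) ⟶ SW := Over.homMk (Spec.map (CommRingCat.ofHom Wa.val.toRingHom)) (by
      show Spec.map _ ≫ Spec.map _ = Spec.map _
      rw [← Spec.map_comp]
      exact congrArg Spec.map (CommRingCat.hom_ext (RingHom.ext fun a => Wa.val.commutes a)))
    have hext : ∀ ψ : G.left.functionField →ₐ[k] Wa, res ≫ ext ψ = pt halg (Wa.val.comp ψ) := fun ψ => by
      refine Over.OverMorphism.ext ?_
      show Spec.map _ ≫ Spec.map _ ≫ _ = Spec.map _ ≫ _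
      rw [← Spec.map_comp_assoc]
      rfl
    let y : SW ⟶ G := (ext L0)⁻¹ * ext M0
    have hy : res ≫ y = pt halg R' := by
      rw [MonObj.comp_mul, GrpObj.comp_inv, hext, hext, show Wa.val.comp L0 = L from AlgHom.ext fun _ => rfl,
        show Wa.val.comp M0 = mu from AlgHom.ext fun _ => rfl, hmu, inv_mul_cancel_left]
    obtain ⟨U, hU, hxU⟩ := Set.mem_iUnion₂.1 (hTc (Set.mem_univ (y.left (IsLocalRing.closedPoint Wa))))
    have := (hT hU).2
    let U' : hTf.toFinset := ⟨U, hTf.mem_toFinset.2 hU⟩
    obtain ⟨g, hg⟩ := hfr U'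
    refine hVf (f U') (Finset.mem_image_of_mem f (Finset.mem_univ U')) ?_
    rw [← hW₀V]
    show R' (f U') ∈ W₀
    have hrange : ∀ q, y.left q ∈ U := fun q =>
      (((IsLocalRing.specializes_closedPoint q).map y.left.continuous).mem_open U.2 hxU)
    let y' : Spec (CommRingCat.of Wa) ⟶ U.toScheme := IsOpenImmersion.lift U.ι y.left (by
      rw [Scheme.Opens.range_ι]; rintro _ ⟨q, rfl⟩; exact hrange q)
    let hUa := (hT hU).1
    let yr : Γ(G.left, U) ⟶ CommRingCat.of Wa :=
      Spec.preimage (y' ≫ hUa.isoSpec.hom)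
    have hyr : Spec.map yr ≫ hUa.fromSpec = y.left := by
      rw [Spec.map_preimage, Category.assoc, hUa.isoSpec_hom, Scheme.Opens.toSpecΓ, ← IsOpenImmersion.lift_fac U.ι y.left (by
        rw [Scheme.Opens.range_ι]; rintro _ ⟨q, rfl⟩; exact hrange q)]
      exact congrArg _ hUa.toSpecΓ_fromSpec
    have hgen : Spec.map (G.left.germToFunctionField U) ≫ hUa.fromSpec = G.left.fromSpecStalk (genericPoint G.left) := by
      rw [← IsAffineOpen.fromSpecStalk_eq_fromSpecStalk hUa (((genericPoint_spec G.left).mem_open_set_iff U.2).2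
        (by obtain ⟨q⟩ := ‹Nonempty U›; exact ⟨q.1, trivial, q.2⟩))]
      rfl
    have h1 : Spec.map (yr ≫ CommRingCat.ofHom Wa.val.toRingHom) ≫ hUa.fromSpec =
        Spec.map (G.left.germToFunctionField U ≫ CommRingCat.ofHom R'.toRingHom) ≫ hUa.fromSpec := by
      rw [Spec.map_comp_assoc, hyr, Spec.map_comp_assoc, hgen]
      exact congr($(hy).left)
    have : IsOpenImmersion hUa.fromSpec := hUa.isOpenImmersion_fromSpec
    rw [cancel_mono] at h1
    have h2 := congr($(Spec.map_injective h1) g)
    rw [← hg]
    exact (show R' (algebraMap _ _ g) = (yr g : Wa).1 from h2.symm) ▸ (yr g : Wa).2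
  obtain ⟨hk, hw⟩ := restrict_along mu hn hL hdiv hnontriv
  exact ⟨m, mu, io, θ, _, hk, W, hmu, hio, hθL, hθR, hn, hw, hW, hWR, hWmu, hWθ⟩

end

end Groth.Agent.AlgGrp33.DivValuation
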