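import Groth.Prelude.Def_AlgGrp
import Mathlib.AlgebraicGeometry.SpreadingOut
import Mathlib.AlgebraicGeometry.FunctionField

/-!
An affine model of a function field shares a dense open subscheme with the original variety.
-/

set_option autoImplicit false
universe u

open CategoryTheory AlgebraicGeometry Opposite

namespace Groth.Agent.AlgGrp33.ModelChart

noncomputable section

section Algebra

variable {k K : Type u} [Field k] [Field K] [Algebra k K]

/-- the elements becoming elements of `A` after multiplication by a power of `σ` -/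
def sat (A : Subalgebra k K) {σ : K} (hσ : σ ∈ A) : Subalgebra k K where
  carrier := {x | ∃ n, σ ^ n * x ∈ A}
  mul_mem' := by
    rintro x y ⟨n, hn⟩ ⟨m, hm⟩
    exact ⟨n + m, by rw [show σ ^ (n + m) * (x * y) = (σ ^ n * x) * (σ ^ m * y) by ring]; exact mul_mem hn hm⟩
  add_mem' := by
    rintro x y ⟨n, hn⟩ ⟨m, hm⟩
    exact ⟨n + m, by
      rw [show σ ^ (n + m) * (x + y) = σ ^ m * (σ ^ n * x) + σ ^ n * (σ ^ m * y) by ring]
      exact add_mem (mul_mem (pow_mem hσ _) hn) (mul_mem (pow_mem hσ _) hm)⟩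
  algebraMap_mem' c := ⟨0, by simp⟩

lemma le_sat (A : Subalgebra k K) {σ : K} (hσ : σ ∈ A) : A ≤ sat A hσ := fun x hx => ⟨0, by simpa using hx⟩

lemma inv_mem_sat (A : Subalgebra k K) {σ : K} (hσ : σ ∈ A) : σ⁻¹ ∈ sat A hσ := by
  by_cases h : σ = 0
  · simp [h]
  · exact ⟨1, by simp [h]⟩

lemma sat_le (A : Subalgebra k K) {σ : K} (hσ : σ ∈ A) (hσ0 : σ ≠ 0) {C : Subalgebra k K} (hAC : A ≤ C)
    (hC : σ⁻¹ ∈ C) : sat A hσ ≤ C := by
  rintro x ⟨n, hn⟩
  have : x = σ⁻¹ ^ n * (σ ^ n * x) := by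
    rw [← mul_assoc, ← mul_pow, inv_mul_cancel₀ hσ0, one_pow, one_mul]
  rw [this]
  exact mul_mem (pow_mem hC _) (hAC hn)

/-- a saturation is a localization away from `σ` -/
theorem isLocalization_sat (A : Subalgebra k K) {σ : K} (hσ : σ ∈ A) (hσ0 : σ ≠ 0) (C : Subalgebra k K)
    (hC : C = sat A hσ) :
    @IsLocalization.Away A _ (⟨σ, hσ⟩ : A) C _
      (Subalgebra.inclusion (hC ▸ le_sat A hσ : A ≤ C)).toRingHom.toAlgebra := by
  subst hC
  letI : Algebra A (sat A hσ) := (Subalgebra.inclusion (le_sat A hσ)).toRingHom.toAlgebra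
  refine ⟨⟨?_, ?_, ?_⟩⟩
  · rintro ⟨_, n, rfl⟩
    rw [map_pow]
    refine IsUnit.pow _ (IsUnit.of_mul_eq_one (⟨σ⁻¹, inv_mem_sat A hσ⟩ : sat A hσ) (Subtype.ext ?_))
    show σ * σ⁻¹ = 1
    exact mul_inv_cancel₀ hσ0
  · rintro ⟨x, n, hn⟩
    refine ⟨⟨⟨σ ^ n * x, hn⟩, ⟨⟨σ, hσ⟩ ^ n, n, rfl⟩⟩, Subtype.ext ?_⟩
    show x * σ ^ n = σ ^ n * x
    exact mul_comm _ _
  · intro a b h
    refine ⟨1, ?_⟩
    simp only [OneMemClass.coe_one, one_mul]
    exact Subtype.ext (congrArg (fun z : sat A hσ => (z : K)) h)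

/-- two models of a field have a common basic open -/
theorem exists_common {A B : Subalgebra k K} (hA : A.FG) (hB : B.FG) (hAf : IsFractionRing A K)
    (hBf : IsFractionRing B K) :
    ∃ (σ c : K) (hσ : σ ∈ A) (hc : c ∈ B), σ ≠ 0 ∧ c ≠ 0 ∧ sat A hσ = sat B hc := by
  classical
  have den : ∀ (R : Subalgebra k K), IsFractionRing R K → ∀ S : Finset K,
      ∃ s ∈ R, s ≠ 0 ∧ ∀ x ∈ S, s * x ∈ R := by
    intro R hR S
    induction S using Finset.induction with
    | empty => exact ⟨1, one_mem R, one_ne_zero, by simp⟩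
    | insert x S _ ih =>
      obtain ⟨s, hs, hs0, hS⟩ := ih
      obtain ⟨r, d, hd, hrd⟩ := IsFractionRing.div_surjective (A := R) x
      have hd0 : (d : K) ≠ 0 := fun h => (mem_nonZeroDivisors_iff_ne_zero.1 hd) (Subtype.ext h)
      refine ⟨s * d, mul_mem hs d.2, mul_ne_zero hs0 hd0, fun y hy => ?_⟩
      rcases Finset.mem_insert.1 hy with rfl | hy
      · rw [← hrd]
        show s * (d : K) * ((r : K) / d) ∈ R
        rw [show s * (d : K) * ((r : K) / d) = s * r by field_simp]
        exact mul_mem hs r.2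
      · rw [show s * (d : K) * y = (s * y) * d by ring]
        exact mul_mem (hS y hy) d.2
  obtain ⟨SA, hSA⟩ := hA
  obtain ⟨SB, hSB⟩ := hB
  obtain ⟨t, htB, ht0, ht⟩ := den B hBf SA
  obtain ⟨s, hsA, hs0, hs⟩ := den A hAf SB
  obtain ⟨num, d, hd, htd⟩ := IsFractionRing.div_surjective (A := A) t
  have hd0 : (d : K) ≠ 0 := fun h => (mem_nonZeroDivisors_iff_ne_zero.1 hd) (Subtype.ext h)
  have hnum0 : (num : K) ≠ 0 := fun h => ht0 (by rw [← htd]; show (num : K) / d = 0; rw [h, zero_div])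
  have hσ : s * num ∈ A := mul_mem hsA num.2
  have hσ0 : s * (num : K) ≠ 0 := mul_ne_zero hs0 hnum0
  have hBA : B ≤ sat A hσ := by
    rw [← hSB]
    refine Algebra.adjoin_le fun x hx => ⟨1, ?_⟩
    rw [pow_one, show s * (num : K) * x = (s * x) * num by ring]
    exact mul_mem (hs x hx) num.2
  have htinv : t⁻¹ ∈ sat A hσ := ⟨1, by
    rw [pow_one, ← htd]
    show s * (num : K) * ((num : K) / d)⁻¹ ∈ A
    rw [show s * (num : K) * ((num : K) / d)⁻¹ = s * d by field_simp]
    exact mul_mem hsA d.2⟩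
  have hAB : A ≤ sat B htB := by
    rw [← hSA]
    exact Algebra.adjoin_le fun x hx => ⟨1, by rw [pow_one]; exact ht x hx⟩
  obtain ⟨n, hn⟩ := hAB hσ
  have hc : t ^ n * (s * num) * t ∈ B := mul_mem hn htB
  have hc0 : t ^ n * (s * num) * t ≠ 0 := by positivity
  refine ⟨s * num, t ^ n * (s * num) * t, hσ, hc, hσ0, hc0, le_antisymm (sat_le A hσ hσ0 ?_ ?_)
    (sat_le B hc hc0 hBA ?_)⟩
  · refine le_of_eq_of_le hSA.symm ?_
    refine Algebra.adjoin_le fun x hx => ⟨1, ?_⟩
    rw [pow_one, show t ^ n * (s * num) * t * x = t ^ n * (s * num) * (t * x) by ring]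
    exact mul_mem hn (ht x hx)
  · exact ⟨1, by rw [pow_one, show t ^ n * (s * num) * t * (s * num)⁻¹ = t ^ n * t by field_simp]; exact mul_mem (pow_mem htB _) htB⟩
  · rw [show (t ^ n * (s * num) * t)⁻¹ = t⁻¹ ^ n * (s * num)⁻¹ * t⁻¹ by rw [mul_inv, mul_inv, inv_pow]]
    exact mul_mem (mul_mem (pow_mem htinv _) (inv_mem_sat A hσ)) htinv

end Algebra

section Scheme

variable {k : Type u} [Field k]

/-- the spectrum of a subalgebra -/
def spA {K : Type u} [Field K] [Algebra k K] (A : Subalgebra k K) : Over (Spec (CommRingCat.of k)) :=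
  Over.mk (Spec.map (CommRingCat.ofHom (algebraMap k A)))

/-- the generic point of the spectrum of a subalgebra -/
def spPt {K : Type u} [Field K] [Algebra k K] (A : Subalgebra k K) : Spec (CommRingCat.of K) ⟶ (spA A).left :=
  Spec.map (CommRingCat.ofHom A.val.toRingHom)

/-- A model of the function field shares an open with the variety. -/
theorem exists_chart (G : Over (Spec (CommRingCat.of k))) [IsIntegral G.left] [LocallyOfFiniteType G.hom]
    [Algebra k G.left.functionField]
    (halg : Spec.map (CommRingCat.ofHom (algebraMap k G.left.functionField)) =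
      G.left.fromSpecStalk (genericPoint G.left) ≫ G.hom)
    (A : Subalgebra k G.left.functionField) (hA : A.FG) (hAf : IsFractionRing A G.left.functionField) :
    ∃ (Z : Over (Spec (CommRingCat.of k))) (i : Z ⟶ G) (j : Z ⟶ spA A) (η : Spec G.left.functionField ⟶ Z.left),
      IsOpenImmersion i.left ∧ IsOpenImmersion j.left ∧ η ≫ i.left = G.left.fromSpecStalk (genericPoint G.left) ∧
      η ≫ j.left = spPt A := by
  obtain ⟨_, ⟨U, hU, rfl⟩, hxU, -⟩ := G.left.isBasis_affineOpens.exists_subset_of_mem_open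
    (Set.mem_univ (genericPoint G.left)) isOpen_univ
  have : Nonempty U := ⟨⟨_, hxU⟩⟩
  let K := G.left.functionField
  let g : Γ(G.left, U) ⟶ K := G.left.germToFunctionField U
  let c₀ : CommRingCat.of k ⟶ Γ(G.left, U) :=
    (Scheme.ΓSpecIso (CommRingCat.of k)).inv ≫ G.hom.appLE ⊤ U le_top
  have hfrom : hU.fromSpec ≫ G.hom = Spec.map c₀ := by
    rw [Spec.map_comp, ← IsAffineOpen.SpecMap_appLE_fromSpec G.hom (isAffineOpen_top _) hU le_top,
      IsAffineOpen.fromSpec_top, Scheme.isoSpec_Spec_inv]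
  have hgen : Spec.map g ≫ hU.fromSpec = G.left.fromSpecStalk (genericPoint G.left) := by
    rw [← IsAffineOpen.fromSpecStalk_eq_fromSpecStalk hU hxU]
    rfl
  have hcg : c₀ ≫ g = CommRingCat.ofHom (algebraMap k K) := by
    apply Spec.map_injective
    rw [Spec.map_comp, halg, ← hfrom, ← Category.assoc, hgen]
  letI : Algebra k Γ(G.left, U) := c₀.hom.toAlgebra
  have : Algebra.FiniteType k Γ(G.left, U) := by
    have h := G.hom.finiteType_appLE (isAffineOpen_top _) hU le_top
    exact h.comp (RingHom.FiniteType.of_surjective _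
      (ConcreteCategory.bijective_of_isIso (Scheme.ΓSpecIso (CommRingCat.of k)).inv).2)
  let φ : Γ(G.left, U) →ₐ[k] K := { g.hom with commutes' := fun c => congr($hcg c) }
  have hinj : Function.Injective φ := G.left.germToFunctionField_injective U
  let B : Subalgebra k K := φ.range
  have hB : B.FG := by
    rw [show B = (⊤ : Subalgebra k Γ(G.left, U)).map φ from (Algebra.map_top φ).symm]
    exact Subalgebra.FG.map φ Algebra.FiniteType.out
  have hfU := functionField_isFractionRing_of_isAffineOpen G.left U hU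
  have hBf : IsFractionRing B K := IsFractionRing.of_field B K fun x => by
    obtain ⟨a, b, -, hab⟩ := IsFractionRing.div_surjective (A := Γ(G.left, U)) x
    exact ⟨⟨φ a, a, rfl⟩, ⟨φ b, b, rfl⟩, hab.symm⟩
  obtain ⟨σ, c, hσ, hc, hσ0, hc0, hsat⟩ := exists_common hA hB hAf hBf
  let C := sat A hσ
  let eB : Γ(G.left, U) ≃ₐ[k] B := AlgEquiv.ofInjective φ hinj
  let uA : A →ₐ[k] C := Subalgebra.inclusion (le_sat A hσ)
  let uB : B →ₐ[k] C := Subalgebra.inclusion ((le_sat B hc).trans hsat.ge : B ≤ C)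
  let i₀ : Spec (CommRingCat.of C) ⟶ G.left :=
    Spec.map (CommRingCat.ofHom uB.toRingHom) ≫ Spec.map eB.toRingEquiv.toCommRingCatIso.hom ≫ hU.fromSpec
  let Z : Over (Spec (CommRingCat.of k)) := spA C
  have hij : i₀ ≫ G.hom = Z.hom := by
    simp only [i₀, Category.assoc, hfrom, ← Spec.map_comp, Z]
    refine congrArg Spec.map (CommRingCat.hom_ext (RingHom.ext fun a => ?_))
    show uB (eB (algebraMap k _ a)) = algebraMap k C a
    rw [AlgEquiv.commutes, AlgHom.commutes]
  let i : Z ⟶ G := Over.homMk i₀ hij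
  let j : Z ⟶ spA A := Over.homMk (Spec.map (CommRingCat.ofHom uA.toRingHom)) (by
    show Spec.map _ ≫ Spec.map _ = Spec.map _
    rw [← Spec.map_comp]
    refine congrArg Spec.map (CommRingCat.hom_ext (RingHom.ext fun a => ?_))
    exact AlgHom.commutes uA a)
  refine ⟨Z, i, j, spPt C, ?_, ?_, ?_, ?_⟩
  · have : IsOpenImmersion (Spec.map (CommRingCat.ofHom uB.toRingHom)) := by
      letI : Algebra B C := uB.toRingHom.toAlgebra
      have : IsLocalization.Away (⟨c, hc⟩ : B) C := isLocalization_sat B hc hc0 C hsat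
      exact IsOpenImmersion.of_isLocalization (R := B) (S := C) ⟨c, hc⟩
    have : IsIso (Spec.map eB.toRingEquiv.toCommRingCatIso.hom) := inferInstance
    have : IsOpenImmersion hU.fromSpec := hU.isOpenImmersion_fromSpec
    exact MorphismProperty.comp_mem @IsOpenImmersion _ _ ‹_›
      (MorphismProperty.comp_mem @IsOpenImmersion _ _ inferInstance ‹_›)
  · letI : Algebra A C := uA.toRingHom.toAlgebra
    have : IsLocalization.Away (⟨σ, hσ⟩ : A) C := isLocalization_sat A hσ hσ0 C rfl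
    exact IsOpenImmersion.of_isLocalization (R := A) (S := C) ⟨σ, hσ⟩
  · show spPt C ≫ i₀ = _
    rw [← hgen]
    show Spec.map _ ≫ Spec.map _ ≫ Spec.map _ ≫ hU.fromSpec = _
    rw [← Spec.map_comp_assoc, ← Spec.map_comp_assoc]
    rfl
  · show Spec.map _ ≫ Spec.map _ = Spec.map _
    rw [← Spec.map_comp]
    rfl

end Scheme

end

end Groth.Agent.AlgGrp33.ModelChart
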