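import Groth.Agent.AlgGrp33.BirAction
import Groth.Agent.AlgGrp33.ModelChart
import Groth.Agent.AlgGrp33.DivValuation
import Mathlib.RingTheory.Ideal.KrullsHeightTheorem

/-!
A nonproper connected group has an affine subgroup of positive dimension.
-/

set_option autoImplicit false
set_option linter.unusedSectionVars false
set_option linter.style.haveILetI false
set_option maxHeartbeats 1600000
set_option synthInstance.maxHeartbeats 200000
set_option backward.isDefEq.respectTransparency.types false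
universe u

open CategoryTheory MonoidalCategory CartesianMonoidalCategory MonObj GrpObj AlgebraicGeometry CategoryTheory.Limits
open Groth.Agent.AlgGrp79
open scoped TensorProduct

namespace Groth.Agent.AlgGrp33.Stabilizer

open Gauss DivField Divisorial BirAction ModelChart

noncomputable section

variable {k : Type u} [Field k]

/-- the spectrum of an algebra -/
abbrev spR (R : Type u) [CommRing R] [Algebra k R] : Over (Spec (CommRingCat.of k)) :=
  Over.mk (Spec.map (CommRingCat.ofHom (algebraMap k R)))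

/-- the morphism of spectra -/
def spHom {R S : Type u} [CommRing R] [Algebra k R] [CommRing S] [Algebra k S] (f : R →ₐ[k] S) :
    spR (k := k) S ⟶ spR R :=
  Over.homMk (Spec.map (CommRingCat.ofHom f.toRingHom)) (by
    show Spec.map _ ≫ Spec.map _ = Spec.map _
    rw [← Spec.map_comp]
    exact congrArg Spec.map (CommRingCat.hom_ext (RingHom.ext fun a => f.commutes a)))

lemma spHom_comp {R S T : Type u} [CommRing R] [Algebra k R] [CommRing S] [Algebra k S] [CommRing T] [Algebra k T]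
    (f : R →ₐ[k] S) (g : S →ₐ[k] T) : spHom g ≫ spHom f = spHom (g.comp f) := by
  refine Over.OverMorphism.ext ?_
  show Spec.map _ ≫ Spec.map _ = Spec.map _
  rw [← Spec.map_comp]
  rfl

lemma spHom_spMap {R S : Type u} [Field R] [Algebra k R] [Field S] [Algebra k S] (f : R →ₐ[k] S) : spHom f = spMap f := rfl

lemma self_algebraMap : Spec.map (CommRingCat.ofHom (algebraMap k k)) = 𝟙 (Spec (CommRingCat.of k)) := by
  rw [show CommRingCat.ofHom (algebraMap k k) = 𝟙 (CommRingCat.of k) from rfl, Spec.map_id]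

/-- the rational point of an evaluation -/
def pl {R : Type u} [CommRing R] [Algebra k R] (χ : R →ₐ[k] k) : 𝟙_ (Over (Spec (CommRingCat.of k))) ⟶ spR R :=
  Over.homMk (Spec.map (CommRingCat.ofHom χ.toRingHom)) (by
    show Spec.map _ ≫ Spec.map _ = 𝟙 _
    rw [← Spec.map_comp, ← self_algebraMap]
    exact congrArg Spec.map (CommRingCat.hom_ext (RingHom.ext fun a => χ.commutes a)))

lemma pl_comp {R S : Type u} [CommRing R] [Algebra k R] [CommRing S] [Algebra k S] (f : R →ₐ[k] S) (χ : S →ₐ[k] k) :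
    pl χ ≫ spHom f = pl (χ.comp f) := by
  refine Over.OverMorphism.ext ?_
  show Spec.map _ ≫ Spec.map _ = Spec.map _
  rw [← Spec.map_comp]
  rfl

lemma exists_pl {R : Type u} [CommRing R] [Algebra k R] (p : 𝟙_ (Over (Spec (CommRingCat.of k))) ⟶ spR R) :
    ∃ χ : R →ₐ[k] k, pl χ = p := by
  let f : CommRingCat.of R ⟶ CommRingCat.of k := Spec.preimage p.left
  have hf : Spec.map f = p.left := Spec.map_preimage _
  have h : CommRingCat.ofHom (algebraMap k R) ≫ f = CommRingCat.ofHom (algebraMap k k) := by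
    apply Spec.map_injective
    rw [Spec.map_comp, hf, self_algebraMap]
    exact Over.w p
  exact ⟨{ f.hom with commutes' := fun c => congr($h c) }, Over.OverMorphism.ext hf⟩

lemma spR_isIntegral (R : Type u) [CommRing R] [Algebra k R] [IsDomain R] : IsIntegral (spR (k := k) R).left :=
  inferInstanceAs (IsIntegral (Spec (CommRingCat.of R)))

lemma spR_lft (R : Type u) [CommRing R] [Algebra k R] [Algebra.FiniteType k R] :
    LocallyOfFiniteType (spR (k := k) R).hom := by
  show LocallyOfFiniteType (Spec.map _)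
  rw [HasRingHomProperty.Spec_iff (P := @LocallyOfFiniteType)]
  exact RingHom.finiteType_algebraMap.2 ‹_›

variable [IsAlgClosed k]

/-- a map lowering the transcendence degree has a fibre of positive dimension -/
lemma exists_fibre {A C : Type u} [CommRing A] [CommRing C] [IsDomain C] [Algebra k A] [Algebra k C]
    [Algebra.FiniteType k A] [Algebra.FiniteType k C] (f : A →ₐ[k] C) {m : ℕ}
    (hA : ∀ P : Ideal A, P.IsPrime → RingHom.ker f.toRingHom ≤ P → Algebra.trdeg k (A ⧸ P) ≤ (m : Cardinal.{u}))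
    (hC : Algebra.trdeg k C = ((m + 1 : ℕ) : Cardinal.{u})) :
    ∃ (p M : Ideal C) (y : A →ₐ[k] k), p.IsPrime ∧ M.IsMaximal ∧ p < M ∧ ∀ a, f a - algebraMap k C (y a) ∈ p := by
  classical
  let A' := f.range
  have : IsDomain A' := inferInstance
  have : Algebra.FiniteType k A' := Algebra.FiniteType.of_surjective f.rangeRestrict f.rangeRestrict_surjective
  let P := RingHom.ker f.toRingHom
  have hP : P.IsPrime := RingHom.ker_isPrime _
  have hA' : Cardinal.toNat (Algebra.trdeg k A') ≤ m := by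
    have h1 : Algebra.trdeg k A' ≤ Algebra.trdeg k (A ⧸ P) :=
      trdeg_le_of_surjective (Ideal.Quotient.liftₐ P f.rangeRestrict fun a ha => Subtype.ext ha) fun z => by
        obtain ⟨a, rfl⟩ := f.rangeRestrict_surjective z
        exact ⟨Ideal.Quotient.mk _ a, rfl⟩
    exact Cardinal.toNat_le_toNat (h1.trans (hA P hP le_rfl)) Cardinal.natCast_lt_aleph0 |>.trans_eq (Cardinal.toNat_natCast m)
  obtain ⟨M, hM⟩ := Ideal.exists_maximal C
  have : IsNoetherianRing C := Algebra.FiniteType.isNoetherianRing k C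
  have hMh : M.height = (m + 1 : ℕ) := by
    rw [E4O.height_maximal_eq k C M, hC, Cardinal.toNat_natCast]
  let q : Ideal A' := M.comap A'.val
  have hq : q.IsPrime := Ideal.IsPrime.comap _
  obtain ⟨χ, hχ⟩ := FBase64.exists_algHom_ker_eq k C M
  have hqm : q.IsMaximal := by
    have hs : Function.Surjective (χ.comp A'.val) := fun c => ⟨algebraMap k A' c, AlgHom.commutes _ c⟩
    have e : q = RingHom.ker (χ.comp A'.val).toRingHom := Ideal.ext fun a => (hχ _).symm
    rw [e]
    exact RingHom.ker_isMaximal_of_surjective _ hs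
  have hqh : q.height ≤ (m : ℕ) := by
    rw [E4O.height_maximal_eq k A' q]; exact_mod_cast hA'
  letI : Algebra A' C := A'.val.toRingHom.toAlgebra
  have : M.LiesOver q := ⟨rfl⟩
  have : IsNoetherianRing A' := Algebra.FiniteType.isNoetherianRing k A'
  have h2 := Ideal.height_le_height_add_of_liesOver q M
  let I : Ideal C := q.map (algebraMap A' C)
  let M' : Ideal (C ⧸ I) := M.map (Ideal.Quotient.mk I)
  have hIM : I ≤ M := Ideal.map_le_iff_le_comap.2 le_rfl
  have hM' : M'.IsPrime := Ideal.map_isPrime_of_surjective Ideal.Quotient.mk_surjective (by rw [Ideal.mk_ker]; exact hIM)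
  have hne : M'.height ≠ 0 := by
    intro h0
    rw [hMh, show (M.map (Ideal.Quotient.mk (q.map (algebraMap A' C)))).height = 0 from h0, add_zero] at h2
    have h3 := h2.trans hqh
    norm_cast at h3
    omega
  obtain ⟨N, hN, hNlt⟩ : ∃ N : Ideal (C ⧸ I), N.IsPrime ∧ N < M' := by
    by_contra hno
    refine hne (Ideal.height_eq_zero_iff.2 ⟨⟨hM', bot_le⟩, fun N ⟨hN, _⟩ hle => ?_⟩)
    by_contra hlt
    exact hno ⟨N, hN, lt_of_le_not_ge hle hlt⟩
  refine ⟨N.comap (Ideal.Quotient.mk I), M, χ.comp f, Ideal.IsPrime.comap _, hM, ?_, fun a => ?_⟩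
  · have e : M'.comap (Ideal.Quotient.mk I) = M := by
      rw [Ideal.comap_map_of_surjective _ Ideal.Quotient.mk_surjective, ← RingHom.ker_eq_comap_bot, Ideal.mk_ker]
      exact sup_eq_left.2 hIM
    refine lt_of_le_of_ne (e ▸ Ideal.comap_mono hNlt.le) fun h => hNlt.ne ?_
    rw [← Ideal.map_comap_of_surjective _ Ideal.Quotient.mk_surjective N, h]
  · show Ideal.Quotient.mk I (f a - algebraMap k C (χ (f a))) ∈ N
    have hmem : f.rangeRestrict a - algebraMap k A' (χ (f a)) ∈ q :=
      (hχ (f a - algebraMap k C (χ (f a)))).1 (by rw [map_sub, AlgHom.commutes]; simp)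
    have : f a - algebraMap k C (χ (f a)) ∈ I := Ideal.mem_map_of_mem (algebraMap A' C) hmem
    rw [Ideal.Quotient.eq_zero_iff_mem.2 this]
    exact N.zero_mem

/-- subalgebras obtained by inverting an element -/
lemma sat_fg {K : Type u} [Field K] [Algebra k K] (A : Subalgebra k K) {σ : K} (hσ : σ ∈ A) (hσ0 : σ ≠ 0)
    (hA : A.FG) : (sat A hσ).FG := by
  have e : sat A hσ = A ⊔ Algebra.adjoin k {σ⁻¹} := by
    refine le_antisymm (sat_le A hσ hσ0 le_sup_left ((le_sup_right : _ ≤ A ⊔ Algebra.adjoin k {σ⁻¹})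
      (Algebra.subset_adjoin (Set.mem_singleton _)))) (sup_le (le_sat A hσ) (Algebra.adjoin_le ?_))
    rintro _ rfl
    exact inv_mem_sat A hσ
  rw [e]
  exact hA.sup ⟨{σ⁻¹}, by simp⟩

variable {G : Over (Spec (CommRingCat.of k))} [GrpObj G] [IsIntegral G.left] [LocallyOfFiniteType G.hom]
  [QuasiCompact G.hom]

/-- **Main step** -/
theorem exists_affine_subgroup (hG : ¬ IsProper G.hom) :
    ∃ (H : Over (Spec (CommRingCat.of k))) (_ : GrpObj H) (ι' : H ⟶ G), IsMonHom ι' ∧ IsClosedImmersion ι'.left ∧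
      Smooth H.hom ∧ IsAffine H.left ∧ 0 < topologicalKrullDim ↥H.left := by
  classical
  let K := G.left.functionField
  let cK : CommRingCat.of k ⟶ K := Spec.preimage (G.left.fromSpecStalk (genericPoint G.left) ≫ G.hom)
  letI : Algebra k K := cK.hom.toAlgebra
  have halg : Spec.map (CommRingCat.ofHom (algebraMap k K)) = G.left.fromSpecStalk (genericPoint G.left) ≫ G.hom :=
    Spec.map_preimage _
  obtain ⟨m, mu, io, θ, w, hkw, Wv, hmu, hio, hθL, hθR, htr, hw, hD, hWR, hWmu, hWθ⟩ :=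
    DivValuation.exists_invariant halg hG
  obtain ⟨hfgK, -⟩ := DivValuation.fg_functionField halg
  obtain ⟨A, hAfg, hAw, hAfrac, ⟨a₁, ha₁A, ha₁0, ha₁v⟩, hAden⟩ := exists_model htr hfgK hw
  obtain ⟨Z, i, j₀, ηZ, hi, hj, hηi, hηj⟩ := exists_chart G halg A hAfg hAfrac
  -- the affine chart of `G`
  obtain ⟨_, ⟨UG, hUG, rfl⟩, hxU, -⟩ := G.left.isBasis_affineOpens.exists_subset_of_mem_open
    (Set.mem_univ (genericPoint G.left)) isOpen_univ
  have : Nonempty UG := ⟨⟨_, hxU⟩⟩
  let g : Γ(G.left, UG) ⟶ K := G.left.germToFunctionField UG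
  let c₀ : CommRingCat.of k ⟶ Γ(G.left, UG) :=
    (Scheme.ΓSpecIso (CommRingCat.of k)).inv ≫ G.hom.appLE ⊤ UG le_top
  have hfrom : hUG.fromSpec ≫ G.hom = Spec.map c₀ := by
    rw [Spec.map_comp, ← IsAffineOpen.SpecMap_appLE_fromSpec G.hom (isAffineOpen_top _) hUG le_top,
      IsAffineOpen.fromSpec_top, Scheme.isoSpec_Spec_inv]
  have hgen : Spec.map g ≫ hUG.fromSpec = G.left.fromSpecStalk (genericPoint G.left) := by
    rw [← IsAffineOpen.fromSpecStalk_eq_fromSpecStalk hUG hxU]
    rfl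
  have hcg : c₀ ≫ g = CommRingCat.ofHom (algebraMap k K) := by
    apply Spec.map_injective
    rw [Spec.map_comp, halg, ← hfrom, ← Category.assoc, hgen]
  letI : Algebra k Γ(G.left, UG) := c₀.hom.toAlgebra
  let B := Γ(G.left, UG)
  let φ : B →ₐ[k] K := { g.hom with commutes' := fun c => congr($hcg c) }
  have hinj : Function.Injective φ := G.left.germToFunctionField_injective UG
  have : IsDomain B := hinj.isDomain φ
  have : Algebra.FiniteType k B := by
    have h := G.hom.finiteType_appLE (isAffineOpen_top _) hUG le_top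
    exact h.comp (RingHom.FiniteType.of_surjective _
      (ConcreteCategory.bijective_of_isIso (Scheme.ΓSpecIso (CommRingCat.of k)).inv).2)
  have hfU := functionField_isFractionRing_of_isAffineOpen G.left UG hUG
  have hfracB : ∀ x : K, ∃ p q : B, φ q ≠ 0 ∧ x * φ q = φ p := fun x => by
    obtain ⟨p, q, hq, hpq⟩ := IsFractionRing.div_surjective (A := Γ(G.left, UG)) x
    have hq0 : φ q ≠ 0 := (map_ne_zero_iff φ hinj).2 (nonZeroDivisors.ne_zero hq)
    refine ⟨p, q, hq0, ?_⟩
    rw [← hpq]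
    exact div_mul_cancel₀ _ hq0
  let iB : spR (k := k) B ⟶ G := Over.homMk hUG.fromSpec hfrom
  have : IsOpenImmersion iB.left := hUG.isOpenImmersion_fromSpec
  have hiB : ∀ {Ω : Type u} [Field Ω] [Algebra k Ω] (ψ : K →ₐ[k] Ω), spHom (ψ.comp φ) ≫ iB = pt halg ψ := fun ψ => by
    refine Over.OverMorphism.ext ?_
    show Spec.map _ ≫ hUG.fromSpec = Spec.map _ ≫ _
    rw [← hgen, ← Spec.map_comp_assoc]
    rfl
  -- the model
  let j : Z ⟶ spR (k := k) A := j₀
  have : IsOpenImmersion j.left := hj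
  have : Algebra.FiniteType k A := (Subalgebra.fg_iff_finiteType A).1 hAfg
  have hUi : IsIntegral (spR (k := k) A).left := spR_isIntegral (k := k) A
  have hUl : LocallyOfFiniteType (spR (k := k) A).hom := spR_lft (k := k) A
  have hUs : IsSeparated (spR (k := k) A).hom := inferInstanceAs (IsSeparated (Spec.map _))
  have hUa : IsAffine (spR (k := k) A).left := inferInstanceAs (IsAffine (Spec _))
  have hGU := isIntegral_prod G (spR (k := k) A)
  have hZne : Nonempty Z.left := ⟨ηZ (IsLocalRing.closedPoint K)⟩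
  have : IsIntegral Z.left := isIntegral_of_isOpenImmersion i.left
  have hGZ := AlgGrp79.irreducible_prod G Z
  -- rings in the doubled field
  let L := lamL k K K
  let R := lamR k K K
  have : IsDomain (B ⊗[k] A) := FBase64.isDomain_tensor_of_isAlgClosed k B A
  let τ : B ⊗[k] A →ₐ[k] Lam2 G :=
    Algebra.TensorProduct.lift (L.comp φ) (R.comp A.val) fun _ _ => Commute.all _ _
  have hτ : Function.Injective τ := by
    have e : τ = (IsScalarTower.toAlgHom k (K ⊗[k] K) (Lam2 G)).comp (Algebra.TensorProduct.map φ A.val) :=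
      Algebra.TensorProduct.ext' fun p q => by
        simp only [τ, Algebra.TensorProduct.lift_tmul, AlgHom.comp_apply, Algebra.TensorProduct.map_tmul,
          IsScalarTower.coe_toAlgHom']
        exact (algebraMap_tmul k K K _ _).symm
    rw [e]
    exact (IsFractionRing.injective _ _).comp
      (TensorProduct.map_injective_of_flat_flat φ.toLinearMap A.val.toLinearMap hinj Subtype.val_injective)
  have : Algebra.FiniteType k (B ⊗[k] A) :=
    (inferInstance : Algebra.FiniteType k B).trans (inferInstance : Algebra.FiniteType B (B ⊗[k] A))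
  let T' := τ.range
  let eT : B ⊗[k] A ≃ₐ[k] T' := AlgEquiv.ofInjective τ hτ
  have hT'fg : T'.FG := (Subalgebra.fg_iff_finiteType _).2 (Algebra.FiniteType.of_surjective eT.toAlgHom eT.surjective)
  have hLB : ∀ b, L (φ b) ∈ T' := fun b => ⟨b ⊗ₜ 1, by simp [τ, L]⟩
  have hRA : ∀ a : A, R (a : K) ∈ T' := fun a => ⟨(1 : B) ⊗ₜ a, by simp [τ, R]⟩
  have hRw : ∀ c : K, R c ∈ Wv ↔ c ∈ w := fun c => by rw [← hWR]; rfl
  have hmuw : ∀ c : K, mu c ∈ Wv ↔ c ∈ w := fun c => by rw [← hWmu]; rfl
  have hR1 : ∀ c : K, Wv.valuation (R c) = 1 ↔ w.valuation c = 1 := fun c => by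
    rw [← hWR]; exact (val_one_comap R.toRingHom Wv c).symm
  have hT'W : ∀ z ∈ T', z ∈ Wv := by
    rintro _ ⟨t, rfl⟩
    induction t with
    | zero => simp
    | tmul b a =>
      show τ (b ⊗ₜ a) ∈ Wv
      rw [Algebra.TensorProduct.lift_tmul]
      refine Wv.mul_mem _ _ ?_ ((hRw _).2 (hAw _ a.2))
      rcases eq_or_ne (φ b) 0 with h | h
      · simp [h]
      · exact (Wv.valuation_le_one_iff _).1 (hD.val_eq_one h).le
    | add x y hx hy => simp only [map_add]; exact Wv.add_mem _ _ hx hy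
  -- denominators
  have hmul1 : ∀ x y : Lam2 G, Wv.valuation x = 1 → Wv.valuation y = 1 → Wv.valuation (x * y) = 1 := fun x y hx hy => by
    rw [map_mul, hx, hy, _root_.one_mul]
  have hclear : ∀ x ∈ Wv, ∃ σ ∈ T', Wv.valuation σ = 1 ∧ x * σ ∈ T' := by
    intro x hx
    obtain ⟨J, t, e, a, b, he, ha, hb, hbu, hxe⟩ := hD.exists_repr (gen_lam k K K) hx
    have hden : ∀ l : t, ∃ p q : B, φ q ≠ 0 ∧ e l * φ q = φ p := fun l => hfracB _
    choose p q hq0 hpq using hden
    have hda : ∀ (c : J → K), (∀ i ∈ t, R (c i) ∈ Wv) → ∀ l : t, ∃ s ∈ A, w.valuation s = 1 ∧ c l * s ∈ A :=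
      fun c hc l => hAden _ ((hRw _).1 (hc l l.2))
    choose sa hsaA hsa1 hsaM using hda a ha
    choose sb hsbA hsb1 hsbM using hda b hb
    let d : B := ∏ l, q l
    let s : K := (∏ l, sa l) * ∏ l, sb l
    have hd : φ d ≠ 0 := by rw [map_prod]; exact Finset.prod_ne_zero_iff.2 fun l _ => hq0 l
    have hs1 : w.valuation s = 1 := by
      simp [s, map_prod, Finset.prod_eq_one fun l _ => hsa1 l, Finset.prod_eq_one fun l _ => hsb1 l]
    let c₁ := L (φ d) * R s
    have hc1 : Wv.valuation c₁ = 1 := hmul1 _ _ (hD.val_eq_one hd) ((hR1 _).2 hs1)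
    have hmemL : ∀ l : t, ∃ r : B, e l * φ d = φ r := fun l => by
      refine ⟨p l * ∏ l' ∈ Finset.univ.erase l, q l', ?_⟩
      rw [map_mul, ← hpq, _root_.mul_assoc, ← map_mul, Finset.mul_prod_erase _ _ (Finset.mem_univ l)]
    have hsumT : ∀ (c : J → K), (∀ l : t, c l * s ∈ A) → (∑ i ∈ t, L.toLinearMap (e i) * R (c i)) * c₁ ∈ T' := by
      intro c hc
      rw [Finset.sum_mul, ← Finset.sum_coe_sort t]
      refine sum_mem fun l _ => ?_
      obtain ⟨r, hr⟩ := hmemL l
      rw [show L.toLinearMap (e l) * R (c l) * c₁ = L (φ r) * R (c l * s) by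
        rw [← hr, map_mul, map_mul, AlgHom.toLinearMap_apply]; ring]
      exact mul_mem (hLB r) (hRA ⟨_, hc l⟩)
    have hprodA : ∀ (f : t → K), (∀ l, f l ∈ A) → ∀ S : Finset t, (∏ l ∈ S, f l) ∈ A := fun f hf S => prod_mem fun l _ => hf l
    refine ⟨(∑ i ∈ t, L.toLinearMap (e i) * R (b i)) * c₁, hsumT b fun l => ?_, hmul1 _ _ (hD J t e b he hb hbu) hc1, ?_⟩
    · rw [show b l * s = (b l * sb l) * ((∏ l, sa l) * ∏ l' ∈ Finset.univ.erase l, sb l') by
        simp only [s]; rw [← Finset.mul_prod_erase _ sb (Finset.mem_univ l)]; ring]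
      exact mul_mem (hsbM l) (mul_mem (hprodA _ hsaA _) (hprodA _ hsbA _))
    · rw [← _root_.mul_assoc, hxe]
      refine hsumT a fun l => ?_
      rw [show a l * s = (a l * sa l) * ((∏ l' ∈ Finset.univ.erase l, sa l') * ∏ l, sb l) by
        simp only [s]; rw [← Finset.mul_prod_erase _ sa (Finset.mem_univ l)]; ring]
      exact mul_mem (hsaM l) (mul_mem (hprodA _ hsaA _) (hprodA _ hsbA _))
  have hclearS : ∀ X : Finset (Lam2 G), (∀ x ∈ X, x ∈ Wv) → ∃ σ ∈ T', Wv.valuation σ = 1 ∧ ∀ x ∈ X, x * σ ∈ T' := by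
    intro X
    induction X using Finset.induction with
    | empty => exact fun _ => ⟨1, one_mem _, map_one _, by simp⟩
    | insert x X _ ih =>
      intro hX
      obtain ⟨σ, hσ, hσ1, hσX⟩ := ih fun y hy => hX y (Finset.mem_insert_of_mem hy)
      obtain ⟨ρ, hρ, hρ1, hρx⟩ := hclear x (hX x (Finset.mem_insert_self _ _))
      refine ⟨ρ * σ, mul_mem hρ hσ, hmul1 _ _ hρ1 hσ1, fun y hy => ?_⟩
      rcases Finset.mem_insert.1 hy with rfl | hy
      · rw [← _root_.mul_assoc]; exact mul_mem hρx hσ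
      · rw [mul_comm ρ σ, ← _root_.mul_assoc]; exact mul_mem (hσX y hy) hρ
  have hne1 : ∀ σ, Wv.valuation σ = 1 → σ ≠ 0 := fun σ h h0 => by rw [h0, map_zero] at h; exact zero_ne_one h
  -- first open
  obtain ⟨SA, hSA⟩ := id hAfg
  obtain ⟨σ₁, hσ₁, hσ₁v, hσ₁X⟩ := hclearS (SA.image mu) fun x hx => by
    obtain ⟨a, ha, rfl⟩ := Finset.mem_image.1 hx
    exact (hmuw a).2 (hAw a (hSA ▸ Algebra.subset_adjoin ha))
  let S₁ := sat T' hσ₁
  have hmuS₁ : ∀ a ∈ A, mu a ∈ S₁ := fun a ha => by
    have h1 : (Algebra.adjoin k (SA : Set K)).map mu ≤ S₁ := by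
      rw [AlgHom.map_adjoin]
      refine Algebra.adjoin_le ?_
      rintro _ ⟨a', ha', rfl⟩
      exact ⟨1, by rw [pow_one, mul_comm]; exact hσ₁X _ (Finset.mem_image_of_mem mu ha')⟩
    exact h1 ⟨a, hSA.symm ▸ ha, rfl⟩
  -- second open
  obtain ⟨SB, hSB⟩ := (Algebra.FiniteType.out : (⊤ : Subalgebra k B).FG)
  have hLmem : ∀ c : K, L c ∈ Wv := fun c => by
    rcases eq_or_ne c 0 with rfl | hc
    · simp
    · exact (Wv.valuation_le_one_iff _).1 (hD.val_eq_one hc).le
  have hθv : ∀ z, Wv.valuation (θ z) = 1 ↔ Wv.valuation z = 1 := fun z => by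
    have := val_one_comap θ.toRingHom Wv z
    rw [hWθ] at this
    exact this.symm
  have hθσ : θ σ₁⁻¹ ∈ Wv := by
    rw [← Wv.valuation_le_one_iff, map_inv₀, map_inv₀, (hθv _).2 hσ₁v, inv_one]
  obtain ⟨σ₀, hσ₀, hσ₀v, hσ₀X⟩ := hclearS (insert (θ σ₁⁻¹) (SB.image fun b => L (io (φ b)))) fun x hx => by
    rcases Finset.mem_insert.1 hx with rfl | hx
    · exact hθσ
    · obtain ⟨b, -, rfl⟩ := Finset.mem_image.1 hx
      exact hLmem _
  let σ₂ := σ₁ * σ₀
  have hσ₂ : σ₂ ∈ T' := mul_mem hσ₁ hσ₀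
  have hσ₂v : Wv.valuation σ₂ = 1 := hmul1 _ _ hσ₁v hσ₀v
  let S₂ := sat T' hσ₂
  have hin₂ : ∀ x, x * σ₀ ∈ T' → x ∈ S₂ := fun x hx =>
    ⟨1, by rw [pow_one, show σ₂ * x = σ₁ * (x * σ₀) by simp only [σ₂]; ring]; exact mul_mem hσ₁ hx⟩
  have h12 : S₁ ≤ S₂ := sat_le T' hσ₁ (hne1 _ hσ₁v) (le_sat T' hσ₂) ⟨1, by
    rw [pow_one, show σ₂ * σ₁⁻¹ = σ₀ by simp only [σ₂]; field_simp [hne1 _ hσ₁v]]; exact hσ₀⟩
  have hS₂W : ∀ z ∈ S₂, z ∈ Wv := by
    rintro z ⟨n, hn⟩
    have h1 := (Wv.valuation_le_one_iff _).2 (hT'W _ hn)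
    rw [map_mul, map_pow, hσ₂v, one_pow, _root_.one_mul] at h1
    exact (Wv.valuation_le_one_iff _).1 h1
  have hθ12 : ∀ z ∈ S₁, θ z ∈ S₂ := by
    have hle : S₁ ≤ S₂.comap θ := by
      refine sat_le T' hσ₁ (hne1 _ hσ₁v) ?_ (show θ σ₁⁻¹ ∈ S₂ from hin₂ _ (hσ₀X _ (Finset.mem_insert_self _ _)))
      rintro _ ⟨t, rfl⟩
      show θ (τ t) ∈ S₂
      have hLio : ∀ b, L (io (φ b)) ∈ S₂ := fun b => by
        have h1 : (⊤ : Subalgebra k B).map (L.comp (io.comp φ)) ≤ S₂ := by
          rw [← hSB, AlgHom.map_adjoin]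
          refine Algebra.adjoin_le ?_
          rintro _ ⟨b', hb', rfl⟩
          exact hin₂ _ (hσ₀X _ (Finset.mem_insert_of_mem (Finset.mem_image_of_mem (fun b => L (io (φ b))) hb')))
        exact h1 ⟨b, trivial, rfl⟩
      induction t with
      | zero => simp
      | tmul b a =>
        rw [Algebra.TensorProduct.lift_tmul, map_mul, show θ ((L.comp φ) b) = L (io (φ b)) from congr($hθL (φ b)),
          show θ ((R.comp A.val) a) = mu a from congr($hθR (a : K))]
        exact mul_mem (hLio b) (h12 (hmuS₁ a a.2))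
      | add x y hx hy => simp only [map_add]; exact add_mem hx hy
    exact fun z hz => hle hz
  -- morphisms on the first open
  let bL : B →ₐ[k] S₁ := (L.comp φ).codRestrict S₁ fun b => le_sat T' hσ₁ (hLB b)
  let aR : A →ₐ[k] S₁ := (R.comp A.val).codRestrict S₁ fun a => le_sat T' hσ₁ (hRA a)
  let aM : A →ₐ[k] S₁ := (mu.comp A.val).codRestrict S₁ fun a => hmuS₁ a a.2
  let jS : spR (k := k) S₁ ⟶ G ⊗ (spR (k := k) A) := lift (spHom bL ≫ iB) (spHom aR : spR (k := k) S₁ ⟶ (spR (k := k) A))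
  have hjS : IsOpenImmersion jS.left := by
    letI : Algebra T' S₁ := (Subalgebra.inclusion (le_sat T' hσ₁)).toRingHom.toAlgebra
    have : IsLocalization.Away (⟨σ₁, hσ₁⟩ : T') S₁ := isLocalization_sat T' hσ₁ (hne1 _ hσ₁v) S₁ rfl
    have h1 : IsOpenImmersion (Spec.map (CommRingCat.ofHom (Subalgebra.inclusion (le_sat T' hσ₁)).toRingHom)) :=
      IsOpenImmersion.of_isLocalization (R := T') (S := S₁) ⟨σ₁, hσ₁⟩
    have h2 : IsIso (Spec.map eT.toRingEquiv.toCommRingCatIso.hom) := inferInstance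
    have h3 : IsOpenImmersion (iB ▷ (spR (k := k) A)).left := by
      rw [show iB ▷ (spR (k := k) A) = lift (snd (spR (k := k) B) (spR (k := k) A)) (fst (spR (k := k) B) (spR (k := k) A)) ≫ (spR (k := k) A) ◁ iB ≫ lift (snd (spR (k := k) A) G) (fst (spR (k := k) A) G) by
        ext : 1 <;> simp]
      have i1 : IsIso (lift (snd (spR (k := k) B) (spR (k := k) A)) (fst (spR (k := k) B) (spR (k := k) A))) :=
        ⟨lift (snd (spR (k := k) A) (spR (k := k) B)) (fst (spR (k := k) A) (spR (k := k) B)), by constructor <;> ext : 1 <;> simp⟩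
      have i2 : IsIso (lift (snd (spR (k := k) A) G) (fst (spR (k := k) A) G)) := ⟨lift (snd G (spR (k := k) A)) (fst G (spR (k := k) A)), by constructor <;> ext : 1 <;> simp⟩
      have j1 : IsIso (lift (snd (spR (k := k) B) (spR (k := k) A)) (fst (spR (k := k) B) (spR (k := k) A))).left :=
        (Over.forget _).map_isIso (lift (snd (spR (k := k) B) (spR (k := k) A)) (fst (spR (k := k) B) (spR (k := k) A)))
      have j2 : IsIso (lift (snd (spR (k := k) A) G) (fst (spR (k := k) A) G)).left := (Over.forget _).map_isIso (lift (snd (spR (k := k) A) G) (fst (spR (k := k) A) G))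
      have h0 : IsOpenImmersion ((spR (k := k) A) ◁ iB).left :=
        MorphismProperty.of_isPullback (P := @IsOpenImmersion) (isPullback_left (whiskerLeft_isPullback (spR (k := k) A) iB)).flip ‹_›
      exact MorphismProperty.comp_mem @IsOpenImmersion _ _ inferInstance
        (MorphismProperty.comp_mem @IsOpenImmersion _ _ h0 inferInstance)
    let e : (spR (k := k) B ⊗ (spR (k := k) A)).left ≅ Spec (CommRingCat.of (B ⊗[k] A)) := pullbackSpecIso k B A
    have hef : e.inv ≫ (fst (spR (k := k) B) (spR (k := k) A)).left = Spec.map (CommRingCat.ofHom Algebra.TensorProduct.includeLeftRingHom) :=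
      pullbackSpecIso_inv_fst k B A
    have hes : e.inv ≫ (snd (spR (k := k) B) (spR (k := k) A)).left = Spec.map (CommRingCat.ofHom Algebra.TensorProduct.includeRight.toRingHom) :=
      pullbackSpecIso_inv_snd k B A
    have hfac : jS.left = Spec.map (CommRingCat.ofHom (Subalgebra.inclusion (le_sat T' hσ₁)).toRingHom) ≫
        Spec.map eT.toRingEquiv.toCommRingCatIso.hom ≫ e.inv ≫ (iB ▷ (spR (k := k) A)).left := by
      refine pullback.hom_ext ?_ ?_
      · show (jS ≫ fst G (spR (k := k) A)).left = _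
        rw [lift_fst]
        show _ = (Spec.map _ ≫ Spec.map _ ≫ e.inv ≫ (iB ▷ (spR (k := k) A)).left) ≫ (fst G (spR (k := k) A)).left
        simp only [Category.assoc]
        rw [← Over.comp_left (f := iB ▷ (spR (k := k) A)), whiskerRight_fst, Over.comp_left]
        show Spec.map _ ≫ hUG.fromSpec = Spec.map _ ≫ Spec.map _ ≫ e.inv ≫ (fst (spR (k := k) B) (spR (k := k) A)).left ≫ hUG.fromSpec
        rw [reassoc_of% hef, ← Spec.map_comp_assoc, ← Spec.map_comp_assoc]
        congr 2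
        refine CommRingCat.hom_ext (RingHom.ext fun p => Subtype.ext ?_)
        show L (φ p) = τ (p ⊗ₜ 1)
        simp [τ, L]
      · show (jS ≫ snd G (spR (k := k) A)).left = _
        rw [lift_snd]
        show _ = (Spec.map _ ≫ Spec.map _ ≫ e.inv ≫ (iB ▷ (spR (k := k) A)).left) ≫ (snd G (spR (k := k) A)).left
        simp only [Category.assoc]
        rw [← Over.comp_left (f := iB ▷ (spR (k := k) A)), whiskerRight_snd, hes, ← Spec.map_comp, ← Spec.map_comp]
        show Spec.map _ = Spec.map _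
        congr 1
        refine CommRingCat.hom_ext (RingHom.ext fun p => Subtype.ext ?_)
        show R (p : K) = τ (1 ⊗ₜ p)
        simp [τ, R]
    rw [hfac]
    exact MorphismProperty.comp_mem @IsOpenImmersion _ _ h1 (MorphismProperty.comp_mem @IsOpenImmersion _ _ inferInstance
      (MorphismProperty.comp_mem @IsOpenImmersion _ _ inferInstance h3))
  let Wo : (G ⊗ (spR (k := k) A)).left.Opens := jS.left.opensRange
  let eS : opn Wo ≅ spR (k := k) S₁ := (Over.isoMk jS.left.isoOpensRange (by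
    show jS.left.isoOpensRange.hom ≫ Wo.ι ≫ (G ⊗ (spR (k := k) A)).hom = _
    rw [Scheme.Hom.isoOpensRange_hom_ι_assoc]; exact Over.w jS)).symm
  have heS : eS.inv ≫ opι Wo = jS := Over.OverMorphism.ext jS.left.isoOpensRange_hom_ι
  let mS : spR (k := k) S₁ ⟶ (spR (k := k) A) := spHom aM
  -- generic points
  let gU : spF (k := k) K ⟶ (spR (k := k) A) := (spHom A.val : spR (k := k) K ⟶ (spR (k := k) A))
  let ηo : spF (k := k) K ⟶ Z := Over.homMk ηZ (by
    show ηZ ≫ Z.hom = Spec.map _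
    rw [halg, ← hηi, Category.assoc, Over.w i])
  have hηoi : ηo ≫ i = pt halg (AlgHom.id k K) := Over.OverMorphism.ext (by
    show ηZ ≫ i.left = Spec.map _ ≫ _
    rw [hηi]
    refine (Category.id_comp _).symm.trans (congrArg (· ≫ _) ?_)
    exact (Spec.map_id _).symm)
  have hηoj : ηo ≫ j = gU := Over.OverMorphism.ext hηj
  let pL : spF (k := k) (Lam2 G) ⟶ Pr i := pullback.lift (lift (pt halg L) (spMap R ≫ ηo)) (spMap mu ≫ ηo) (by
    rw [mv, MonObj.comp_mul, lift_fst, lift_snd_assoc, Category.assoc, Category.assoc, hηoi, pt_comp, pt_comp,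
      AlgHom.comp_id, AlgHom.comp_id, hmu])
  let gS : spR (k := k) (Lam2 G) ⟶ spR S₁ := spHom S₁.val
  have hgS : gS ≫ jS = pL ≫ incl i j := by
    rw [incl, pullback.lift_fst_assoc, lift_whiskerLeft, Category.assoc, hηoj, comp_lift]
    refine CartesianMonoidalCategory.hom_ext _ _ ?_ ?_
    · simp only [lift_fst]
      rw [← Category.assoc, spHom_comp]
      exact hiB L
    · simp only [lift_snd]
      exact (spHom_comp aR S₁.val).trans (spHom_comp A.val R).symm
  have hgood : Good i j Wo (eS.hom ≫ mS) := by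
    intro T w p hwp
    let Q := pullback jS (incl i j)
    let qL : spF (k := k) (Lam2 G) ⟶ Q := pullback.lift gS pL hgS
    suffices key : pullback.fst jS (incl i j) ≫ mS = pullback.snd jS (incl i j) ≫ act i j by
      have h1 : w ≫ eS.hom ≫ jS = p ≫ incl i j := by rw [← heS, eS.hom_inv_id_assoc]; exact hwp
      have h2 := congrArg (pullback.lift (w ≫ eS.hom) p (by rw [Category.assoc]; exact h1) ≫ ·) key
      simp only [pullback.lift_fst_assoc, pullback.lift_snd_assoc] at h2
      rw [← h2, Category.assoc]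
    have hincl := incl_isOpenImmersion (i := i) (j := j)
    have hfo : IsOpenImmersion (pullback.fst jS (incl i j)).left :=
      MorphismProperty.of_isPullback (P := @IsOpenImmersion) (isPullback_left (IsPullback.of_hasPullback jS (incl i j))).flip hincl
    have : IsIntegral (spR (k := k) S₁).left := spR_isIntegral (k := k) S₁
    have : Nonempty Q.left := ⟨qL.left (IsLocalRing.closedPoint (Lam2 G))⟩
    have : IsIntegral Q.left := isIntegral_of_isOpenImmersion (pullback.fst jS (incl i j)).left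
    have hq : qL.left (IsLocalRing.closedPoint (Lam2 G)) = genericPoint Q.left := by
      refine (pullback.fst jS (incl i j)).left.isOpenEmbedding.injective ?_
      rw [genericPoint_eq_of_isOpenImmersion, ← Scheme.Hom.comp_apply, ← Over.comp_left, pullback.lift_fst]
      show _ = genericPoint (Spec (CommRingCat.of S₁))
      rw [genericPoint_eq_bot_of_affine]
      refine PrimeSpectrum.ext ?_
      show Ideal.comap S₁.val.toRingHom (IsLocalRing.maximalIdeal (Lam2 G)) = ⊥
      rw [IsLocalRing.maximalIdeal_eq_bot]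
      exact (RingHom.injective_iff_ker_eq_bot _).1 Subtype.val_injective
    have : IsDominant qL.left := ⟨fun t => closure_mono (Set.singleton_subset_iff.2 (show genericPoint Q.left ∈ Set.range qL.left from ⟨_, hq⟩))
      ((genericPoint_spec Q.left).ge trivial)⟩
    have e : qL ≫ pullback.fst jS (incl i j) ≫ mS = qL ≫ pullback.snd jS (incl i j) ≫ act i j := by
      rw [pullback.lift_fst_assoc, pullback.lift_snd_assoc, act, pullback.lift_snd_assoc, Category.assoc, hηoj]
      exact (spHom_comp aM S₁.val).trans (spHom_comp A.val mu).symm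
    exact Over.OverMorphism.ext (ext_of_isDominant_of_isSeparated (spR (k := k) A).hom (by rw [Over.w, Over.w]) qL.left (congr($(e).left)))
  have hrel : ∀ χ : S₁ →ₐ[k] k, Rel i j (pl (χ.comp bL) ≫ iB) (pl (χ.comp aR) : _ ⟶ (spR (k := k) A)) (pl (χ.comp aM) : _ ⟶ (spR (k := k) A)) :=
    fun χ => by
    refine ⟨Wo, eS.hom ≫ mS, pl χ ≫ eS.inv, hgood, ?_, ?_⟩
    · rw [Category.assoc, heS, comp_lift, ← Category.assoc, pl_comp, pl_comp]
    · rw [Category.assoc, eS.inv_hom_id_assoc, pl_comp]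
  -- the second point
  let bL₂ : B →ₐ[k] S₂ := (Subalgebra.inclusion h12).comp bL
  let θ' : S₁ →ₐ[k] S₂ := (θ.comp S₁.val).codRestrict S₂ fun z => hθ12 z z.2
  have hinv : spHom (θ'.comp bL) ≫ iB = (spHom bL₂ ≫ iB)⁻¹ := by
    let g₂ : spR (k := k) (Lam2 G) ⟶ spR S₂ := spHom S₂.val
    have : IsIntegral (spR (k := k) S₂).left := spR_isIntegral (k := k) S₂
    have : IsDominant g₂.left := by
      refine ⟨fun t => closure_mono (Set.singleton_subset_iff.2 ?_) ((genericPoint_spec (spR (k := k) S₂).left).ge trivial)⟩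
      refine ⟨IsLocalRing.closedPoint (Lam2 G), ?_⟩
      show _ = genericPoint (Spec (CommRingCat.of S₂))
      rw [genericPoint_eq_bot_of_affine]
      refine PrimeSpectrum.ext ?_
      show Ideal.comap S₂.val.toRingHom (IsLocalRing.maximalIdeal (Lam2 G)) = ⊥
      rw [IsLocalRing.maximalIdeal_eq_bot]
      exact (RingHom.injective_iff_ker_eq_bot _).1 Subtype.val_injective
    have := isSeparated_grp G
    have e : g₂ ≫ spHom (θ'.comp bL) ≫ iB = g₂ ≫ (spHom bL₂ ≫ iB)⁻¹ := by
      rw [GrpObj.comp_inv, ← Category.assoc, ← Category.assoc, spHom_comp, spHom_comp,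
        show S₂.val.comp (θ'.comp bL) = (L.comp io).comp φ from AlgHom.ext fun b => congr($hθL (φ b)),
        show S₂.val.comp bL₂ = L.comp φ from AlgHom.ext fun _ => rfl, hiB, hiB,
        ← pt_comp halg L, hio, GrpObj.comp_inv, pt_comp, AlgHom.comp_id]
    exact Over.OverMorphism.ext (ext_of_isDominant_of_isSeparated G.hom (by rw [Over.w, Over.w]) g₂.left (congr($(e).left)))
  -- a point on the divisor
  let Q₂ : Ideal S₂ :=
    { carrier := {z | Wv.valuation (z : Lam2 G) < 1}
      zero_mem' := by simp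
      add_mem' := fun {a b} ha hb => (Wv.valuation.map_add _ _).trans_lt (max_lt ha hb)
      smul_mem' := fun c z hz => by
        show Wv.valuation ((c : Lam2 G) * z) < 1
        rw [map_mul]
        exact (mul_le_mul' ((Wv.valuation_le_one_iff _).2 (hS₂W _ c.2)) le_rfl).trans_lt (by rw [_root_.one_mul]; exact hz) }
  have : Algebra.FiniteType k S₂ := (Subalgebra.fg_iff_finiteType S₂).1 (sat_fg T' hσ₂ (hne1 _ hσ₂v) hT'fg)
  obtain ⟨M₂, hM₂, hQM⟩ := Ideal.exists_le_maximal Q₂ fun h => by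
    have h1 : (1 : S₂) ∈ Q₂ := by rw [h]; trivial
    simp [Q₂] at h1
  obtain ⟨χ₁, hχ₁⟩ := FBase64.exists_algHom_ker_eq k S₂ M₂
  let x : A →ₐ[k] k := χ₁.comp ((Subalgebra.inclusion h12).comp aR)
  let P : Ideal A :=
    { carrier := {a | w.valuation (a : K) < 1}
      zero_mem' := by simp
      add_mem' := fun {a b} ha hb => (w.valuation.map_add _ _).trans_lt (max_lt ha hb)
      smul_mem' := fun c z hz => by
        show w.valuation ((c : K) * z) < 1
        rw [map_mul]
        exact (mul_le_mul' ((w.valuation_le_one_iff _).2 (hAw _ c.2)) le_rfl).trans_lt (by rw [_root_.one_mul]; exact hz) }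
  have hRlt : ∀ c : K, w.valuation c < 1 → Wv.valuation (R c) < 1 := fun c hc => by
    refine lt_of_le_of_ne ((Wv.valuation_le_one_iff _).2 ((hRw _).2 ((w.valuation_le_one_iff _).1 hc.le))) fun h => ?_
    exact hc.ne ((hR1 _).1 h)
  have hxP : ∀ a ∈ P, x a = 0 := fun a ha => (hχ₁ _).2 (hQM (hRlt _ ha))
  -- the orbit of `x`
  let ev : B ⊗[k] A →ₐ[k] B :=
    Algebra.TensorProduct.lift (AlgHom.id k B) ((Algebra.ofId k B).comp x) fun _ _ => Commute.all _ _
  obtain ⟨t₂, ht₂⟩ := id hσ₂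
  let sx : B := ev t₂
  let ι₂ : B ⊗[k] A →ₐ[k] S₂ := τ.codRestrict S₂ fun t => le_sat T' hσ₂ ⟨t, rfl⟩
  have hχev : χ₁.comp ι₂ = (χ₁.comp bL₂).comp ev := Algebra.TensorProduct.ext' fun b a => by
    simp only [AlgHom.comp_apply, ev, Algebra.TensorProduct.lift_tmul, map_mul, AlgHom.coe_id, id_eq]
    rw [Algebra.ofId_apply, AlgHom.commutes, AlgHom.commutes, show ι₂ (b ⊗ₜ a) = bL₂ b * (Subalgebra.inclusion h12) (aR a) from
      Subtype.ext (by show τ (b ⊗ₜ a) = _; rw [Algebra.TensorProduct.lift_tmul]; rfl), map_mul]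
    rfl
  have hσu : IsUnit (⟨σ₂, le_sat T' hσ₂ hσ₂⟩ : S₂) :=
    IsUnit.of_mul_eq_one (⟨σ₂⁻¹, inv_mem_sat T' hσ₂⟩ : S₂) (Subtype.ext (mul_inv_cancel₀ (hne1 _ hσ₂v)))
  have hsx : χ₁ (bL₂ sx) ≠ 0 := by
    rw [show χ₁ (bL₂ sx) = χ₁ (ι₂ t₂) from congr($hχev.symm t₂), show ι₂ t₂ = ⟨σ₂, le_sat T' hσ₂ hσ₂⟩ from Subtype.ext ht₂]
    exact (hσu.map χ₁).ne_zero
  have hsx0 : sx ≠ 0 := fun h => hsx (by rw [h, map_zero, map_zero])
  let B' := Localization.Away sx
  have : IsDomain B' := IsLocalization.isDomain_localization (powers_le_nonZeroDivisors_of_noZeroDivisors hsx0)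
  have : Algebra.FiniteType k B' :=
    (inferInstance : Algebra.FiniteType k B).trans (IsLocalization.finiteType_of_monoid_fg (Submonoid.powers sx) B')
  let ι' : B →ₐ[k] B' := IsScalarTower.toAlgHom k B B'
  let e₂ : B ⊗[k] A ≃ₐ[k] T' := eT
  letI : Algebra T' S₂ := (Subalgebra.inclusion (le_sat T' hσ₂)).toRingHom.toAlgebra
  have hlocS : IsLocalization.Away (⟨σ₂, hσ₂⟩ : T') S₂ := isLocalization_sat T' hσ₂ (hne1 _ hσ₂v) S₂ rfl
  have : IsScalarTower k T' S₂ := IsScalarTower.of_algebraMap_eq fun c => rfl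
  let f₂ : T' →ₐ[k] B' := (ι'.comp ev).comp e₂.symm.toAlgHom
  have hf₂ : ∀ y : Submonoid.powers (⟨σ₂, hσ₂⟩ : T'), IsUnit (f₂ y) := by
    rintro ⟨_, n, rfl⟩
    rw [map_pow]
    refine IsUnit.pow _ ?_
    have : e₂.symm ⟨σ₂, hσ₂⟩ = t₂ := e₂.injective (by rw [e₂.apply_symm_apply]; exact Subtype.ext ht₂.symm)
    show IsUnit (algebraMap B B' (ev (e₂.symm ⟨σ₂, hσ₂⟩)))
    rw [this]
    exact IsLocalization.Away.algebraMap_isUnit sx
  let Φ : S₂ →ₐ[k] B' := IsLocalization.liftAlgHom (M := Submonoid.powers (⟨σ₂, hσ₂⟩ : T')) hf₂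
  have hΦι : Φ.comp ι₂ = ι'.comp ev := AlgHom.ext fun t => by
    show IsLocalization.liftAlgHom hf₂ (algebraMap T' S₂ (eT t)) = _
    rw [IsLocalization.liftAlgHom_apply, IsLocalization.lift_eq]
    exact congrArg (fun z => ι' (ev z)) (eT.symm_apply_apply t)
  let ψ : A →ₐ[k] B' := Φ.comp ((Subalgebra.inclusion h12).comp aM)
  have hψP : ∀ a ∈ P, ψ a = 0 := by
    intro a ha
    have hlt : Wv.valuation (mu a) < 1 := by
      refine lt_of_le_of_ne ((Wv.valuation_le_one_iff _).2 ((hmuw _).2 ((w.valuation_le_one_iff _).1 (le_of_lt ha)))) fun h => ?_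
      have h1 : (Wv.comap mu.toRingHom).valuation (a : K) = 1 := (val_one_comap _ _ _).2 h
      rw [hWmu] at h1
      exact ha.ne h1
    obtain ⟨n, t, ht⟩ := h12 (hmuS₁ a a.2)
    have htz : ι₂ t = (⟨σ₂, le_sat T' hσ₂ hσ₂⟩ : S₂) ^ n * (Subalgebra.inclusion h12) (aM a) := Subtype.ext ht
    have htv : Wv.valuation (τ t) < 1 := by
      rw [show τ t = σ₂ ^ n * mu a from ht, map_mul, map_pow, hσ₂v, one_pow, _root_.one_mul]; exact hlt
    have hev : ev t = 0 := by
      let bB := Module.Basis.ofVectorSpace k B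
      let E := TensorProduct.equivFinsuppOfBasisLeft bB (N := A)
      have ht' : t = (E t).sum fun l c => bB l ⊗ₜ c := by
        rw [← TensorProduct.equivFinsuppOfBasisLeft_symm_apply, E.symm_apply_apply]
      have hτt : τ t = ∑ l ∈ (E t).support, L.toLinearMap (φ (bB l)) * R ((E t l : A) : K) := by
        conv_lhs => rw [ht', Finsupp.sum, map_sum]
        exact Finset.sum_congr rfl fun l _ => Algebra.TensorProduct.lift_tmul ..
      have hindB : LinearIndependent k fun l => φ (bB l) :=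
        bB.linearIndependent.map' φ.toLinearMap (LinearMap.ker_eq_bot.2 hinj)
      have hall : ∀ l ∈ (E t).support, E t l ∈ P := by
        intro l hl
        by_contra hnot
        have h1 : w.valuation ((E t l : A) : K) = 1 :=
          le_antisymm ((w.valuation_le_one_iff _).2 (hAw _ (E t l).2)) (not_lt.1 hnot)
        exact htv.ne (hτt ▸ hD _ (E t).support (fun l => φ (bB l)) (fun l => ((E t l : A) : K)) hindB
          (fun l' _ => (hRw _).2 (hAw _ (E t l').2)) ⟨l, hl, (hR1 _).2 h1⟩)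
      conv_lhs => rw [ht', Finsupp.sum, map_sum]
      refine Finset.sum_eq_zero fun l hl => ?_
      rw [Algebra.TensorProduct.lift_tmul, AlgHom.comp_apply, hxP _ (hall l hl), map_zero, mul_zero]
    have h0 : Φ (ι₂ t) = 0 := by rw [← AlgHom.comp_apply, hΦι, AlgHom.comp_apply, hev, map_zero]
    rw [htz, map_mul, map_pow] at h0
    exact (mul_eq_zero.1 h0).resolve_left (pow_ne_zero _ (hσu.map Φ).ne_zero)
  -- dimensions
  have htrB : Algebra.trdeg k B' = ((m + 1 : ℕ) : Cardinal.{u}) := by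
    letI : Algebra B K := φ.toRingHom.toAlgebra
    have : IsScalarTower k B K := IsScalarTower.of_algebraMap_eq fun c => (φ.commutes c).symm
    have : IsFractionRing B K := hfU
    have h1 : Algebra.trdeg k B = Algebra.trdeg k B' := by
      let F := FractionRing B
      letI : Algebra B' F := (IsLocalization.lift (M := Submonoid.powers sx) (g := algebraMap B F) (by
        rintro ⟨_, n, rfl⟩
        exact isUnit_iff_ne_zero.2 ((map_ne_zero_iff _ (IsFractionRing.injective B F)).2 (pow_ne_zero _ hsx0)))).toAlgebra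
      have : IsScalarTower B B' F := IsScalarTower.of_algebraMap_eq fun c => (IsLocalization.lift_eq _ c).symm
      have : IsScalarTower k B' F := IsScalarTower.of_algebraMap_eq fun c => by
        rw [IsScalarTower.algebraMap_apply k B F, IsScalarTower.algebraMap_apply k B B',
          ← IsScalarTower.algebraMap_apply B B' F]
      have : IsFractionRing B' F :=
        IsFractionRing.isFractionRing_of_isDomain_of_isLocalization (Submonoid.powers sx) B' F
      rw [trdeg_eq_of_isFractionRing (K := F) B, trdeg_eq_of_isFractionRing (K := F) B']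
    rw [← h1, trdeg_eq_of_isFractionRing (K := K) B, htr]
  have hPp : P.IsPrime := by
    refine ⟨fun h => ?_, fun {a b} hab => ?_⟩
    · have h1 : (1 : A) ∈ P := by rw [h]; trivial
      simp [P] at h1
    · by_contra hne
      push Not at hne
      change w.valuation ((a : K) * b) < 1 at hab
      rw [map_mul, le_antisymm ((w.valuation_le_one_iff _).2 (hAw _ a.2)) (not_lt.1 hne.1), _root_.one_mul] at hab
      exact hne.2 hab
  have hAP : ∀ P' : Ideal A, P'.IsPrime → RingHom.ker ψ.toRingHom ≤ P' → Algebra.trdeg k (A ⧸ P') ≤ (m : Cardinal.{u}) := by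
    intro P' hP' hle
    have hP'0 : P' ≠ ⊥ := fun h => by
      have h1 : (⟨a₁, ha₁A⟩ : A) ∈ P' := hle (hψP _ ha₁v)
      rw [h, Ideal.mem_bot] at h1
      exact ha₁0 (congrArg Subtype.val h1)
    have h := E4O.height_add_trdeg_eq k A P'
    rw [trdeg_eq_of_isFractionRing (K := K) A, htr] at h
    rw [E4O.trdeg_eq_natCast k (A ⧸ P')] at h ⊢
    have hpos : P'.height ≠ 0 := fun h0 => hP'0 (Ideal.height_eq_zero_iff_eq_bot.1 h0)
    have : IsNoetherianRing A := Algebra.FiniteType.isNoetherianRing k A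
    have hfin : P'.height ≠ ⊤ := Ideal.height_ne_top hP'.ne_top
    obtain ⟨e, he⟩ := ENat.ne_top_iff_exists.1 hfin
    rw [← he, Cardinal.ofENat_nat] at h
    norm_cast at h ⊢
    rw [← he] at hpos
    have he0 : e ≠ 0 := fun h0 => hpos (by rw [h0]; rfl)
    omega
  obtain ⟨p, M, y₀, hp, hM, hpM, hy₀⟩ := exists_fibre ψ hAP htrB
  -- the family
  let C := B' ⧸ p
  let πC : B' →ₐ[k] C := Ideal.Quotient.mkₐ k p
  let gC : spR (k := k) C ⟶ G := spHom (πC.comp ι') ≫ iB
  let xU : 𝟙_ (Over (Spec (CommRingCat.of k))) ⟶ (spR (k := k) A) := pl x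
  let yU : 𝟙_ (Over (Spec (CommRingCat.of k))) ⟶ (spR (k := k) A) := pl y₀
  have hstep : ∀ χ : C →ₐ[k] k, Rel i j (pl χ ≫ gC) xU yU ∧ Rel i j (pl χ ≫ gC)⁻¹ yU xU := by
    intro χ
    let χ' : S₂ →ₐ[k] k := (χ.comp πC).comp Φ
    have eB : χ'.comp bL₂ = χ.comp (πC.comp ι') := AlgHom.ext fun b => by
      show χ (πC (Φ (bL₂ b))) = χ (πC (ι' b))
      rw [show bL₂ b = ι₂ (b ⊗ₜ 1) from Subtype.ext (by simp [bL₂, bL, ι₂, τ]), ← AlgHom.comp_apply Φ, hΦι]
      simp [ev]
    have eX : χ'.comp ((Subalgebra.inclusion h12).comp aR) = x := AlgHom.ext fun a => by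
      show χ (πC (Φ ((Subalgebra.inclusion h12) (aR a)))) = x a
      rw [show (Subalgebra.inclusion h12) (aR a) = ι₂ ((1 : B) ⊗ₜ a) from Subtype.ext (by simp [aR, ι₂, τ]),
        ← AlgHom.comp_apply Φ, hΦι]
      simp only [AlgHom.comp_apply, ev, Algebra.TensorProduct.lift_tmul, map_mul, map_one, _root_.one_mul,
        Algebra.ofId_apply, AlgHom.commutes]
      rfl
    have eY : χ'.comp ((Subalgebra.inclusion h12).comp aM) = y₀ := AlgHom.ext fun a => by
      show χ (πC (ψ a)) = y₀ a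
      have h1 : πC (ψ a) = algebraMap k C (y₀ a) := by
        rw [← AlgHom.commutes πC]; exact Ideal.Quotient.eq.2 (hy₀ a)
      rw [h1, AlgHom.commutes]; rfl
    have r1 : Rel i j (pl χ ≫ gC) xU yU := by
      have := hrel (χ'.comp (Subalgebra.inclusion h12))
      rw [show (χ'.comp (Subalgebra.inclusion h12)).comp bL = χ.comp (πC.comp ι') from eB,
        show (χ'.comp (Subalgebra.inclusion h12)).comp aR = x from eX,
        show (χ'.comp (Subalgebra.inclusion h12)).comp aM = y₀ from eY] at this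
      rwa [← Category.assoc, pl_comp]
    have r2 := hrel (χ'.comp θ')
    have eG : pl ((χ'.comp θ').comp bL) ≫ iB = (pl χ ≫ gC)⁻¹ := by
      rw [AlgHom.comp_assoc, ← pl_comp, Category.assoc, hinv, GrpObj.comp_inv, ← Category.assoc, pl_comp, eB,
        ← pl_comp, Category.assoc]
    have eY' : (χ'.comp θ').comp aR = y₀ := by
      rw [← eY]
      refine AlgHom.ext fun a => congrArg χ' (Subtype.ext ?_)
      exact congr($hθR (a : K))
    rw [eG, eY'] at r2
    have r3 := rel_mul r1 r2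
    rw [inv_mul_cancel] at r3
    obtain ⟨Wq, mq, wq, hmq, hwq, hwy⟩ := r3
    rw [(eq_of_rel_one hmq wq hwq hwy).1] at r2
    exact ⟨r1, r2⟩
  obtain ⟨MC, hMC⟩ := Ideal.exists_maximal C
  obtain ⟨χc, -⟩ := FBase64.exists_algHom_ker_eq k C MC
  let g0 := pl χc ≫ gC
  have : IsIntegral (spR (k := k) C).left := spR_isIntegral (k := k) C
  have : Algebra.FiniteType k C := Algebra.FiniteType.of_surjective πC (Ideal.Quotient.mkₐ_surjective k p)
  let Fm : Fam G :=
    { X := spR (k := k) C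
      f := (toUnit _ ≫ g0⁻¹) * gC
      x := pl χc
      hx := by rw [MonObj.comp_mul, ← Category.assoc, toUnit_unique (pl χc ≫ toUnit _) (𝟙 _), Category.id_comp, inv_mul_cancel]
      red := inferInstance
      irr := inferInstance
      lft := spR_lft (k := k) C
      qc := inferInstanceAs (QuasiCompact (Spec.map _)) }
  obtain ⟨D, _, ιD, hιm, hιc, hDs, hDi, hDpts⟩ := exists_generated Fm
  have hgenpt : ∀ a ∈ Fm.pts, Rel i j a xU xU ∧ Rel i j a⁻¹ xU xU := by
    rintro _ ⟨q, rfl⟩
    obtain ⟨χ, rfl⟩ := exists_pl q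
    have e : pl χ ≫ Fm.f = g0⁻¹ * (pl χ ≫ gC) := by
      rw [MonObj.comp_mul, ← Category.assoc, toUnit_unique (pl χ ≫ toUnit _) (𝟙 _), Category.id_comp]
    show Rel i j (pl χ ≫ Fm.f) xU xU ∧ Rel i j (pl χ ≫ Fm.f)⁻¹ xU xU
    rw [e, _root_.mul_inv_rev, _root_.inv_inv]
    exact ⟨rel_mul (hstep χ).1 (hstep χc).2, rel_mul (hstep χc).1 (hstep χ).2⟩
  have hone : Rel i j (1 : 𝟙_ (Over (Spec (CommRingCat.of k))) ⟶ G) xU xU := by
    have := rel_mul (hstep χc).1 (hstep χc).2
    rwa [inv_mul_cancel] at this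
  have hall : ∀ h : 𝟙_ (Over (Spec (CommRingCat.of k))) ⟶ D, Rel i j (h ≫ ιD) xU xU := by
    intro h
    have hmem : h ≫ ιD ∈ (Subgroup.closure Fm.pts : Set _) := hDpts ▸ ⟨h, rfl⟩
    refine (?_ : Rel i j (h ≫ ιD) xU xU ∧ Rel i j (h ≫ ιD)⁻¹ xU xU).1
    generalize h ≫ ιD = a at hmem ⊢
    induction hmem using Subgroup.closure_induction with
    | mem a ha => exact hgenpt a ha
    | one => exact ⟨hone, by rw [inv_one]; exact hone⟩
    | mul a b _ _ ha hb => exact ⟨rel_mul hb.1 ha.1, by rw [_root_.mul_inv_rev]; exact rel_mul ha.2 hb.2⟩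
    | inv a _ ha => exact ⟨ha.2, by rw [_root_.inv_inv]; exact ha.1⟩
  have hDl : LocallyOfFiniteType D.hom := by rw [← Over.w ιD]; infer_instance
  have hDq : QuasiCompact D.hom := by rw [← Over.w ιD]; infer_instance
  have := Over.mono_of_mono_left ιD
  refine ⟨D, inferInstance, ιD, hιm, hιc, hDs, isAffine_stab ιD xU hall, ?_⟩
  -- positive dimension
  have hrange : Set.range Fm.f.left ⊆ Set.range ιD.left := by
    have := Fm.lft
    refine range_subset_of_pts Fm.f ιD.left.isClosedEmbedding.isClosed_range fun q => ?_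
    have hmem : q ≫ Fm.f ∈ (Subgroup.closure Fm.pts : Set _) := Subgroup.subset_closure ⟨q, rfl⟩
    rw [← hDpts] at hmem
    obtain ⟨d, hd⟩ := hmem
    exact ⟨d.left (IsLocalRing.closedPoint k), by rw [← hd]; rfl⟩
  have hfinj : Function.Injective Fm.f.left := by
    let tr : G ⟶ G := (toUnit G ≫ g0⁻¹) * 𝟙 G
    have : IsIso tr := ⟨(toUnit G ≫ g0) * 𝟙 G, by
      constructor <;> simp [tr, MonObj.comp_mul, GrpObj.comp_inv, toUnit_unique (_ ≫ toUnit G) (toUnit G)]⟩
    have : IsIso tr.left := (Over.forget _).map_isIso tr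
    have e : Fm.f = gC ≫ tr := by
      rw [MonObj.comp_mul, Category.comp_id, ← Category.assoc, toUnit_unique (gC ≫ toUnit G) (toUnit _)]
    rw [e, Over.comp_left]
    intro a b hab
    rw [Scheme.Hom.comp_apply, Scheme.Hom.comp_apply] at hab
    have h1 := tr.left.isOpenEmbedding.injective hab
    change (Spec.map (CommRingCat.ofHom (πC.comp ι').toRingHom) ≫ hUG.fromSpec) a =
      (Spec.map (CommRingCat.ofHom (πC.comp ι').toRingHom) ≫ hUG.fromSpec) b at h1
    rw [Scheme.Hom.comp_apply, Scheme.Hom.comp_apply] at h1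
    have h2 := hUG.fromSpec.isOpenEmbedding.injective h1
    have hci : Function.Injective (PrimeSpectrum.comap (algebraMap B B')) :=
      (PrimeSpectrum.localization_comap_isEmbedding B' (Submonoid.powers sx)).injective
    exact PrimeSpectrum.comap_injective_of_surjective _ (Ideal.Quotient.mkₐ_surjective k p) (hci h2)
  let cC : PrimeSpectrum C := ⟨⊥, Ideal.bot_prime⟩
  let cM : PrimeSpectrum C := ⟨M.map πC.toRingHom, Ideal.map_isPrime_of_surjective (Ideal.Quotient.mkₐ_surjective k p) (by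
    show RingHom.ker (Ideal.Quotient.mk p) ≤ M
    rw [Ideal.mk_ker]; exact hpM.le)⟩
  have hsp : (cC : (spR (k := k) C).left) ⤳ cM := (PrimeSpectrum.le_iff_specializes cC cM).1 bot_le
  have hcne : (cC : (spR (k := k) C).left) ≠ cM := fun h => by
    have h' : (⊥ : Ideal C) = M.map (Ideal.Quotient.mk p) := congrArg PrimeSpectrum.asIdeal h
    obtain ⟨z, hzM, hzp⟩ := Set.exists_of_ssubset hpM
    have h1 : Ideal.Quotient.mk p z ∈ M.map (Ideal.Quotient.mk p) := Ideal.mem_map_of_mem _ hzM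
    rw [← h', Ideal.mem_bot, Ideal.Quotient.eq_zero_iff_mem] at h1
    exact hzp h1
  obtain ⟨d₁, hd₁⟩ := hrange ⟨cC, rfl⟩
  obtain ⟨d₂, hd₂⟩ := hrange ⟨cM, rfl⟩
  have hd : d₁ ⤳ d₂ := by
    rw [← ιD.left.isClosedEmbedding.isInducing.specializes_iff, hd₁, hd₂]
    exact hsp.map Fm.f.left.continuous
  have hdne : d₁ ≠ d₂ := fun h => hcne (hfinj (by rw [← hd₁, ← hd₂, h]))
  let z₁ : TopologicalSpace.IrreducibleCloseds D.left := ⟨closure {d₁}, isIrreducible_singleton.closure, isClosed_closure⟩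
  let z₂ : TopologicalSpace.IrreducibleCloseds D.left := ⟨closure {d₂}, isIrreducible_singleton.closure, isClosed_closure⟩
  rw [topologicalKrullDim, Order.krullDim_pos_iff]
  refine ⟨z₂, z₁, lt_of_le_of_ne (specializes_iff_closure_subset.1 hd) fun h => hdne ?_⟩
  exact ((inseparable_iff_closure_eq.2 (congrArg (fun z : TopologicalSpace.IrreducibleCloseds D.left => (z : Set D.left)) h)).eq).symm

end

end Groth.Agent.AlgGrp33.Stabilizer
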