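import Groth.Agent.AlgGrp33.NormMap
import Groth.Agent.AlgGrp79.GenSubgroup
import Groth.Agent.AlgGrp79.BorelImage
import Groth.Agent.AbDeg57.FinPow
import Groth.Agent.S11994
import Groth.Agent.S11397
import Groth.Agent.S3023
import Groth.Agent.S3030
import Groth.Agent.S18027
import Groth.Agent.S5341

/-!
Chevalley's structure theorem over an algebraically closed field.

If the anti-affine part of a connected group is proper, the normalised norm map onto it is a homomorphism, and the
neutral component of its kernel has proper quotient.  The general case follows from this applied to the quotient by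
a maximal smooth connected affine normal subgroup.
-/

set_option autoImplicit false
set_option linter.unusedSectionVars false
set_option linter.style.haveILetI false
set_option maxHeartbeats 1600000
set_option synthInstance.maxHeartbeats 200000
set_option backward.isDefEq.respectTransparency.types false
universe u

open CategoryTheory MonoidalCategory CartesianMonoidalCategory MonObj GrpObj AlgebraicGeometry CategoryTheory.Limits
open Groth.Agent.AlgGrp79

namespace Groth.Agent.AlgGrp33.Chevalley

noncomputable section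

variable {k : Type u} [Field k]

local notation "𝟙ₛ" => 𝟙_ (Over (Spec (CommRingCat.of k)))

/-- left translation by a rational point -/
def tr {G : Over (Spec (CommRingCat.of k))} [GrpObj G] (a : 𝟙ₛ ⟶ G) : G ⟶ G := (toUnit G ≫ a) * 𝟙 G

lemma comp_tr {G X : Over (Spec (CommRingCat.of k))} [GrpObj G] (a : 𝟙ₛ ⟶ G) (x : X ⟶ G) :
    x ≫ tr a = (toUnit X ≫ a) * x := by
  rw [tr, MonObj.comp_mul, Category.comp_id, ← Category.assoc, toUnit_unique (x ≫ toUnit G) (toUnit X)]

instance {G : Over (Spec (CommRingCat.of k))} [GrpObj G] (a : 𝟙ₛ ⟶ G) : IsIso (tr a).left := by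
  have : IsIso (tr a) := ⟨tr a⁻¹, by
    constructor <;> rw [comp_tr] <;> simp [tr, GrpObj.comp_inv]⟩
  exact (Over.forget _).map_isIso (tr a)

lemma isMonHom_mul_of_commute {A B G : Over (Spec (CommRingCat.of k))} [GrpObj A] [GrpObj B] [GrpObj G]
    (a : A ⟶ G) [IsMonHom a] (b : B ⟶ G) [IsMonHom b]
    (h : ∀ (T : Over (Spec (CommRingCat.of k))) (x : T ⟶ A) (y : T ⟶ B), (x ≫ a) * (y ≫ b) = (y ≫ b) * (x ≫ a)) :
    IsMonHom ((fst A B ≫ a) * (snd A B ≫ b)) := by
  refine RedPts82.isMonHom_of_points _ fun X x y => ?_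
  have e : ∀ z : X ⟶ A ⊗ B, z ≫ ((fst A B ≫ a) * (snd A B ≫ b)) = ((z ≫ fst A B) ≫ a) * ((z ≫ snd A B) ≫ b) :=
    fun z => by rw [MonObj.comp_mul, Category.assoc, Category.assoc]
  rw [e, e, e, mul_comp' x y (fst A B), mul_comp' x y (snd A B), mul_comp' (x ≫ fst A B) (y ≫ fst A B) a,
    mul_comp' (x ≫ snd A B) (y ≫ snd A B) b]
  have c : Commute ((y ≫ fst A B) ≫ a) ((x ≫ snd A B) ≫ b) := h X _ _
  exact c.mul_mul_mul_comm _ _

section Extension

/-- the preimage of a smooth connected affine subgroup in an extension by a smooth connected affine group -/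
theorem exists_extension [IsAlgClosed k] {G G₁ N L₁ : Over (Spec (CommRingCat.of k))} [GrpObj G] [GrpObj G₁] [GrpObj N]
    [GrpObj L₁] [LocallyOfFiniteType G.hom] [QuasiCompact G.hom] [LocallyOfFiniteType G₁.hom]
    (i : N ⟶ G) [IsMonHom i] [IsClosedImmersion i.left] [IsAffine N.left] [Smooth N.hom] [ConnectedSpace N.left]
    (π : G ⟶ G₁) [IsMonHom π] [Flat π.left] [Surjective π.left] (hker : AlgGrp.IsKernel i π)
    (l₁ : L₁ ⟶ G₁) [IsMonHom l₁] [IsClosedImmersion l₁.left] [IsAffine L₁.left] [Smooth L₁.hom]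
    [ConnectedSpace L₁.left] (hn : AlgGrp.IsNormalHom l₁) :
    ∃ (L : Over (Spec (CommRingCat.of k))) (_ : GrpObj L) (l : L ⟶ G) (p : L ⟶ L₁), IsMonHom l ∧ IsClosedImmersion l.left ∧
      IsAffine L.left ∧ Smooth L.hom ∧ ConnectedSpace L.left ∧ AlgGrp.IsNormalHom l ∧ p ≫ l₁ = l ≫ π ∧ Surjective p.left ∧
      (∀ (T : Over (Spec (CommRingCat.of k))) (x : T ⟶ G) (y : T ⟶ L₁), x ≫ π = y ≫ l₁ → ∃ z : T ⟶ L, z ≫ l = x) := by
  have := isSeparated_grp G₁
  have := isSeparated_grp G
  let L := pullback π l₁
  let l : L ⟶ G := pullback.fst π l₁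
  let p : L ⟶ L₁ := pullback.snd π l₁
  have hw : l ≫ π = p ≫ l₁ := pullback.condition
  have hp : IsPullback l.left p.left π.left l₁.left := isPullback_left (IsPullback.of_hasPullback π l₁)
  have : IsClosedImmersion l.left := MorphismProperty.of_isPullback hp.flip ‹IsClosedImmersion l₁.left›
  have := Over.mono_of_mono_left l
  have := Over.mono_of_mono_left l₁
  have hπa : IsAffineHom π.left := affine_left_of_kernel i π hker
  have hπs : Smooth π.left := smooth_left_of_kernel i π hker
  have : IsAffineHom p.left := MorphismProperty.of_isPullback hp ‹_›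
  have : Smooth p.left := MorphismProperty.of_isPullback hp ‹_›
  have hps : Surjective p.left := MorphismProperty.of_isPullback hp ‹Surjective π.left›
  obtain ⟨hLg, hl⟩ := exists_grpObj_closed l
    ⟨pullback.lift η[G] η[L₁] (by rw [IsMonHom.one_hom, IsMonHom.one_hom]), pullback.lift_fst _ _ _⟩
    fun T a b => ⟨pullback.lift ((a ≫ l)⁻¹ * (b ≫ l)) ((a ≫ p)⁻¹ * (b ≫ p)) (by
      rw [mul_comp', mul_comp', GrpObj.inv_comp, GrpObj.inv_comp, Category.assoc, Category.assoc, hw,
        Category.assoc, Category.assoc]), pullback.lift_fst _ _ _⟩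
  have : IsAffine L.left := isAffine_of_isAffineHom p.left
  have : Smooth L.hom := by rw [← Over.w p]; infer_instance
  have : LocallyOfFiniteType L.hom := inferInstance
  have : JacobsonSpace L.left := LocallyOfFiniteType.jacobsonSpace L.hom
  have hop : IsOpenMap p.left := p.left.isOpenMap
  have : IrreducibleSpace L₁.left := SGA3a.irreducibleSpace_of_smooth_connected L₁.hom
  have hconn : ConnectedSpace L.left := by
    refine { toPreconnectedSpace := preconnectedSpace_iff_clopen.2 fun s hs => ?_,
             toNonempty := ⟨η[L].left (IsLocalRing.closedPoint k)⟩ }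
    by_contra hne
    simp only [not_or] at hne
    obtain ⟨h1, h2⟩ := hne
    have hA := hop _ hs.2
    have hB := hop _ hs.1.isOpen_compl
    obtain ⟨y0, hy1, hy2⟩ := nonempty_preirreducible_inter hA hB ((Set.nonempty_iff_ne_empty.2 h1).image _)
      ((Set.nonempty_compl.2 h2).image _)
    have : JacobsonSpace L₁.left := LocallyOfFiniteType.jacobsonSpace L₁.hom
    obtain ⟨y, hy, hyc⟩ := nonempty_inter_closedPoints (Z := p.left '' s ∩ p.left '' sᶜ) ⟨y0, hy1, hy2⟩
      (hA.inter hB).isLocallyClosed
    obtain ⟨v, hv⟩ := ptVal_eq y hyc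
    have hpre : ∀ t : Set L.left, IsOpen t → y ∈ p.left '' t →
        ∃ u : 𝟙ₛ ⟶ L, u.left (IsLocalRing.closedPoint k) ∈ t ∧ u ≫ p = v := by
      rintro t ht ⟨w, hwt, hw'⟩
      obtain ⟨c, hc, hcc⟩ := nonempty_inter_closedPoints (Z := t ∩ p.left ⁻¹' {y}) ⟨w, hwt, hw'⟩
        (ht.isLocallyClosed.inter ((IsClosed.preimage p.left.continuous hyc).isLocallyClosed))
      obtain ⟨u, hu⟩ := ptVal_eq c hcc
      refine ⟨u, hu ▸ hc.1, pt_ext _ _ ?_⟩
      rw [Over.comp_left, Scheme.Hom.comp_apply, hu, hv]
      exact hc.2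
    obtain ⟨u, hu, hu'⟩ := hpre s hs.2 hy.1
    obtain ⟨u', hu₂, hu₂'⟩ := hpre sᶜ hs.1.isOpen_compl hy.2
    -- the coset of `N` through `u`
    let c : N ⟶ L := pullback.lift ((toUnit N ≫ u ≫ l) * i) (toUnit N ≫ v) (by
      rw [mul_comp', isKernel_comp_one hker (𝟙 N) |> fun h => (show i ≫ π = 1 by simpa using h), _root_.mul_one,
        Category.assoc, Category.assoc, Category.assoc, hw, reassoc_of% hu'])
    have hcl : c ≫ l = (toUnit N ≫ u ≫ l) * i := pullback.lift_fst _ _ _
    have hmem : ∀ w : 𝟙ₛ ⟶ L, w ≫ p = v → w.left (IsLocalRing.closedPoint k) ∈ Set.range c.left := by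
      intro w hw'
      obtain ⟨n, hn'⟩ := exists_ker_of_comp_one hker ((u ≫ l)⁻¹ * (w ≫ l)) (by
        rw [mul_comp', GrpObj.inv_comp, Category.assoc, Category.assoc, hw, reassoc_of% hu', reassoc_of% hw',
          inv_mul_cancel])
      have : n ≫ c = w := by
        rw [← cancel_mono l, Category.assoc, hcl, MonObj.comp_mul, hn', ← Category.assoc,
          toUnit_unique (n ≫ toUnit N) (𝟙 _), Category.id_comp, mul_inv_cancel_left]
      exact ⟨n.left (IsLocalRing.closedPoint k), by rw [← Scheme.Hom.comp_apply, ← Over.comp_left, this]⟩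
    have hsub := (isConnected_range c.left.continuous).isPreconnected.subset_isClopen hs ⟨_, hmem u hu', hu⟩
    exact hu₂ (hsub (hmem u' hu₂'))
  refine ⟨L, hLg, l, p, hl, ‹_›, ‹_›, ‹_›, hconn, fun T g z => ?_, hw.symm, hps,
    fun T x y h => ⟨pullback.lift x y h, pullback.lift_fst _ _ _⟩⟩
  obtain ⟨y, hy⟩ := hn T (g ≫ π) (z ≫ p)
  refine ⟨pullback.lift (g * (z ≫ l) * g⁻¹) y ?_, (pullback.lift_fst _ _ _).symm⟩
  rw [← hy, mul_comp', mul_comp', GrpObj.inv_comp, Category.assoc, hw, Category.assoc]

end Extension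

section ProperCase

variable [IsAlgClosed k]

/-- a finite endomorphism of a smooth connected group is surjective -/
lemma surjective_of_finite {M : Over (Spec (CommRingCat.of k))} [GrpObj M] [Smooth M.hom] [QuasiCompact M.hom]
    [ConnectedSpace M.left] (f : M ⟶ M) [IsMonHom f] [IsFinite f.left] : Surjective f.left := by
  obtain ⟨I, _, j, p, _, _, _, hpj, _, _, _, _, _, hdI, -⟩ := IsogSub.exists_image f
  have h := S18027.result k I M j hdI (IsLocalRing.closedPoint k)
  rw [PreconnectedSpace.connectedComponent_eq_univ, PreconnectedSpace.connectedComponent_eq_univ,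
    Set.image_univ] at h
  have : Surjective j.left := ⟨Set.range_eq_univ.1 h⟩
  rw [← hpj, Over.comp_left]
  infer_instance

/-- if the anti-affine part is proper there is an affine subgroup with proper quotient -/
theorem exists_of_proper (G : Over (Spec (CommRingCat.of k))) [GrpObj G] [Smooth G.hom] [QuasiCompact G.hom]
    [ConnectedSpace G.left] {Qa M : Over (Spec (CommRingCat.of k))} [GrpObj Qa] [GrpObj M] [IsAffine Qa.left]
    [LocallyOfFiniteType Qa.hom] (qa : G ⟶ Qa) [IsMonHom qa] (jM : M ⟶ G) [IsMonHom jM] [IsClosedImmersion jM.left]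
    (hker : AlgGrp.IsKernel jM qa) (hM : AntiAff M) [IsProper M.hom] :
    ∃ (L : Over (Spec (CommRingCat.of k))) (_ : GrpObj L) (l : L ⟶ G) (Q : Over (Spec (CommRingCat.of k))) (_ : GrpObj Q)
      (q : G ⟶ Q), IsMonHom l ∧ IsClosedImmersion l.left ∧ IsAffine L.left ∧ Smooth L.hom ∧ ConnectedSpace L.left ∧
      AlgGrp.IsNormalHom l ∧ IsMonHom q ∧ Surjective q.left ∧ Flat q.left ∧ AlgGrp.IsKernel l q ∧
      IsProper Q.hom ∧ Smooth Q.hom ∧ ConnectedSpace Q.left := by
  classical
  have := isSeparated_grp G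
  have : Smooth M.hom := SGA3a.Affinization.smooth_of_antiAff M hM
  have : ConnectedSpace M.left := SGA3a.Affinization.connectedSpace_of_antiAff hM η[M]
  have := (S3293.result k M hM).2
  have := Over.mono_of_mono_left jM
  have hcent : ∀ (T : Over (Spec (CommRingCat.of k))) (a : T ⟶ M) (g : T ⟶ G), (a ≫ jM) * g = g * (a ≫ jM) :=
    fun T a g => NormMap.central jM T a g
  obtain ⟨φ, n, hn, hφ⟩ := NormMap.exists_norm G M jM
  let c : 𝟙ₛ ⟶ M := η[G] ≫ φ
  let ψ : G ⟶ M := φ * (toUnit G ≫ c)⁻¹
  have hGi := IsogSub.geometricallyIntegral_of_smooth G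
  have hMi := IsogSub.geometricallyIntegral_of_smooth M
  have : IsMonHom ψ := S11994.result k G M ψ (by
    rw [MonObj.comp_mul, GrpObj.comp_inv, ← Category.assoc, toUnit_unique (η[G] ≫ toUnit G) (𝟙 _), Category.id_comp,
      mul_inv_cancel]
    simp [Hom.one_def, toUnit_unit])
  have hψ : ∀ (T : Over (Spec (CommRingCat.of k))) (a : T ⟶ M), (a ≫ jM) ≫ ψ = a ^ n := fun T a => by
    have h1 := hφ T 1 a
    rw [_root_.one_mul] at h1
    rw [MonObj.comp_mul, h1, GrpObj.comp_inv, ← Category.assoc, toUnit_unique ((a ≫ jM) ≫ toUnit G) (toUnit T),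
      show (1 : T ⟶ G) ≫ φ = toUnit T ≫ c by rw [one_def', Category.assoc], mul_comm (toUnit T ≫ c),
      mul_inv_cancel_right]
  -- multiplication by `n`
  let pn : M ⟶ M := 𝟙 M ^ n
  have : IsMonHom pn := RedPts82.isMonHom_of_points _ fun X x y => by
    simp [pn, MonObj.comp_pow, mul_pow]
  have : IsFinite pn.left := AbDeg57.isFinite_pow (A := M) n hn
  have := surjective_of_finite pn
  -- the subgroup
  obtain ⟨K, _, iK, _, _, hK, hKn⟩ := AffineProper.exists_kernel ψ
  have : LocallyOfFiniteType K.hom := by rw [← Over.w iK]; infer_instance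
  have : QuasiCompact K.hom := by rw [← Over.w iK]; infer_instance
  have := isSeparated_grp K
  obtain ⟨K₀, _, incl, _, _, hflat, hrange, _, _⟩ := Grp57.exists_identityComponent K
  have : LocallyOfFiniteType K₀.hom := by rw [← Over.w incl]; infer_instance
  obtain ⟨L, _, r, _, _, hrs, hred⟩ := exists_reduced_subgroup K₀
  let lK : L ⟶ K := r ≫ incl
  let l : L ⟶ G := lK ≫ iK
  have : IsMonHom l := inferInstanceAs (IsMonHom ((r ≫ incl) ≫ iK))
  have : IsClosedImmersion l.left := inferInstanceAs (IsClosedImmersion ((r.left ≫ incl.left) ≫ iK.left))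
  have := Over.mono_of_mono_left l
  have := Over.mono_of_mono_left iK
  have : LocallyOfFiniteType L.hom := by rw [← Over.w l]; infer_instance
  have : QuasiCompact L.hom := by rw [← Over.w l]; infer_instance
  have hLs : Smooth L.hom := IsogSub.smooth_of_reduced L
  have : IsClosedImmersion lK.left := inferInstanceAs (IsClosedImmersion (r.left ≫ incl.left))
  have hrr : Set.range lK.left = connectedComponent (η[K].left (IsLocalRing.closedPoint k)) := by
    rw [← hrange, Over.comp_left, Scheme.Hom.comp_base, TopCat.coe_comp, Set.range_comp, r.left.surjective.range_eq,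
      Set.image_univ]
  have hLc : ConnectedSpace L.left := by
    have : ConnectedSpace (Set.range lK.left) :=
      isConnected_iff_connectedSpace.1 (hrr ▸ isConnected_connectedComponent)
    exact lK.left.isClosedEmbedding.isEmbedding.toHomeomorph.symm.surjective.connectedSpace
      lK.left.isClosedEmbedding.isEmbedding.toHomeomorph.symm.continuous
  have hlψ : l ≫ ψ = 1 := by
    rw [show l ≫ ψ = lK ≫ iK ≫ ψ from Category.assoc _ _ _, show iK ≫ ψ = 1 by simpa using isKernel_comp_one hK (𝟙 K),
      MonObj.comp_one]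
  have hLn : AlgGrp.IsNormalHom l := by
    have hLi := IsogSub.geometricallyIntegral_of_smooth L
    have := Alb96.geometricallyIntegral_tensor G L
    have : IsIntegral (G ⊗ L).left := GeometricallyIntegral.isIntegral_of_subsingleton (G ⊗ L).hom
    obtain ⟨d, hd⟩ := hKn (G ⊗ L) (fst G L) (snd G L ≫ lK)
    have hd1 : d.left ((lift η[G] η[L]).left (IsLocalRing.closedPoint k)) = η[K].left (IsLocalRing.closedPoint k) := by
      have e : lift η[G] η[L] ≫ d = η[K] := by
        rw [← cancel_mono iK, Category.assoc, ← hd, MonObj.comp_mul, MonObj.comp_mul, GrpObj.comp_inv, lift_fst,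
          ← Category.assoc, ← Category.assoc, lift_snd, IsMonHom.one_hom lK, IsMonHom.one_hom iK]
        simp [Hom.one_def, toUnit_unit]
      rw [← Scheme.Hom.comp_apply, ← Over.comp_left, e]
    obtain ⟨m, hm⟩ := exists_lift_of_range_subset lK d (by
      rw [hrr]
      exact (isConnected_range d.left.continuous).subset_connectedComponent ⟨_, hd1⟩)
    intro T g x
    refine ⟨lift g x ≫ m, ?_⟩
    have := congrArg (lift g x ≫ ·) hd
    simp only [MonObj.comp_mul, GrpObj.comp_inv, lift_fst, lift_snd_assoc, Category.assoc] at this ⊢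
    show g * (x ≫ lK ≫ iK) * g⁻¹ = lift g x ≫ m ≫ lK ≫ iK
    rw [this, reassoc_of% hm]
  -- it is affine
  obtain ⟨W, _, w, _, _, hW, -⟩ := AffineProper.exists_kernel (l ≫ qa)
  have hWfin : IsFinite W.hom := by
    obtain ⟨a, ha⟩ := exists_ker_of_comp_one hker (w ≫ l) (by simpa using isKernel_comp_one hW (𝟙 W))
    have hF : IsFinite (pullback pn η[M]).hom := by
      have h1 : IsFinite (pullback.snd pn η[M]).left :=
        MorphismProperty.of_isPullback (isPullback_left (IsPullback.of_hasPullback pn η[M])) ‹IsFinite pn.left›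
      rw [← Over.w (pullback.snd pn η[M])]
      have : IsFinite (𝟙ₛ).hom := inferInstanceAs (IsFinite (𝟙 (Spec (CommRingCat.of k))))
      infer_instance
    let b : W ⟶ pullback pn η[M] := pullback.lift a (toUnit W) (by
      rw [MonObj.comp_pow, Category.comp_id, ← hψ, ha, Category.assoc, hlψ, MonObj.comp_one, one_def'])
    have : IsClosedImmersion (a.left ≫ jM.left) := by rw [← Over.comp_left, ha, Over.comp_left]; infer_instance
    have : IsClosedImmersion a.left := IsClosedImmersion.of_comp a.left jM.left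
    have : IsSeparated (pullback pn η[M]).hom := inferInstance
    have : IsSeparated (pullback.fst pn η[M]).left := by
      have : IsSeparated ((pullback.fst pn η[M]).left ≫ M.hom) := by rw [Over.w]; infer_instance
      exact IsSeparated.of_comp _ M.hom
    have : IsClosedImmersion (b.left ≫ (pullback.fst pn η[M]).left) := by
      rw [← Over.comp_left, pullback.lift_fst]; infer_instance
    have : IsClosedImmersion b.left := IsClosedImmersion.of_comp b.left (pullback.fst pn η[M]).left
    rw [← Over.w b]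
    infer_instance
  have hfin := isFinite_hom_of_finite_kernel (l ≫ qa) w hW hWfin
  have : IsAffine L.left := isAffine_of_isAffineHom (l ≫ qa).left
  -- the quotient
  obtain ⟨Q, _, q, _, hqf, hqs, hqlfp, hq, hQsep, hQflat, hQsm⟩ := S3030.result k L G l hLn
  have hQs : Smooth Q.hom := hQsm inferInstance
  have hQc : ConnectedSpace Q.left := q.left.surjective.connectedSpace q.left.continuous
  let m : M ⊗ L ⟶ G := (fst M L ≫ jM) * (snd M L ≫ l)
  have : IsMonHom m := isMonHom_mul_of_commute jM l fun T x y => hcent T x _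
  have : LocallyOfFiniteType (M ⊗ L).hom := inferInstanceAs (LocallyOfFiniteType (pullback.fst M.hom L.hom ≫ M.hom))
  have : QuasiCompact m.left := by
    have : QuasiCompact (m.left ≫ G.hom) := by
      rw [Over.w]; exact inferInstanceAs (QuasiCompact (pullback.fst M.hom L.hom ≫ M.hom))
    exact QuasiCompact.of_comp m.left G.hom
  -- finitely many translates cover the kernel
  have : IsLocallyNoetherian K.left := LocallyOfFiniteType.isLocallyNoetherian K.hom
  have : LocallyOfFinitePresentation incl.left := inferInstance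
  have : IsOpenImmersion incl.left := IsOpenImmersion.of_flat_of_mono incl.left
  have : JacobsonSpace K.left := LocallyOfFiniteType.jacobsonSpace K.hom
  have hop : ∀ f : 𝟙ₛ ⟶ K, IsOpen (Set.range (incl ≫ tr f).left) := fun f => by
    rw [Over.comp_left]; exact (incl.left ≫ (tr f).left).isOpenEmbedding.isOpen_range
  have hcov : ∀ x : K.left, x ∈ ⋃ f : 𝟙ₛ ⟶ K, Set.range (incl ≫ tr f).left := by
    intro x
    by_contra hx
    obtain ⟨z, hz, hzc⟩ := nonempty_inter_closedPoints (Z := (⋃ f : 𝟙ₛ ⟶ K, Set.range (incl ≫ tr f).left)ᶜ) ⟨x, hx⟩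
      (isClosed_compl_iff.2 (isOpen_iUnion hop)).isLocallyClosed
    obtain ⟨f, rfl⟩ := ptVal_eq z hzc
    refine hz (Set.mem_iUnion.2 ⟨f, ⟨(η[K₀]).left (IsLocalRing.closedPoint k), ?_⟩⟩)
    have e : η[K₀] ≫ incl ≫ tr f = f := by
      rw [← Category.assoc, IsMonHom.one_hom, comp_tr]
      simp [toUnit_unit, ← MonObj.one_eq_one]
    rw [← Scheme.Hom.comp_apply, ← Over.comp_left, e]
  have : CompactSpace K.left := QuasiCompact.compactSpace_of_compactSpace K.hom
  obtain ⟨S, hS⟩ := isCompact_univ.elim_finite_subcover _ hop fun x _ => hcov x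
  have hpts : ∀ g : 𝟙ₛ ⟶ G, ∃ f ∈ S, g.left (IsLocalRing.closedPoint k) ∈
      (tr (f ≫ iK)).left '' closure (Set.range m.left) := by
    intro g
    obtain ⟨a, ha⟩ := BorelImage.exists_pt_lift pn (g ≫ ψ)
    obtain ⟨z, hz⟩ := exists_ker_of_comp_one hK (g * (a ≫ jM)⁻¹) (by
      rw [mul_comp', GrpObj.inv_comp, hψ, ← ha, MonObj.comp_pow, Category.comp_id, mul_inv_cancel])
    obtain ⟨f, hfS, x, hx⟩ := Set.mem_iUnion₂.1 (hS (Set.mem_univ (z.left (IsLocalRing.closedPoint k))))
    obtain ⟨y, rfl⟩ := r.left.surjective x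
    refine ⟨f, hfS, ?_⟩
    have : IsClosedImmersion (lK ≫ tr f).left := by rw [Over.comp_left]; infer_instance
    have : IsReduced (𝟙ₛ).left := inferInstanceAs (IsReduced (Spec (CommRingCat.of k)))
    obtain ⟨u, hu⟩ := exists_lift_of_range_subset (lK ≫ tr f) z (by
      rintro _ ⟨q, rfl⟩
      refine ⟨y, ?_⟩
      rw [show lK ≫ tr f = r ≫ incl ≫ tr f from Category.assoc _ _ _, Over.comp_left, Scheme.Hom.comp_apply, hx]
      exact congrArg z.left (Subsingleton.elim (α := PrimeSpectrum k) _ _))
    refine ⟨(lift a u ≫ m).left (IsLocalRing.closedPoint k), subset_closure ⟨_, rfl⟩, ?_⟩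
    rw [← Scheme.Hom.comp_apply, ← Over.comp_left, comp_tr, MonObj.comp_mul, lift_fst_assoc, lift_snd_assoc]
    refine congrArg (fun v : 𝟙ₛ ⟶ G => v.left (IsLocalRing.closedPoint k)) ?_
    have hz' : (toUnit (𝟙ₛ) ≫ f ≫ iK) * (u ≫ l) = g * (a ≫ jM)⁻¹ := by
      rw [← hz, ← hu, comp_tr, MonObj.comp_mul, ← Category.assoc u (toUnit L), toUnit_unique (u ≫ toUnit L) (toUnit _),
        mul_comp' _ (u ≫ lK), Category.assoc, Category.assoc]
    rw [hcent, ← _root_.mul_assoc, hz', inv_mul_cancel_right]
  have hdense : DenseRange m.left := by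
    have hcl : IsClosed (⋃ f ∈ S, (tr (f ≫ iK)).left '' closure (Set.range m.left)) :=
      isClosed_biUnion_finset fun f _ => (tr (f ≫ iK)).left.homeomorph.isClosedMap _ isClosed_closure
    have huniv : (⋃ f ∈ S, (tr (f ≫ iK)).left '' closure (Set.range m.left)) = Set.univ := by
      refine Set.eq_univ_of_forall fun x => ?_
      exact range_subset_of_pts (𝟙 G) hcl (fun p => by
        obtain ⟨f, hf, h⟩ := hpts p
        exact Set.mem_iUnion₂.2 ⟨f, hf, by rwa [Category.comp_id]⟩) ⟨x, rfl⟩
    have : IrreducibleSpace G.left := SGA3a.irreducibleSpace_of_smooth_connected G.hom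
    obtain ⟨C, hC, hC'⟩ := isIrreducible_iff_sUnion_isClosed.1 (IrreducibleSpace.isIrreducible_univ G.left)
      (S.image fun f => (tr (f ≫ iK)).left '' closure (Set.range m.left))
      (by
        intro C hC
        obtain ⟨f, -, rfl⟩ := Finset.mem_image.1 hC
        exact (tr (f ≫ iK)).left.homeomorph.isClosedMap _ isClosed_closure)
      (by rw [Finset.coe_image, Set.sUnion_image]; exact huniv.ge)
    obtain ⟨f, -, rfl⟩ := Finset.mem_image.1 hC
    intro x
    obtain ⟨y, hy, e⟩ := hC' (Set.mem_univ ((tr (f ≫ iK)).left x))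
    exact (tr (f ≫ iK)).left.homeomorph.injective e ▸ hy
  have : IsDominant m.left := ⟨hdense⟩
  have := surjective_of_dominant_hom m
  have hMQ : Surjective (jM ≫ q).left := by
    have e : m ≫ q = fst M L ≫ jM ≫ q := by
      rw [mul_comp', Category.assoc, Category.assoc, show l ≫ q = 1 by simpa using isKernel_comp_one hq (𝟙 L),
        MonObj.comp_one, _root_.mul_one]
    have h2 : Surjective (m ≫ q).left := by rw [Over.comp_left]; infer_instance
    rw [e, Over.comp_left] at h2
    exact Surjective.of_comp (fst M L).left _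
  have : LocallyOfFiniteType Q.hom := inferInstance
  have : UniversallyClosed ((jM ≫ q).left ≫ Q.hom) := by rw [Over.w]; infer_instance
  have : UniversallyClosed Q.hom := .of_comp_surjective (jM ≫ q).left _
  have : IsProper Q.hom := {}
  exact ⟨L, inferInstance, l, Q, inferInstance, q, inferInstance, inferInstance, inferInstance, hLs, hLc, hLn,
    inferInstance, hqs, hqf, hq, inferInstance, hQs, hQc⟩

end ProperCase

section General

variable [IsAlgClosed k]

/-- a nonproper anti-affine group has a nontrivial smooth connected affine subgroup -/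
lemma exists_nontrivial_affine {M : Over (Spec (CommRingCat.of k))} [GrpObj M] [Smooth M.hom] [QuasiCompact M.hom]
    (hM : ¬ IsProper M.hom) :
    ∃ (H : Over (Spec (CommRingCat.of k))) (_ : GrpObj H) (j : H ⟶ M), IsMonHom j ∧ IsClosedImmersion j.left ∧
      Smooth H.hom ∧ IsAffine H.left ∧ ConnectedSpace H.left ∧ ¬ Subsingleton H.left := by
  obtain ⟨H, _, j, _, _, _, _, hdim⟩ := S11397.result k M hM
  have : LocallyOfFiniteType H.hom := inferInstance
  have := isSeparated_grp H
  obtain ⟨H₀, _, incl, _, _, _, hrange, _, _⟩ := Grp57.exists_identityComponent H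
  have : IsLocallyNoetherian H.left := LocallyOfFiniteType.isLocallyNoetherian H.hom
  have : LocallyOfFinitePresentation incl.left := inferInstance
  have := Over.mono_of_mono_left incl
  have : IsOpenImmersion incl.left := IsOpenImmersion.of_flat_of_mono incl.left
  have : Smooth H₀.hom := by rw [← Over.w incl]; infer_instance
  have hc : ConnectedSpace H₀.left := by
    have : ConnectedSpace (Set.range incl.left) :=
      isConnected_iff_connectedSpace.1 (hrange ▸ isConnected_connectedComponent)
    exact incl.left.isClosedEmbedding.isEmbedding.toHomeomorph.symm.surjective.connectedSpace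
      incl.left.isClosedEmbedding.isEmbedding.toHomeomorph.symm.continuous
  refine ⟨H₀, inferInstance, incl ≫ j, inferInstance, by rw [Over.comp_left]; infer_instance, ‹_›,
    isAffine_of_isAffineHom incl.left, hc, fun hsub => hdim.ne' ?_⟩
  have hmem := irreducibleComponent_mem_irreducibleComponents (Grp57.unitPt H)
  have hcc := Grp57.component_eq_connectedComponent H hmem mem_irreducibleComponent
  rw [← (S5341.result k H).1 _ hmem, hcc]
  have : Subsingleton ↥(connectedComponent (Grp57.unitPt H)) := by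
    refine ⟨fun x y => Subtype.ext ?_⟩
    obtain ⟨a, ha⟩ : (x : H.left) ∈ Set.range incl.left := by rw [hrange]; exact x.2
    obtain ⟨b, hb⟩ : (y : H.left) ∈ Set.range incl.left := by rw [hrange]; exact y.2
    rw [← ha, ← hb, Subsingleton.elim a b]
  have : Nonempty ↥(connectedComponent (Grp57.unitPt H)) := ⟨⟨_, mem_connectedComponent⟩⟩
  have : Nonempty (TopologicalSpace.IrreducibleCloseds ↥(connectedComponent (Grp57.unitPt H))) :=
    ⟨⟨Set.univ, ⟨Set.univ_nonempty, Set.subsingleton_univ.isPreirreducible⟩, isClosed_univ⟩⟩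
  have : Subsingleton (TopologicalSpace.IrreducibleCloseds ↥(connectedComponent (Grp57.unitPt H))) := ⟨fun a b =>
    TopologicalSpace.IrreducibleCloseds.ext
      ((Subsingleton.eq_univ_of_nonempty a.2.nonempty).trans (Subsingleton.eq_univ_of_nonempty b.2.nonempty).symm)⟩
  exact Order.krullDim_eq_zero

/-- the affine smooth connected normal subgroups, by their generic points -/
def IsNormalAffineGen (G : Over (Spec (CommRingCat.of k))) [GrpObj G] (z : G.left) : Prop :=
  ∃ (N : Over (Spec (CommRingCat.of k))) (_ : GrpObj N) (i : N ⟶ G), IsMonHom i ∧ IsClosedImmersion i.left ∧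
    IsAffine N.left ∧ Smooth N.hom ∧ ConnectedSpace N.left ∧ AlgGrp.IsNormalHom i ∧ closure {z} = Set.range i.left

lemma exists_gen {G N : Over (Spec (CommRingCat.of k))} (i : N ⟶ G) [IsClosedImmersion i.left] [IrreducibleSpace N.left] :
    ∃ z : G.left, closure {z} = Set.range i.left := by
  refine ⟨i.left (genericPoint N.left), ?_⟩
  rw [← Set.image_singleton, i.left.isClosedMap.closure_image_eq_of_continuous i.left.continuous,
    genericPoint_closure, Set.image_univ]

/-- **Chevalley's theorem over an algebraically closed field.** -/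
theorem exists_chevalley (G : Over (Spec (CommRingCat.of k))) [GrpObj G] [Smooth G.hom] [QuasiCompact G.hom]
    [ConnectedSpace G.left] :
    ∃ (L : Over (Spec (CommRingCat.of k))) (_ : GrpObj L) (l : L ⟶ G) (Q : Over (Spec (CommRingCat.of k))) (_ : GrpObj Q)
      (q : G ⟶ Q), IsMonHom l ∧ IsClosedImmersion l.left ∧ IsAffine L.left ∧ Smooth L.hom ∧ ConnectedSpace L.left ∧
      AlgGrp.IsNormalHom l ∧ IsMonHom q ∧ Surjective q.left ∧ Flat q.left ∧ AlgGrp.IsKernel l q ∧
      IsProper Q.hom ∧ Smooth Q.hom ∧ ConnectedSpace Q.left := by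
  have := isSeparated_grp G
  -- a maximal normal affine subgroup
  have htriv : ∃ z, IsNormalAffineGen G z := by
    have : IsClosedImmersion η[G].left := by
      have : IsClosedImmersion (η[G].left ≫ G.hom) := by
        rw [Over.w]; exact inferInstanceAs (IsClosedImmersion (𝟙 (Spec (CommRingCat.of k))))
      exact IsClosedImmersion.of_comp _ G.hom
    have : IrreducibleSpace (𝟙ₛ).left := inferInstanceAs (IrreducibleSpace (Spec (CommRingCat.of k)))
    obtain ⟨z, hz⟩ := exists_gen η[G]
    exact ⟨z, 𝟙ₛ, inferInstance, η[G], inferInstance, ‹_›, inferInstanceAs (IsAffine (Spec (CommRingCat.of k))),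
      inferInstanceAs (Smooth (𝟙 (Spec (CommRingCat.of k)))), inferInstanceAs (ConnectedSpace (Spec (CommRingCat.of k))),
      fun T g x => ⟨toUnit T, by
        rw [toUnit_unique x (toUnit T), ← one_def', _root_.mul_one, mul_inv_cancel]⟩, hz⟩
  have := Var76.FibreBound.noetherianSpace G.hom
  have hb : BddAbove ((WC97.tdegN G.hom) '' {z | IsNormalAffineGen G z}) := by
    obtain ⟨z, -, hz⟩ := @Var76.FibreBound.exists_tdegN_eq_dim k _ G.left G.hom _ ⟨η[G].left (IsLocalRing.closedPoint k)⟩ _
    refine ⟨WC97.tdegN G.hom z, ?_⟩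
    rintro _ ⟨x, -, rfl⟩
    exact_mod_cast (Var76.FibreBound.tdegN_le_dim G.hom x).trans hz.le
  obtain ⟨z, hz, hzmax⟩ := Nat.sSup_mem (Set.Nonempty.image _ htriv) hb
  obtain ⟨N, _, i, _, _, _, _, _, hNn, hzi⟩ := hz
  have : LocallyOfFiniteType N.hom := inferInstance
  have : QuasiCompact N.hom := by rw [← Over.w i]; infer_instance
  have := Over.mono_of_mono_left i
  obtain ⟨G₁, _, π, _, hπf, hπs, hπlfp, hπ, hG₁sep, -, hG₁sm⟩ := S3030.result k N G i hNn
  have : Smooth G₁.hom := hG₁sm inferInstance
  have : ConnectedSpace G₁.left := π.left.surjective.connectedSpace π.left.continuous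
  have : QuasiCompact G₁.hom := by
    have : QuasiCompact (π.left ≫ G₁.hom) := by rw [Over.w]; infer_instance
    exact SGA3a.QuotCover.quasiCompact_of_comp π.left G₁.hom
  obtain ⟨Qa, _, qa, M, _, jM, _, _, _, _, _, _, hker, hMn, _, _, hM⟩ := Affinize.exists_kernel G₁
  by_cases hp : IsProper M.hom
  · obtain ⟨L₁, _, l₁, Q, _, q₁, _, _, _, _, _, hl₁n, _, _, _, hq₁, _, _, _⟩ :=
      exists_of_proper G₁ qa jM hker hM
    obtain ⟨L, _, l, p, hlm, hlc, hla, hls, hlcon, hln, hpl, -, hlift⟩ := exists_extension i π hπ l₁ hl₁n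
    have := Over.mono_of_mono_left l
    refine ⟨L, inferInstance, l, Q, inferInstance, π ≫ q₁, hlm, hlc, hla, hls, hlcon, hln, inferInstance,
      by rw [Over.comp_left]; infer_instance, by rw [Over.comp_left]; infer_instance,
      isKernel_of_pts l (π ≫ q₁) ?_ fun T x hx => ?_, ‹_›, ‹_›, ‹_›⟩
    · rw [← Category.assoc, ← hpl, Category.assoc, show l₁ ≫ q₁ = 1 by simpa using isKernel_comp_one hq₁ (𝟙 L₁),
        MonObj.comp_one]
    · obtain ⟨y, hy⟩ := exists_ker_of_comp_one hq₁ (x ≫ π) (by rw [Category.assoc, hx])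
      exact hlift T x y hy.symm
  · exfalso
    have : Smooth M.hom := SGA3a.Affinization.smooth_of_antiAff M hM
    obtain ⟨H, _, j, _, _, _, _, _, hH⟩ := exists_nontrivial_affine hp
    have : IsClosedImmersion (j ≫ jM).left := by rw [Over.comp_left]; infer_instance
    have hn₁ : AlgGrp.IsNormalHom (j ≫ jM) := fun T g x => ⟨x, by
      have h := S7996.result k M G₁ hM jM T (x ≫ j) T (𝟙 T) g
      simp only [Category.id_comp, Category.assoc] at h
      rw [← h, mul_inv_cancel_right]⟩
    obtain ⟨N', _, i', p, _, _, _, _, _, hn', hp', hps, hlift⟩ := exists_extension i π hπ (j ≫ jM) hn₁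
    have : IrreducibleSpace N'.left := SGA3a.irreducibleSpace_of_smooth_connected N'.hom
    obtain ⟨z', hz'⟩ := exists_gen i'
    obtain ⟨c, hc⟩ := hlift N i 1 (by
      rw [show i ≫ π = 1 by simpa using isKernel_comp_one hπ (𝟙 N), MonObj.one_comp])
    have hspec : z' ⤳ z := by
      rw [specializes_iff_mem_closure, hz']
      obtain ⟨w, hw⟩ : z ∈ Set.range i.left := by rw [← hzi]; exact subset_closure (Set.mem_singleton z)
      exact ⟨c.left w, by rw [← Scheme.Hom.comp_apply, ← Over.comp_left, hc, hw]⟩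
    have hzz : z' = z := Var76.FibreBound.eq_of_tdegN_le G.hom hspec
      (hzmax ▸ le_csSup hb ⟨z', ⟨N', inferInstance, i', inferInstance, inferInstance, inferInstance, inferInstance,
        inferInstance, hn', hz'⟩, rfl⟩)
    refine hH ⟨fun a b => (j ≫ jM).left.isClosedEmbedding.injective ?_⟩
    have hone : ∀ a : H.left, (j ≫ jM).left a = η[G₁].left (IsLocalRing.closedPoint k) := by
      intro a
      obtain ⟨x, rfl⟩ := p.left.surjective a
      obtain ⟨y, hy⟩ : i'.left x ∈ Set.range i.left := by rw [← hzi, ← hzz, hz']; exact ⟨x, rfl⟩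
      rw [← Scheme.Hom.comp_apply, ← Over.comp_left, hp', Over.comp_left, Scheme.Hom.comp_apply, ← hy,
        ← Scheme.Hom.comp_apply, ← Over.comp_left, hπ.w, Over.comp_left, Scheme.Hom.comp_apply]
      exact congrArg η[G₁].left (Subsingleton.elim (α := PrimeSpectrum k) _ _)
    rw [hone a, hone b]

end General

end

end Groth.Agent.AlgGrp33.Chevalley
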