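import Groth.Agent.AlgGrp33.Chevalley
import Groth.Agent.AlgGrp79.NeutralHomog
import Groth.Agent.AlgGrp79.BorelDesc
import Groth.Agent.RedPts82.SmoothTransporter

/-!
Chevalley's structure theorem over a perfect field, by Galois descent of the largest affine subgroup.
-/

set_option autoImplicit false
set_option linter.unusedSectionVars false
set_option linter.style.haveILetI false
set_option maxHeartbeats 1600000
set_option synthInstance.maxHeartbeats 200000
set_option backward.isDefEq.respectTransparency.types false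
universe u

open CategoryTheory MonoidalCategory CartesianMonoidalCategory MonObj GrpObj AlgebraicGeometry CategoryTheory.Limits
open Groth.Agent.AlgGrp79 Groth.Agent.RedPts82

namespace Groth.Agent.AlgGrp33.ChevalleyPerfect

noncomputable section

variable {k : Type u} [Field k] {K : Type u} [Field K] [Algebra k K]

variable (k K) in
/-- the field extension as a morphism of spectra -/
abbrev tK : Spec (CommRingCat.of K) ⟶ Spec (CommRingCat.of k) := Spec.map (CommRingCat.ofHom (algebraMap k K))

variable (k K) in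
/-- the geometric point -/
abbrev WK : Over (Spec (CommRingCat.of k)) := (Over.map (tK k K)).obj (𝟙_ (Over (Spec (CommRingCat.of K))))

/-- the closed point of the geometric point -/
def pt0 : (WK k K).left := IsLocalRing.closedPoint K

/-- geometric points with the same image are conjugate -/
theorem exists_conj [IsAlgClosure k K] {X : Over (Spec (CommRingCat.of k))} (p q : (WK k K) ⟶ X)
    (h : p.left pt0 = q.left pt0) :
    ∃ σ : K ≃ₐ[k] K, q.left = Spec.map (CommRingCat.ofHom σ.toAlgHom.toRingHom) ≫ p.left := by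
  have : IsAlgClosed K := IsAlgClosure.isAlgClosed k
  have : Algebra.IsAlgebraic k K := IsAlgClosure.isAlgebraic
  obtain ⟨x, φ, hp⟩ : ∃ (x : X.left) (φ : X.left.residueField x ⟶ CommRingCat.of K),
      Spec.map φ ≫ X.left.fromSpecResidueField x = p.left :=
    ⟨_, _, Scheme.descResidueField_stalkClosedPointTo_fromSpecResidueField K X.left p.left⟩
  obtain ⟨x', ψ, hq⟩ : ∃ (x : X.left) (φ : X.left.residueField x ⟶ CommRingCat.of K),
      Spec.map φ ≫ X.left.fromSpecResidueField x = q.left :=
    ⟨_, _, Scheme.descResidueField_stalkClosedPointTo_fromSpecResidueField K X.left q.left⟩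
  have hx : x = x' := by
    rw [← hp, ← hq, Scheme.Hom.comp_apply, Scheme.Hom.comp_apply, Scheme.fromSpecResidueField_apply,
      Scheme.fromSpecResidueField_apply] at h
    exact h
  subst hx
  let a : CommRingCat.of k ⟶ X.left.residueField x := Spec.preimage (X.left.fromSpecResidueField x ≫ X.hom)
  have ha : ∀ (r : (WK k K) ⟶ X) (χ : X.left.residueField x ⟶ CommRingCat.of K),
      Spec.map χ ≫ X.left.fromSpecResidueField x = r.left → ∀ c, χ (a c) = algebraMap k K c := by
    intro r χ hr c
    have e : a ≫ χ = CommRingCat.ofHom (algebraMap k K) := Spec.map_injective (by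
      rw [Spec.map_comp, Spec.map_preimage, ← Category.assoc, hr]
      exact (Over.w r).trans (Category.id_comp _))
    exact congr($e c)
  letI : Algebra k (X.left.residueField x) := a.hom.toAlgebra
  let φ' : X.left.residueField x →ₐ[k] K := { φ.hom with commutes' := ha p φ hp }
  let ψ' : X.left.residueField x →ₐ[k] K := { ψ.hom with commutes' := ha q ψ hq }
  let f : φ'.fieldRange →ₐ[k] K := ψ'.comp (AlgEquiv.ofInjectiveField φ').symm.toAlgHom
  have : Normal k K := normal_iff.2 fun y =>
    ⟨(Algebra.IsAlgebraic.isAlgebraic y).isIntegral, IsAlgClosed.splits _⟩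
  let σ₀ : K →ₐ[k] K := f.liftNormal K
  refine ⟨AlgEquiv.ofBijective σ₀ (Algebra.IsAlgebraic.algHom_bijective σ₀), ?_⟩
  rw [← hp, ← hq, ← Spec.map_comp_assoc]
  congr 2
  refine CommRingCat.hom_ext (RingHom.ext fun c => ?_)
  show ψ' c = σ₀ (φ' c)
  have h1 := f.liftNormal_commutes K (AlgEquiv.ofInjectiveField φ' c)
  have h2 : f (AlgEquiv.ofInjectiveField φ' c) = ψ' c := congrArg ψ' ((AlgEquiv.ofInjectiveField φ').symm_apply_apply c)
  rw [h2] at h1
  exact h1.symm

variable {G : Over (Spec (CommRingCat.of k))} [GrpObj G]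
  {L : Over (Spec (CommRingCat.of K))} [GrpObj L] (l : L ⟶ Red.bc (tK k K) G) [IsMonHom l]

/-- the geometric points of `G` in the subgroup `L` -/
def Mem (p : (WK k K) ⟶ G) : Prop := ∃ e : (𝟙_ (Over (Spec (CommRingCat.of K)))) ⟶ L, toBase (tK k K) (e ≫ l) = p

lemma mem_one : Mem l (1 : (WK k K) ⟶ G) := ⟨1, by rw [MonObj.one_comp, toBase_one]⟩

lemma mem_mul {p q : (WK k K) ⟶ G} (hp : Mem l p) (hq : Mem l q) : Mem l (p * q) := by
  obtain ⟨e, rfl⟩ := hp
  obtain ⟨e', rfl⟩ := hq
  exact ⟨e * e', by rw [mul_comp', toBase_mul]⟩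

lemma mem_inv {p : (WK k K) ⟶ G} (hp : Mem l p) : Mem l p⁻¹ := by
  obtain ⟨e, rfl⟩ := hp
  exact ⟨e⁻¹, by rw [GrpObj.inv_comp, toBase_inv]⟩

lemma mem_conj (hn : AlgGrp.IsNormalHom l) {p : (WK k K) ⟶ G} (hp : Mem l p) (g : (WK k K) ⟶ G) : Mem l (g * p * g⁻¹) := by
  obtain ⟨e, rfl⟩ := hp
  obtain ⟨e', he'⟩ := hn (𝟙_ (Over (Spec (CommRingCat.of K)))) (ofBase (tK k K) g) e
  exact ⟨e', by rw [← he', toBase_mul, toBase_mul, toBase_inv, toBase_ofBase]⟩

/-- the geometric points of the largest affine subgroup are stable under conjugation -/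
theorem mem_galois {Q : Over (Spec (CommRingCat.of K))} [GrpObj Q] (q : Red.bc (tK k K) G ⟶ Q) [IsMonHom q]
    (hker : AlgGrp.IsKernel l q) [IsProper Q.hom] [IsAffine L.left] [Smooth L.hom] [ConnectedSpace L.left]
    (σ : K ≃ₐ[k] K) {p p' : (WK k K) ⟶ G} (hp : Mem l p)
    (h : p'.left = Spec.map (CommRingCat.ofHom σ.toAlgHom.toRingHom) ≫ p.left) : Mem l p' := by
  obtain ⟨e, rfl⟩ := hp
  let s : Spec (CommRingCat.of K) ⟶ Spec (CommRingCat.of K) := Spec.map (CommRingCat.ofHom σ.toAlgHom.toRingHom)
  have : IsIso (CommRingCat.ofHom σ.toAlgHom.toRingHom) :=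
    (ConcreteCategory.isIso_iff_bijective _).2 σ.bijective
  have hs : s ≫ (tK k K) = (tK k K) := by
    rw [← Spec.map_comp]
    exact congrArg Spec.map (CommRingCat.hom_ext (RingHom.ext fun c => σ.commutes c))
  let L' : Over (Spec (CommRingCat.of K)) := Red.bc s L
  letI : GrpObj L' := Functor.grpObjObj
  let c : ∀ X : Over (Spec (CommRingCat.of K)), (Over.map (tK k K)).obj X ⟶ (Over.map (tK k K)).obj ((Over.map s).obj X) := fun X =>
    Over.homMk (𝟙 X.left) (by
      show 𝟙 _ ≫ (X.hom ≫ s) ≫ (tK k K) = X.hom ≫ (tK k K)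
      rw [Category.id_comp, Category.assoc, hs])
  let θ : L' ⟶ Red.bc (tK k K) G := ofBase (tK k K) (c L' ≫ toBase (tK k K) (toBase s (𝟙 L') ≫ l))
  have hθ : ∀ {X : Over (Spec (CommRingCat.of K))} (x : X ⟶ L'),
      toBase (tK k K) (x ≫ θ) = c X ≫ toBase (tK k K) (toBase s x ≫ l) := by
    intro X x
    have e' : (Over.map (tK k K)).map x ≫ c L' = c X ≫ (Over.map (tK k K)).map ((Over.map s).map x) :=
      Over.OverMorphism.ext ((Category.comp_id _).trans (Category.id_comp _).symm)
    have e'' : toBase s x = (Over.map s).map x ≫ toBase s (𝟙 L') := by rw [← toBase_comp, Category.comp_id]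
    rw [toBase_comp, toBase_ofBase, e'', Category.assoc, toBase_comp (tK k K) ((Over.map s).map x), ← Category.assoc, e',
      Category.assoc]
  have : IsMonHom θ := isMonHom_of_points θ fun X x y => toBase_injective (tK k K) (by
    rw [toBase_mul, hθ, hθ, hθ, toBase_mul, mul_comp' _ _ l, toBase_mul, MonObj.comp_mul])
  have : IsIso (pullback.fst L.hom s) := pullback_fst_iso_of_right_iso _ _
  have : IsAffine L'.left := IsAffine.of_isIso (pullback.fst L.hom s)
  have : Smooth L'.hom := MorphismProperty.pullback_snd (P := @Smooth) _ _ ‹_›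
  have : ConnectedSpace L'.left :=
    (pullback.fst L.hom s).homeomorph.symm.surjective.connectedSpace (pullback.fst L.hom s).homeomorph.symm.continuous
  have : IsReduced L'.left := isReduced_of_smooth L'.hom
  obtain ⟨m, hm⟩ := exists_ker_of_comp_one hker θ (AffineProper.eq_one (θ ≫ q))
  -- the twisted point
  let e₀ : (Over.map s).obj (𝟙_ (Over (Spec (CommRingCat.of K)))) ⟶ L := Over.homMk (s ≫ e.left) (by
    show (s ≫ e.left) ≫ L.hom = 𝟙 _ ≫ s
    rw [Category.assoc, show e.left ≫ L.hom = 𝟙 (Spec (CommRingCat.of K)) from Over.w e]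
    exact (Category.comp_id _).trans (Category.id_comp _).symm)
  refine ⟨ofBase s e₀ ≫ m, Over.OverMorphism.ext ?_⟩
  rw [Category.assoc, hm, hθ, toBase_ofBase, h, Over.comp_left, toBase_left, toBase_left, Over.comp_left, Over.comp_left]
  show 𝟙 _ ≫ ((s ≫ e.left) ≫ l.left) ≫ pullback.fst G.hom (tK k K) = s ≫ (e.left ≫ l.left) ≫ pullback.fst G.hom (tK k K)
  simp only [Category.id_comp, Category.assoc]

/-- geometric points are closed -/
theorem isClosed_geomPt [IsAlgClosure k K] {X : Over (Spec (CommRingCat.of k))} [IsSeparated X.hom] (p : (WK k K) ⟶ X) :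
    IsClosed ({p.left pt0} : Set X.left) := by
  have : Algebra.IsAlgebraic k K := IsAlgClosure.isAlgebraic
  have : IsIntegralHom (tK k K) := by
    rw [IsIntegralHom.SpecMap_iff]
    exact Algebra.IsIntegral.isIntegral
  have : UniversallyClosed p.left := by
    have : UniversallyClosed (p.left ≫ X.hom) := by
      rw [Over.w]; exact inferInstanceAs (UniversallyClosed (𝟙 (Spec (CommRingCat.of K)) ≫ tK k K))
    exact UniversallyClosed.of_comp_of_isSeparated p.left X.hom
  have h : ({pt0} : Set (WK k K).left) = Set.univ :=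
    Set.eq_univ_of_forall fun x => Subsingleton.elim (α := PrimeSpectrum K) _ _
  rw [← Set.image_singleton, h]
  exact p.left.isClosedMap _ isClosed_univ

/-- every closed point carries a geometric point -/
theorem exists_geomPt [IsAlgClosure k K] (X : Over (Spec (CommRingCat.of k))) [LocallyOfFiniteType X.hom]
    (x : X.left) (hx : IsClosed {x}) : ∃ p : (WK k K) ⟶ X, p.left pt0 = x := by
  have : IsAlgClosed K := IsAlgClosure.isAlgClosed k
  have : LocallyOfFiniteType (Red.bc (tK k K) X).hom := MorphismProperty.pullback_snd (P := @LocallyOfFiniteType) _ _ ‹_›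
  have : JacobsonSpace (Red.bc (tK k K) X).left := LocallyOfFiniteType.jacobsonSpace (Red.bc (tK k K) X).hom
  have : Surjective (tK k K) := ⟨fun _ => ⟨IsLocalRing.closedPoint _, Subsingleton.elim (α := PrimeSpectrum k) _ _⟩⟩
  have hsurj : Surjective (pullback.fst X.hom (tK k K)) := MorphismProperty.pullback_fst (P := @Surjective) _ _ ‹_›
  let f : (Red.bc (tK k K) X).left ⟶ X.left := pullback.fst X.hom (tK k K)
  have : Surjective f := hsurj
  obtain ⟨w, hw⟩ := f.surjective x
  obtain ⟨z, hz, hzc⟩ := nonempty_inter_closedPoints (Z := f ⁻¹' {x}) ⟨w, hw⟩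
    (IsClosed.preimage f.continuous hx).isLocallyClosed
  obtain ⟨e, rfl⟩ := ptVal_eq (X := Red.bc (tK k K) X) z hzc
  exact ⟨toBase (tK k K) e, by rw [toBase_left]; exact hz⟩

theorem range_subset_of_geomPts [IsAlgClosure k K] {X Y : Over (Spec (CommRingCat.of k))} [LocallyOfFiniteType X.hom]
    (f : X ⟶ Y) {T : Set Y.left} (hT : IsClosed T) (h : ∀ p : (WK k K) ⟶ X, (p ≫ f).left pt0 ∈ T) :
    Set.range f.left ⊆ T := by
  rintro _ ⟨x, rfl⟩
  by_contra hx
  have : JacobsonSpace X.left := LocallyOfFiniteType.jacobsonSpace X.hom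
  obtain ⟨z, hz, hzc⟩ := nonempty_inter_closedPoints (Z := f.left ⁻¹' Tᶜ) ⟨x, hx⟩
    (hT.isOpen_compl.preimage f.left.continuous).isLocallyClosed
  obtain ⟨p, rfl⟩ := exists_geomPt (K := K) X z hzc
  exact hz (h p)

end

noncomputable section

variable {k : Type u} [Field k]

local notation "𝟙ₛ" => 𝟙_ (Over (Spec (CommRingCat.of k)))

theorem exists_chevalley [PerfectField k] (G : Over (Spec (CommRingCat.of k))) [GrpObj G] [Smooth G.hom]
    [QuasiCompact G.hom] [ConnectedSpace G.left] :
    ∃ (L : Over (Spec (CommRingCat.of k))) (_ : GrpObj L) (l : L ⟶ G) (Q : Over (Spec (CommRingCat.of k))) (_ : GrpObj Q)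
      (q : G ⟶ Q), IsMonHom l ∧ IsClosedImmersion l.left ∧ IsAffine L.left ∧ Smooth L.hom ∧ ConnectedSpace L.left ∧
      AlgGrp.IsNormalHom l ∧ IsMonHom q ∧ Surjective q.left ∧ Flat q.left ∧ AlgGrp.IsKernel l q ∧
      IsProper Q.hom ∧ Smooth Q.hom ∧ ConnectedSpace Q.left := by
  let K := AlgebraicClosure k
  let t : Spec (CommRingCat.of K) ⟶ Spec (CommRingCat.of k) := tK k K
  have := isSeparated_grp G
  have : IsIntegralHom t := by
    rw [IsIntegralHom.SpecMap_iff]
    exact Algebra.IsIntegral.isIntegral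
  have : Surjective t := ⟨fun _ => ⟨IsLocalRing.closedPoint _, Subsingleton.elim (α := PrimeSpectrum k) _ _⟩⟩
  have : Flat t := by
    rw [HasRingHomProperty.Spec_iff (P := @Flat)]
    exact RingHom.flat_algebraMap_iff.2 (inferInstance : Module.Flat k K)
  let G' : Over (Spec (CommRingCat.of K)) := Red.bc t G
  letI : GrpObj G' := Functor.grpObjObj
  have : Smooth G'.hom := MorphismProperty.pullback_snd (P := @Smooth) _ _ ‹_›
  have : QuasiCompact G'.hom := MorphismProperty.pullback_snd (P := @QuasiCompact) _ _ ‹_›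
  have : ConnectedSpace G'.left := BorelDesc.connectedSpace_bc t
  obtain ⟨L', _, l', Q', _, q', _, _, _, hL's, hL'c, hn', _, hq's, hq'f, hker', _, _, _⟩ := Chevalley.exists_chevalley G'
  have := Over.mono_of_mono_left l'
  have : LocallyOfFiniteType L'.hom := inferInstance
  -- the image in `G`
  let π : G'.left ⟶ G.left := pullback.fst G.hom t
  have hπ : IsIntegralHom π := MorphismProperty.pullback_fst (P := @IsIntegralHom) _ _ ‹_›
  let T : Set G.left := π '' Set.range l'.left
  have hT : IsClosed T := π.isClosedMap _ l'.left.isClosedEmbedding.isClosed_range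
  have hmem : ∀ p : WK k K ⟶ G, p.left pt0 ∈ T ↔ Mem l' p := by
    intro p
    constructor
    · intro hp
      have hc : IsClosed ({p.left pt0} : Set G.left) := isClosed_geomPt p
      obtain ⟨_, ⟨w, rfl⟩, hw⟩ := hp
      have : JacobsonSpace L'.left := LocallyOfFiniteType.jacobsonSpace L'.hom
      obtain ⟨z, hz, hzc⟩ := nonempty_inter_closedPoints (Z := (l'.left ≫ π) ⁻¹' {p.left pt0})
        ⟨w, by rw [Set.mem_preimage, Scheme.Hom.comp_apply]; exact hw⟩
        (IsClosed.preimage (l'.left ≫ π).continuous hc).isLocallyClosed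
      obtain ⟨e, rfl⟩ := ptVal_eq z hzc
      obtain ⟨σ, hσ⟩ := exists_conj (toBase t (e ≫ l')) p (by
        rw [toBase_left, Over.comp_left, Category.assoc]; exact hz)
      exact mem_galois l' q' hker' σ ⟨e, rfl⟩ hσ
    · rintro ⟨e, rfl⟩
      exact ⟨_, ⟨e.left (IsLocalRing.closedPoint K), rfl⟩, by rw [toBase_left]; rfl⟩
  -- the reduced subscheme
  let R : G.left.IdealSheafData := Scheme.IdealSheafData.vanishingIdeal ⟨T, hT⟩
  let Z : Over (Spec (CommRingCat.of k)) := Over.mk (R.subschemeι ≫ G.hom)
  let z : Z ⟶ G := Over.homMk R.subschemeι rfl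
  have : IsClosedImmersion z.left := inferInstanceAs (IsClosedImmersion R.subschemeι)
  have := Over.mono_of_mono_left z
  have hzr : Set.range z.left = T := by
    show Set.range R.subschemeι = _
    rw [Scheme.IdealSheafData.range_subschemeι, Scheme.IdealSheafData.coe_support_vanishingIdeal]; rfl
  have hZred : IsReduced Z.left := SchBasics.isReduced_vanishingIdeal_subscheme _
  have : LocallyOfFiniteType Z.hom := inferInstanceAs (LocallyOfFiniteType (R.subschemeι ≫ G.hom))
  have hgr : GeometricallyReduced Z.hom := by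
    have : IsIso (Spec.map (CommRingCat.ofHom (algebraMap k k))) :=
      inferInstanceAs (IsIso (Spec.map (𝟙 (CommRingCat.of k))))
    have : IsIso (pullback.fst Z.hom (Spec.map (CommRingCat.ofHom (algebraMap k k)))) :=
      MorphismProperty.pullback_fst (P := MorphismProperty.isomorphisms Scheme.{u}) _ _ ‹IsIso (Spec.map (CommRingCat.ofHom (algebraMap k k)))›
    have : IsReduced (FBase.bc Z.hom k) :=
      @isReduced_of_isOpenImmersion _ _ (pullback.fst Z.hom (Spec.map (CommRingCat.ofHom (algebraMap k k)))) (@IsOpenImmersion.of_isIso _ _ _ this) hZred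
    exact FBase64.geometricallyReduced_of_isReduced_perfect Z.hom k
  let z' : Red.bc t Z ⟶ G' := (Over.pullback t).map z
  have : IsClosedImmersion z'.left :=
    MorphismProperty.of_isPullback (P := @IsClosedImmersion) (map_left_isPullback t z) ‹_›
  have := Over.mono_of_mono_left z'
  have : IsReduced (Red.bc t Z).left := pullback_of_geometrically GeometricallyReduced.geometrically_isReduced K t
  have : LocallyOfFiniteType (Red.bc t Z).hom := MorphismProperty.pullback_snd (P := @LocallyOfFiniteType) _ _ ‹_›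
  have hz' : Set.range z'.left = Set.range l'.left := by
    refine Set.Subset.antisymm ?_ ?_
    · refine range_subset_of_pts z' l'.left.isClosedEmbedding.isClosed_range fun e => ?_
      obtain ⟨e', he'⟩ := (hmem (toBase t (e ≫ z'))).1 (by
        rw [← hzr, toBase_comp_map, Over.comp_left, Scheme.Hom.comp_apply]
        exact ⟨_, rfl⟩)
      rw [← toBase_injective t he']
      exact ⟨_, rfl⟩
    · rintro _ ⟨w, rfl⟩
      rw [range_map_left, Set.mem_preimage, hzr]
      exact ⟨_, ⟨w, rfl⟩, rfl⟩
  have : IsReduced L'.left := isReduced_of_smooth L'.hom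
  obtain ⟨a, ha⟩ := exists_lift_of_range_subset l' z' hz'.le
  obtain ⟨b, hb⟩ := exists_lift_of_range_subset z' l' hz'.ge
  have : IsIso a := ⟨b, by rw [← cancel_mono z', Category.assoc, hb, ha, Category.id_comp],
    by rw [← cancel_mono l', Category.assoc, ha, hb, Category.id_comp]⟩
  have : IsIso a.left := (Over.forget _).map_isIso a
  have : Smooth (Red.bc t Z).hom := by rw [← Over.w a]; infer_instance
  have hfp : Unr55.fpqc t := ⟨⟨inferInstance, inferInstance⟩, inferInstance⟩
  have hZs : Smooth Z.hom := by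
    have hd : MorphismProperty.DescendsAlong @Smooth Unr55.fpqc.{u} := by infer_instance
    exact MorphismProperty.of_isPullback_of_descendsAlong (P := @Smooth) (Q := Unr55.fpqc)
      (IsPullback.of_hasPullback Z.hom t).flip hfp ‹Smooth (Red.bc t Z).hom›
  have hZa : IsAffine Z.left := by
    have : IsAffine (Red.bc t Z).left := IsAffine.of_isIso a.left
    have := Unr55.isAffineHom.{u}
    have : IsAffineHom Z.hom := MorphismProperty.of_isPullback_of_descendsAlong (P := @IsAffineHom) (Q := Unr55.fpqc)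
      (IsPullback.of_hasPullback Z.hom t).flip hfp (inferInstanceAs (IsAffineHom (Red.bc t Z).hom))
    exact isAffine_of_isAffineHom Z.hom
  have hZc : ConnectedSpace Z.left := by
    have : Surjective (pullback.fst Z.hom t) := MorphismProperty.pullback_fst (P := @Surjective) _ _ ‹_›
    have : ConnectedSpace (Red.bc t Z).left :=
      a.left.homeomorph.symm.surjective.connectedSpace a.left.homeomorph.symm.continuous
    let f : (Red.bc t Z).left ⟶ Z.left := pullback.fst Z.hom t
    have : Surjective f := ‹Surjective (pullback.fst Z.hom t)›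
    exact f.surjective.connectedSpace f.continuous
  have : IsReduced (𝟙ₛ).left := inferInstanceAs (IsReduced (Spec (CommRingCat.of k)))
  have hval : ∀ {X : Over (Spec (CommRingCat.of k))} [LocallyOfFiniteType X.hom] [IsReduced X.left] (f : X ⟶ G),
      (∀ p : WK k K ⟶ X, Mem l' (p ≫ f)) → ∃ g : X ⟶ Z, g ≫ z = f :=
    fun f hf => exists_lift_of_range_subset z f (hzr ▸ range_subset_of_geomPts f hT fun p => (hmem _).2 (hf p))
  have hz1 : ∀ {p : WK k K ⟶ Z}, Mem l' (p ≫ z) := fun {p} =>
    (hmem _).1 (hzr ▸ ⟨p.left pt0, rfl⟩)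
  have : LocallyOfFiniteType (𝟙ₛ).hom := inferInstanceAs (LocallyOfFiniteType (𝟙 (Spec (CommRingCat.of k))))
  have : Smooth (Z ⊗ Z).hom := inferInstanceAs (Smooth (pullback.fst Z.hom Z.hom ≫ Z.hom))
  have : LocallyOfFiniteType (Z ⊗ Z).hom := inferInstance
  have : IsReduced (Z ⊗ Z).left := isReduced_of_smooth (Z ⊗ Z).hom
  have : Smooth (G ⊗ Z).hom := inferInstanceAs (Smooth (pullback.fst G.hom Z.hom ≫ G.hom))
  have : LocallyOfFiniteType (G ⊗ Z).hom := inferInstance
  have : IsReduced (G ⊗ Z).left := isReduced_of_smooth (G ⊗ Z).hom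
  obtain ⟨m, hm⟩ := hval ((fst Z Z ≫ z)⁻¹ * (snd Z Z ≫ z)) fun p => by
    rw [MonObj.comp_mul, GrpObj.comp_inv, ← Category.assoc, ← Category.assoc]
    exact mem_mul l' (mem_inv l' hz1) hz1
  obtain ⟨u₀, hu₀⟩ := hval η[G] fun p => by
    rw [show p ≫ η[G] = 1 by rw [one_def', toUnit_unique p (toUnit _)]]
    exact mem_one l'
  obtain ⟨hZg, hzm⟩ := exists_grpObj_closed z ⟨u₀, hu₀⟩
    fun W x y => ⟨lift x y ≫ m, by
      rw [Category.assoc, hm, MonObj.comp_mul, GrpObj.comp_inv, lift_fst_assoc, lift_snd_assoc]⟩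
  obtain ⟨cj, hcj⟩ := hval (fst G Z * (snd G Z ≫ z) * (fst G Z)⁻¹) fun p => by
    rw [MonObj.comp_mul, MonObj.comp_mul, GrpObj.comp_inv, ← Category.assoc]
    exact mem_conj l' hn' hz1 _
  have hZn : AlgGrp.IsNormalHom z := fun W g x => ⟨lift g x ≫ cj, by
    rw [Category.assoc, hcj, MonObj.comp_mul, MonObj.comp_mul, GrpObj.comp_inv, lift_fst, lift_snd_assoc]⟩
  have : QuasiCompact Z.hom := by rw [← Over.w z]; infer_instance
  obtain ⟨Q, _, q, _, hqf, hqs, hqlfp, hq, hQsep, -, hQsm⟩ := S3030.result k Z G z hZn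
  -- properness
  letI : GrpObj (Red.bc t Q) := Functor.grpObjObj
  have hker : AlgGrp.IsKernel z' ((Over.pullback t).map q) := isKernel_bc t hq
  have hcov' : IsCov q' := isCov_of_flat_surjective q'
  obtain ⟨d, hd⟩ := hcov'.desc ((Over.pullback t).map q) fun W x y hxy => by
    obtain ⟨n, hn⟩ := exists_ker_of_comp_eq q' l' hker' x y hxy
    have hy : y = x * (n ≫ l') := by rw [← hn, mul_inv_cancel_left]
    rw [hy, mul_comp', ← hb, ← Category.assoc n, isKernel_comp_one hker, _root_.mul_one]
  have hsq : Surjective ((Over.pullback t).map q).left :=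
    MorphismProperty.of_isPullback (P := @Surjective) (map_left_isPullback t q) hqs
  have hsd : Surjective (q'.left ≫ d.left) := by rw [← Over.comp_left, hd]; exact hsq
  have : Surjective d.left := Surjective.of_comp q'.left _
  have : UniversallyClosed (d.left ≫ (Red.bc t Q).hom) := by rw [Over.w]; infer_instance
  have : UniversallyClosed (Red.bc t Q).hom := .of_comp_surjective d.left _
  have : UniversallyClosed (pullback.fst Q.hom t ≫ Q.hom) := by
    rw [pullback.condition]; exact inferInstanceAs (UniversallyClosed ((Red.bc t Q).hom ≫ t))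
  have : Surjective (pullback.fst Q.hom t) := MorphismProperty.pullback_fst (P := @Surjective) _ _ ‹_›
  have : UniversallyClosed Q.hom := .of_comp_surjective (pullback.fst Q.hom t) _
  have : Smooth Q.hom := hQsm inferInstance
  have : IsProper Q.hom := {}
  have : ConnectedSpace Q.left := q.left.surjective.connectedSpace q.left.continuous
  exact ⟨Z, hZg, z, Q, inferInstance, q, hzm, inferInstance, hZa, hZs, hZc, hZn, inferInstance, hqs, hqf, hq,
    inferInstance, inferInstance, inferInstance⟩

/-- any connected smooth affine subgroup lies in the kernel of a homomorphism to a proper group -/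
lemma le_kernel {G L Q H : Over (Spec (CommRingCat.of k))} [GrpObj G] [GrpObj L] [GrpObj Q] [GrpObj H] {l : L ⟶ G}
    {q : G ⟶ Q} [IsMonHom q] (hker : AlgGrp.IsKernel l q) [IsProper Q.hom] (j : H ⟶ G) [IsMonHom j] [IsAffine H.left]
    [Smooth H.hom] [ConnectedSpace H.left] : ∃ f : H ⟶ L, f ≫ l = j := by
  have : IsReduced H.left := isReduced_of_smooth H.hom
  exact exists_ker_of_comp_one hker j (AffineProper.eq_one (j ≫ q))

end

end Groth.Agent.AlgGrp33.ChevalleyPerfect
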