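import Groth.Agent.FlatCrit65.Basic
import Mathlib.RingTheory.Nakayama
import Mathlib.RingTheory.LocalRing.MaximalIdeal.Basic
import Mathlib.RingTheory.Flat.Stability
import Mathlib.RingTheory.RingHom.Flat
import Mathlib.RingTheory.LocalRing.RingHom.Basic

/-!
A local homomorphism inducing bijections modulo all powers of the maximal ideals is flat.
-/

set_option autoImplicit false

universe u

open TensorProduct IsLocalRing

namespace Groth.Agent.AlgGrp33

theorem flat_of_bijective_quot {R S : Type u} [CommRing R] [CommRing S] [IsLocalRing R] [IsLocalRing S]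
    [IsNoetherianRing R] [IsNoetherianRing S] (φ : R →+* S) [IsLocalHom φ]
    (h : ∀ n : ℕ, Function.Surjective ((Ideal.Quotient.mk (maximalIdeal S ^ (n + 1))).comp φ) ∧
      ∀ a, φ a ∈ maximalIdeal S ^ (n + 1) ↔ a ∈ maximalIdeal R ^ (n + 1)) : φ.Flat := by
  letI : Algebra R S := φ.toAlgebra
  haveI : IsLocalHom (algebraMap R S) := ‹IsLocalHom φ›
  have hmS : (maximalIdeal R).map φ = maximalIdeal S := by
    refine le_antisymm (((IsLocalRing.local_hom_TFAE φ).out 0 2 rfl rfl).1 ‹IsLocalHom φ›) ?_
    refine Submodule.le_of_le_smul_of_le_jacobson_bot (I := maximalIdeal S) (IsNoetherian.noetherian _)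
      (IsLocalRing.maximalIdeal_le_jacobson _) fun b hb => ?_
    obtain ⟨a, ha⟩ := (h 1).1 (Ideal.Quotient.mk _ b)
    have hab : φ a - b ∈ maximalIdeal S ^ 2 := Ideal.Quotient.eq.1 ha
    have haS : φ a ∈ maximalIdeal S := by
      simpa using add_mem (Ideal.pow_le_self two_ne_zero hab) hb
    have haR : a ∈ maximalIdeal R := by
      rw [IsLocalRing.mem_maximalIdeal, mem_nonunits_iff] at haS ⊢
      exact fun hu => haS (hu.map φ)
    rw [show b = φ a + -(φ a - b) by ring]
    refine Submodule.add_mem_sup (Ideal.mem_map_of_mem φ haR) ?_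
    rw [smul_eq_mul, ← pow_two]
    exact neg_mem hab
  have hflat : Module.Flat R S := by
    refine FlatCrit65.flat_of_lexQuot_of_isLocalRing (S := S) (I := maximalIdeal R)
      (Ideal.IsMaximal.ne_top inferInstance) (FlatCrit65.lexQuot_of_flat fun n => ?_)
    have hn : (maximalIdeal R ^ n).map (algebraMap R S) = maximalIdeal S ^ n := by
      rw [Ideal.map_pow]
      exact congrArg (· ^ n) hmS
    have hsurj : ∀ s : S, ∃ r : R, φ r - s ∈ maximalIdeal S ^ n := by
      intro s
      obtain ⟨r, hr⟩ := (h n).1 (Ideal.Quotient.mk _ s)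
      exact ⟨r, Ideal.pow_le_pow_right (Nat.le_succ n) (Ideal.Quotient.eq.1 hr)⟩
    have hinj : ∀ r : R, φ r ∈ maximalIdeal S ^ n → r ∈ maximalIdeal R ^ n := by
      intro r hr
      rcases n with _ | n
      · simp
      · exact ((h n).2 r).1 hr
    have hbij : Function.Bijective
        (Algebra.linearMap (R ⧸ maximalIdeal R ^ n) ((R ⧸ maximalIdeal R ^ n) ⊗[R] S)) := by
      refine ⟨(injective_iff_map_eq_zero _).2 fun x hx => ?_, fun z => ?_⟩
      · obtain ⟨r, rfl⟩ := Ideal.Quotient.mk_surjective x
        let Ψ : (R ⧸ maximalIdeal R ^ n) ⊗[R] S →ₐ[R] S ⧸ maximalIdeal S ^ n :=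
          Algebra.TensorProduct.lift
            (Ideal.quotientMapₐ (maximalIdeal S ^ n) (Algebra.ofId R S) (Ideal.map_le_iff_le_comap.1 hn.le))
            (Ideal.Quotient.mkₐ R _) (fun _ _ => Commute.all _ _)
        have h1 := congrArg Ψ hx
        rw [map_zero] at h1
        have h2 : Ideal.Quotient.mk (maximalIdeal S ^ n) (φ r) = 0 := by
          refine Eq.trans ?_ h1
          show _ = Ψ ((Ideal.Quotient.mk (maximalIdeal R ^ n) r) ⊗ₜ[R] (1 : S))
          rw [Algebra.TensorProduct.lift_tmul, map_one, mul_one]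
          rfl
        exact Ideal.Quotient.eq_zero_iff_mem.2 (hinj r (Ideal.Quotient.eq_zero_iff_mem.1 h2))
      · induction z with
        | zero => exact ⟨0, map_zero _⟩
        | add p q hp hq =>
          obtain ⟨x, rfl⟩ := hp
          obtain ⟨y, rfl⟩ := hq
          exact ⟨x + y, map_add _ _ _⟩
        | tmul x s =>
          obtain ⟨r, hr⟩ := hsurj s
          have h0 : ∀ t ∈ maximalIdeal S ^ n, x ⊗ₜ[R] t = 0 := by
            intro t ht
            rw [← hn] at ht
            have ht' : t ∈ ((maximalIdeal R ^ n) • (⊤ : Submodule R S)) := by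
              rw [Ideal.smul_top_eq_map]
              exact ht
            clear ht
            refine Submodule.smul_induction_on ht' (fun a ha m _ => ?_) fun p q hp hq => ?_
            · rw [← TensorProduct.smul_tmul, Algebra.smul_def,
                show algebraMap R (R ⧸ maximalIdeal R ^ n) a = 0 from Ideal.Quotient.eq_zero_iff_mem.2 ha,
                zero_mul, zero_tmul]
            · rw [tmul_add, hp, hq, add_zero]
          refine ⟨Ideal.Quotient.mk _ r * x, ?_⟩
          have h3 := h0 _ hr
          rw [tmul_sub, sub_eq_zero] at h3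
          rw [← h3, show φ r = r • (1 : S) by rw [Algebra.smul_def, mul_one]; rfl, ← TensorProduct.smul_tmul,
            Algebra.smul_def]
          rfl
    exact Module.Flat.of_linearEquiv (LinearEquiv.ofBijective _ hbij).symm
  exact hflat

end Groth.Agent.AlgGrp33
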