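import Groth.Agent.AlgGrp33.PointsBialg
import Groth.Agent.AlgGrp33.Coord
import Groth.Agent.RedPts82.Coord
import Groth.Agent.RedPts82.DSChar
import Mathlib.RingTheory.Bialgebra.TensorProduct

/-!
Coordinates on diagonalisable groups and on base changes along field extensions.
-/

set_option autoImplicit false
set_option linter.unusedSectionVars false
set_option linter.style.haveILetI false

universe u

open CategoryTheory MonoidalCategory CartesianMonoidalCategory MonObj GrpObj AlgebraicGeometry
open scoped TensorProduct
open WithConv TensorProduct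

noncomputable section

namespace Groth.Agent.AlgGrp33

open GMod80

/-- coordinates on a diagonalisable group -/
theorem exists_coord_DS (k : Type u) [Field k] (M : Type) [AddCommGroup M] :
    ∃ ψ : sp k (MonoidAlgebra k (Multiplicative M)) ≅ Red.DS (Spec (CommRingCat.of k)) M,
      IsMonHom ψ.hom := by
  haveI : IsAffine (Red.DS (Spec (CommRingCat.of k)) M).left := by
    haveI := RedPts82.isAffineHom_DS (Spec (CommRingCat.of k)) M
    exact isAffine_of_isAffineHom (Red.DS (Spec (CommRingCat.of k)) M).hom
  obtain ⟨B, _, _, ψB, _⟩ := exists_coord (k := k) (Red.DS (Spec (CommRingCat.of k)) M)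
  let c : ∀ (R : Type u) [CommRing R] [Algebra k R], WithConv (B →ₐ[k] R) → Multiplicative M →* R :=
    fun R _ _ f =>
    { toFun := fun m => (Scheme.ΓSpecIso (CommRingCat.of R)).hom.hom
        (RedPts82.dsFn (e ψB R f) (Multiplicative.toAdd m))
      map_one' := by
        rw [show RedPts82.dsFn (e ψB R f) (Multiplicative.toAdd (1 : Multiplicative M)) = 1 from
          RedPts82.dsFn_zero _, map_one]
      map_mul' := fun a b => by
        rw [show RedPts82.dsFn (e ψB R f) (Multiplicative.toAdd (a * b)) =
          RedPts82.dsFn (e ψB R f) (Multiplicative.toAdd a) * RedPts82.dsFn (e ψB R f) (Multiplicative.toAdd b)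
          from RedPts82.dsFn_add _ _ _, map_mul] }
  let v : ∀ (R : Type u) [CommRing R] [Algebra k R],
      WithConv (B →ₐ[k] R) → WithConv (MonoidAlgebra k (Multiplicative M) →ₐ[k] R) :=
    fun R _ _ f => toConv (MonoidAlgebra.lift k R (Multiplicative M) (c R f))
  have hv : ∀ (R : Type u) [CommRing R] [Algebra k R] (f : WithConv (B →ₐ[k] R)) (m : Multiplicative M),
      (v R f).ofConv (MonoidAlgebra.single m 1) = (Scheme.ΓSpecIso (CommRingCat.of R)).hom.hom
        (RedPts82.dsFn (e ψB R f) (Multiplicative.toAdd m)) := fun R _ _ f m => by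
    simp [v, c, MonoidAlgebra.lift_single]
  obtain ⟨E, -⟩ := exists_bialgEquiv_of_points v
    (fun R _ _ => ⟨fun f g hfg => (e ψB R).injective (RedPts82.dsFn_injective fun m => by
        refine (ConcreteCategory.bijective_of_isIso (Scheme.ΓSpecIso (CommRingCat.of R)).hom).1 ?_
        have h := congrArg (fun w : WithConv (MonoidAlgebra k (Multiplicative M) →ₐ[k] R) =>
          w.ofConv (MonoidAlgebra.single (Multiplicative.ofAdd m) 1)) hfg
        simp only [hv] at h
        exact h),
      fun w => by
        obtain ⟨t, ht⟩ := RedPts82.dsFn_surjective (S := Spec (CommRingCat.of k)) (X := VecGrp.pt k R)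
          ((Scheme.ΓSpecIso (CommRingCat.of R)).inv.hom.toMonoidHom.comp
            ((w.ofConv : _ →* R).comp (MonoidAlgebra.of k (Multiplicative M))))
        obtain ⟨f, rfl⟩ := (e ψB R).surjective t
        refine ⟨f, WithConv.ofConv_injective (MonoidAlgebra.algHom_ext' (MonoidHom.ext fun m => ?_)
          (by ext))⟩
        refine (hv R f m).trans ?_
        rw [ht]
        simp⟩)
    (fun R _ _ f g => WithConv.ofConv_injective (MonoidAlgebra.algHom_ext' (MonoidHom.ext fun m => by
      refine (hv R (f * g) m).trans ?_
      simp only [map_mul, RedPts82.dsFn_mul]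
      rw [← hv R f m, ← hv R g m, MonoidHom.comp_apply]
      simp [AlgHom.convMul_apply]) (by ext)))
    (fun R R' _ _ _ _ q f => WithConv.ofConv_injective (MonoidAlgebra.algHom_ext' (MonoidHom.ext fun m => by
      refine (hv R' _ m).trans ?_
      rw [← e_natural, RedPts82.dsFn_comp]
      refine (congrArg (fun r => r.hom (RedPts82.dsFn (e ψB R f) (Multiplicative.toAdd m)))
        (Scheme.ΓSpecIso_naturality (CommRingCat.ofHom q.toRingHom))).trans ?_
      exact congrArg q (hv R f m).symm) (by ext)))
  exact ⟨(spIso E).symm ≪≫ ψB, inferInstanceAs (IsMonHom ((spIso E).inv ≫ ψB.hom))⟩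

section BaseChange

variable {k : Type u} [Field k] (L : Type u) [Field L] [Algebra k L]
  {A : Type u} [CommRing A] [HopfAlgebra k A] {G : Over (Spec (CommRingCat.of k))} [GrpObj G]

theorem liftEquiv_mul {R : Type u} [CommRing R] [Algebra k R] [Algebra L R] [IsScalarTower k L R]
    (x y : WithConv (A →ₐ[k] R)) :
    (toConv (Algebra.TensorProduct.liftEquivRight k L A R (x * y).ofConv) : WithConv (L ⊗[k] A →ₐ[L] R)) =
      toConv (Algebra.TensorProduct.liftEquivRight k L A R x.ofConv) * toConv (Algebra.TensorProduct.liftEquivRight k L A R y.ofConv) := by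
  apply WithConv.ofConv_injective
  refine Algebra.TensorProduct.ext (by ext) (AlgHom.ext fun a => ?_)
  simp only [AlgHom.comp_apply, AlgHom.restrictScalars_apply, Algebra.TensorProduct.includeRight_apply,
    AlgHom.convMul_apply, Algebra.TensorProduct.liftEquivRight_apply, Algebra.TensorProduct.lift_tmul, map_one,
    _root_.one_mul]
  rw [TensorProduct.comul_tmul, CommSemiring.comul_apply]
  generalize CoalgebraStruct.comul (R := k) a = z
  induction z using TensorProduct.induction_on with
  | zero => simp
  | add p q hp hq => simp only [map_add, TensorProduct.tmul_add, hp, hq]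
  | tmul p q => simp

/-- coordinates on the base change along a field extension -/
theorem exists_coord_bc (ψ : sp k A ≅ G) [IsMonHom ψ.hom] :
    ∃ ψ' : sp L (L ⊗[k] A) ≅ Red.bc (Spec.map (CommRingCat.ofHom (algebraMap k L))) G,
      IsMonHom ψ'.hom := by
  let f := Spec.map (CommRingCat.ofHom (algebraMap k L))
  haveI : IsAffine G.left := IsAffine.of_isIso (sch ψ).inv
  haveI : IsAffine (Red.bc f G).left :=
    inferInstanceAs (IsAffine (Limits.pullback G.hom f))
  obtain ⟨B, _, _, ψB, _⟩ := exists_coord (k := L) (Red.bc f G)
  let j : ∀ (R : Type u) [CommRing R] [Algebra k R] [Algebra L R] [IsScalarTower k L R],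
      VecGrp.pt k R ≅ (Over.map f).obj (VecGrp.pt L R) := fun R _ _ _ _ =>
    Over.isoMk (Iso.refl _) (by
      change 𝟙 _ ≫ (Spec.map _ ≫ Spec.map _) = Spec.map _
      rw [Category.id_comp, ← Spec.map_comp, ← CommRingCat.ofHom_comp, ← IsScalarTower.algebraMap_eq])
  let pts : ∀ (R : Type u) [CommRing R] [Algebra k R] [Algebra L R] [IsScalarTower k L R],
      WithConv (B →ₐ[L] R) → WithConv (A →ₐ[k] R) := fun R _ _ _ _ x =>
    (e ψ R).symm ((j R).hom ≫ RedPts82.toBase f (e ψB R x))
  have pbij : ∀ (R : Type u) [CommRing R] [Algebra k R] [Algebra L R] [IsScalarTower k L R],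
      Function.Bijective (pts R) := by
    intro R _ _ _ _
    refine ⟨fun x y h => ?_, fun a => ?_⟩
    · have h1 := (e ψ R).symm.injective h
      have h1 := (cancel_epi _).1 h1
      exact (e ψB R).injective (RedPts82.toBase_injective f h1)
    · obtain ⟨x, hx⟩ := (e ψB R).surjective (RedPts82.ofBase f ((j R).inv ≫ e ψ R a))
      refine ⟨x, ?_⟩
      show (e ψ R).symm _ = a
      rw [hx, RedPts82.toBase_ofBase, Iso.hom_inv_id_assoc, MulEquiv.symm_apply_apply]
  obtain ⟨E, -⟩ := exists_bialgEquiv_of_points (A := L ⊗[k] A) (B := B)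
    (fun R _ _ x =>
      letI : Algebra k R := Algebra.compHom R (algebraMap k L)
      haveI : IsScalarTower k L R := .of_algebraMap_eq' rfl
      toConv (Algebra.TensorProduct.liftEquivRight k L A R (pts R x).ofConv))
    (fun R _ _ => by
      letI : Algebra k R := Algebra.compHom R (algebraMap k L)
      haveI : IsScalarTower k L R := .of_algebraMap_eq' rfl
      exact (WithConv.toConv_bijective.comp (Algebra.TensorProduct.liftEquivRight k L A R).bijective).comp
        (WithConv.ofConv_bijective.comp (pbij R)))
    (fun R _ _ x y => by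
      letI : Algebra k R := Algebra.compHom R (algebraMap k L)
      haveI : IsScalarTower k L R := .of_algebraMap_eq' rfl
      show toConv (Algebra.TensorProduct.liftEquivRight k L A R (pts R (x * y)).ofConv) = _
      rw [← liftEquiv_mul]
      simp only [pts, map_mul, RedPts82.toBase_mul, MonObj.comp_mul])
    (fun R R' _ _ _ _ q x => by
      letI : Algebra k R := Algebra.compHom R (algebraMap k L)
      haveI : IsScalarTower k L R := .of_algebraMap_eq' rfl
      letI : Algebra k R' := Algebra.compHom R' (algebraMap k L)
      haveI : IsScalarTower k L R' := .of_algebraMap_eq' rfl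
      show toConv (Algebra.TensorProduct.liftEquivRight k L A R' (pts R' (toConv (q.comp x.ofConv))).ofConv) = _
      have h : pts R' (toConv (q.comp x.ofConv)) =
          toConv ((q.restrictScalars k).comp (pts R x).ofConv) := by
        refine (e ψ R').injective ?_
        rw [← e_natural]
        simp only [pts, MulEquiv.apply_symm_apply]
        rw [← e_natural, RedPts82.toBase_comp, ← Category.assoc, ← Category.assoc]
        congr 1
      rw [h]
      refine congrArg toConv (Algebra.TensorProduct.ext (by ext) (AlgHom.ext fun a => ?_))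
      simp)
  exact ⟨(spIso E).symm ≪≫ ψB, inferInstanceAs (IsMonHom ((spIso E).inv ≫ ψB.hom))⟩

end BaseChange

end Groth.Agent.AlgGrp33
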