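import Groth.Prelude.Def_FlatMod2
import Groth.Prelude.Def_Coh
import Groth.Agent.Props58.LocFree.Basis
import Groth.Agent.Crv77.Sections
import Mathlib.AlgebraicGeometry.Morphisms.Finite
import Mathlib.LinearAlgebra.FiniteDimensional.Basic

/-!
Descending a closed subscheme of `G × S`, `G` finite, with locally free direct image and few sections.
-/

set_option autoImplicit false
set_option backward.isDefEq.respectTransparency.types false
universe u

open CategoryTheory CategoryTheory.Limits AlgebraicGeometry TopologicalSpace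
open scoped TensorProduct

namespace Groth.Agent.AlgGrp33.DescSub

noncomputable section

variable {k : Type u} [Field k]

/-- the constants as global functions -/
def glob {X : Scheme.{u}} (t : X ⟶ Spec (CommRingCat.of k)) : k →+* Γ(X, ⊤) :=
  ((Scheme.ΓSpecIso (CommRingCat.of k)).inv ≫ t.appTop).hom

theorem eq_toSpecΓ {X : Scheme.{u}} (t : X ⟶ Spec (CommRingCat.of k)) :
    t = X.toSpecΓ ≫ Spec.map (CommRingCat.ofHom (glob t)) := by
  have e : CommRingCat.ofHom (glob t) = (Scheme.ΓSpecIso (CommRingCat.of k)).inv ≫ t.appTop := rfl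
  rw [e, Spec.map_comp, ← Scheme.toSpecΓ_naturality_assoc, toSpecΓ_SpecMap_ΓSpecIso_inv, Category.comp_id]

theorem finite_of_free {X S : Scheme.{u}} (f : X ⟶ S) (m : ℕ)
    (hE : FlatMod.IsFinLocFreeOfRank m ((Coh.push f).obj (Coh.structureModule X))) (x : S) :
    ∃ W : S.Opens, IsAffineOpen W ∧ x ∈ W ∧ ∃ b : Fin m → Γ(X, f ⁻¹ᵁ W),
      Function.Bijective fun a : Fin m → Γ(S, W) => ∑ i, f.app W (a i) * b i := by
  obtain ⟨U, hU, ⟨e⟩⟩ := hE x
  obtain ⟨s, hs⟩ := Props58.LocFree.exists_stalkBasis_of_iso e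
  obtain ⟨W, hW, hxW, hWU⟩ := exists_isAffineOpen_mem_and_subset hU
  have hWU : W ≤ U := hWU
  exact ⟨W, hW, hxW, fun i => QC70.res _ hWU (s i), hs.bijective hWU⟩

/-- The local statement. -/
theorem local_aux {A B R C : Type u} [CommRing A] [CommRing B] [CommRing R] [CommRing C] [Nontrivial R]
    [Algebra k A] [Algebra k B] [Module.Finite k B] [Algebra k R] [Algebra k C]
    (ψ : A →ₐ[k] B) (res : B →ₐ[k] C) (fR : R →ₐ[k] C)
    (hg : Function.Surjective (Algebra.TensorProduct.lift (res.comp ψ) fR fun _ _ => Commute.all _ _))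
    {m : ℕ} (hm : Module.finrank k B = m) (b : Fin m → C)
    (hb : Function.Bijective fun a : Fin m → R => ∑ i, fR (a i) * b i) :
    Function.Surjective ψ ∧
      Function.Bijective (Algebra.TensorProduct.lift res fR fun _ _ => Commute.all _ _) := by
  algebraize [fR.toRingHom]
  have hsm : ∀ (r : R) (c : C), r • c = fR r * c := fun r c => rfl
  let eC : (Fin m → R) ≃ₗ[R] C := LinearEquiv.ofBijective
    { toFun := fun a => ∑ i, fR (a i) * b i
      map_add' := fun a a' => by simp [add_mul, Finset.sum_add_distrib]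
      map_smul' := fun r a => by simp [hsm, Finset.mul_sum, mul_assoc] } hb
  have hsurjψ : Function.Surjective ψ := by
    let V := LinearMap.range ψ.toLinearMap
    let bV := Module.finBasis k V
    have hV : V = ⊤ := by
      refine Submodule.eq_top_of_finrank_eq (le_antisymm (Submodule.finrank_le V) (hm ▸ ?_))
      let Φ : (Fin (Module.finrank k V) → R) →ₗ[R] C := Fintype.linearCombination R fun i => res (bV i).1
      have hΦ : Function.Surjective Φ := fun c => by
        obtain ⟨z, rfl⟩ := hg c
        induction z using TensorProduct.induction_on with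
        | zero => exact ⟨0, by simp⟩
        | add x y hx hy =>
          obtain ⟨u, hu⟩ := hx
          obtain ⟨v, hv⟩ := hy
          exact ⟨u + v, by rw [map_add, map_add, hu, hv]⟩
        | tmul a r =>
          refine ⟨fun i => r * algebraMap k R (bV.repr ⟨ψ a, a, rfl⟩ i), ?_⟩
          have h := congrArg (fun v : V => res v.1) (bV.sum_repr ⟨ψ a, a, rfl⟩)
          simp only [Submodule.coe_sum, Submodule.coe_smul, map_sum, map_smul] at h
          simp only [Φ, Fintype.linearCombination_apply, hsm, map_mul, AlgHom.commutes, mul_assoc,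
            ← Algebra.smul_def, Algebra.TensorProduct.lift_tmul, AlgHom.comp_apply]
          rw [← Finset.mul_sum, h, mul_comm]
      exact le_of_fin_surjective R (eC.symm.toLinearMap.comp Φ) (eC.symm.surjective.comp hΦ)
    intro y
    have hy : y ∈ V := hV ▸ Submodule.mem_top
    exact hy
  refine ⟨hsurjψ, ?_⟩
  let bB : Module.Basis (Fin m) k B := Module.finBasisOfFinrankEq k B hm
  let g₀ := Algebra.TensorProduct.lift res fR fun _ _ => Commute.all _ _
  let Φ : (Fin m → R) →ₗ[R] C := Fintype.linearCombination R fun i => res (bB i)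
  let g : R ⊗[k] B →ₗ[R] C := (res.toLinearMap).liftBaseChange R
  have hgg : ∀ z, g z = g₀ (Algebra.TensorProduct.comm k R B z) := fun z => by
    induction z using TensorProduct.induction_on with
    | zero => simp
    | add x y hx hy => rw [map_add, map_add, map_add, hx, hy]
    | tmul r c => simp [g, g₀, hsm, mul_comm]
  have hgΦ : g = Φ.comp (bB.baseChange R).equivFun.toLinearMap := by
    refine (bB.baseChange R).ext fun i => ?_
    simp [g, Φ, Fintype.linearCombination_apply, Module.Basis.equivFun_apply, Finsupp.single_apply]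
  have hgs : Function.Surjective g := fun c => by
    obtain ⟨z, rfl⟩ := hg c
    refine ⟨(Algebra.TensorProduct.comm k B R) (Algebra.TensorProduct.map ψ (AlgHom.id k R) z), ?_⟩
    rw [hgg]
    induction z using TensorProduct.induction_on with
    | zero => simp
    | add x y hx hy => simp only [map_add, hx, hy]
    | tmul a r => simp [g₀]
  have hΦs : Function.Surjective Φ := fun c => by
    obtain ⟨z, rfl⟩ := hgs c
    exact ⟨(bB.baseChange R).equivFun z, by rw [hgΦ]; rfl⟩
  have hΦi : Function.Injective Φ := by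
    have := OrzechProperty.injective_of_surjective_endomorphism (eC.symm.toLinearMap.comp Φ)
      (eC.symm.surjective.comp hΦs)
    exact fun x y h => this (congrArg eC.symm h)
  have hgb : Function.Bijective g := by
    rw [hgΦ]
    exact (Function.Bijective.comp (g := Φ) ⟨hΦi, hΦs⟩ (bB.baseChange R).equivFun.bijective)
  refine ⟨fun x y h => (Algebra.TensorProduct.comm k B R).injective (hgb.1 ?_), fun c => ?_⟩
  · rw [hgg, hgg]
    have hcc : ∀ x, Algebra.TensorProduct.comm k R B (Algebra.TensorProduct.comm k B R x) = x := fun x => by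
      induction x using TensorProduct.induction_on with
      | zero => simp
      | add a b ha hb => rw [map_add, map_add, ha, hb]
      | tmul a b => simp
    rw [hcc, hcc]
    exact h
  · obtain ⟨z, hz⟩ := hgb.2 c
    exact ⟨_, (hgg z).symm.trans hz⟩

/-- A morphism to a fibre product which is locally on the second factor an isomorphism. -/
theorem isIso_of_local {X P S B T : Scheme.{u}} {h : B ⟶ T} {t : S ⟶ T} {p₁ : P ⟶ B} {p₂ : P ⟶ S}
    (hP : IsPullback p₁ p₂ h t) (ρ : X ⟶ P)
    (H : ∀ x : S, ∃ W : S.Opens, x ∈ W ∧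
      IsPullback (((ρ ≫ p₂) ⁻¹ᵁ W).ι ≫ ρ ≫ p₁) ((ρ ≫ p₂) ∣_ W) h (W.ι ≫ t)) : IsIso ρ := by
  choose W hxW hW using H
  rw [← MorphismProperty.isomorphisms.iff (C := Scheme.{u}),
    IsZariskiLocalAtTarget.iff_of_iSup_eq_top (P := MorphismProperty.isomorphisms Scheme.{u})
      (fun x => p₂ ⁻¹ᵁ W x) (TopologicalSpace.Opens.ext (Set.eq_univ_of_forall fun z =>
        by simpa using ⟨p₂ z, hxW (p₂ z)⟩))]
  intro x
  have h2 : IsPullback ((p₂ ⁻¹ᵁ W x).ι ≫ p₁) (p₂ ∣_ W x) h ((W x).ι ≫ t) :=
    (isPullback_morphismRestrict p₂ (W x)).flip.paste_horiz hP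
  let ι' : (ρ ⁻¹ᵁ p₂ ⁻¹ᵁ W x).toScheme ≅ ((ρ ≫ p₂) ⁻¹ᵁ W x).toScheme := Iso.refl _
  have e : ρ ∣_ (p₂ ⁻¹ᵁ W x) = ι'.hom ≫ ((hW x).isoIsPullback _ _ h2).hom := by
    apply h2.hom_ext
    · rw [Category.assoc, IsPullback.isoIsPullback_hom_fst, morphismRestrict_ι_assoc]
      rfl
    · rw [Category.assoc, IsPullback.isoIsPullback_hom_snd, ← cancel_mono (W x).ι]
      simp only [Category.assoc, morphismRestrict_ι, morphismRestrict_ι_assoc]
      rfl
  show IsIso (ρ ∣_ (p₂ ⁻¹ᵁ W x))
  rw [e]
  infer_instance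

theorem main {S : Scheme.{u}} (t : S ⟶ Spec (CommRingCat.of k)) [Nonempty S]
    {X G : Scheme.{u}} (g : G ⟶ Spec (CommRingCat.of k)) [IsFinite g]
    (i : X ⟶ pullback g t) [IsClosedImmersion i] (m : ℕ)
    (hE : FlatMod.IsFinLocFreeOfRank m ((Coh.push (i ≫ pullback.snd g t)).obj (Coh.structureModule X)))
    [Surjective (i ≫ pullback.snd g t)]
    (hh0 : letI : S.Over (Spec (CommRingCat.of k)) := ⟨t⟩
      Module.finrank k (Coh.HH S ((Coh.push (i ≫ pullback.snd g t)).obj (Coh.structureModule X)) 0) = m) :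
    ∃ (j : Spec Γ(X, ⊤) ⟶ G), IsClosedImmersion j ∧
      X.toSpecΓ ≫ j = i ≫ pullback.fst g t ∧
      IsPullback X.toSpecΓ (i ≫ pullback.snd g t) (j ≫ g) t := by
  letI : S.Over (Spec (CommRingCat.of k)) := ⟨t⟩
  generalize hf : i ≫ pullback.snd g t = f at *
  have : IsAffine G := isAffine_of_isAffineHom g
  have : IsFinite f := by rw [← hf]; infer_instance
  let q : X ⟶ G := i ≫ pullback.fst g t
  let B := Γ(X, ⊤)
  let A := Γ(G, ⊤)
  let str : k →+* B := glob (f ≫ t)
  letI : Algebra k B := str.toAlgebra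
  letI : Algebra k A := (glob g).toAlgebra
  have hqg : q ≫ g = f ≫ t := by
    rw [← hf, Category.assoc, Category.assoc, pullback.condition]
  let ψ : A →ₐ[k] B := ⟨q.appTop.hom, fun c => by
    show (q.appTop.hom.comp (glob g)) c = str c
    simp only [str, ← hqg, glob, Scheme.Hom.comp_appTop, CommRingCat.hom_comp, RingHom.comp_assoc]⟩
  let M := (Coh.push f).obj (Coh.structureModule X)
  let L : Coh.HH S M 0 ≃ₗ[k] B :=
    { (show Coh.HH S M 0 ≃+ B from Crv77.sec M) with
      map_smul' := fun a x => by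
        refine (Crv77.sec_smul k M a x).trans ?_
        refine congrArg (fun r : Γ(X, ⊤) => r * (show Γ(X, ⊤) from Crv77.sec M x)) ?_
        simp only [str, glob, Scheme.Hom.comp_appTop]
        rfl }
  have hB : Module.finrank k B = m := L.finrank_eq.symm.trans hh0
  have hloc : ∀ x : S, ∃ W : S.Opens, x ∈ W ∧ Function.Surjective ψ ∧
      IsPullback ((f ⁻¹ᵁ W).ι ≫ X.toSpecΓ) (f ∣_ W) (Spec.map (CommRingCat.ofHom str)) (W.ι ≫ t) := by
    intro x
    obtain ⟨W, hW, hxW, b, hb⟩ := finite_of_free f m hE x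
    have hP : IsAffineOpen (f ⁻¹ᵁ W) := hW.preimage f
    have : Nonempty W := ⟨⟨x, hxW⟩⟩
    let R := Γ(S, W)
    let C := Γ(X, f ⁻¹ᵁ W)
    have : Nontrivial R := Scheme.component_nontrivial S W
    have hm0 : 0 < m := by
      rcases Nat.eq_zero_or_pos m with h0 | h0
      · subst h0
        obtain ⟨p, hp⟩ := f.surjective x
        have : Nonempty (f ⁻¹ᵁ W : X.Opens) := ⟨⟨p, show f p ∈ W from hp ▸ hxW⟩⟩
        have : Nontrivial C := Scheme.component_nontrivial X _
        obtain ⟨a, ha⟩ := hb.2 1
        simp at ha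
      · exact h0
    have : Module.Finite k B := Module.finite_of_finrank_pos (hB ▸ hm0)
    let rS : Γ(S, ⊤) →+* R := (S.presheaf.map (homOfLE (le_top : W ≤ ⊤)).op).hom
    let rX : B →+* C := (X.presheaf.map (homOfLE (le_top : f ⁻¹ᵁ W ≤ ⊤)).op).hom
    letI : Algebra k R := (rS.comp (glob t)).toAlgebra
    letI : Algebra k C := (rX.comp str).toAlgebra
    let res : B →ₐ[k] C := ⟨rX, fun _ => rfl⟩
    let fR : R →ₐ[k] C := ⟨(f.app W).hom, fun c => by
      show f.app W (rS (glob t c)) = rX (str c)
      simp only [str, glob, Scheme.Hom.comp_appTop]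
      exact ConcreteCategory.congr_hom (f.naturality (homOfLE (le_top : W ≤ ⊤)).op) _⟩
    have hfin : fR.toRingHom.Finite := by
      have := f.finite_app W hW
      exact this
    let gl := Algebra.TensorProduct.lift (res.comp ψ) fR fun _ _ => Commute.all _ _
    have hg : Function.Surjective gl := by
      have h1 : IsFinite (Spec.map (CommRingCat.ofHom gl.toRingHom)) :=
        (IsFinite.SpecMap_iff _).2 (RingHom.Finite.of_comp_finite
          (f := (Algebra.TensorProduct.includeRight : R →ₐ[k] A ⊗[k] R).toRingHom) (by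
            convert hfin using 1
            ext r
            simp [gl]))
      let e := pullbackSpecIso k A R
      have hA : Spec.map (CommRingCat.ofHom (algebraMap k A)) = G.isoSpec.inv ≫ g := by
        rw [Iso.eq_inv_comp]
        exact (eq_toSpecΓ g).symm
      have hR : Spec.map (CommRingCat.ofHom (algebraMap k R)) = hW.fromSpec ≫ t := by
        rw [show CommRingCat.ofHom (algebraMap k R) =
          CommRingCat.ofHom (glob t) ≫ CommRingCat.ofHom rS from rfl, Spec.map_comp]
        conv_rhs => rw [eq_toSpecΓ t, ← Category.assoc, hW.fromSpec_toSpecΓ]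
        rfl
      let u : pullback (Spec.map (CommRingCat.ofHom (algebraMap k A))) (Spec.map (CommRingCat.ofHom (algebraMap k R))) ⟶
          pullback g t := pullback.lift (pullback.fst _ _ ≫ G.isoSpec.inv) (pullback.snd _ _ ≫ hW.fromSpec) (by
            rw [Category.assoc, Category.assoc, ← hA, ← hR, pullback.condition])
      have hq : Spec.map (CommRingCat.ofHom (res.comp ψ).toRingHom) ≫ G.isoSpec.inv = hP.fromSpec ≫ q := by
        rw [show CommRingCat.ofHom (res.comp ψ).toRingHom = q.appTop ≫ CommRingCat.ofHom rX from rfl,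
          Spec.map_comp, Category.assoc, show Spec.map q.appTop ≫ G.isoSpec.inv =
            Spec.map q.appTop ≫ G.isoSpec.inv from rfl,
          show Spec.map (CommRingCat.ofHom rX) = hP.fromSpec ≫ X.toSpecΓ from hP.fromSpec_toSpecΓ.symm,
          Category.assoc, ← Scheme.toSpecΓ_naturality_assoc q]
        exact congrArg (fun z => hP.fromSpec ≫ z) ((congrArg (q ≫ ·) G.isoSpec.hom_inv_id).trans (Category.comp_id q))
      have hw : Spec.map (CommRingCat.ofHom gl.toRingHom) ≫ e.inv ≫ u = hP.fromSpec ≫ i := by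
        apply pullback.hom_ext
        · rw [Category.assoc, Category.assoc, pullback.lift_fst, pullbackSpecIso_inv_fst_assoc, ← Category.assoc,
            ← Spec.map_comp, ← CommRingCat.ofHom_comp, Category.assoc]
          refine Eq.trans ?_ hq
          congr 3
          ext a
          simp [gl]
        · rw [Category.assoc, Category.assoc, pullback.lift_snd, pullbackSpecIso_inv_snd_assoc, ← Category.assoc,
            ← Spec.map_comp, ← CommRingCat.ofHom_comp, Category.assoc, hf,
            ← IsAffineOpen.SpecMap_appLE_fromSpec f hW hP le_rfl]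
          congr 2
          ext r
          simp [gl, Scheme.Hom.appLE, fR]
      have : Mono (Spec.map (CommRingCat.ofHom gl.toRingHom) ≫ e.inv ≫ u) := hw ▸ mono_comp _ _
      have hmono : Mono (Spec.map (CommRingCat.ofHom gl.toRingHom)) := mono_of_mono _ (e.inv ≫ u)
      have hc : IsClosedImmersion (Spec.map (CommRingCat.ofHom gl.toRingHom)) :=
        (IsClosedImmersion.iff_isFinite_and_mono _).2 ⟨h1, hmono⟩
      have hs := (IsClosedImmersion.isAffine_surjective_of_isAffine
        (Spec.map (CommRingCat.ofHom gl.toRingHom))).2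
      have hn := Scheme.ΓSpecIso_naturality (CommRingCat.ofHom gl.toRingHom)
      intro c
      obtain ⟨d, hd⟩ := hs ((Scheme.ΓSpecIso (CommRingCat.of C)).inv c)
      refine ⟨(Scheme.ΓSpecIso (CommRingCat.of (A ⊗[k] R))).hom d, ?_⟩
      have := ConcreteCategory.congr_hom hn d
      simp only [CommRingCat.hom_comp, RingHom.comp_apply] at this
      refine this.symm.trans ?_
      rw [hd]
      simp
    obtain ⟨hψ, hbij⟩ := local_aux ψ res fR hg hB b hb
    refine ⟨W, hxW, hψ, ?_⟩
    let eA := AlgEquiv.ofBijective _ hbij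
    have h0 : IsPullback (Spec.map (CommRingCat.ofHom rX)) (Spec.map (f.app W))
        (Spec.map (CommRingCat.ofHom str)) (Spec.map (CommRingCat.ofHom (algebraMap k R))) := by
      let e' : Spec (CommRingCat.of C) ≅
          pullback (Spec.map (CommRingCat.ofHom (algebraMap k B))) (Spec.map (CommRingCat.ofHom (algebraMap k R))) :=
        Scheme.Spec.mapIso eA.toRingEquiv.toCommRingCatIso.op ≪≫ (pullbackSpecIso k B R).symm
      refine (IsPullback.of_hasPullback _ _).of_iso e'.symm (Iso.refl _) (Iso.refl _) (Iso.refl _) ?_ ?_ (by simp) (by simp)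
      · rw [Iso.refl_hom, Category.comp_id, Iso.symm_hom, Iso.eq_inv_comp]
        show (Spec.map (CommRingCat.ofHom eA.toRingEquiv.toRingHom) ≫ (pullbackSpecIso k B R).inv) ≫ pullback.fst _ _ = _
        rw [Category.assoc, pullbackSpecIso_inv_fst, ← Spec.map_comp]
        congr 1
        ext a
        simp [eA, res]
      · rw [Iso.refl_hom, Category.comp_id, Iso.symm_hom, Iso.eq_inv_comp]
        show (Spec.map (CommRingCat.ofHom eA.toRingEquiv.toRingHom) ≫ (pullbackSpecIso k B R).inv) ≫ pullback.snd _ _ = _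
        rw [Category.assoc, pullbackSpecIso_inv_snd, ← Spec.map_comp]
        congr 1
        ext a
        simp [eA, fR]
    refine h0.of_iso hP.isoSpec.symm (Iso.refl _) hW.isoSpec.symm (Iso.refl _) ?_ ?_ (by simp) ?_
    · rw [Iso.refl_hom, Category.comp_id, Iso.symm_hom, ← Category.assoc, show
        hP.isoSpec.inv ≫ (f ⁻¹ᵁ W).ι = hP.fromSpec from rfl, hP.fromSpec_toSpecΓ]
      rfl
    · rw [Iso.symm_hom, Iso.symm_hom, ← cancel_mono W.ι, Category.assoc, Category.assoc, morphismRestrict_ι,
        show hW.isoSpec.inv ≫ W.ι = hW.fromSpec from rfl, ← Category.assoc,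
        show hP.isoSpec.inv ≫ (f ⁻¹ᵁ W).ι = hP.fromSpec from rfl,
        ← IsAffineOpen.SpecMap_appLE_fromSpec f hW hP le_rfl]
      simp [Scheme.Hom.appLE]
    · rw [Iso.refl_hom, Category.comp_id, Iso.symm_hom, ← Category.assoc,
        show hW.isoSpec.inv ≫ W.ι = hW.fromSpec from rfl]
      rw [show CommRingCat.ofHom (algebraMap k R) =
        CommRingCat.ofHom (glob t) ≫ CommRingCat.ofHom rS from rfl, Spec.map_comp]
      conv_rhs => rw [eq_toSpecΓ t, ← Category.assoc, hW.fromSpec_toSpecΓ]
      rfl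
  obtain ⟨W₀, -, hψ, -⟩ := hloc Classical.ofNonempty
  let j : Spec Γ(X, ⊤) ⟶ G := Spec.map q.appTop ≫ G.isoSpec.inv
  have hj : X.toSpecΓ ≫ j = q := by
    rw [← Category.assoc, ← Scheme.toSpecΓ_naturality q, Category.assoc]
    exact (congrArg (q ≫ ·) G.isoSpec.hom_inv_id).trans (Category.comp_id q)
  have hjg : j ≫ g = Spec.map (CommRingCat.ofHom str) := by
    show (Spec.map q.appTop ≫ G.isoSpec.inv) ≫ g = _
    rw [Category.assoc, show G.isoSpec.inv ≫ g = Spec.map (CommRingCat.ofHom (glob g)) from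
      (Iso.inv_comp_eq _).2 (eq_toSpecΓ g), ← Spec.map_comp]
    congr 1
    ext c
    exact AlgHom.commutes ψ c
  have hjc : IsClosedImmersion (Spec.map q.appTop) := IsClosedImmersion.spec_of_surjective _ hψ
  refine ⟨j, inferInstanceAs (IsClosedImmersion (Spec.map q.appTop ≫ G.isoSpec.inv)), hj, ?_⟩
  rw [hjg]
  let ρ : X ⟶ pullback (Spec.map (CommRingCat.ofHom str)) t := pullback.lift X.toSpecΓ f (eq_toSpecΓ (f ≫ t)).symm
  have : IsIso ρ := by
    refine isIso_of_local (IsPullback.of_hasPullback _ t) ρ fun x => ?_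
    obtain ⟨W, hxW, -, h⟩ := hloc x
    have e1 : ρ ≫ pullback.fst _ _ = X.toSpecΓ := pullback.lift_fst _ _ _
    have e2 : ρ ≫ pullback.snd _ _ = f := pullback.lift_snd _ _ _
    refine ⟨W, hxW, ?_⟩
    rw [e1, e2]
    exact h
  exact (IsPullback.of_hasPullback _ t).of_iso (asIso ρ).symm (Iso.refl _) (Iso.refl _) (Iso.refl _)
    (by rw [Iso.refl_hom, Category.comp_id, Iso.symm_hom, Iso.eq_inv_comp, asIso_hom]; exact pullback.lift_fst _ _ _)
    (by rw [Iso.refl_hom, Category.comp_id, Iso.symm_hom, Iso.eq_inv_comp, asIso_hom]; exact pullback.lift_snd _ _ _)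
    (by simp) (by simp)

end

end Groth.Agent.AlgGrp33.DescSub
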