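import Groth.Agent.AlgGrp33.GaussExt
import Groth.Agent.AlgGrp79.GenSubgroup
import Groth.Agent.FBase64.TensorField
import Mathlib.AlgebraicGeometry.FunctionField
import Mathlib.AlgebraicGeometry.Group.Abelian

/-!
Translations as field embeddings of function fields, and stable valuations.
-/

set_option autoImplicit false
set_option linter.unusedSectionVars false
set_option linter.style.haveILetI false
set_option maxHeartbeats 800000
set_option backward.isDefEq.respectTransparency.types false
universe u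

open CategoryTheory MonoidalCategory CartesianMonoidalCategory MonObj GrpObj AlgebraicGeometry CategoryTheory.Limits
open Groth.Agent.AlgGrp79
open scoped TensorProduct

namespace Groth.Agent.AlgGrp33.DivField

open Gauss

noncomputable section

variable {k : Type u} [Field k]

/-- the spectrum of a field over `k` -/
abbrev spF (Ω : Type u) [Field Ω] [Algebra k Ω] : Over (Spec (CommRingCat.of k)) :=
  Over.mk (Spec.map (CommRingCat.ofHom (algebraMap k Ω)))

/-- the closed point -/
abbrev spPt0 (Ω : Type u) [Field Ω] [Algebra k Ω] : (spF (k := k) Ω).left := IsLocalRing.closedPoint Ω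

/-- the map of spectra of fields -/
def spMap {Ω Ω' : Type u} [Field Ω] [Algebra k Ω] [Field Ω'] [Algebra k Ω'] (ψ : Ω →ₐ[k] Ω') : spF (k := k) Ω' ⟶ spF Ω :=
  Over.homMk (Spec.map (CommRingCat.ofHom ψ.toRingHom)) (by
    show Spec.map _ ≫ Spec.map _ = Spec.map _
    rw [← Spec.map_comp]
    refine congrArg Spec.map (CommRingCat.hom_ext (RingHom.ext fun a => ?_))
    exact ψ.commutes a)

variable {G : Over (Spec (CommRingCat.of k))} [IsIntegral G.left] [Algebra k G.left.functionField]
  (halg : Spec.map (CommRingCat.ofHom (algebraMap k G.left.functionField)) =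
    G.left.fromSpecStalk (genericPoint G.left) ≫ G.hom)

/-- the point given by an embedding of the function field -/
def pt {Ω : Type u} [Field Ω] [Algebra k Ω] (φ : G.left.functionField →ₐ[k] Ω) : spF Ω ⟶ G :=
  Over.homMk (Spec.map (CommRingCat.ofHom φ.toRingHom) ≫ G.left.fromSpecStalk (genericPoint G.left)) (by
    show (Spec.map _ ≫ _) ≫ G.hom = Spec.map _
    rw [Category.assoc, ← halg, ← Spec.map_comp]
    refine congrArg Spec.map (CommRingCat.hom_ext (RingHom.ext fun a => ?_))
    exact φ.commutes a)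

lemma pt_comp {Ω Ω' : Type u} [Field Ω] [Algebra k Ω] [Field Ω'] [Algebra k Ω'] (ψ : Ω →ₐ[k] Ω')
    (φ : G.left.functionField →ₐ[k] Ω) : spMap ψ ≫ pt halg φ = pt halg (ψ.comp φ) := by
  refine Over.OverMorphism.ext ?_
  show Spec.map _ ≫ Spec.map _ ≫ _ = Spec.map _ ≫ _
  rw [← Spec.map_comp_assoc]
  rfl

lemma pt_injective {Ω : Type u} [Field Ω] [Algebra k Ω] {φ ψ : G.left.functionField →ₐ[k] Ω}
    (h : pt halg φ = pt halg ψ) : φ = ψ := by
  have h1 : Spec.map (CommRingCat.ofHom φ.toRingHom) ≫ G.left.fromSpecStalk (genericPoint G.left) =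
      Spec.map (CommRingCat.ofHom ψ.toRingHom) ≫ G.left.fromSpecStalk (genericPoint G.left) := congr($(h).left)
  rw [cancel_mono] at h1
  exact AlgHom.ext fun a => congr($(Spec.map_injective h1) a)

lemma pt_apply {Ω : Type u} [Field Ω] [Algebra k Ω] (φ : G.left.functionField →ₐ[k] Ω) :
    (pt halg φ).left (spPt0 Ω) = genericPoint G.left := by
  have : IsLocalHom φ.toRingHom := ⟨fun a ha => isUnit_iff_ne_zero.2 fun h => by simp [h] at ha⟩
  have h1 : Spec.map (CommRingCat.ofHom φ.toRingHom) (IsLocalRing.closedPoint Ω) =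
      IsLocalRing.closedPoint G.left.functionField := IsLocalRing.comap_closedPoint φ.toRingHom
  exact (congrArg (fun r => G.left.fromSpecStalk (genericPoint G.left) r) h1).trans Scheme.fromSpecStalk_closedPoint

lemma exists_pt {Ω : Type u} [Field Ω] [Algebra k Ω] (x : spF Ω ⟶ G) (hx : x.left (spPt0 Ω) = genericPoint G.left) :
    ∃ φ : G.left.functionField →ₐ[k] Ω, pt halg φ = x := by
  obtain ⟨ψ, hψ⟩ : ∃ ψ : G.left.functionField ⟶ CommRingCat.of Ω,
      Spec.map ψ ≫ G.left.fromSpecStalk (genericPoint G.left) = x.left := by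
    suffices key : ∀ p, x.left (spPt0 Ω) = p →
        ∃ ψ : G.left.presheaf.stalk p ⟶ CommRingCat.of Ω, Spec.map ψ ≫ G.left.fromSpecStalk p = x.left from key _ hx
    rintro p rfl
    exact ⟨Scheme.stalkClosedPointTo x.left, Scheme.Spec_stalkClosedPointTo_fromSpecStalk x.left⟩
  have h2 : CommRingCat.ofHom (algebraMap k G.left.functionField) ≫ ψ = CommRingCat.ofHom (algebraMap k Ω) := by
    apply Spec.map_injective
    rw [Spec.map_comp, halg, reassoc_of% hψ]
    exact Over.w x
  exact ⟨{ ψ.hom with commutes' := fun c => congr($h2 c) }, Over.OverMorphism.ext hψ⟩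

lemma generic_of_surjective {X Y : Scheme.{u}} [IrreducibleSpace X] [IrreducibleSpace Y] (f : X ⟶ Y) [Surjective f] :
    f (genericPoint X) = genericPoint Y := by
  refine IsGenericPoint.eq ?_ (genericPoint_spec Y)
  refine Set.eq_univ_of_forall fun y => ?_
  obtain ⟨x, rfl⟩ := f.surjective y
  exact specializes_iff_mem_closure.1 (((genericPoint_spec X).specializes trivial).map f.continuous)

variable [IsAlgClosed k] [LocallyOfFiniteType G.hom]

instance : IsDomain (G.left.functionField ⊗[k] G.left.functionField) := FBase64.isDomain_tensor_of_isAlgClosed k _ _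

instance {Ω : Type u} [Field Ω] [Algebra k Ω] : IsDomain (G.left.functionField ⊗[k] Ω) :=
  FBase64.isDomain_tensor_of_isAlgClosed k _ _

lemma isIntegral_prod (X Y : Over (Spec (CommRingCat.of k))) [IsIntegral X.left] [IsIntegral Y.left]
    [LocallyOfFiniteType X.hom] : IsIntegral (X ⊗ Y).left := by
  have := AlgGrp79.irreducible_prod X Y
  have := AlgGrp79.reduced_prod X Y
  exact isIntegral_of_irreducibleSpace_of_isReduced _

include halg in
/-- a pair of points is generic exactly when the joint homomorphism is injective -/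
theorem pt2_generic_iff {Ω : Type u} [Field Ω] [Algebra k Ω] (a b : G.left.functionField →ₐ[k] Ω) :
    haveI := isIntegral_prod G G
    (lift (pt halg a) (pt halg b)).left (spPt0 Ω) = genericPoint (G ⊗ G).left ↔
      Function.Injective (Algebra.TensorProduct.lift a b fun _ _ => Commute.all _ _) := by
  haveI := isIntegral_prod G G
  obtain ⟨_, ⟨U, hU, rfl⟩, hxU, -⟩ := G.left.isBasis_affineOpens.exists_subset_of_mem_open
    (Set.mem_univ (genericPoint G.left)) isOpen_univ
  have : Nonempty U := ⟨⟨_, hxU⟩⟩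
  let g : Γ(G.left, U) ⟶ G.left.functionField := G.left.germToFunctionField U
  let c₀ : CommRingCat.of k ⟶ Γ(G.left, U) :=
    (Scheme.ΓSpecIso (CommRingCat.of k)).inv ≫ G.hom.appLE ⊤ U le_top
  have hfrom : hU.fromSpec ≫ G.hom = Spec.map c₀ := by
    rw [Spec.map_comp, ← IsAffineOpen.SpecMap_appLE_fromSpec G.hom (isAffineOpen_top _) hU le_top,
      IsAffineOpen.fromSpec_top, Scheme.isoSpec_Spec_inv]
  have hgen : Spec.map g ≫ hU.fromSpec = G.left.fromSpecStalk (genericPoint G.left) := by
    rw [← IsAffineOpen.fromSpecStalk_eq_fromSpecStalk hU hxU]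
    rfl
  have hcg : c₀ ≫ g = CommRingCat.ofHom (algebraMap k G.left.functionField) := by
    apply Spec.map_injective
    rw [Spec.map_comp, halg, ← hfrom, ← Category.assoc, hgen]
  letI : Algebra k Γ(G.left, U) := c₀.hom.toAlgebra
  let φ : Γ(G.left, U) →ₐ[k] G.left.functionField := { g.hom with commutes' := fun c => congr($hcg c) }
  have hinj : Function.Injective φ := G.left.germToFunctionField_injective U
  have hfU := functionField_isFractionRing_of_isAffineOpen G.left U hU
  have hfrac : ∀ x : G.left.functionField, ∃ p q : Γ(G.left, U), φ q ≠ 0 ∧ x * φ q = φ p := fun x => by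
    obtain ⟨p, q, hq, hpq⟩ := IsFractionRing.div_surjective (A := Γ(G.left, U)) x
    have hq0 : φ q ≠ 0 := (map_ne_zero_iff φ hinj).2 (nonZeroDivisors.ne_zero hq)
    refine ⟨p, q, hq0, ?_⟩
    rw [← hpq]
    exact div_mul_cancel₀ _ hq0
  have : Nontrivial Γ(G.left, U) := φ.toRingHom.domain_nontrivial
  have : IsDomain Γ(G.left, U) := hinj.isDomain φ
  have := FBase64.isDomain_tensor_of_isAlgClosed k Γ(G.left, U) Γ(G.left, U)
  let sB : Over (Spec (CommRingCat.of k)) := Over.mk (Spec.map (CommRingCat.ofHom (algebraMap k Γ(G.left, U))))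
  let iB : sB ⟶ G := Over.homMk hU.fromSpec hfrom
  have : IsOpenImmersion iB.left := hU.isOpenImmersion_fromSpec
  have hoi : IsOpenImmersion (iB ⊗ₘ iB).left := by
    have h0 : IsOpenImmersion (sB ◁ iB).left :=
      MorphismProperty.of_isPullback (P := @IsOpenImmersion) (isPullback_left (whiskerLeft_isPullback sB iB)).flip ‹_›
    have h1 : IsOpenImmersion (iB ▷ sB).left := by
      rw [show iB ▷ sB = lift (snd sB sB) (fst sB sB) ≫ sB ◁ iB ≫ lift (snd sB G) (fst sB G) by
        ext : 1 <;> simp]
      have i1 : IsIso (lift (snd sB sB) (fst sB sB)) := ⟨lift (snd sB sB) (fst sB sB), by constructor <;> ext : 1 <;> simp⟩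
      have i2 : IsIso (lift (snd sB G) (fst sB G)) := ⟨lift (snd G sB) (fst G sB), by constructor <;> ext : 1 <;> simp⟩
      have j1 : IsIso (lift (snd sB sB) (fst sB sB)).left := (Over.forget _).map_isIso (lift (snd sB sB) (fst sB sB))
      have j2 : IsIso (lift (snd sB G) (fst sB G)).left := (Over.forget _).map_isIso (lift (snd sB G) (fst sB G))
      exact MorphismProperty.comp_mem @IsOpenImmersion _ _ inferInstance
        (MorphismProperty.comp_mem @IsOpenImmersion _ _ h0 inferInstance)
    have h2 : IsOpenImmersion (G ◁ iB).left :=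
      MorphismProperty.of_isPullback (P := @IsOpenImmersion) (isPullback_left (whiskerLeft_isPullback G iB)).flip ‹_›
    rw [MonoidalCategory.tensorHom_def]
    exact MorphismProperty.comp_mem @IsOpenImmersion _ _ h1 h2
  let χ : Γ(G.left, U) ⊗[k] Γ(G.left, U) →ₐ[k] Ω :=
    Algebra.TensorProduct.lift (a.comp φ) (b.comp φ) fun _ _ => Commute.all _ _
  let e : (sB ⊗ sB).left ≅ Spec (CommRingCat.of (Γ(G.left, U) ⊗[k] Γ(G.left, U))) := pullbackSpecIso k _ _
  have hef : e.inv ≫ (fst sB sB).left = Spec.map (CommRingCat.ofHom Algebra.TensorProduct.includeLeftRingHom) :=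
    pullbackSpecIso_inv_fst k Γ(G.left, U) Γ(G.left, U)
  have hes : e.inv ≫ (snd sB sB).left = Spec.map (CommRingCat.ofHom Algebra.TensorProduct.includeRight.toRingHom) :=
    pullbackSpecIso_inv_snd k Γ(G.left, U) Γ(G.left, U)
  have hfac : (lift (pt halg a) (pt halg b)).left = (Spec.map (CommRingCat.ofHom χ.toRingHom) ≫ e.inv) ≫ (iB ⊗ₘ iB).left := by
    have hl : ∀ (c : G.left.functionField →ₐ[k] Ω), (pt halg c).left =
        Spec.map (CommRingCat.ofHom (c.comp φ).toRingHom) ≫ hU.fromSpec := fun c => by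
      show Spec.map _ ≫ _ = _
      rw [← hgen, ← Spec.map_comp_assoc]
      rfl
    refine pullback.hom_ext ?_ ?_
    · show (lift (pt halg a) (pt halg b) ≫ fst G G).left = _
      rw [lift_fst, hl]
      show _ = ((Spec.map _ ≫ e.inv) ≫ (iB ⊗ₘ iB).left) ≫ (fst G G).left
      rw [Category.assoc, ← Over.comp_left, tensorHom_fst, Over.comp_left, Category.assoc]
      show _ = Spec.map _ ≫ e.inv ≫ (fst sB sB).left ≫ hU.fromSpec
      rw [reassoc_of% hef, ← Spec.map_comp_assoc]
      congr 2
      exact CommRingCat.hom_ext (RingHom.ext fun p => by simp [χ])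
    · show (lift (pt halg a) (pt halg b) ≫ snd G G).left = _
      rw [lift_snd, hl]
      show _ = ((Spec.map _ ≫ e.inv) ≫ (iB ⊗ₘ iB).left) ≫ (snd G G).left
      rw [Category.assoc, ← Over.comp_left, tensorHom_snd, Over.comp_left, Category.assoc]
      show _ = Spec.map _ ≫ e.inv ≫ (snd sB sB).left ≫ hU.fromSpec
      rw [reassoc_of% hes, ← Spec.map_comp_assoc]
      congr 2
      exact CommRingCat.hom_ext (RingHom.ext fun p => by simp [χ])
  let x0 : PrimeSpectrum (Γ(G.left, U) ⊗[k] Γ(G.left, U)) := Spec.map (CommRingCat.ofHom χ.toRingHom) (spPt0 (k := k) Ω)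
  let j0 : Spec (CommRingCat.of (Γ(G.left, U) ⊗[k] Γ(G.left, U))) ⟶ (G ⊗ G).left := e.inv ≫ (iB ⊗ₘ iB).left
  have hj0 : IsOpenImmersion j0 := MorphismProperty.comp_mem @IsOpenImmersion _ _ inferInstance hoi
  have : IrreducibleSpace (Spec (CommRingCat.of (Γ(G.left, U) ⊗[k] Γ(G.left, U)))) := PrimeSpectrum.irreducibleSpace
  have h1 : (lift (pt halg a) (pt halg b)).left (spPt0 Ω) = j0 x0 := by
    rw [hfac, Category.assoc, Scheme.Hom.comp_apply]
  rw [h1, ← genericPoint_eq_of_isOpenImmersion j0, j0.isOpenEmbedding.injective.eq_iff, genericPoint_eq_bot_of_affine]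
  have hx0 : x0 = ⊥ ↔ Function.Injective χ := by
    rw [PrimeSpectrum.ext_iff, RingHom.injective_iff_ker_eq_bot]
    show Ideal.comap χ.toRingHom (IsLocalRing.maximalIdeal Ω) = _ ↔ _
    rw [IsLocalRing.maximalIdeal_eq_bot]
    rfl
  refine Iff.trans hx0 ?_
  let lK := Algebra.TensorProduct.lift a b fun _ _ => Commute.all _ _
  let mB : Γ(G.left, U) ⊗[k] Γ(G.left, U) →ₐ[k] G.left.functionField ⊗[k] G.left.functionField :=
    Algebra.TensorProduct.map φ φ
  have hχ : χ = lK.comp mB := Algebra.TensorProduct.ext' fun p q => by simp [χ, lK, mB]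
  have hmB : Function.Injective mB := TensorProduct.map_injective_of_flat_flat φ.toLinearMap φ.toLinearMap hinj hinj
  constructor
  · intro hχi
    have hden : ∀ x : G.left.functionField ⊗[k] G.left.functionField, ∃ q : Γ(G.left, U) ⊗[k] Γ(G.left, U),
        q ≠ 0 ∧ ∃ p, x * mB q = mB p := by
      intro x
      induction x with
      | zero => exact ⟨1, one_ne_zero, 0, by simp⟩
      | tmul y z =>
        obtain ⟨p, q, hq, hpq⟩ := hfrac y
        obtain ⟨p', q', hq', hpq'⟩ := hfrac z
        refine ⟨q ⊗ₜ q', fun h0 => ?_, p ⊗ₜ p', by simp [mB, hpq, hpq']⟩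
        have := congrArg mB h0
        simp only [mB, map_zero, Algebra.TensorProduct.map_tmul] at this
        rw [← one_mul (φ q), ← mul_one (φ q'), ← Algebra.TensorProduct.tmul_mul_tmul] at this
        refine (mul_eq_zero.1 this).elim (fun h => hq' ?_) (fun h => hq ?_)
        · exact Algebra.TensorProduct.includeRight_injective (R := k) (algebraMap k G.left.functionField).injective
            (h.trans (map_zero (Algebra.TensorProduct.includeRight : G.left.functionField →ₐ[k] _)).symm)
        · exact Algebra.TensorProduct.includeLeft_injective (R := k) (S := k) (algebraMap k G.left.functionField).injective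
            (h.trans (map_zero (Algebra.TensorProduct.includeLeft : G.left.functionField →ₐ[k] _)).symm)
      | add x y hx hy =>
        obtain ⟨q, hq, p, hp⟩ := hx
        obtain ⟨q', hq', p', hp'⟩ := hy
        exact ⟨q * q', mul_ne_zero hq hq', p * q' + p' * q, by
          simp only [map_mul, map_add, ← hp, ← hp']; ring⟩
    refine (injective_iff_map_eq_zero lK).2 fun x hx => ?_
    obtain ⟨q, hq, p, hp⟩ := hden x
    have hp0 : p = 0 := (map_eq_zero_iff χ hχi).1 (by rw [hχ, AlgHom.comp_apply, ← hp, map_mul, hx, zero_mul])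
    rw [hp0, map_zero] at hp
    exact (mul_eq_zero.1 hp).resolve_right ((map_ne_zero_iff mB hmB).2 hq)
  · intro h
    rw [hχ]
    exact h.comp hmB

variable (G) in
/-- the doubled function field -/
abbrev Lam2 : Type u := Lam k G.left.functionField G.left.functionField

variable [GrpObj G]

include halg in
lemma gen_pair : haveI := isIntegral_prod G G
    (lift (pt halg (lamL k G.left.functionField G.left.functionField)) (pt halg (lamR k G.left.functionField G.left.functionField))).left
      (spPt0 (Lam2 G)) = genericPoint (G ⊗ G).left := by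
  rw [pt2_generic_iff halg]
  have : Algebra.TensorProduct.lift (lamL k G.left.functionField G.left.functionField)
      (lamR k G.left.functionField G.left.functionField) (fun _ _ => Commute.all _ _) =
      IsScalarTower.toAlgHom k _ (Lam2 G) := Algebra.TensorProduct.ext' fun p q => by
    rw [Algebra.TensorProduct.lift_tmul]; exact (algebraMap_tmul k _ _ p q).symm
  rw [this]
  exact IsFractionRing.injective _ _

/-- a homomorphism out of the doubled field -/
lemma exists_hom {F K Ω : Type u} [Field F] [Field K] [Field Ω] [Algebra k F] [Algebra k K] [Algebra k Ω]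
    [IsDomain (F ⊗[k] K)] (a : F →ₐ[k] Ω) (b : K →ₐ[k] Ω)
    (h : Function.Injective (Algebra.TensorProduct.lift a b fun _ _ => Commute.all _ _)) :
    ∃ θ : Lam k F K →ₐ[k] Ω, θ.comp (lamL k F K) = a ∧ θ.comp (lamR k F K) = b :=
  ⟨IsFractionRing.liftAlgHom h, AlgHom.ext fun f => by simp [IsFractionRing.liftAlgHom_apply],
    AlgHom.ext fun f => by simp [IsFractionRing.liftAlgHom_apply]⟩

lemma disj_injective {F K Ω : Type u} [Field F] [Field K] [Field Ω] [Algebra k F] [Algebra k K] [Algebra k Ω]
    {a : F →ₐ[k] Ω} {b : K →ₐ[k] Ω} {W : ValuationSubring Ω} (h : Disj a.toLinearMap b W) :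
    Function.Injective (Algebra.TensorProduct.lift a b fun _ _ => Commute.all _ _) := by
  classical
  refine (injective_iff_map_eq_zero _).2 fun x hx => ?_
  by_contra hne
  let bF := Module.Basis.ofVectorSpace k F
  let E := TensorProduct.equivFinsuppOfBasisLeft bF (N := K)
  have hs : (E x).support.Nonempty := Finsupp.support_nonempty_iff.2 ((LinearEquiv.map_ne_zero_iff E).2 hne)
  obtain ⟨i, hi⟩ := hs
  obtain ⟨i₀, -, h0, -, hv⟩ := h.scale (E x).support bF bF.linearIndependent (E x) ⟨i, hi, Finsupp.mem_support_iff.1 hi⟩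
  have h1 : (Algebra.TensorProduct.lift a b fun _ _ => Commute.all _ _) x =
      ∑ i ∈ (E x).support, a.toLinearMap (bF i) * b (E x i) := by
    conv_lhs => rw [← E.symm_apply_apply x]
    rw [TensorProduct.equivFinsuppOfBasisLeft_symm_apply, Finsupp.sum, map_sum]
    exact Finset.sum_congr rfl fun i _ => Algebra.TensorProduct.lift_tmul ..
  rw [← h1, hx, map_zero, eq_comm, map_eq_zero, map_eq_zero] at hv
  exact h0 hv

include halg in
/-- the multiplication and inversion as homomorphisms -/
theorem exists_maps : ∃ (mu : G.left.functionField →ₐ[k] Lam2 G) (io : G.left.functionField →ₐ[k] G.left.functionField)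
    (θ : Lam2 G →ₐ[k] Lam2 G),
    pt halg mu = pt halg (lamL k G.left.functionField G.left.functionField) * pt halg (lamR k G.left.functionField G.left.functionField) ∧
    pt halg io = (pt halg (AlgHom.id k G.left.functionField))⁻¹ ∧
    θ.comp (lamL k G.left.functionField G.left.functionField) = (lamL k G.left.functionField G.left.functionField).comp io ∧
    θ.comp (lamR k G.left.functionField G.left.functionField) = mu := by
  haveI := isIntegral_prod G G
  let L := lamL k G.left.functionField G.left.functionField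
  let R := lamR k G.left.functionField G.left.functionField
  have hsmu : Surjective (fst G G * snd G G).left := ⟨fun g => ⟨(lift (𝟙 G) 1).left g, by
    rw [← Scheme.Hom.comp_apply, ← Over.comp_left, MonObj.comp_mul, lift_fst, lift_snd, _root_.mul_one]; rfl⟩⟩
  obtain ⟨mu, hmu⟩ := exists_pt halg (pt halg L * pt halg R) (by
    rw [show pt halg L * pt halg R = lift (pt halg L) (pt halg R) ≫ (fst G G * snd G G) by
      rw [MonObj.comp_mul, lift_fst, lift_snd], Over.comp_left, Scheme.Hom.comp_apply, gen_pair halg,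
      generic_of_surjective])
  have hiso : IsIso (𝟙 G)⁻¹ := ⟨(𝟙 G)⁻¹, by constructor <;> rw [GrpObj.comp_inv, Category.comp_id, _root_.inv_inv]⟩
  have : Surjective (𝟙 G)⁻¹.left := by
    have : IsIso (𝟙 G)⁻¹.left := (Over.forget _).map_isIso (𝟙 G)⁻¹
    infer_instance
  obtain ⟨io, hio⟩ := exists_pt halg (pt halg (AlgHom.id k G.left.functionField))⁻¹ (by
    rw [show (pt halg (AlgHom.id k G.left.functionField))⁻¹ = pt halg (AlgHom.id k G.left.functionField) ≫ (𝟙 G)⁻¹ by
      rw [GrpObj.comp_inv, Category.comp_id], Over.comp_left, Scheme.Hom.comp_apply, pt_apply, generic_of_surjective])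
  let Φ : G ⊗ G ⟶ G ⊗ G := lift (fst G G)⁻¹ (fst G G * snd G G)
  have hΦ : Φ ≫ Φ = 𝟙 _ := by
    ext : 1
    · simp [Φ, GrpObj.comp_inv]
    · simp [Φ, MonObj.comp_mul, GrpObj.comp_inv]
  have : IsIso Φ := ⟨Φ, hΦ, hΦ⟩
  have : Surjective Φ.left := by
    have : IsIso Φ.left := (Over.forget _).map_isIso Φ
    infer_instance
  obtain ⟨θ, hθ1, hθ2⟩ := exists_hom (L.comp io) mu ((pt2_generic_iff halg _ _).1 (by
    rw [show lift (pt halg (L.comp io)) (pt halg mu) = lift (pt halg L) (pt halg R) ≫ Φ by
      have : pt halg (L.comp io) = (pt halg L)⁻¹ := by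
        rw [← pt_comp, hio, GrpObj.comp_inv, pt_comp, AlgHom.comp_id]
      ext : 1 <;> simp [Φ, this, hmu, MonObj.comp_mul, GrpObj.comp_inv],
      Over.comp_left, Scheme.Hom.comp_apply, gen_pair halg, generic_of_surjective]))
  exact ⟨mu, io, θ, hmu, hio, hθ1, hθ2⟩

lemma val_one_comap {Λ Λ' : Type u} [Field Λ] [Field Λ'] (f : Λ →+* Λ') (W' : ValuationSubring Λ') (x : Λ) :
    (W'.comap f).valuation x = 1 ↔ W'.valuation (f x) = 1 := by
  have key : ∀ (R : Type u) [Field R] (A : ValuationSubring R) (y : R), A.valuation y = 1 ↔ y ≠ 0 ∧ y ∈ A ∧ y⁻¹ ∈ A := by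
    intro R _ A y
    constructor
    · intro h
      refine ⟨fun h0 => by rw [h0, map_zero] at h; exact zero_ne_one h, (A.valuation_le_one_iff _).1 h.le, ?_⟩
      rw [← A.valuation_le_one_iff, map_inv₀, h, inv_one]
    · rintro ⟨h0, h1, h2⟩
      refine le_antisymm ((A.valuation_le_one_iff _).2 h1) ?_
      have h3 := (A.valuation_le_one_iff _).2 h2
      rwa [map_inv₀, inv_le_one₀ (zero_lt_iff.2 ((map_ne_zero A.valuation).2 h0))] at h3
  rw [key, key, ← map_inv₀, map_ne_zero]
  rfl

variable {mu : G.left.functionField →ₐ[k] Lam2 G} {io : G.left.functionField →ₐ[k] G.left.functionField}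
  {θ : Lam2 G →ₐ[k] Lam2 G}

/-- a Gauss extension in an opaque field -/
lemma exists_opaque {F K : Type u} [Field F] [Field K] [Algebra k F] [Algebra k K] (V : ValuationSubring K)
    (hk : ∀ c : k, algebraMap k K c ∈ V) :
    ∃ (Ω : Type u) (_ : Field Ω) (_ : Algebra k Ω) (a : F →ₐ[k] Ω) (b : K →ₐ[k] Ω) (W : ValuationSubring Ω),
      Disj a.toLinearMap b W ∧ W.comap b.toRingHom = V := by
  have := FBase64.isDomain_tensor_of_isAlgClosed k F K
  obtain ⟨W, h⟩ := exists_gauss (F := F) V hk fun κ _ _ => FBase64.isDomain_tensor_of_isAlgClosed k _ _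
  exact ⟨_, _, _, _, _, W, h⟩

include halg in
lemma pt_split {mu : G.left.functionField →ₐ[k] Lam2 G} (hmu : pt halg mu =
    pt halg (lamL k G.left.functionField G.left.functionField) * pt halg (lamR k G.left.functionField G.left.functionField))
    {Ω : Type u} [Field Ω] [Algebra k Ω] (ψ : Lam2 G →ₐ[k] Ω) :
    pt halg (ψ.comp mu) = pt halg (ψ.comp (lamL k G.left.functionField G.left.functionField)) *
      pt halg (ψ.comp (lamR k G.left.functionField G.left.functionField)) := by
  rw [← pt_comp halg ψ mu, hmu, MonObj.comp_mul, pt_comp, pt_comp]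

/-- The restriction along multiplication of a Gauss extension is stable under translations. -/
theorem exists_stable
    (hmu : pt halg mu = pt halg (lamL k G.left.functionField G.left.functionField) * pt halg (lamR k G.left.functionField G.left.functionField))
    (hio : pt halg io = (pt halg (AlgHom.id k G.left.functionField))⁻¹)
    (hθL : θ.comp (lamL k G.left.functionField G.left.functionField) = (lamL k G.left.functionField G.left.functionField).comp io)
    (hθR : θ.comp (lamR k G.left.functionField G.left.functionField) = mu)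
    (V : ValuationSubring G.left.functionField) (hk : ∀ c : k, algebraMap k G.left.functionField c ∈ V) :
    ∃ (W : ValuationSubring (Lam2 G)) (W' : ValuationSubring (Lam2 G)),
      Disj (lamL k G.left.functionField G.left.functionField).toLinearMap (lamR k G.left.functionField G.left.functionField) W ∧
      W.comap (lamR k G.left.functionField G.left.functionField).toRingHom = V ∧
      Disj (lamL k G.left.functionField G.left.functionField).toLinearMap (lamR k G.left.functionField G.left.functionField) W' ∧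
      W'.comap (lamR k G.left.functionField G.left.functionField).toRingHom = W.comap mu.toRingHom ∧
      W'.comap mu.toRingHom = W.comap mu.toRingHom ∧ W'.comap θ.toRingHom = W' := by
  classical
  let K := G.left.functionField
  let L := lamL k K K
  let R := lamR k K K
  have hdom : ∀ (κ : Type u) [Field κ] [Algebra k κ], IsDomain (K ⊗[k] κ) := fun κ _ _ =>
    FBase64.isDomain_tensor_of_isAlgClosed k _ _
  obtain ⟨W, hW, hWV⟩ := exists_gauss (F := K) V hk hdom
  let w := W.comap mu.toRingHom
  have hkw : ∀ c : k, algebraMap k K c ∈ w := fun c => by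
    show mu (algebraMap k K c) ∈ W
    rw [mu.commutes]; exact hW.algebraMap_mem c
  obtain ⟨W', hW', hW'w⟩ := exists_gauss (F := K) w hkw hdom
  obtain ⟨Ω, _, _, α₃, β₃, W₃, h₃, hW₃⟩ := exists_opaque (F := K) W (fun c => hW.algebraMap_mem c)
  have hD := hW.comp h₃ hW₃
  obtain ⟨ρ, hρL, hρR⟩ := exists_hom (Ω := Ω) α₃ (β₃.comp L)
    (show Function.Injective (Algebra.TensorProduct.lift α₃ (β₃.comp L) fun _ _ => Commute.all _ _).toLinearMap from hD.injective)
  have hρ : Disj ρ.toLinearMap (β₃.comp R) W₃ := by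
    refine hD.frac (D := K ⊗[k] K) ρ fun d => ?_
    exact congr($(show ρ.comp (IsScalarTower.toAlgHom k (K ⊗[k] K) (Lam2 G)) = Algebra.TensorProduct.lift α₃ (β₃.comp L) fun _ _ => Commute.all _ _ from
      Algebra.TensorProduct.ext' fun p q => by
        rw [AlgHom.comp_apply, IsScalarTower.coe_toAlgHom', algebraMap_tmul, map_mul, Algebra.TensorProduct.lift_tmul,
          ← hρL, ← hρR]
        rfl) d)
  -- the two maps to the triple field
  have hq0 : Disj α₃.toLinearMap (β₃.comp mu) W₃ := h₃.restrict mu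
  obtain ⟨q, hqL, hqR⟩ := exists_hom (Ω := Ω) α₃ (β₃.comp mu) (disj_injective hq0)
  let ν := ρ.comp mu
  have hs0 : Disj ν.toLinearMap (β₃.comp R) W₃ := hρ.precomp mu.toLinearMap mu.toRingHom.injective
  obtain ⟨s, hsL, hsR⟩ := exists_hom (Ω := Ω) ν (β₃.comp R) (disj_injective hs0)
  have h3 : ∀ x : Lam2 G, β₃ x ∈ W₃ ↔ x ∈ W := fun x => by rw [← hW₃]; rfl
  have hqW : W₃.comap q.toRingHom = W' := by
    refine hW'.comap_eq (gen_lam k K K) q ?_ fun c => ?_
    · rw [show q.toLinearMap.comp L.toLinearMap = α₃.toLinearMap by rw [← hqL]; rfl, show q.comp R = β₃.comp mu from hqR]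
      exact hq0
    · rw [← AlgHom.comp_apply, hqR, AlgHom.comp_apply, h3]
      show _ ↔ c ∈ W'.comap R.toRingHom
      rw [hW'w]; rfl
  have hsW : W₃.comap s.toRingHom = W := by
    refine hW.comap_eq (gen_lam k K K) s ?_ fun c => ?_
    · rw [show s.toLinearMap.comp L.toLinearMap = ν.toLinearMap by rw [← hsL]; rfl, show s.comp R = β₃.comp R from hsR]
      exact hs0
    · rw [← AlgHom.comp_apply, hsR, AlgHom.comp_apply, h3]
  have hassoc : q.comp mu = s.comp mu := by
    refine pt_injective halg ?_
    have hE := fun (ψ : Lam2 G →ₐ[k] Ω) => pt_split halg hmu ψ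
    rw [hE q, hE s, hqL, hqR, hsL, hsR, hE β₃, hE ρ, hρL, hρR, _root_.mul_assoc]
  have hmuW' : W'.comap mu.toRingHom = w := by
    ext c
    show mu c ∈ W' ↔ mu c ∈ W
    rw [← hqW, ← hsW]
    show q (mu c) ∈ W₃ ↔ s (mu c) ∈ W₃
    rw [← AlgHom.comp_apply, hassoc]
    rfl
  refine ⟨W, W', hW, hWV, hW', hW'w, hmuW', hW'.comap_eq (gen_lam k K K) θ ?_ fun c => ?_⟩
  swap
  · rw [← AlgHom.comp_apply, hθR]
    show c ∈ W'.comap mu.toRingHom ↔ c ∈ W'.comap R.toRingHom
    rw [hmuW', hW'w]
  -- disjointness after inversion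
  intro J t e a he ha hu
  rw [show θ.comp R = mu from hθR] at ha hu ⊢
  rw [show θ.toLinearMap.comp L.toLinearMap = (L.comp io).toLinearMap by rw [← hθL]; rfl]
  -- common denominators
  obtain ⟨⟨D, hD0⟩, hDe⟩ := IsLocalization.exist_integer_multiples (nonZeroDivisors (K ⊗[k] K)) t fun i => mu (a i)
  have hDe' : ∀ i : t, ∃ A : K ⊗[k] K, algebraMap _ (Lam2 G) A = algebraMap _ (Lam2 G) D * mu (a i) := fun i => by
    obtain ⟨A, hA⟩ := hDe i i.2
    exact ⟨A, by rw [hA, Algebra.smul_def]⟩
  choose A hA using hDe'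
  let bF := Module.Basis.ofVectorSpace k K
  let E := TensorProduct.equivFinsuppOfBasisLeft bF (N := K)
  let Q := (E D).support ∪ Finset.univ.biUnion fun i : t => (E (A i)).support
  have hexp : ∀ x : K ⊗[k] K, (E x).support ⊆ Q →
      algebraMap (K ⊗[k] K) (Lam2 G) x = ∑ l ∈ Q, L.toLinearMap (bF l) * R (E x l) := by
    intro x hx
    conv_lhs => rw [← E.symm_apply_apply x]
    rw [TensorProduct.equivFinsuppOfBasisLeft_symm_apply, Finsupp.sum_of_support_subset _ hx _ (by simp), map_sum]
    exact Finset.sum_congr rfl fun i _ => algebraMap_tmul k K K _ _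
  have hD1 := hexp D Finset.subset_union_left
  have hne : ∃ l ∈ Q, E D l ≠ 0 := exists_ne_zero_of_sum_ne_zero (α := L.toLinearMap) (β := R) (e := fun l => bF l) (b := E D) (by
    rw [← hD1]; exact (map_ne_zero_iff _ (IsFractionRing.injective _ _)).2 (nonZeroDivisors.ne_zero hD0))
  obtain ⟨l₀, hl₀, hd0, hdin, -⟩ := hW.scale Q (fun l => bF l) bF.linearIndependent (E D) hne
  let cD : _ → K := fun l => E D l / E D l₀
  let cA : t → _ → K := fun i l => E (A i) l / E D l₀
  let xD := ∑ l ∈ Q, L.toLinearMap (bF l) * R (cD l)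
  let xA := fun i : t => ∑ l ∈ Q, L.toLinearMap (bF l) * R (cA i l)
  have hdiv : ∀ c : _ → K, (∑ l ∈ Q, L.toLinearMap (bF l) * R (c l / E D l₀)) =
      (∑ l ∈ Q, L.toLinearMap (bF l) * R (c l)) / R (E D l₀) := fun c => by
    rw [Finset.sum_div]
    exact Finset.sum_congr rfl fun i _ => by rw [map_div₀, mul_div_assoc]
  have hrel : ∀ i : t, mu (a i) * xD = xA i := fun i => by
    simp only [xD, xA, cD, cA]
    rw [hdiv, hdiv, ← hD1, ← hexp (A i) ((Finset.subset_biUnion_of_mem (fun i : t => (E (A i)).support) (Finset.mem_univ i)).trans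
      Finset.subset_union_right), hA, ← mul_div_assoc, mul_comm]
  have hxD : W.valuation xD = 1 := hW _ Q _ cD bF.linearIndependent hdin ⟨l₀, hl₀, by simp only [cD, div_self hd0, map_one]⟩
  have haW : ∀ i ∈ t, mu (a i) ∈ W := fun i hi => by
    show a i ∈ w
    rw [← hmuW']; exact ha i hi
  have hcA : ∀ i : t, ∀ l ∈ Q, R (cA i l) ∈ W := fun i => by
    refine hW.mem_of_sum_mem Q _ bF.linearIndependent _ ?_
    show W.valuation (xA i) ≤ 1
    rw [← hrel, map_mul, hxD, _root_.mul_one]
    exact (W.valuation_le_one_iff _).2 (haW i i.2)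
  obtain ⟨i₁, hi₁, hu1⟩ := hu
  have hu2 : W.valuation (mu (a i₁)) = 1 := by
    have h4 : (W'.comap mu.toRingHom).valuation (a i₁) = 1 := (val_one_comap _ _ _).2 hu1
    rw [hmuW'] at h4
    exact (val_one_comap _ _ _).1 h4
  obtain ⟨l₁, hl₁, hl₁v⟩ : ∃ l ∈ Q, W.valuation (R (cA ⟨i₁, hi₁⟩ l)) = 1 := by
    have h5 : W.valuation (xA ⟨i₁, hi₁⟩) = 1 := by rw [← hrel, map_mul, hxD, hu2, _root_.mul_one]
    obtain ⟨l₁, hl₁, -, -, hv⟩ := hW.scale Q (fun l => bF l) bF.linearIndependent (cA ⟨i₁, hi₁⟩) (by
      refine exists_ne_zero_of_sum_ne_zero (α := L.toLinearMap) (β := R) (e := fun l => bF l) fun h0 => ?_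
      rw [show xA ⟨i₁, hi₁⟩ = 0 from h0, map_zero] at h5; exact zero_ne_one h5)
    exact ⟨l₁, hl₁, hv.symm.trans h5⟩
  -- compute in the triple field
  have hsmu : ∀ i, q (mu (a i)) = s (mu (a i)) := fun i => by rw [← AlgHom.comp_apply, hassoc]; rfl
  suffices key : W₃.valuation (q (∑ i ∈ t, (L.comp io).toLinearMap (e i) * mu (a i))) = 1 by
    have := (val_one_comap q.toRingHom W₃ _).2 key
    rwa [hqW] at this
  have hsD : W₃.valuation (s xD) = 1 := by
    have : (W₃.comap s.toRingHom).valuation xD = 1 := by rw [hsW]; exact hxD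
    exact (val_one_comap _ _ _).1 this
  -- the independent family
  let P : t × (Module.Basis.ofVectorSpaceIndex k K) → Lam2 G := fun p => θ (L (e p.1) * R (bF p.2))
  have hP : LinearIndependent k P := by
    have h1 : LinearIndependent k fun p : t × (Module.Basis.ofVectorSpaceIndex k K) => e p.1 ⊗ₜ[k] bF p.2 :=
      (he.comp _ Subtype.val_injective).tmul_of_isDomain bF.linearIndependent
    have h2 := h1.map' (θ.comp (IsScalarTower.toAlgHom k (K ⊗[k] K) (Lam2 G))).toLinearMap
      (LinearMap.ker_eq_bot.2 (θ.toRingHom.injective.comp (IsFractionRing.injective _ _)))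
    refine (linearIndependent_equiv' (Equiv.refl _) ?_).1 h2
    funext p
    simp only [P, Function.comp_apply, Equiv.refl_apply, AlgHom.toLinearMap_apply, AlgHom.comp_apply,
      IsScalarTower.coe_toAlgHom']
    exact (congrArg θ (algebraMap_tmul k K K (e p.1) (bF p.2))).symm
  have hN : q (∑ i ∈ t, (L.comp io).toLinearMap (e i) * mu (a i)) * s xD =
      ∑ p ∈ (Finset.univ : Finset t) ×ˢ Q, ρ.toLinearMap (P p) * (β₃.comp R) (cA p.1 p.2) := by
    rw [map_sum, Finset.sum_mul, Finset.sum_product, ← Finset.sum_coe_sort t]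
    refine Finset.sum_congr rfl fun i _ => ?_
    rw [map_mul, _root_.mul_assoc, hsmu, ← map_mul, hrel]
    simp only [xA, map_sum, Finset.mul_sum, map_mul, AlgHom.toLinearMap_apply]
    refine Finset.sum_congr rfl fun l _ => ?_
    have e1 : q ((L.comp io) (e i)) = α₃ (io (e i)) := congr($hqL (io (e i)))
    have e2 : s (L (bF l)) = ρ (mu (bF l)) := congr($hsL (bF l))
    have e3 : s (R (cA i l)) = (β₃.comp R) (cA i l) := congr($hsR _)
    have e4 : ρ (θ (L (e i))) = α₃ (io (e i)) := by
      rw [show θ (L (e i)) = L (io (e i)) from congr($hθL (e i))]; exact congr($hρL _)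
    have e5 : θ (R (bF l)) = mu (bF l) := congr($hθR (bF l))
    rw [e1, e2, e3, show P (i, l) = θ (L (e i) * R (bF l)) from rfl, map_mul θ, map_mul ρ, e4, e5, _root_.mul_assoc]
  have h6 := hρ _ ((Finset.univ : Finset t) ×ˢ Q) P (fun p => cA p.1 p.2) hP
    (fun p hp => (h3 _).2 (hcA p.1 p.2 (Finset.mem_product.1 hp).2)) ⟨(⟨i₁, hi₁⟩, l₁), Finset.mem_product.2 ⟨Finset.mem_univ _, hl₁⟩, by
      have : (W₃.comap β₃.toRingHom).valuation (R (cA ⟨i₁, hi₁⟩ l₁)) = 1 := by rw [hW₃]; exact hl₁v
      exact (val_one_comap β₃.toRingHom W₃ _).1 this⟩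
  rw [← hN, map_mul, hsD, _root_.mul_one] at h6
  exact h6

end

end Groth.Agent.AlgGrp33.DivField
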