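import Mathlib

/-! Fixed points of a finite group of invertible order on a smooth algebra are smooth. -/

set_option autoImplicit false

universe u v

namespace Groth.Agent.AlgGrp33.FixedFinite

variable {R A : Type u} [CommRing R] [CommRing A] [Algebra R A] {G : Type v}

/-- the ideal cutting out the fixed points -/
def fixIdeal (σ : G → A →ₐ[R] A) : Ideal A :=
  Ideal.span {b | ∃ g a, b = σ g a - a}

lemma mk_apply (σ : G → A →ₐ[R] A) (g : G) (a : A) :
    Ideal.Quotient.mk (fixIdeal σ) (σ g a) = Ideal.Quotient.mk (fixIdeal σ) a :=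
  Ideal.Quotient.eq.mpr (Ideal.subset_span ⟨g, a, rfl⟩)

lemma fixIdeal_fg [Algebra.FiniteType R A] [Finite G] (σ : G → A →ₐ[R] A) :
    (fixIdeal σ).FG := by
  classical
  have := Fintype.ofFinite G
  obtain ⟨s, hs⟩ := Algebra.FiniteType.out (R := R) (A := A)
  let F : Finset A := (Finset.univ ×ˢ s).image fun p : G × A ↦ σ p.1 p.2 - p.2
  refine ⟨F, le_antisymm (Ideal.span_mono ?_) (Ideal.span_le.mpr ?_)⟩
  · intro b hb
    simp only [F, Finset.coe_image, Set.mem_image, Finset.mem_coe, Finset.mem_product] at hb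
    obtain ⟨⟨g, a⟩, -, rfl⟩ := hb
    exact ⟨g, a, rfl⟩
  · rintro b ⟨g, a, rfl⟩
    let π := Ideal.Quotient.mkₐ R (Ideal.span (F : Set A))
    have h : π.comp (σ g) = π := by
      refine AlgHom.ext_of_adjoin_eq_top hs fun x hx ↦ ?_
      refine Ideal.Quotient.eq.mpr (Ideal.subset_span ?_)
      simp only [F, Finset.coe_image, Set.mem_image, Finset.mem_coe, Finset.mem_product]
      exact ⟨(g, x), ⟨Finset.mem_univ _, hx⟩, rfl⟩
    exact Ideal.Quotient.eq.mp (DFunLike.congr_fun h a)

theorem smooth_quot_fix [Group G] [Finite G] [Algebra.Smooth R A] (σ : G → A →ₐ[R] A)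
    (hmul : ∀ g h, (σ h).comp (σ g) = σ (g * h)) (hn : IsUnit ((Nat.card G : ℕ) : R)) :
    Algebra.Smooth R (A ⧸ fixIdeal σ) where
  finitePresentation := Algebra.FinitePresentation.quotient (fixIdeal_fg σ)
  formallySmooth := by
    classical
    have := Fintype.ofFinite G
    refine Algebra.FormallySmooth.of_comp_surjective fun B _ _ J hJ f₀ ↦ ?_
    obtain ⟨f, hf⟩ := Algebra.FormallySmooth.comp_surjective R A J hJ
      (f₀.comp (Ideal.Quotient.mkₐ R _))
    obtain ⟨v, hv⟩ := hn.exists_left_inv
    set u : B := algebraMap R B v with hu_def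
    have hu : u * (Nat.card G : B) = 1 := by
      rw [hu_def, ← map_natCast (algebraMap R B), ← map_mul, hv, map_one]
    have hJJ : ∀ {x y : B}, x ∈ J → y ∈ J → x * y = 0 := fun hx hy ↦ by
      have := Ideal.mul_mem_mul hx hy
      rwa [← pow_two, hJ, Ideal.mem_bot] at this
    have hfJ : ∀ a, Ideal.Quotient.mk J (f a) = f₀ (Ideal.Quotient.mk _ a) :=
      fun a ↦ DFunLike.congr_fun hf a
    have hd : ∀ g a, f (σ g a) - f a ∈ J := fun g a ↦ by
      refine Ideal.Quotient.eq.mp ?_
      rw [hfJ, hfJ, mk_apply]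
    let D : A → B := fun a ↦ u * ∑ g, (f (σ g a) - f a)
    have hD : ∀ a, D a ∈ J := fun a ↦ J.mul_mem_left _ (J.sum_mem fun g _ ↦ hd g a)
    have hD' : ∀ a, f a + D a = u * ∑ g, f (σ g a) := fun a ↦ by
      simp only [D, Finset.sum_sub_distrib, Finset.sum_const, Finset.card_univ, nsmul_eq_mul]
      rw [← Nat.card_eq_fintype_card]
      linear_combination (-(f a)) * hu
    have hDmul : ∀ a b, D (a * b) = f a * D b + f b * D a := fun a b ↦ by
      simp only [D, Finset.mul_sum, ← Finset.sum_add_distrib]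
      refine Finset.sum_congr rfl fun g _ ↦ ?_
      have h0 := hJJ (hd g a) (hd g b)
      rw [map_mul, map_mul, map_mul]
      linear_combination u * h0
    let f₁ : A →ₐ[R] B :=
      { toFun := fun a ↦ f a + D a
        map_one' := by simp [D]
        map_mul' := fun a b ↦ by
          have h0 := hJJ (hD a) (hD b)
          simp only [hDmul, map_mul]
          linear_combination -h0
        map_zero' := by simp [D]
        map_add' := fun a b ↦ by
          simp only [D, map_add, Finset.sum_add_distrib, Finset.sum_sub_distrib]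
          ring
        commutes' := fun r ↦ by simp [D] }
    have hf₁ : ∀ g a, f₁ (σ g a) = f₁ a := fun g a ↦ by
      change f (σ g a) + D (σ g a) = f a + D a
      rw [hD', hD']
      congr 1
      exact (Finset.sum_congr rfl fun h _ ↦ show f (σ h (σ g a)) = f (σ (g * h) a) by
        rw [← hmul g h]; rfl).trans (Equiv.sum_comp (Equiv.mulLeft g) fun h ↦ f (σ h a))
    have hle : fixIdeal σ ≤ RingHom.ker f₁ := by
      refine Ideal.span_le.mpr ?_
      rintro _ ⟨g, a, rfl⟩
      simp [RingHom.mem_ker, map_sub, hf₁]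
    refine ⟨Ideal.Quotient.liftₐ _ f₁ hle, ?_⟩
    refine Ideal.Quotient.algHom_ext R ?_
    ext a
    change Ideal.Quotient.mk J (f a + D a) = f₀ (Ideal.Quotient.mk _ a)
    rw [map_add, hfJ, Ideal.Quotient.eq_zero_iff_mem.mpr (hD a), add_zero]

end Groth.Agent.AlgGrp33.FixedFinite
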