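import Mathlib

/-!
Gauss extensions of a valuation ring to the function field of a product, and their functoriality.
-/

set_option autoImplicit false
set_option linter.unusedSectionVars false
set_option maxHeartbeats 1600000
universe u v

open scoped TensorProduct

namespace Groth.Agent.AlgGrp33.Gauss

noncomputable section

variable {k : Type u} [Field k]

/-- `M` is residually linearly disjoint from `K` in `(Λ, W)`. -/
def Disj {M : Type v} [AddCommGroup M] [Module k M] {K Λ : Type u} [Field K] [Field Λ] [Algebra k K] [Algebra k Λ]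
    (α : M →ₗ[k] Λ) (β : K →ₐ[k] Λ) (W : ValuationSubring Λ) : Prop :=
  ∀ (ι : Type v) (s : Finset ι) (e : ι → M) (a : ι → K), LinearIndependent k e → (∀ i ∈ s, β (a i) ∈ W) →
    (∃ i ∈ s, W.valuation (β (a i)) = 1) → W.valuation (∑ i ∈ s, α (e i) * β (a i)) = 1

section

variable {M : Type v} [AddCommGroup M] [Module k M] {K Λ : Type u} [Field K] [Field Λ] [Algebra k K] [Algebra k Λ]
  {α : M →ₗ[k] Λ} {β : K →ₐ[k] Λ} {W : ValuationSubring Λ}

lemma Disj.val_eq_one (h : Disj α β W) {x : M} (hx : x ≠ 0) : W.valuation (α x) = 1 := by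
  have := h PUnit {PUnit.unit} (fun _ => x) (fun _ => 1) (linearIndependent_unique_iff.2 hx)
    (fun i _ => by rw [map_one]; exact W.one_mem) ⟨PUnit.unit, by simp, by simp⟩
  simpa using this

lemma Disj.injective (h : Disj α β W) : Function.Injective α := by
  refine (injective_iff_map_eq_zero α).2 fun x hx => ?_
  by_contra hne
  have := h.val_eq_one hne
  rw [hx, map_zero] at this
  exact zero_ne_one this

/-- the value of a combination is the largest value of a coefficient -/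
lemma Disj.scale (h : Disj α β W) {ι : Type v} (s : Finset ι) (e : ι → M) (he : LinearIndependent k e) (a : ι → K)
    (hne : ∃ i ∈ s, a i ≠ 0) :
    ∃ i₀ ∈ s, a i₀ ≠ 0 ∧ (∀ i ∈ s, β (a i / a i₀) ∈ W) ∧
      W.valuation (∑ i ∈ s, α (e i) * β (a i)) = W.valuation (β (a i₀)) := by
  obtain ⟨j, hjs, hj⟩ := hne
  obtain ⟨i₀, hi₀, hmax⟩ := s.exists_max_image (fun i => W.valuation (β (a i))) ⟨j, hjs⟩
  have h0 : a i₀ ≠ 0 := by
    intro h0
    have h1 := hmax j hjs
    rw [h0, map_zero, map_zero, le_zero_iff, map_eq_zero, map_eq_zero] at h1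
    exact hj h1
  have hb : β (a i₀) ≠ 0 := (map_ne_zero β).2 h0
  have hv : W.valuation (β (a i₀)) ≠ 0 := (map_ne_zero W.valuation).2 hb
  have hin : ∀ i ∈ s, β (a i / a i₀) ∈ W := fun i hi => by
    rw [← W.valuation_le_one_iff, map_div₀, map_div₀]
    exact div_le_one_of_le₀ (hmax i hi) zero_le
  refine ⟨i₀, hi₀, h0, hin, ?_⟩
  have h1 := h ι s e (fun i => a i / a i₀) he hin ⟨i₀, hi₀, by simp [div_self h0]⟩
  have e1 : (∑ i ∈ s, α (e i) * β (a i)) = β (a i₀) * ∑ i ∈ s, α (e i) * β (a i / a i₀) := by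
    rw [Finset.mul_sum]
    refine Finset.sum_congr rfl fun i _ => ?_
    rw [map_div₀]
    field_simp
  rw [e1, map_mul, h1, mul_one]

lemma Disj.mem_of_sum_mem (h : Disj α β W) {ι : Type v} (s : Finset ι) (e : ι → M) (he : LinearIndependent k e)
    (a : ι → K) (hs : W.valuation (∑ i ∈ s, α (e i) * β (a i)) ≤ 1) : ∀ i ∈ s, β (a i) ∈ W := by
  intro i hi
  by_cases hai : a i = 0
  · rw [hai, map_zero]; exact W.zero_mem
  obtain ⟨i₀, -, h0, hin, hv⟩ := h.scale s e he a ⟨i, hi, hai⟩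
  rw [← W.valuation_le_one_iff]
  have h1 := (W.valuation_le_one_iff _).2 (hin i hi)
  rw [map_div₀, map_div₀, div_le_one₀ (zero_lt_iff.2 ((map_ne_zero W.valuation).2 ((map_ne_zero β).2 h0)))] at h1
  exact h1.trans (hv ▸ hs)

lemma Disj.precomp (h : Disj α β W) {M' : Type v} [AddCommGroup M'] [Module k M'] (θ : M' →ₗ[k] M)
    (hθ : Function.Injective θ) : Disj (α.comp θ) β W :=
  fun ι s e a he ha hu => h ι s (fun i => θ (e i)) a (he.map' θ (LinearMap.ker_eq_bot.2 hθ)) ha hu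

lemma Disj.restrict (h : Disj α β W) {K' : Type u} [Field K'] [Algebra k K'] (φ : K' →ₐ[k] K) : Disj α (β.comp φ) W :=
  fun ι s e a he ha hu => h ι s e (fun i => φ (a i)) he ha hu

lemma Disj.algebraMap_mem {F : Type u} [Field F] [Algebra k F] {α : F →ₐ[k] Λ} (h : Disj α.toLinearMap β W) (c : k) :
    algebraMap k Λ c ∈ W := by
  by_cases hc : c = 0
  · rw [hc, map_zero]; exact W.zero_mem
  rw [← W.valuation_le_one_iff, ← α.commutes]
  exact le_of_eq (h.val_eq_one ((map_ne_zero (algebraMap k F)).2 hc))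

/-- the valuation ring is generated: every element is a fraction of combinations -/
def Gen (α : M →ₗ[k] Λ) (β : K →ₐ[k] Λ) : Prop :=
  ∀ x : Λ, ∃ (ι : Type v) (s : Finset ι) (e : ι → M) (a b : ι → K), LinearIndependent k e ∧
    (∑ i ∈ s, α (e i) * β (b i)) ≠ 0 ∧ x * (∑ i ∈ s, α (e i) * β (b i)) = ∑ i ∈ s, α (e i) * β (a i)

lemma exists_ne_zero_of_sum_ne_zero {ι : Type v} {s : Finset ι} {e : ι → M} {b : ι → K}
    (h : (∑ i ∈ s, α (e i) * β (b i)) ≠ 0) : ∃ i ∈ s, b i ≠ 0 := by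
  obtain ⟨i, hi, hne⟩ := Finset.exists_ne_zero_of_sum_ne_zero h
  exact ⟨i, hi, fun h0 => hne (by rw [h0, map_zero, mul_zero])⟩

/-- integral elements are fractions with integral coefficients -/
lemma Disj.exists_repr (h : Disj α β W) (hg : Gen α β) {x : Λ} (hx : x ∈ W) :
    ∃ (ι : Type v) (s : Finset ι) (e : ι → M) (a b : ι → K), LinearIndependent k e ∧ (∀ i ∈ s, β (a i) ∈ W) ∧
      (∀ i ∈ s, β (b i) ∈ W) ∧ (∃ i ∈ s, W.valuation (β (b i)) = 1) ∧
      x * (∑ i ∈ s, α (e i) * β (b i)) = ∑ i ∈ s, α (e i) * β (a i) := by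
  obtain ⟨ι, s, e, a, b, he, hne, hxe⟩ := hg x
  obtain ⟨i₀, hi₀, h0, hin, -⟩ := h.scale s e he b (exists_ne_zero_of_sum_ne_zero hne)
  have e1 : ∀ c : ι → K, (∑ i ∈ s, α (e i) * β (c i / b i₀)) = (∑ i ∈ s, α (e i) * β (c i)) / β (b i₀) := fun c => by
    rw [Finset.sum_div]
    exact Finset.sum_congr rfl fun i _ => by rw [map_div₀, mul_div_assoc]
  have heq : x * (∑ i ∈ s, α (e i) * β (b i / b i₀)) = ∑ i ∈ s, α (e i) * β (a i / b i₀) := by
    rw [e1, e1, ← hxe, mul_div_assoc]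
  have hu : ∃ i ∈ s, W.valuation (β (b i / b i₀)) = 1 := ⟨i₀, hi₀, by simp [div_self h0]⟩
  refine ⟨ι, s, e, _, _, he, ?_, hin, hu, heq⟩
  refine h.mem_of_sum_mem s e he _ ?_
  rw [← heq, map_mul, h ι s e _ he hin hu, mul_one]
  exact (W.valuation_le_one_iff x).2 hx

/-- a Gauss extension is determined by its restriction -/
theorem Disj.comap_eq (h : Disj α β W) (hg : Gen α β) {Λ' : Type u} [Field Λ'] [Algebra k Λ'] {W' : ValuationSubring Λ'}
    (θ : Λ →ₐ[k] Λ') (h' : Disj (θ.toLinearMap.comp α) (θ.comp β) W')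
    (hVV : ∀ c : K, θ (β c) ∈ W' ↔ β c ∈ W) : W'.comap θ.toRingHom = W := by
  ext x
  show θ x ∈ W' ↔ x ∈ W
  obtain ⟨ι, s, e, a, b, he, hne, hxe⟩ := hg x
  obtain ⟨i₀, hi₀, hb0, hbin, hbv⟩ := h.scale s e he b (exists_ne_zero_of_sum_ne_zero hne)
  by_cases ha : ∃ i ∈ s, a i ≠ 0
  swap
  · push Not at ha
    rw [show (∑ i ∈ s, α (e i) * β (a i)) = 0 from
      Finset.sum_eq_zero (fun i hi => by rw [ha i hi, map_zero, mul_zero])] at hxe
    rw [(mul_eq_zero.1 hxe).resolve_right hne, map_zero]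
    exact ⟨fun _ => W.zero_mem, fun _ => W'.zero_mem⟩
  obtain ⟨i₁, hi₁, ha1, hain, hav⟩ := h.scale s e he a ha
  have key : ∀ (c : ι → K) (j : ι), j ∈ s → c j ≠ 0 → (∀ i ∈ s, β (c i / c j) ∈ W) →
      W'.valuation (θ (∑ i ∈ s, α (e i) * β (c i))) = W'.valuation (θ (β (c j))) := by
    intro c j hj hcj hc
    have h1 := h' ι s e (fun i => c i / c j) he (fun i hi => (hVV _).2 (hc i hi)) ⟨j, hj, by simp [div_self hcj]⟩
    have e1 : θ (∑ i ∈ s, α (e i) * β (c i)) =
        θ (β (c j)) * ∑ i ∈ s, θ.toLinearMap.comp α (e i) * θ.comp β (c i / c j) := by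
      have hne : θ (β (c j)) ≠ 0 := (map_ne_zero θ).2 ((map_ne_zero β).2 hcj)
      rw [map_sum, Finset.mul_sum]
      refine Finset.sum_congr rfl fun i _ => ?_
      simp only [LinearMap.comp_apply, AlgHom.toLinearMap_apply, AlgHom.comp_apply, map_mul, map_div₀]
      field_simp
    rw [e1, map_mul, h1, mul_one]
  have hv1 : W.valuation x * W.valuation (β (b i₀)) = W.valuation (β (a i₁)) := by rw [← hbv, ← map_mul, hxe, hav]
  have hv2 : W'.valuation (θ x) * W'.valuation (θ (β (b i₀))) = W'.valuation (θ (β (a i₁))) := by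
    rw [← key b i₀ hi₀ hb0 hbin, ← map_mul, ← map_mul, hxe, key a i₁ hi₁ ha1 hain]
  have hb' : W.valuation (β (b i₀)) ≠ 0 := (map_ne_zero W.valuation).2 ((map_ne_zero β).2 hb0)
  have hb'' : W'.valuation (θ (β (b i₀))) ≠ 0 :=
    (map_ne_zero W'.valuation).2 ((map_ne_zero θ).2 ((map_ne_zero β).2 hb0))
  rw [← W'.valuation_le_one_iff, ← W.valuation_le_one_iff, eq_div_of_mul_eq hb' hv1, eq_div_of_mul_eq hb'' hv2]
  simp only [← map_div₀]
  rw [W'.valuation_le_one_iff, W.valuation_le_one_iff]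
  exact hVV _

/-- the fraction field of a domain inherits disjointness -/
theorem Disj.frac {D : Type u} [CommRing D] [IsDomain D] [Algebra k D] {F : Type u} [Field F] [Algebra k F]
    [Algebra D F] [IsScalarTower k D F] [IsFractionRing D F] {ρ : D →ₐ[k] Λ} (h : Disj ρ.toLinearMap β W)
    (ρ' : F →ₐ[k] Λ) (hρ : ∀ d, ρ' (algebraMap D F d) = ρ d) : Disj ρ'.toLinearMap β W := by
  classical
  intro ι s e a he ha hu
  obtain ⟨⟨B, hB⟩, hBe⟩ := IsLocalization.exist_integer_multiples (nonZeroDivisors D) s e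
  have hB0 : B ≠ 0 := nonZeroDivisors.ne_zero hB
  have hBe' : ∀ i : s, ∃ A : D, algebraMap D F A = algebraMap D F B * e i := fun i => by
    obtain ⟨A, hA⟩ := hBe i i.2
    exact ⟨A, by rw [hA, Algebra.smul_def]⟩
  choose A hA using hBe'
  have hAind : LinearIndependent k A := by
    refine LinearIndependent.of_comp (IsScalarTower.toAlgHom k D F).toLinearMap ?_
    have : (IsScalarTower.toAlgHom k D F).toLinearMap ∘ A =
        (LinearMap.mulLeft k (algebraMap D F B)) ∘ fun i : s => e i := by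
      funext i; exact hA i
    rw [this]
    refine (he.comp _ Subtype.val_injective).map' _ (LinearMap.ker_eq_bot.2 fun x y hxy => ?_)
    exact mul_left_cancel₀ ((map_ne_zero_iff _ (IsFractionRing.injective D F)).2 hB0) hxy
  have h1 := h s Finset.univ A (fun i => a i) hAind (fun i _ => ha i i.2) (by
    obtain ⟨i, hi, hv⟩ := hu; exact ⟨⟨i, hi⟩, Finset.mem_univ _, hv⟩)
  have e1 : (∑ i : s, ρ.toLinearMap (A i) * β (a i)) = ρ B * ∑ i ∈ s, ρ'.toLinearMap (e i) * β (a i) := by
    rw [Finset.mul_sum, ← Finset.sum_coe_sort s]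
    refine Finset.sum_congr rfl fun i _ => ?_
    rw [AlgHom.toLinearMap_apply, AlgHom.toLinearMap_apply, ← mul_assoc, ← hρ, ← hρ, ← map_mul, hA i]
  have hBv : W.valuation (ρ B) = 1 := h.val_eq_one hB0
  rw [e1, map_mul, hBv, one_mul] at h1
  exact h1

end

section Comp

variable {F F' K Λ Λ₂ : Type u} [Field F] [Field F'] [Field K] [Field Λ] [Field Λ₂] [Algebra k F] [Algebra k F']
  [Algebra k K] [Algebra k Λ] [Algebra k Λ₂]

/-- iterated Gauss extensions -/
theorem Disj.comp {α : F →ₐ[k] Λ} {β : K →ₐ[k] Λ} {W : ValuationSubring Λ} {α₂ : F' →ₐ[k] Λ₂} {β₂ : Λ →ₐ[k] Λ₂}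
    {W₂ : ValuationSubring Λ₂} (h : Disj α.toLinearMap β W) (h₂ : Disj α₂.toLinearMap β₂ W₂)
    (hW : W₂.comap β₂.toRingHom = W) :
    Disj (Algebra.TensorProduct.lift α₂ (β₂.comp α) fun _ _ => Commute.all _ _).toLinearMap (β₂.comp β) W₂ := by
  classical
  intro ι s e a he ha hu
  have hmem : ∀ x : Λ, β₂ x ∈ W₂ ↔ x ∈ W := fun x => by rw [← hW]; rfl
  have hunit : ∀ x : Λ, W.valuation x < 1 → W₂.valuation (β₂ x) < 1 := fun x hx => by
    rcases eq_or_ne x 0 with rfl | hx0
    · simp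
    rw [lt_iff_not_ge] at hx ⊢
    intro hle
    refine hx ?_
    have h1 : W₂.valuation ((β₂ x)⁻¹) ≤ 1 := by
      rw [map_inv₀]; exact inv_le_one_of_one_le₀ hle
    rw [← map_inv₀, W₂.valuation_le_one_iff, hmem, ← W.valuation_le_one_iff, map_inv₀] at h1
    exact (inv_le_one₀ (zero_lt_iff.2 ((map_ne_zero W.valuation).2 hx0))).1 h1
  let bF := Module.Basis.ofVectorSpace k F
  let bF' := Module.Basis.ofVectorSpace k F'
  let bb := bF'.tensorProduct bF
  let S := s.biUnion fun i => (bb.repr (e i)).support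
  let R := S.image Prod.fst
  let R' := S.image Prod.snd
  let c : _ → K := fun p => ∑ i ∈ s, bb.repr (e i) p • a i
  have hexp : ∀ i ∈ s, e i = ∑ p ∈ R ×ˢ R', bb.repr (e i) p • bb p := fun i hi => by
    conv_lhs => rw [← bb.linearCombination_repr (e i)]
    rw [Finsupp.linearCombination_apply, Finsupp.sum]
    refine Finset.sum_subset (fun p hp => Finset.mem_product.2 ⟨?_, ?_⟩) fun p _ hp => ?_
    · exact Finset.mem_image_of_mem _ (Finset.mem_biUnion.2 ⟨i, hi, hp⟩)
    · exact Finset.mem_image_of_mem _ (Finset.mem_biUnion.2 ⟨i, hi, hp⟩)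
    · rw [Finsupp.notMem_support_iff.1 hp, zero_smul]
  let x : _ → Λ := fun r => ∑ q ∈ R', α (bF q) * β (c (r, q))
  have haW : ∀ i ∈ s, β (a i) ∈ W := fun i hi => (hmem _).1 (ha i hi)
  have hcW : ∀ p, β (c p) ∈ W := fun p => by
    rw [map_sum]
    refine sum_mem fun i hi => ?_
    rw [map_smul, Algebra.smul_def]
    exact W.mul_mem _ _ (h.algebraMap_mem _) (haW i hi)
  have hxW : ∀ r, x r ∈ W := fun r => sum_mem fun q _ =>
    W.mul_mem _ _ ((W.valuation_le_one_iff _).1 (le_of_eq (h.val_eq_one (bF.ne_zero q)))) (hcW _)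
  have hsum : (∑ i ∈ s, (Algebra.TensorProduct.lift α₂ (β₂.comp α) fun _ _ => Commute.all _ _).toLinearMap (e i) *
      (β₂.comp β) (a i)) = ∑ r ∈ R, α₂ (bF' r) * β₂ (x r) := by
    calc _ = ∑ i ∈ s, ∑ p ∈ R ×ˢ R', (bb.repr (e i) p • (α₂ (bF' p.1) * β₂ (α (bF p.2)))) * β₂ (β (a i)) := by
          refine Finset.sum_congr rfl fun i hi => ?_
          conv_lhs => rw [hexp i hi]
          rw [map_sum, Finset.sum_mul]
          refine Finset.sum_congr rfl fun p _ => ?_
          obtain ⟨r, q⟩ := p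
          simp [bb, Module.Basis.tensorProduct_apply]
      _ = ∑ p ∈ R ×ˢ R', α₂ (bF' p.1) * β₂ (α (bF p.2) * β (c p)) := by
          rw [Finset.sum_comm]
          refine Finset.sum_congr rfl fun p _ => ?_
          simp only [c, map_sum, Finset.mul_sum, map_mul, Algebra.smul_def, AlgHom.commutes]
          exact Finset.sum_congr rfl fun i _ => by ring
      _ = _ := by
          rw [Finset.sum_product]
          refine Finset.sum_congr rfl fun r _ => ?_
          rw [map_sum, Finset.mul_sum]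
  rw [hsum]
  refine h₂ _ R (fun r => bF' r) x bF'.linearIndependent (fun r _ => (hmem _).2 (hxW r)) ?_
  by_contra hno
  push Not at hno
  have hxlt : ∀ r ∈ R, W.valuation (x r) < 1 := fun r hr => by
    refine lt_of_le_of_ne ((W.valuation_le_one_iff _).2 (hxW r)) fun h1 => hno r hr ?_
    refine le_antisymm ((W₂.valuation_le_one_iff _).2 ((hmem _).2 (hxW r))) ?_
    by_contra hlt
    rw [not_le] at hlt
    have h2 : (x r)⁻¹ ∈ W := by
      rw [← W.valuation_le_one_iff, map_inv₀, h1, inv_one]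
    have h3 := (W₂.valuation_le_one_iff _).2 ((hmem _).2 h2)
    rw [map_inv₀, map_inv₀] at h3
    rcases eq_or_ne (W₂.valuation (β₂ (x r))) 0 with h4 | h4
    · rw [map_eq_zero, map_eq_zero] at h4; rw [h4, map_zero] at h1; exact zero_ne_one h1
    exact not_lt.2 ((inv_le_one₀ (zero_lt_iff.2 h4)).1 h3) hlt
  have hclt : ∀ p ∈ R ×ˢ R', W.valuation (β (c p)) < 1 := by
    rintro ⟨r, q⟩ hp
    obtain ⟨hr, hq⟩ := Finset.mem_product.1 hp
    by_cases h0 : c (r, q) = 0
    · rw [h0, map_zero, map_zero]; exact zero_lt_one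
    obtain ⟨q₀, hq₀, hc0, hin, hv⟩ := h.scale R' (fun q => bF q) bF.linearIndependent (fun q => c (r, q)) ⟨q, hq, h0⟩
    refine lt_of_le_of_lt ?_ (hxlt r hr)
    show _ ≤ W.valuation (∑ q ∈ R', α.toLinearMap (bF q) * β (c (r, q)))
    rw [hv]
    have h1 := (W.valuation_le_one_iff _).2 (hin q hq)
    rwa [map_div₀, map_div₀, div_le_one₀ (zero_lt_iff.2 ((map_ne_zero W.valuation).2 ((map_ne_zero β).2 hc0)))] at h1
  obtain ⟨i₀, hi₀, hv0⟩ := hu
  obtain ⟨φ, hφ⟩ : ∃ φ : F' ⊗[k] F →ₗ[k] k, ∀ i ∈ s, φ (e i) = if i = i₀ then 1 else 0 := by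
    let sp := Submodule.span k (Set.range e)
    let φ0 : sp →ₗ[k] k := (Finsupp.lapply i₀).comp (he.repr)
    obtain ⟨φ, hφ⟩ := LinearMap.exists_extend φ0
    refine ⟨φ, fun i _ => ?_⟩
    have hi : φ (e i) = φ0 ⟨e i, Submodule.subset_span ⟨i, rfl⟩⟩ := by rw [← hφ]; rfl
    rw [hi]
    simp only [φ0, LinearMap.comp_apply]
    rw [he.repr_eq_single i ⟨e i, Submodule.subset_span ⟨i, rfl⟩⟩ rfl]
    simp [Finsupp.single_apply]
  have ha0 : a i₀ = ∑ p ∈ R ×ˢ R', φ (bb p) • c p := by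
    calc a i₀ = ∑ i ∈ s, φ (e i) • a i := by
          rw [Finset.sum_congr rfl (fun i hi => by rw [hφ i hi]), Finset.sum_eq_single_of_mem i₀ hi₀ (fun i _ hne => by rw [if_neg hne, zero_smul]), if_pos rfl, one_smul]
      _ = _ := by
          rw [Finset.sum_congr rfl (fun i hi => by rw [hexp i hi, map_sum, Finset.sum_smul]), Finset.sum_comm]
          refine Finset.sum_congr rfl fun p _ => ?_
          simp only [c, Finset.smul_sum, map_smul, smul_smul, smul_eq_mul, mul_comm]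
  have : W.valuation (β (a i₀)) < 1 := by
    rw [ha0, map_sum]
    refine Valuation.map_sum_lt _ one_ne_zero fun p hp => ?_
    rw [map_smul, Algebra.smul_def, map_mul]
    exact (mul_le_mul' ((W.valuation_le_one_iff _).2 (h.algebraMap_mem _)) le_rfl).trans_lt ((one_mul _).trans_lt (hclt p hp))
  exact absurd hv0 (ne_of_lt (hunit _ this))

end Comp

section Construct

variable (k) (F K : Type u) [Field F] [Field K] [Algebra k F] [Algebra k K] [IsDomain (F ⊗[k] K)]

/-- the field of fractions of `F ⊗ K` -/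
abbrev Lam : Type u := FractionRing (F ⊗[k] K)

/-- the first embedding -/
abbrev lamL : F →ₐ[k] Lam k F K :=
  (IsScalarTower.toAlgHom k (F ⊗[k] K) (Lam k F K)).comp Algebra.TensorProduct.includeLeft

/-- the second embedding -/
abbrev lamR : K →ₐ[k] Lam k F K :=
  (IsScalarTower.toAlgHom k (F ⊗[k] K) (Lam k F K)).comp Algebra.TensorProduct.includeRight

lemma algebraMap_tmul (f : F) (a : K) :
    algebraMap (F ⊗[k] K) (Lam k F K) (f ⊗ₜ a) = lamL k F K f * lamR k F K a := by
  simp only [AlgHom.comp_apply, IsScalarTower.coe_toAlgHom', Algebra.TensorProduct.includeLeft_apply,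
    Algebra.TensorProduct.includeRight_apply, ← map_mul, Algebra.TensorProduct.tmul_mul_tmul, mul_one, one_mul]

lemma gen_lam : Gen (lamL k F K).toLinearMap (lamR k F K) := by
  classical
  intro x
  obtain ⟨A, B, hB, rfl⟩ := IsFractionRing.div_surjective (A := F ⊗[k] K) x
  let bF := Module.Basis.ofVectorSpace k F
  let E := TensorProduct.equivFinsuppOfBasisLeft bF (N := K)
  let s := (E A).support ∪ (E B).support
  have hexp : ∀ D : F ⊗[k] K, (E D).support ⊆ s →
      algebraMap (F ⊗[k] K) (Lam k F K) D = ∑ i ∈ s, (lamL k F K).toLinearMap (bF i) * lamR k F K (E D i) := by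
    intro D hD
    conv_lhs => rw [← E.symm_apply_apply D]
    rw [TensorProduct.equivFinsuppOfBasisLeft_symm_apply, Finsupp.sum_of_support_subset _ hD _ (by simp), map_sum]
    exact Finset.sum_congr rfl fun i _ => algebraMap_tmul k F K _ _
  have hBne : algebraMap (F ⊗[k] K) (Lam k F K) B ≠ 0 :=
    (map_ne_zero_iff _ (IsFractionRing.injective _ _)).2 (nonZeroDivisors.ne_zero hB)
  refine ⟨_, s, bF, fun i => E A i, fun i => E B i, bF.linearIndependent, ?_, ?_⟩
  · rw [← hexp B Finset.subset_union_right]; exact hBne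
  · rw [← hexp B Finset.subset_union_right, ← hexp A Finset.subset_union_left, div_mul_cancel₀ _ hBne]

variable {k F K}

/-- Gauss extension of a valuation ring -/
theorem exists_gauss (V : ValuationSubring K) (hk : ∀ c : k, algebraMap k K c ∈ V)
    (hdom : ∀ (κ : Type u) [Field κ] [Algebra k κ], IsDomain (F ⊗[k] κ)) :
    ∃ W : ValuationSubring (Lam k F K), Disj (lamL k F K).toLinearMap (lamR k F K) W ∧
      W.comap (lamR k F K).toRingHom = V := by
  classical
  let Va : Subalgebra k K := { V.toSubring with algebraMap_mem' := hk }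
  have : IsLocalRing Va := inferInstanceAs (IsLocalRing V)
  let κ := IsLocalRing.ResidueField Va
  have := hdom κ
  let bF := Module.Basis.ofVectorSpace k F
  let inc : F ⊗[k] Va →ₐ[k] F ⊗[k] K := Algebra.TensorProduct.map (AlgHom.id k F) Va.val
  let res : F ⊗[k] Va →ₐ[k] F ⊗[k] κ :=
    Algebra.TensorProduct.map (AlgHom.id k F) (IsScalarTower.toAlgHom k Va κ)
  let ρ : F ⊗[k] Va →+* Lam k F K := (algebraMap _ _).comp inc.toRingHom
  let R : Subring (Lam k F K) :=
    { carrier := {x | ∃ A B, res B ≠ 0 ∧ x * ρ B = ρ A}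
      one_mem' := ⟨1, 1, by rw [map_one]; exact one_ne_zero, by simp⟩
      zero_mem' := ⟨0, 1, by rw [map_one]; exact one_ne_zero, by simp⟩
      neg_mem' := by rintro x ⟨A, B, hB, h⟩; exact ⟨-A, B, hB, by rw [neg_mul, h, map_neg]⟩
      add_mem' := by
        rintro x y ⟨A, B, hB, h⟩ ⟨A', B', hB', h'⟩
        exact ⟨A * B' + A' * B, B * B', by rw [map_mul]; exact mul_ne_zero hB hB',
          by simp only [map_add, map_mul, ← h, ← h']; ring⟩
      mul_mem' := by
        rintro x y ⟨A, B, hB, h⟩ ⟨A', B', hB', h'⟩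
        exact ⟨A * A', B * B', by rw [map_mul]; exact mul_ne_zero hB hB', by simp only [map_mul, ← h, ← h']; ring⟩ }
  have hunit : ∀ (c : κ) , c = 0 ↔ (1 : F) ⊗ₜ[k] c = 0 := fun c =>
    ⟨fun h => by rw [h, TensorProduct.tmul_zero], fun h =>
      Algebra.TensorProduct.includeRight_injective (R := k) (A := F) (B := κ) (algebraMap k F).injective
        (h.trans (map_zero (Algebra.TensorProduct.includeRight : κ →ₐ[k] F ⊗[k] κ)).symm)⟩
  have hρt : ∀ (f : F) (c : Va), ρ (f ⊗ₜ c) = lamL k F K f * lamR k F K c := fun f c => algebraMap_tmul k F K f c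
  -- the residual criterion
  have hres : ∀ (ι : Type u) (s : Finset ι) (e : ι → F) (a : ι → Va), LinearIndependent k e →
      (∃ i ∈ s, IsUnit (a i)) → res (∑ i ∈ s, e i ⊗ₜ a i) ≠ 0 := by
    intro ι s e a he ⟨i₀, hi₀, hu⟩ h0
    obtain ⟨φ, hφ⟩ : ∃ φ : F →ₗ[k] k, ∀ i, φ (e i) = if i = i₀ then 1 else 0 := by
      obtain ⟨φ, hφ⟩ := LinearMap.exists_extend ((Finsupp.lapply i₀).comp he.repr)
      refine ⟨φ, fun i => ?_⟩
      have hi : φ (e i) = (Finsupp.lapply i₀).comp he.repr ⟨e i, Submodule.subset_span ⟨i, rfl⟩⟩ := by rw [← hφ]; rfl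
      rw [hi, LinearMap.comp_apply, he.repr_eq_single i ⟨e i, Submodule.subset_span ⟨i, rfl⟩⟩ rfl]
      simp [Finsupp.single_apply]
    have := congrArg ((TensorProduct.lid k κ).toLinearMap.comp (φ.rTensor κ)) h0
    simp only [map_sum, res, Algebra.TensorProduct.map_tmul, map_zero, LinearMap.comp_apply, LinearEquiv.coe_coe,
      LinearMap.rTensor_tmul, TensorProduct.lid_tmul, AlgHom.coe_id, id_eq, hφ, ite_smul, one_smul, zero_smul,
      Finset.sum_ite_eq', hi₀, if_true] at this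
    exact (hu.map (algebraMap Va κ)).ne_zero this
  -- every element is a scalar times a residually nonzero one
  have hfac : ∀ D : F ⊗[k] K, D ≠ 0 → ∃ (c : K) (U : F ⊗[k] Va), c ≠ 0 ∧ res U ≠ 0 ∧
      algebraMap _ (Lam k F K) D = lamR k F K c * ρ U := by
    intro D hD
    let E := TensorProduct.equivFinsuppOfBasisLeft bF (N := K)
    have hne : (E D).support.Nonempty := Finsupp.support_nonempty_iff.2 ((LinearEquiv.map_ne_zero_iff E).2 hD)
    obtain ⟨i₀, hi₀, hmax⟩ := (E D).support.exists_max_image (fun i => V.valuation (E D i)) hne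
    have hc : E D i₀ ≠ 0 := Finsupp.mem_support_iff.1 hi₀
    let a : _ → Va := fun i => if hi : i ∈ (E D).support then ⟨E D i / E D i₀, by
        show _ ∈ V
        rw [← V.valuation_le_one_iff, map_div₀]
        exact div_le_one_of_le₀ (hmax i hi) zero_le⟩ else 0
    refine ⟨E D i₀, ∑ i ∈ (E D).support, bF i ⊗ₜ a i, hc, hres _ _ _ a bF.linearIndependent ⟨i₀, hi₀, ?_⟩, ?_⟩
    · simp only [a, dif_pos hi₀, div_self hc]
      exact isUnit_one
    · conv_lhs => rw [← E.symm_apply_apply D]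
      rw [TensorProduct.equivFinsuppOfBasisLeft_symm_apply, Finsupp.sum, map_sum, map_sum, Finset.mul_sum]
      refine Finset.sum_congr rfl fun i hi => ?_
      rw [hρt, algebraMap_tmul]
      simp only [a, dif_pos hi, map_div₀]
      have : lamR k F K (E D i₀) ≠ 0 := (map_ne_zero _).2 hc
      field_simp
  have hρ0 : ∀ B, res B ≠ 0 → ρ B ≠ 0 := fun B hB h => by
    refine hB ?_
    have hinj : Function.Injective inc :=
      Module.Flat.lTensor_preserves_injective_linearMap (M := F) Va.val.toLinearMap Subtype.val_injective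
    have : B = 0 := hinj (((map_eq_zero_iff _ (IsFractionRing.injective _ _)).1 h).trans (map_zero inc).symm)
    rw [this, map_zero]
  have hR : ∀ x : Lam k F K, x ∈ R ∨ x⁻¹ ∈ R := by
    intro x
    obtain ⟨A, B, hB, rfl⟩ := IsFractionRing.div_surjective (A := F ⊗[k] K) x
    by_cases hA : A = 0
    · left; rw [hA, map_zero, zero_div]; exact R.zero_mem
    obtain ⟨ca, Ua, hca, hUa, ea⟩ := hfac A hA
    obtain ⟨cb, Ub, hcb, hUb, eb⟩ := hfac B (nonZeroDivisors.ne_zero hB)
    have key : ∀ (c d : K) (U U' : F ⊗[k] Va), d ≠ 0 → res U' ≠ 0 → c / d ∈ V →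
        lamR k F K c * ρ U / (lamR k F K d * ρ U') ∈ R := by
      intro c d U U' hd hU' hcd
      refine ⟨(1 : F) ⊗ₜ ⟨c / d, hcd⟩ * U, U', hU', ?_⟩
      rw [map_mul, hρt, map_one, one_mul]
      simp only [map_div₀]
      have := hρ0 U' hU'
      have : lamR k F K d ≠ 0 := (map_ne_zero _).2 hd
      field_simp
    rw [ea, eb]
    rcases V.mem_or_inv_mem (ca / cb) with h | h
    · exact Or.inl (key _ _ _ _ hcb hUb h)
    · right; rw [inv_div]; exact key _ _ _ _ hca hUa (by rwa [inv_div] at h)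
  let W : ValuationSubring (Lam k F K) := { R with mem_or_inv_mem' := hR }
  have hWV : ∀ c : K, lamR k F K c ∈ W ↔ c ∈ V := by
    intro c
    constructor
    · rintro ⟨A, B, hB, h⟩
      by_contra hc
      have hc0 : c ≠ 0 := fun h0 => hc (h0 ▸ V.zero_mem)
      have hci : c⁻¹ ∈ V := (V.mem_or_inv_mem c).resolve_left hc
      have hBA : B = (1 : F) ⊗ₜ (⟨c⁻¹, hci⟩ : Va) * A := by
        have hinj : Function.Injective ρ := (IsFractionRing.injective _ _).comp
          (Module.Flat.lTensor_preserves_injective_linearMap (M := F) Va.val.toLinearMap Subtype.val_injective)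
        refine hinj ?_
        rw [map_mul, hρt, map_one, one_mul, ← h, map_inv₀, inv_mul_cancel_left₀ ((map_ne_zero _).2 hc0)]
      refine hB ?_
      rw [hBA, map_mul]
      have hz : algebraMap Va κ (⟨c⁻¹, hci⟩ : Va) = 0 := by
        rw [IsLocalRing.ResidueField.algebraMap_eq, IsLocalRing.residue_eq_zero_iff, IsLocalRing.mem_maximalIdeal, mem_nonunits_iff]
        intro hu
        obtain ⟨d, hd⟩ := hu.exists_right_inv
        have hd' : c⁻¹ * (d : K) = 1 := congrArg Subtype.val hd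
        exact hc ((inv_mul_eq_one₀ hc0).1 hd' ▸ d.2)
      simp only [res, Algebra.TensorProduct.map_tmul, IsScalarTower.coe_toAlgHom', hz, TensorProduct.tmul_zero, zero_mul]
    · intro hc
      exact ⟨(1 : F) ⊗ₜ ⟨c, hc⟩, 1, by rw [map_one]; exact one_ne_zero, by rw [map_one, mul_one, hρt, map_one, one_mul]⟩
  refine ⟨W, fun ι s e a he ha hu => ?_, ValuationSubring.ext _ _ hWV⟩
  let a' : ι → Va := fun i => if hi : i ∈ s then ⟨a i, (hWV _).1 (ha i hi)⟩ else 0
  have hsum : (∑ i ∈ s, (lamL k F K).toLinearMap (e i) * lamR k F K (a i)) = ρ (∑ i ∈ s, e i ⊗ₜ a' i) := by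
    rw [map_sum]
    exact Finset.sum_congr rfl fun i hi => by rw [hρt]; simp only [a', dif_pos hi]; rfl
  have hU : res (∑ i ∈ s, e i ⊗ₜ a' i) ≠ 0 := by
    refine hres ι s e a' he ?_
    obtain ⟨i, hi, hv⟩ := hu
    refine ⟨i, hi, ?_⟩
    simp only [a', dif_pos hi]
    have hinv : (a i)⁻¹ ∈ V := (hWV _).1 (by rw [← W.valuation_le_one_iff, map_inv₀, map_inv₀, hv, inv_one])
    have h0 : a i ≠ 0 := fun h0 => by rw [h0, map_zero, map_zero] at hv; exact zero_ne_one hv
    exact IsUnit.of_mul_eq_one (⟨(a i)⁻¹, hinv⟩ : Va) (Subtype.ext (mul_inv_cancel₀ h0))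
  rw [hsum]
  refine le_antisymm ((W.valuation_le_one_iff _).2 ⟨∑ i ∈ s, e i ⊗ₜ a' i, 1, by rw [map_one]; exact one_ne_zero, by rw [map_one, mul_one]⟩) ?_
  have hinv : (ρ (∑ i ∈ s, e i ⊗ₜ a' i))⁻¹ ∈ W := ⟨1, _, hU, by rw [map_one, inv_mul_cancel₀ (hρ0 _ hU)]⟩
  have h1 := (W.valuation_le_one_iff _).2 hinv
  rw [map_inv₀, inv_le_one₀ (zero_lt_iff.2 ((map_ne_zero _).2 (hρ0 _ hU)))] at h1
  exact h1

end Construct

section Dvr

variable {M : Type v} [AddCommGroup M] [Module k M] {K Λ : Type u} [Field K] [Field Λ] [Algebra k K] [Algebra k Λ]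
  {α : M →ₗ[k] Λ} {β : K →ₐ[k] Λ} {W : ValuationSubring Λ}

/-- a Gauss extension of a discrete valuation ring is one -/
theorem Disj.isDVR (h : Disj α β W) (hg : Gen α β) {V : ValuationSubring K} (hV : W.comap β.toRingHom = V)
    [IsDiscreteValuationRing V] : IsDiscreteValuationRing W := by
  obtain ⟨ϖ, hϖ⟩ := IsDiscreteValuationRing.exists_irreducible V
  have hVW : ∀ c : K, β c ∈ W ↔ c ∈ V := fun c => by rw [← hV]; rfl
  let j : V →+* W := (β.toRingHom.comp V.subtype).codRestrict W.toSubring fun x => (hVW _).2 x.2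
  have hj : ∀ x : V, IsUnit (j x) → IsUnit x := fun x hu => by
    obtain ⟨y, hy⟩ := hu.exists_right_inv
    have hy' : β (x : K) * (y : Λ) = 1 := congrArg Subtype.val hy
    have hx0 : (x : K) ≠ 0 := fun h0 => by rw [h0, map_zero, zero_mul] at hy'; exact zero_ne_one hy'
    have : (x : K)⁻¹ ∈ V := (hVW _).1 (by rw [map_inv₀, ← eq_inv_of_mul_eq_one_right hy']; exact y.2)
    exact IsUnit.of_mul_eq_one (⟨_, this⟩ : V) (Subtype.ext (mul_inv_cancel₀ hx0))
  have hall : ∀ x : W, x ≠ 0 → ∃ n : ℕ, Associated (j ϖ ^ n) x := by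
    intro x hx
    obtain ⟨ι, s, e, a, b, he, ha, hb, hbu, hxe⟩ := h.exists_repr hg x.2
    have hbv := h ι s e b he hb hbu
    have ha0 : ∃ i ∈ s, a i ≠ 0 := by
      by_contra hno
      push Not at hno
      rw [show (∑ i ∈ s, α (e i) * β (a i)) = 0 from
        Finset.sum_eq_zero (fun i hi => by rw [hno i hi, map_zero, mul_zero])] at hxe
      refine hx (Subtype.ext ((mul_eq_zero.1 hxe).resolve_right fun h0 => ?_))
      rw [h0, map_zero] at hbv; exact zero_ne_one hbv
    obtain ⟨i₁, hi₁, ha1, -, hav⟩ := h.scale s e he a ha0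
    have hxv : W.valuation (x : Λ) = W.valuation (β (a i₁)) := by rw [← hav, ← hxe, map_mul, hbv, mul_one]
    have hc : a i₁ ∈ V := (hVW _).1 (ha i₁ hi₁)
    obtain ⟨n, hn⟩ := IsDiscreteValuationRing.associated_pow_irreducible (R := V) (x := ⟨a i₁, hc⟩)
      (fun h0 => ha1 (congrArg Subtype.val h0)) hϖ
    refine ⟨n, ?_⟩
    rw [← map_pow]
    refine Associated.trans ((hn.map (j : V →* W)).symm) ?_
    have hb0 : β (a i₁) ≠ 0 := (map_ne_zero β).2 ha1
    have hval : W.valuation ((x : Λ) / β (a i₁)) = 1 := by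
      rw [map_div₀, hxv, div_self ((map_ne_zero W.valuation).2 hb0)]
    have hmem : (x : Λ) / β (a i₁) ∈ W := (W.valuation_le_one_iff _).1 hval.le
    refine ⟨((W.valuation_eq_one_iff ⟨_, hmem⟩).2 hval).unit, Subtype.ext ?_⟩
    show β (a i₁) * ((x : Λ) / β (a i₁)) = x
    field_simp
  refine IsDiscreteValuationRing.ofHasUnitMulPowIrreducibleFactorization ⟨j ϖ, ⟨fun hu => hϖ.not_isUnit (hj _ hu), ?_⟩, fun {x} hx => hall x hx⟩
  intro x y hxy
  have hjinj : Function.Injective j := fun p q hpq => Subtype.ext (β.injective (congrArg Subtype.val hpq))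
  have hne : j ϖ ≠ 0 := (map_ne_zero_iff j hjinj).2 hϖ.ne_zero
  have hx : x ≠ 0 := fun h0 => hne (by rw [hxy, h0, zero_mul])
  have hy : y ≠ 0 := fun h0 => hne (by rw [hxy, h0, mul_zero])
  obtain ⟨n, hn⟩ := hall x hx
  obtain ⟨l, hl⟩ := hall y hy
  rcases Nat.eq_zero_or_pos n with rfl | hn0
  · left; rw [pow_zero] at hn; exact hn.isUnit isUnit_one
  rcases Nat.eq_zero_or_pos l with rfl | hl0
  · right; rw [pow_zero] at hl; exact hl.isUnit isUnit_one
  exfalso
  have h1 : Associated (j ϖ ^ (n + l)) (j ϖ) := by rw [pow_add]; exact (hn.mul_mul hl).trans (hxy ▸ Associated.refl _)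
  obtain ⟨u, hu⟩ := h1
  obtain ⟨t, ht⟩ : ∃ t, n + l = t + 2 := ⟨n + l - 2, by omega⟩
  rw [ht] at hu
  have h2 : j ϖ * (j ϖ ^ (t + 1) * (u : W)) = j ϖ * 1 := by rw [mul_one, ← mul_assoc, ← pow_succ']; exact hu
  have h3 := mul_left_cancel₀ hne h2
  refine hϖ.not_isUnit (hj _ ?_)
  rw [pow_succ', mul_assoc] at h3
  exact IsUnit.of_mul_eq_one _ h3

end Dvr

section Indep

variable {F K Λ : Type u} [Field F] [Field K] [Field Λ] [Algebra k F] [Algebra k K] [Algebra k Λ]
  {α : F →ₐ[k] Λ} {β : K →ₐ[k] Λ} {W : ValuationSubring Λ}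

/-- residually independent elements of the factors together -/
theorem Disj.exists_indep (h : Disj α.toLinearMap β W) {d m : ℕ} (x : Fin d → F) (hx : AlgebraicIndependent k x)
    {V : ValuationSubring K} (hV : W.comap β.toRingHom = V) (hk : ∀ c : k, algebraMap k K c ∈ V) (y : Fin m → V)
    (hy : ∀ p : MvPolynomial (Fin m) k, p ≠ 0 → V.valuation (MvPolynomial.aeval (fun i => (y i : K)) p) = 1) :
    ∃ t : Fin (d + m) → W, ∀ p : MvPolynomial (Fin (d + m)) k, p ≠ 0 →
      W.valuation (MvPolynomial.aeval (fun i => (t i : Λ)) p) = 1 := by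
  classical
  have hVW : ∀ c : K, β c ∈ W ↔ c ∈ V := fun c => by rw [← hV]; rfl
  have hxW : ∀ i, α (x i) ∈ W := fun i => by
    rw [← W.valuation_le_one_iff]; exact le_of_eq (h.val_eq_one (hx.ne_zero i))
  let t : Fin (d + m) → W := fun i => (finSumFinEquiv.symm i).elim (fun a => ⟨α (x a), hxW a⟩) fun b => ⟨β (y b), (hVW _).2 (y b).2⟩
  refine ⟨t, fun p hp => ?_⟩
  let q := MvPolynomial.sumAlgEquiv k (Fin d) (Fin m) (MvPolynomial.rename finSumFinEquiv.symm p)
  have hq : q ≠ 0 := (map_ne_zero_iff _ (AlgEquiv.injective _)).2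
    ((map_ne_zero_iff _ (MvPolynomial.rename_injective _ finSumFinEquiv.symm.injective)).2 hp)
  let c : (Fin d →₀ ℕ) → K := fun μ => MvPolynomial.aeval (fun i => (y i : K)) (q.coeff μ)
  have hexp : MvPolynomial.aeval (fun i => (t i : Λ)) p =
      ∑ μ ∈ q.support, α.toLinearMap (∏ i, x i ^ μ i) * β (c μ) := by
    have h1 : MvPolynomial.aeval (fun i => (t i : Λ)) p =
        MvPolynomial.eval₂Hom ((β.comp (MvPolynomial.aeval (fun i => (y i : K)))).toRingHom) (fun a => α (x a)) q := by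
      have hcomp : (MvPolynomial.eval₂Hom ((β.comp (MvPolynomial.aeval (fun i => (y i : K)))).toRingHom) (fun a => α (x a))).comp
          ((MvPolynomial.sumAlgEquiv k (Fin d) (Fin m)).toRingHom.comp (MvPolynomial.rename finSumFinEquiv.symm).toRingHom) =
          (MvPolynomial.aeval (fun i => (t i : Λ))).toRingHom := by
        refine MvPolynomial.ringHom_ext (fun r => ?_) fun i => ?_
        · simp [MvPolynomial.sumAlgEquiv_C_inl]
        · rcases h : finSumFinEquiv.symm i with a | b <;> simp [t, h, MvPolynomial.sumAlgEquiv_X_inl, MvPolynomial.sumAlgEquiv_X_inr]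
      exact (congr($hcomp p)).symm
    rw [h1, MvPolynomial.coe_eval₂Hom, MvPolynomial.eval₂_eq']
    refine Finset.sum_congr rfl fun μ _ => ?_
    simp only [c, AlgHom.toLinearMap_apply, map_prod, map_pow, AlgHom.toRingHom_eq_coe, RingHom.coe_coe, AlgHom.comp_apply]
    ring
  rw [hexp]
  have hind : LinearIndependent k fun μ : Fin d →₀ ℕ => ∏ i, x i ^ μ i := by
    have h2 := ((MvPolynomial.basisMonomials (Fin d) k).linearIndependent).map' (MvPolynomial.aeval x).toLinearMap
      (LinearMap.ker_eq_bot.2 hx)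
    refine (linearIndependent_equiv' (Equiv.refl _) ?_).1 h2
    funext μ
    simp [MvPolynomial.aeval_monomial, Finsupp.prod_fintype]
  have hc : ∀ μ ∈ q.support, V.valuation (c μ) = 1 := fun μ hμ => hy _ (MvPolynomial.mem_support_iff.1 hμ)
  have hcW : ∀ μ ∈ q.support, W.valuation (β (c μ)) = 1 := fun μ hμ => by
    have h1 : c μ ∈ V := (V.valuation_le_one_iff _).1 (hc μ hμ).le
    have h2 : (c μ)⁻¹ ∈ V := by rw [← V.valuation_le_one_iff, map_inv₀, hc μ hμ, inv_one]
    refine le_antisymm ((W.valuation_le_one_iff _).2 ((hVW _).2 h1)) ?_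
    have h3 := (W.valuation_le_one_iff _).2 ((hVW _).2 h2)
    have h0 : c μ ≠ 0 := fun h0 => by have := hc μ hμ; rw [h0, map_zero] at this; exact zero_ne_one this
    rwa [map_inv₀, map_inv₀, inv_le_one₀ (zero_lt_iff.2 ((map_ne_zero _).2 ((map_ne_zero β).2 h0)))] at h3
  obtain ⟨μ₀, hμ₀⟩ := MvPolynomial.support_nonempty.2 hq
  have h4 := h (ULift.{u} (Fin d →₀ ℕ)) (q.support.map Equiv.ulift.symm.toEmbedding) (fun μ => ∏ i, x i ^ μ.down i)
    (fun μ => c μ.down) (hind.comp ULift.down ULift.down_injective) (fun μ hμ => by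
      obtain ⟨ν, hν, rfl⟩ := Finset.mem_map.1 hμ
      exact (W.valuation_le_one_iff _).1 (hcW ν hν).le) ⟨_, Finset.mem_map_of_mem _ hμ₀, hcW μ₀ hμ₀⟩
  rw [Finset.sum_map] at h4
  exact h4

end Indep

end

end Groth.Agent.AlgGrp33.Gauss
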