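import Groth.Agent.Alb96.MaxAbelian

/-!
The abelian subvarieties generated by proper subvarieties.
-/

set_option autoImplicit false
universe u

open CategoryTheory CategoryTheory.Limits MonoidalCategory CartesianMonoidalCategory MonObj GrpObj AlgebraicGeometry

namespace Groth.Agent.AlgGrp33.GenAbelian

open Groth.Agent.Alb96

variable {k : Type u} [Field k]

/-- The image of a proper geometrically integral scheme. -/
theorem exists_image {A G : Over (Spec (CommRingCat.of k))} [IsProper A.hom] [GeometricallyIntegral A.hom]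
    [LocallyOfFiniteType G.hom] [IsSeparated G.hom] (φ : A ⟶ G) :
    ∃ (M : Over (Spec (CommRingCat.of k))) (i : M ⟶ G), IsClosedImmersion i.left ∧ IsProper M.hom ∧
      GeometricallyIntegral M.hom ∧ Set.range i.left = Set.range φ.left := by
  have : IsProper (φ.left ≫ G.hom) := by rw [Over.w]; infer_instance
  have : IsProper φ.left := IsProper.of_comp φ.left G.hom
  let M : Over (Spec (CommRingCat.of k)) := Over.mk (φ.left.imageι ≫ G.hom)
  let i : M ⟶ G := Over.homMk φ.left.imageι rfl
  let w : A ⟶ M := Over.homMk φ.left.toImage (by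
    show φ.left.toImage ≫ φ.left.imageι ≫ G.hom = A.hom
    rw [Scheme.Hom.toImage_imageι_assoc, Over.w])
  have hwi : w ≫ i = φ := Over.OverMorphism.ext φ.left.toImage_imageι
  have : IsClosedImmersion i.left := inferInstanceAs (IsClosedImmersion φ.left.imageι)
  have : IsSchemeTheoreticallyDominant w.left := AlgGrp79.schDominant_toImage φ.left
  have : QuasiCompact w.left := inferInstanceAs (QuasiCompact φ.left.toImage)
  have : IsProper (w.left ≫ i.left) := by rw [← Over.comp_left, hwi]; infer_instance
  have : IsProper w.left := IsProper.of_comp w.left i.left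
  have : Surjective w.left := ⟨fun m => by
    have h1 : IsClosed (Set.range w.left) := w.left.isClosedMap.isClosed_range
    have h2 : closure (Set.range w.left) = Set.univ := w.left.denseRange.closure_eq
    rw [h1.closure_eq] at h2
    exact h2.ge (Set.mem_univ m)⟩
  have : UniversallyClosed (w.left ≫ M.hom) := by rw [Over.w]; infer_instance
  have : UniversallyClosed M.hom := UniversallyClosed.of_comp_surjective w.left M.hom
  have : LocallyOfFiniteType M.hom := inferInstanceAs (LocallyOfFiniteType (φ.left.imageι ≫ G.hom))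
  have : IsSeparated M.hom := inferInstanceAs (IsSeparated (φ.left.imageι ≫ G.hom))
  have hM : IsProper M.hom := { }
  refine ⟨M, i, inferInstance, hM, ⟨fun L _ y Z p q h => ?_⟩, ?_⟩
  · have : Flat p := MorphismProperty.of_isPullback (P := @Flat) h.flip inferInstance
    let P' := pullback A.hom y
    have hw' : w.left ≫ M.hom = A.hom := Over.w w
    let u : P' ⟶ Z := h.lift (pullback.fst A.hom y ≫ w.left) (pullback.snd A.hom y)
      (by rw [Category.assoc, hw', pullback.condition])
    have hu1 : u ≫ p = pullback.fst A.hom y ≫ w.left := h.lift_fst _ _ _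
    have hu2 : u ≫ q = pullback.snd A.hom y := h.lift_snd _ _ _
    have hsq : IsPullback u (pullback.fst A.hom y) p w.left := by
      refine IsPullback.of_right ?_ hu1 h.flip
      rw [hw', hu2]
      exact (IsPullback.of_hasPullback A.hom y).flip
    have : IsSchemeTheoreticallyDominant u :=
      IsSchemeTheoreticallyDominant.of_isPullback (f := w.left) (g := p) hsq.flip
    have : QuasiCompact u := MorphismProperty.of_isPullback (P := @QuasiCompact) hsq.flip ‹_›
    have : Surjective u := MorphismProperty.of_isPullback (P := @Surjective) hsq.flip ‹_›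
    have : IsIntegral P' :=
      GeometricallyIntegral.geometrically_isIntegral _ _ _ (.of_hasPullback _ _)
    have : IsReduced Z := IsSchemeTheoreticallyDominant.isReduced u
    have h3 : IsIrreducible (Set.univ : Set Z) := by
      rw [← (u.surjective).range_eq, ← Set.image_univ]
      exact (IrreducibleSpace.isIrreducible_univ _).image u u.continuous.continuousOn
    have : IrreducibleSpace Z := { isPreirreducible_univ := h3.2, toNonempty := ⟨h3.1.some⟩ }
    exact isIntegral_of_irreducibleSpace_of_isReduced Z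
  · rw [← hwi, Over.comp_left, Scheme.Hom.comp_base, TopCat.coe_comp, Set.range_comp,
      (w.left.surjective).range_eq, Set.image_univ]

/-- A proper geometrically integral subscheme lies, up to translation, in a proper connected subgroup. -/
theorem exists_generated {G : Over (Spec (CommRingCat.of k))} [GrpObj G] [LocallyOfFiniteType G.hom]
    {Z : Over (Spec (CommRingCat.of k))} [IsProper Z.hom] [GeometricallyIntegral Z.hom] (z : Z ⟶ G) :
    ∃ (M : Over (Spec (CommRingCat.of k))) (_ : GrpObj M) (i : M ⟶ G), IsMonHom i ∧ IsClosedImmersion i.left ∧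
      IsProper M.hom ∧ GeometricallyIntegral M.hom ∧
      ∃ d : Z ⊗ Z ⟶ M, d ≫ i = (fst Z Z ≫ z) * (snd Z Z ≫ z)⁻¹ := by
  have : IsLocallyNoetherian G.left := LocallyOfFiniteType.isLocallyNoetherian G.hom
  have : IsSeparated G.hom := Grp57.isSeparated_of_field G
  let e : G.left := Grp57.unitPt G
  have : IsIntegral Z.left := GeometricallyIntegral.isIntegral_of_subsingleton Z.hom
  have := geometricallyIntegral_tensor Z Z
  have : IsProper (Z ⊗ Z).hom := inferInstanceAs (IsProper (pullback.fst Z.hom Z.hom ≫ Z.hom))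
  let d₀ : Z ⊗ Z ⟶ G := (fst Z Z ≫ z) * (snd Z Z ≫ z)⁻¹
  let P : G.left → Prop := fun g => ∃ (A : Over (Spec (CommRingCat.of k))) (i : A ⟶ G),
    IsClosedImmersion i.left ∧ IsProper A.hom ∧ GeometricallyIntegral A.hom ∧ Set.range i.left = closure {g} ∧
      e ∈ closure {g} ∧ Set.range d₀.left ⊆ closure {g}
  have mkP : ∀ (A : Over (Spec (CommRingCat.of k))) [IsProper A.hom] [GeometricallyIntegral A.hom] (φ : A ⟶ G),
      e ∈ Set.range φ.left → Set.range d₀.left ⊆ Set.range φ.left →
      ∃ g, P g ∧ Set.range φ.left = closure {g} := by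
    intro A _ _ φ he hd
    obtain ⟨M, i, h2, h3, h4, h5⟩ := exists_image φ
    have : IrreducibleSpace M.left := GeometricallyIrreducible.irreducibleSpace_of_subsingleton M.hom
    have hr : Set.range i.left = closure {i.left (genericPoint M.left)} := by
      rw [← Set.image_singleton, i.left.isClosedMap.closure_image_eq_of_continuous i.left.continuous,
        genericPoint_closure, Set.image_univ]
    refine ⟨_, ⟨M, i, h2, h3, h4, hr, ?_, ?_⟩, h5 ▸ hr⟩
    · rw [← hr, h5]; exact he
    · rw [← hr, h5]; exact hd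
  have hdiag : lift (𝟙 Z) (𝟙 Z) ≫ d₀ = toUnit Z ≫ η[G] := by
    simp [d₀, MonObj.comp_mul, GrpObj.comp_inv, ← Hom.one_def]
  have hPe : ∀ g, P g → g ⤳ e := by
    rintro g ⟨M, i, _, _, _, hr, he, _⟩
    exact specializes_iff_mem_closure.2 he
  have hne : ∃ g, P g := by
    obtain ⟨g, hg, -⟩ := mkP (Z ⊗ Z) d₀ ⟨(lift (𝟙 Z) (𝟙 Z)).left (Nonempty.some inferInstance), by
      rw [Grp57.left_apply' _ _ _ hdiag, Over.comp_left, Scheme.Hom.comp_apply]
      exact congrArg η[G].left (Subsingleton.elim (α := PrimeSpectrum k) _ _)⟩ le_rfl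
    exact ⟨g, hg⟩
  obtain ⟨g0, ⟨M, i, hci, hMp, hMgi, hr, he, hd⟩, hmin⟩ := exists_minimal_generization e hPe hne
  have hMint : IsIntegral M.left := GeometricallyIntegral.isIntegral_of_subsingleton M.hom
  have := Over.mono_of_mono_left i
  have hη : IsClosedImmersion η[G].left := by
    have : IsClosedImmersion (η[G].left ≫ G.hom) := by
      rw [Over.w]; exact inferInstanceAs (IsClosedImmersion (𝟙 (Spec (CommRingCat.of k))))
    exact IsClosedImmersion.of_comp _ G.hom
  have : IsReduced (𝟙_ (Over (Spec (CommRingCat.of k)))).left :=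
    inferInstanceAs (IsReduced (Spec (CommRingCat.of k)))
  obtain ⟨e₀, he₀⟩ := exists_lift_of_range_subset i η[G] (by
    rintro _ ⟨x, rfl⟩
    rw [hr]
    convert he using 1
    exact congrArg η[G].left (Subsingleton.elim (α := PrimeSpectrum k) _ _))
  have := geometricallyIntegral_tensor M M
  have : IsIntegral (M ⊗ M).left := GeometricallyIntegral.isIntegral_of_subsingleton (M ⊗ M).hom
  have : IsProper (M ⊗ M).hom := inferInstanceAs (IsProper (pullback.fst M.hom M.hom ≫ M.hom))
  let ψ : M ⊗ M ⟶ G := (fst M M ≫ i) * (snd M M ≫ i)⁻¹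
  have hsub : Set.range i.left ⊆ Set.range ψ.left :=
    range_subset_of_comp (lift (𝟙 M) (toUnit M ≫ e₀)) i ψ (by
      simp [ψ, MonObj.comp_mul, GrpObj.comp_inv, he₀, ← Hom.one_def])
  obtain ⟨g1, hg1, hr1⟩ := mkP (M ⊗ M) ψ (hsub (hr.symm ▸ he)) ((hd.trans hr.ge).trans hsub)
  have hψ : Set.range ψ.left ⊆ Set.range i.left := by
    have h := hsub
    rw [hr1, hr] at h
    have hg : g1 = g0 := hmin g1 hg1 (specializes_iff_mem_closure.2 (h (subset_closure (Set.mem_singleton g0))))
    rw [hr1, hg, hr]
  obtain ⟨m, hm⟩ := exists_lift_of_range_subset i ψ hψ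
  have hval : ∀ {T : Over (Spec (CommRingCat.of k))} (a b : T ⟶ M), (lift a b ≫ m) ≫ i = (a ≫ i) * (b ≫ i)⁻¹ :=
    fun a b => by simp [hm, ψ, MonObj.comp_mul, GrpObj.comp_inv]
  obtain ⟨gM, hi⟩ := AlgGrp79.exists_grpObj_closed i ⟨e₀, he₀⟩ fun T a b => by
    refine ⟨lift (lift (toUnit T ≫ e₀) a ≫ m) (lift (toUnit T ≫ e₀) b ≫ m) ≫ m, ?_⟩
    rw [hval, hval, hval]
    simp [he₀, ← Hom.one_def]
  have : IsIntegral (Z ⊗ Z).left := GeometricallyIntegral.isIntegral_of_subsingleton (Z ⊗ Z).hom
  obtain ⟨d, hd'⟩ := exists_lift_of_range_subset i d₀ (hd.trans hr.ge)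
  exact ⟨M, gM, i, hi, hci, hMp, hMgi, d, hd'⟩

end Groth.Agent.AlgGrp33.GenAbelian
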