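import Groth.Agent.E4O.DvrDom
import Groth.Agent.CAlg1.NagataTheorem
import Mathlib.RingTheory.EssentialFiniteness
import Mathlib.RingTheory.Localization.Submodule

/-!
Elements of a finitely generated field lying in all valuation rings above a Noetherian ring are integral.
-/

set_option autoImplicit false

universe u

open IsLocalRing

namespace Groth.Agent.AlgGrp33

theorem exists_dvr_of_local {R L : Type u} [CommRing R] [IsDomain R] [IsNoetherianRing R] [IsLocalRing R] [Field L]
    [Algebra R L] [FaithfulSMul R L] [Algebra.EssFiniteType R L] (hR : ¬ IsField R) :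
    ∃ V : ValuationSubring L, IsDiscreteValuationRing V ∧ (∀ a : R, algebraMap R L a ∈ V) ∧
      ∀ a ∈ maximalIdeal R, V.valuation (algebraMap R L a) < 1 := by
  letI : Algebra (FractionRing R) L := FractionRing.liftAlgebra R L
  haveI : IsScalarTower R (FractionRing R) L := inferInstance
  haveI : Algebra.EssFiniteType (FractionRing R) L := Algebra.EssFiniteType.of_comp R (FractionRing R) L
  exact E4O.exists_dvr_dominating hR (FractionRing R) L (IntermediateField.fg_top_iff.mpr inferInstance)

theorem exists_dvr_of_not_isIntegral {A L : Type u} [CommRing A] [IsNoetherianRing A] [Field L] [Algebra A L]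
    [Algebra.EssFiniteType A L] {s : L} (hs : ¬ IsIntegral A s) :
    ∃ V : ValuationSubring L, IsDiscreteValuationRing V ∧ (∀ a : A, algebraMap A L a ∈ V) ∧ s ∉ V := by
  have hs0 : s ≠ 0 := fun h => hs (h ▸ isIntegral_zero)
  let R₁ := Algebra.adjoin A ({s⁻¹} : Set L)
  haveI : IsNoetherianRing R₁ := by
    haveI : Algebra.FiniteType A R₁ :=
      Algebra.FiniteType.adjoin_of_finite (Set.finite_singleton _)
    exact Algebra.FiniteType.isNoetherianRing A R₁
  let w : R₁ := ⟨s⁻¹, Algebra.subset_adjoin rfl⟩
  have hnu : ¬ IsUnit w := by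
    intro hu
    obtain ⟨v, hv⟩ := hu.exists_right_inv
    have hv' : s⁻¹ * (v : L) = 1 := congrArg Subtype.val hv
    obtain ⟨f, hf⟩ := (Algebra.adjoin_singleton_eq_range_aeval A s⁻¹).le v.2
    have hvs : (v : L) = s := by
      calc (v : L) = s * (s⁻¹ * v) := by rw [← mul_assoc, mul_inv_cancel₀ hs0, one_mul]
        _ = s := by rw [hv', mul_one]
    have hfs : Polynomial.aeval s⁻¹ f = s := hf.trans hvs
    refine hs ⟨Polynomial.X ^ (f.natDegree + 1) - f.reflect f.natDegree, ?_, ?_⟩
    · refine Polynomial.monic_X_pow_sub ?_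
      refine Polynomial.degree_le_natDegree.trans_lt ?_
      rw [Nat.cast_lt, Nat.lt_succ_iff]
      refine Polynomial.natDegree_reflect_le.trans ?_
      simp
    · rw [← Polynomial.aeval_def, map_sub, map_pow, Polynomial.aeval_X, sub_eq_zero]
      letI : Invertible s⁻¹ := invertibleOfNonzero (inv_ne_zero hs0)
      have h := Polynomial.eval₂_reflect_mul_pow (algebraMap A L) s⁻¹ f.natDegree f le_rfl
      rw [invOf_eq_inv, inv_inv, ← Polynomial.aeval_def, ← Polynomial.aeval_def, hfs] at h
      have h2 := congrArg (· * s ^ f.natDegree) h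
      simp only [mul_assoc, ← mul_pow, inv_mul_cancel₀ hs0, one_pow, mul_one] at h2
      rw [pow_succ', ← h2]
  obtain ⟨m, hm, hwm⟩ := exists_max_ideal_of_mem_nonunits hnu
  let R := Localization.AtPrime m
  have hle : m.primeCompl ≤ nonZeroDivisors R₁ := fun x hx =>
    mem_nonZeroDivisors_of_ne_zero fun h => hx (h ▸ m.zero_mem)
  haveI : IsDomain R := IsLocalization.isDomain_localization hle
  haveI : IsNoetherianRing R := IsLocalization.isNoetherianRing m.primeCompl R inferInstance
  let toL : R →+* L := IsLocalization.lift (M := m.primeCompl) (g := R₁.val.toRingHom) fun x =>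
    isUnit_iff_ne_zero.2 fun h => nonZeroDivisors.ne_zero (hle x.2) (Subtype.ext h)
  letI : Algebra R L := toL.toAlgebra
  haveI : IsScalarTower R₁ R L := IsScalarTower.of_algebraMap_eq fun x => (IsLocalization.lift_eq _ x).symm
  haveI : IsScalarTower A R L := IsScalarTower.of_algebraMap_eq fun a => by
    rw [IsScalarTower.algebraMap_apply A R₁ R, ← IsScalarTower.algebraMap_apply R₁ R L]
    rfl
  have hinj : Function.Injective toL :=
    (IsLocalization.lift_injective_iff (M := m.primeCompl) (S := R) _).2 fun x y => by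
      rw [(IsLocalization.injective R hle).eq_iff]
      exact ⟨fun h => h ▸ rfl, fun h => Subtype.ext h⟩
  haveI : FaithfulSMul R L := (faithfulSMul_iff_algebraMap_injective R L).2 hinj
  have hwR : algebraMap R₁ R w ∈ maximalIdeal R :=
    (IsLocalization.AtPrime.to_map_mem_maximal_iff R m w).2 hwm
  have hRnf : ¬ IsField R := fun h => by
    rw [IsLocalRing.isField_iff_maximalIdeal_eq] at h
    rw [h, Ideal.mem_bot] at hwR
    have := (IsLocalization.injective R hle) (hwR.trans (map_zero (algebraMap R₁ R)).symm)
    exact inv_ne_zero hs0 (congrArg Subtype.val this)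
  haveI : Algebra.EssFiniteType R L := Algebra.EssFiniteType.of_comp A R L
  obtain ⟨V, hV, hRV, hmV⟩ := exists_dvr_of_local (L := L) hRnf
  refine ⟨V, hV, fun a => ?_, fun hsV => ?_⟩
  · rw [IsScalarTower.algebraMap_apply A R L]
    exact hRV _
  · have h1 := hmV _ hwR
    rw [← IsScalarTower.algebraMap_apply R₁ R L] at h1
    change V.valuation s⁻¹ < 1 at h1
    rw [map_inv₀, inv_lt_one₀ ((Valuation.pos_iff _).2 hs0)] at h1
    exact h1.not_ge ((V.valuation_le_one_iff s).2 hsV)

end Groth.Agent.AlgGrp33
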