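import Groth.Agent.AlgGrp33.DivField
import Groth.Agent.AlgGrp33.Affinize
import Groth.Agent.AlgGrp33.IsogSub
import Groth.Agent.AlgGrp79.KernelDescent
import Groth.Agent.AlgGrp79.ActProd
import Groth.Agent.NeronHD28.Proper
import Groth.Agent.S7996
import Groth.Agent.S3030

/-!
The norm map of a group onto an abelian subvariety.
-/

set_option autoImplicit false
set_option linter.unusedSectionVars false
set_option linter.style.haveILetI false
set_option maxHeartbeats 1600000
set_option synthInstance.maxHeartbeats 200000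
set_option backward.isDefEq.respectTransparency.types false
universe u

open CategoryTheory MonoidalCategory CartesianMonoidalCategory MonObj GrpObj AlgebraicGeometry CategoryTheory.Limits
open Groth.Agent.AlgGrp79

namespace Groth.Agent.AlgGrp33.NormMap

open DivField

noncomputable section

variable {k : Type u} [Field k]

/-- a proper smooth connected group has only constant functions -/
lemma antiAff_abelian (A : Over (Spec (CommRingCat.of k))) [GrpObj A] [IsProper A.hom] [Smooth A.hom]
    [ConnectedSpace A.left] : AntiAff A := by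
  have := IsogSub.geometricallyIntegral_of_smooth A
  let K := AlgebraicClosure k
  rw [antiAff_bc_iff K A]
  let t := Spec.map (CommRingCat.ofHom (algebraMap k K))
  have : IsIntegral (Red.bc t A).left :=
    GeometricallyIntegral.geometrically_isIntegral (f := A.hom) _ _ _ (IsPullback.of_hasPullback A.hom t)
  have : IsProper (Red.bc t A).hom := inferInstanceAs (IsProper (pullback.snd A.hom t))
  exact antiAff_of_proper_integral _

/-- an abelian subvariety of a connected group is central -/
lemma central {G A : Over (Spec (CommRingCat.of k))} [GrpObj G] [GrpObj A] [LocallyOfFiniteType G.hom]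
    [QuasiCompact G.hom] [ConnectedSpace G.left] [IsProper A.hom] [Smooth A.hom] [ConnectedSpace A.left]
    (i : A ⟶ G) [IsMonHom i] (T : Over (Spec (CommRingCat.of k))) (a : T ⟶ A) (g : T ⟶ G) :
    (a ≫ i) * g = g * (a ≫ i) := by
  have h := Groth.Agent.S7996.result k A G (antiAff_abelian A) i T a T (𝟙 T) g
  simpa only [Category.id_comp] using h

lemma isNormalHom_of_central {G A : Over (Spec (CommRingCat.of k))} [GrpObj G] [GrpObj A] [LocallyOfFiniteType G.hom]
    [QuasiCompact G.hom] [ConnectedSpace G.left] [IsProper A.hom] [Smooth A.hom] [ConnectedSpace A.left]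
    (i : A ⟶ G) [IsMonHom i] : AlgGrp.IsNormalHom i := fun T g a => ⟨a, by
  rw [← central i T a g, mul_inv_cancel_right]⟩

/-- a separable closure with the Galois action -/
lemma mem_range_of_fixed {K : Type u} [Field K] (x : SeparableClosure K)
    (hx : ∀ g : SeparableClosure K ≃ₐ[K] SeparableClosure K, g x = x) : x ∈ Set.range (algebraMap K (SeparableClosure K)) := by
  have : IsGalois K (SeparableClosure K) := IsSepClosure.isGalois
  exact (InfiniteGalois.mem_bot_iff_fixed x).2 hx |> IntermediateField.mem_bot.1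

/-- number of embeddings in a separably closed field -/
lemma card_algHom {κ L F : Type u} [Field κ] [Field L] [Field F] [Algebra κ L] [Algebra κ F] [FiniteDimensional κ L]
    [Algebra.IsSeparable κ L] [IsSepClosed F] : Fintype.card (L →ₐ[κ] F) = Module.finrank κ L := by
  refine AlgHom.card_of_splits κ L F fun x => ?_
  have h : (minpoly κ x).Separable := Algebra.IsSeparable.isSeparable κ x
  exact IsSepClosed.splits_of_separable _ h.map

variable (G : Over (Spec (CommRingCat.of k)))

/-- **The norm map onto an abelian subvariety.** -/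
theorem exists_norm (A : Over (Spec (CommRingCat.of k))) [GrpObj G] [GrpObj A] [Smooth G.hom] [QuasiCompact G.hom]
    [ConnectedSpace G.left] (i : A ⟶ G) [IsMonHom i] [IsClosedImmersion i.left] [Smooth A.hom]
    [ConnectedSpace A.left] [IsProper A.hom] :
    ∃ (φ : G ⟶ A) (n : ℕ), 0 < n ∧
      ∀ (T : Over (Spec (CommRingCat.of k))) (g : T ⟶ G) (a : T ⟶ A), (g * (a ≫ i)) ≫ φ = (g ≫ φ) * a ^ n := by
  classical
  have := isSeparated_grp G
  have := IsogSub.geometricallyIntegral_of_smooth G
  have := IsogSub.geometricallyIntegral_of_smooth A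
  have hGi : IsIntegral G.left := GeometricallyIntegral.isIntegral_of_subsingleton G.hom
  have hAc : IsCommMonObj A := isCommMonObj_of_isProper_of_geometricallyIntegral A
  have := Over.mono_of_mono_left i
  -- the quotient
  obtain ⟨Q, _, q, hqm, hqf, hqs, hqp, hker, hQs, -, hQsm⟩ :=
    Groth.Agent.S3030.result k A G i (isNormalHom_of_central i)
  have := hQsm inferInstance
  have hQl : LocallyOfFiniteType Q.hom := inferInstance
  have hqsm : Smooth q.left := smooth_left_of_kernel i q hker
  have : IrreducibleSpace Q.left := by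
    have h := (IrreducibleSpace.isIrreducible_univ G.left).image q.left q.left.continuous.continuousOn
    rw [Set.image_univ, q.left.surjective.range_eq] at h
    exact { isPreirreducible_univ := h.2, toNonempty := ⟨h.1.some⟩ }
  have : IsReduced Q.left := isReduced_of_smooth Q.hom
  have : IsIntegral Q.left := isIntegral_of_irreducibleSpace_of_isReduced _
  -- function fields
  let K := G.left.functionField
  letI : Algebra k K := (Spec.preimage (G.left.fromSpecStalk (genericPoint G.left) ≫ G.hom)).hom.toAlgebra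
  have halg : Spec.map (CommRingCat.ofHom (algebraMap k K)) = G.left.fromSpecStalk (genericPoint G.left) ≫ G.hom :=
    Spec.map_preimage _
  let κ := Q.left.functionField
  letI : Algebra k κ := (Spec.preimage (Q.left.fromSpecStalk (genericPoint Q.left) ≫ Q.hom)).hom.toAlgebra
  have halgQ : Spec.map (CommRingCat.ofHom (algebraMap k κ)) = Q.left.fromSpecStalk (genericPoint Q.left) ≫ Q.hom :=
    Spec.map_preimage _
  obtain ⟨ε, hε⟩ := DivField.exists_pt halgQ (pt halg (AlgHom.id k K) ≫ q) (by
    rw [Over.comp_left, Scheme.Hom.comp_apply, pt_apply, generic_of_surjective])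
  -- a separable point of the generic fibre
  let Ks := SeparableClosure κ
  let tK : spF (k := k) Ks ⟶ Q := pt halgQ (IsScalarTower.toAlgHom k κ Ks)
  have hfs : Smooth (pullback.snd q.left tK.left) := MorphismProperty.pullback_snd _ _ hqsm
  have : Nonempty (pullback q.left tK.left : Scheme) := by
    obtain ⟨g, hg⟩ := q.left.surjective (tK.left (IsLocalRing.closedPoint Ks))
    obtain ⟨z, -, -⟩ := Scheme.Pullback.exists_preimage_pullback g _ hg
    exact ⟨z⟩
  have hd := dense_secPts_of_smooth (pullback.snd q.left tK.left)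
  obtain ⟨-, -, s, hs, -⟩ := hd.inter_open_nonempty _ isOpen_univ Set.univ_nonempty
  let Ps : spF (k := k) Ks ⟶ G := Over.homMk (s ≫ pullback.fst q.left tK.left) (by
    rw [Category.assoc, ← Over.w q, pullback.condition_assoc, reassoc_of% hs]
    exact Over.w tK)
  have hPs : Ps ≫ q = tK := Over.OverMorphism.ext (by
    show (s ≫ pullback.fst q.left tK.left) ≫ q.left = tK.left
    rw [Category.assoc, pullback.condition, reassoc_of% hs])
  -- its residue field
  let xP := Ps.left (IsLocalRing.closedPoint Ks)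
  obtain ⟨x', ψ, hψ⟩ : ∃ (x : G.left) (ψ : G.left.residueField x ⟶ CommRingCat.of Ks),
      Spec.map ψ ≫ G.left.fromSpecResidueField x = Ps.left :=
    ⟨_, _, ((Scheme.SpecToEquivOfField Ks G.left).left_inv Ps.left)⟩
  let L₀ := G.left.residueField x'
  let ck : CommRingCat.of k ⟶ L₀ := Spec.preimage (G.left.fromSpecResidueField x' ≫ G.hom)
  letI : Algebra k L₀ := ck.hom.toAlgebra
  have hL₀ : Spec.map (CommRingCat.ofHom (algebraMap k L₀)) = G.left.fromSpecResidueField x' ≫ G.hom :=
    Spec.map_preimage _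
  have hψk : CommRingCat.ofHom (algebraMap k L₀) ≫ ψ = CommRingCat.ofHom (algebraMap k Ks) := by
    apply Spec.map_injective
    rw [Spec.map_comp, hL₀, reassoc_of% hψ]
    exact Over.w Ps
  let ψ' : L₀ →ₐ[k] Ks := { ψ.hom with commutes' := fun c => congr($hψk c) }
  let P : spF (k := k) L₀ ⟶ G := Over.homMk (G.left.fromSpecResidueField x') hL₀.symm
  have hPψ : spMap ψ' ≫ P = Ps := Over.OverMorphism.ext hψ
  obtain ⟨ρ, hρ⟩ := DivField.exists_pt halgQ (P ≫ q) (by
    have h1 : (spMap ψ' ≫ P ≫ q).left (IsLocalRing.closedPoint Ks) = genericPoint Q.left := by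
      rw [reassoc_of% hPψ, hPs]; exact pt_apply halgQ _
    rw [Over.comp_left, Scheme.Hom.comp_apply] at h1
    rw [show spPt0 (k := k) L₀ = (spMap ψ').left (IsLocalRing.closedPoint Ks) from
      Subsingleton.elim (α := PrimeSpectrum L₀) _ _]
    exact h1)
  have hρψ : ψ'.comp ρ = IsScalarTower.toAlgHom k κ Ks := pt_injective halgQ (by
    rw [← pt_comp, hρ, reassoc_of% hPψ, hPs])
  letI : Algebra κ L₀ := ρ.toRingHom.toAlgebra
  have : IsScalarTower k κ L₀ := IsScalarTower.of_algebraMap_eq fun c => (ρ.commutes c).symm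
  let ψκ : L₀ →ₐ[κ] Ks := { ψ'.toRingHom with commutes' := fun c => congr($hρψ c) }
  have : Algebra.IsSeparable κ L₀ := Algebra.IsSeparable.of_algHom κ Ks ψκ
  have : FiniteDimensional κ L₀ := by
    have hfg : (⊤ : IntermediateField k L₀).FG := by
      obtain ⟨_, ⟨U, hU, rfl⟩, hxU, -⟩ := G.left.isBasis_affineOpens.exists_subset_of_mem_open (Set.mem_univ x') isOpen_univ
      let c₀ : CommRingCat.of k ⟶ Γ(G.left, U) :=
        (Scheme.ΓSpecIso (CommRingCat.of k)).inv ≫ G.hom.appLE ⊤ U le_top
      have hfrom : hU.fromSpec ≫ G.hom = Spec.map c₀ := by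
        rw [Spec.map_comp, ← IsAffineOpen.SpecMap_appLE_fromSpec G.hom (isAffineOpen_top _) hU le_top,
          IsAffineOpen.fromSpec_top, Scheme.isoSpec_Spec_inv]
      letI : Algebra k Γ(G.left, U) := c₀.hom.toAlgebra
      have : Algebra.FiniteType k Γ(G.left, U) := by
        have h := G.hom.finiteType_appLE (isAffineOpen_top _) hU le_top
        exact h.comp (RingHom.FiniteType.of_surjective _
          (ConcreteCategory.bijective_of_isIso (Scheme.ΓSpecIso (CommRingCat.of k)).inv).2)
      let ev : Γ(G.left, U) ⟶ L₀ := G.left.evaluation U x' hxU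
      have hev : Spec.map ev ≫ hU.fromSpec = G.left.fromSpecResidueField x' := by
        show Spec.map (G.left.presheaf.germ U x' hxU ≫ G.left.residue x') ≫ hU.fromSpec = _
        rw [Spec.map_comp, Category.assoc]
        exact congrArg (Spec.map (G.left.residue x') ≫ ·) (IsAffineOpen.fromSpecStalk_eq_fromSpecStalk hU hxU)
      have hck : c₀ ≫ ev = CommRingCat.ofHom (algebraMap k L₀) := by
        apply Spec.map_injective
        rw [Spec.map_comp, hL₀, ← hfrom, ← Category.assoc, hev]
      let φ : Γ(G.left, U) →ₐ[k] L₀ := { ev.hom with commutes' := fun c => congr($hck c) }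
      obtain ⟨S, hS⟩ := (Algebra.FiniteType.out : (⊤ : Subalgebra k Γ(G.left, U)).FG)
      refine ⟨S.image φ, top_le_iff.1 fun z _ => ?_⟩
      have hmem : ∀ a, φ a ∈ IntermediateField.adjoin k ((S.image φ : Finset _) : Set L₀) := fun a => by
        have ha : a ∈ Algebra.adjoin k (S : Set Γ(G.left, U)) := by rw [hS]; trivial
        have h1 : φ a ∈ (Algebra.adjoin k (S : Set Γ(G.left, U))).map φ := ⟨a, ha, rfl⟩
        rw [AlgHom.map_adjoin, ← Finset.coe_image] at h1
        exact IntermediateField.algebra_adjoin_le_adjoin k _ h1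
      obtain ⟨y, rfl⟩ := G.left.residue_surjective x' z
      have hloc := hU.isLocalization_stalk ⟨x', hxU⟩
      letI : Algebra Γ(G.left, U) (G.left.presheaf.stalk x') := TopCat.Presheaf.algebra_section_stalk G.left.presheaf ⟨x', hxU⟩
      obtain ⟨⟨a, b⟩, hab⟩ := IsLocalization.surj (hU.primeIdealOf ⟨x', hxU⟩).asIdeal.primeCompl y
      have hb : IsUnit (φ (b : Γ(G.left, U))) :=
        (IsLocalization.map_units (M := (hU.primeIdealOf ⟨x', hxU⟩).asIdeal.primeCompl) _ b).map (G.left.residue x').hom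
      have h2 : (G.left.residue x').hom y * φ (b : Γ(G.left, U)) = φ a :=
        (map_mul _ _ _).symm.trans (congrArg (G.left.residue x').hom hab)
      rw [eq_div_of_mul_eq hb.ne_zero h2]
      exact div_mem (hmem a) (hmem _)
    have hfg' : (⊤ : IntermediateField κ L₀).FG := by
      obtain ⟨S, hS⟩ := hfg
      refine ⟨S, top_le_iff.1 fun z _ => ?_⟩
      have hle : IntermediateField.adjoin k (S : Set L₀) ≤ (IntermediateField.adjoin κ (S : Set L₀)).restrictScalars k :=
        IntermediateField.adjoin_le_iff.2 (IntermediateField.subset_adjoin κ _)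
      exact hle (hS ▸ IntermediateField.mem_top)
    obtain ⟨S, hS⟩ := hfg'
    have := IntermediateField.finiteDimensional_adjoin (K := κ) (S := (S : Set L₀)) fun z _ =>
      (Algebra.IsSeparable.isSeparable κ z).isIntegral
    rw [hS] at this
    exact IntermediateField.topEquiv.toLinearEquiv.finiteDimensional
  let n := Module.finrank κ L₀
  have hn : 0 < n := Module.finrank_pos
  -- embeddings
  let E : ∀ (F : Type u) [Field F] [Algebra k F], (κ →ₐ[k] F) → Type u := fun F _ _ e => { σ : L₀ →ₐ[k] F // σ.comp ρ = e }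
  have hE : ∀ (F : Type u) [Field F] [Algebra k F] (e : κ →ₐ[k] F) [IsSepClosed F],
      ∃ (_ : Fintype (E F e)), Fintype.card (E F e) = n := fun F _ _ e _ => by
    letI : Algebra κ F := e.toRingHom.toAlgebra
    have : IsScalarTower k κ F := IsScalarTower.of_algebraMap_eq fun c => (e.commutes c).symm
    let eq : (L₀ →ₐ[κ] F) ≃ E F e :=
      { toFun := fun σ => ⟨σ.restrictScalars k, AlgHom.ext fun c => σ.commutes c⟩
        invFun := fun σ => { σ.1.toRingHom with commutes' := fun c => congr($(σ.2) c) }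
        left_inv := fun _ => rfl
        right_inv := fun _ => rfl }
    letI := Fintype.ofEquiv _ eq
    exact ⟨inferInstance, (Fintype.card_congr eq.symm).trans card_algHom⟩
  -- the differences
  have hdiff : ∀ (F : Type u) [Field F] [Algebra k F] (e : κ →ₐ[k] F) (x : spF (k := k) F ⟶ G),
      x ≫ q = pt halgQ e → ∀ σ : E F e, ∃ d : spF (k := k) F ⟶ A, d ≫ i = (spMap σ.1 ≫ P)⁻¹ * x := by
    intro F _ _ e x hx σ
    refine exists_ker_of_comp_one hker _ ?_
    rw [MonObj.mul_comp, GrpObj.inv_comp, Category.assoc, ← hρ, pt_comp, σ.2, hx, inv_mul_cancel]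
  -- the sum over the embeddings
  let F := SeparableClosure K
  let eF : κ →ₐ[k] F := (IsScalarTower.toAlgHom k K F).comp ε
  let xF : spF (k := k) F ⟶ G := pt halg (IsScalarTower.toAlgHom k K F)
  have hxF : xF ≫ q = pt halgQ eF := by
    rw [show xF = spMap (IsScalarTower.toAlgHom k K F) ≫ pt halg (AlgHom.id k K) by rw [pt_comp]; rfl,
      Category.assoc, ← hε, pt_comp]
  obtain ⟨fE, hcard⟩ := hE F eF
  choose d hd using hdiff F eF xF hxF
  letI : CommGroup (spF (k := k) F ⟶ A) := { (inferInstance : Group (spF (k := k) F ⟶ A)) with mul_comm := fun a b => mul_comm a b }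
  let sF : spF (k := k) F ⟶ A := ∏ σ, d σ
  have hpre : ∀ {F' : Type u} [Field F'] [Algebra k F'] (Θ : F →ₐ[k] F') (σ : E F eF),
      (spMap Θ ≫ d σ) ≫ i = (spMap (Θ.comp σ.1) ≫ P)⁻¹ * (spMap Θ ≫ xF) := by
    intro F' _ _ Θ σ
    rw [Category.assoc, hd, MonObj.comp_mul, GrpObj.comp_inv, ← Category.assoc,
      show spMap Θ ≫ spMap σ.1 = spMap (Θ.comp σ.1) from Over.OverMorphism.ext (by
        show Spec.map _ ≫ Spec.map _ = Spec.map _
        rw [← Spec.map_comp]; rfl)]
  -- Galois invariance
  have hinv : ∀ g : F ≃ₐ[K] F, spMap (g.toAlgHom.restrictScalars k) ≫ sF = sF := by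
    intro g
    let Θ : F →ₐ[k] F := g.toAlgHom.restrictScalars k
    let H : (spF (k := k) F ⟶ A) →* (spF (k := k) F ⟶ A) :=
      MonoidHom.mk' (fun a => spMap Θ ≫ a) fun a b => MonObj.comp_mul _ a b
    show H sF = sF
    rw [map_prod]
    have hg : Θ.comp eF = eF := AlgHom.ext fun c => g.commutes _
    let perm : E F eF → E F eF := fun σ => ⟨Θ.comp σ.1, by rw [AlgHom.comp_assoc, σ.2, hg]⟩
    have hperm : Function.Bijective perm := (Finite.injective_iff_bijective).1 fun σ σ' h => Subtype.ext
      (AlgHom.ext fun c => g.injective (congr($(congrArg Subtype.val h) c)))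
    refine Fintype.prod_bijective perm hperm _ _ fun σ => ?_
    rw [← cancel_mono i]
    show (spMap Θ ≫ d σ) ≫ i = _
    rw [hpre, hd]
    congr 1
    show spMap Θ ≫ pt halg _ = _
    rw [pt_comp]
    exact congrArg (pt halg) (AlgHom.ext fun c => g.commutes c)
  -- descent to the function field
  obtain ⟨a₀, ψa, hψa⟩ : ∃ (a : A.left) (ψ : A.left.residueField a ⟶ CommRingCat.of F),
      Spec.map ψ ≫ A.left.fromSpecResidueField a = sF.left :=
    ⟨_, _, ((Scheme.SpecToEquivOfField F A.left).left_inv sF.left)⟩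
  have hfix : ∀ z, (ψa z : F) ∈ Set.range (algebraMap K F) := fun z => mem_range_of_fixed _ fun g => by
    have h1 : Spec.map (ψa ≫ CommRingCat.ofHom (g.toAlgHom.restrictScalars k).toRingHom) ≫ A.left.fromSpecResidueField a₀ =
        Spec.map ψa ≫ A.left.fromSpecResidueField a₀ := by
      rw [Spec.map_comp, Category.assoc, hψa]
      exact congr($(hinv g).left)
    rw [cancel_mono] at h1
    exact congr($(Spec.map_injective h1) z)
  let ψ₀ : A.left.residueField a₀ ⟶ CommRingCat.of K := CommRingCat.ofHom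
    ((RingEquiv.ofBijective (algebraMap K F).rangeRestrict
      ⟨fun a b h => (algebraMap K F).injective (congrArg Subtype.val h), (algebraMap K F).rangeRestrict_surjective⟩).symm.toRingHom.comp
        (ψa.hom.codRestrict (algebraMap K F).range fun z => hfix z))
  have hψ₀ : ψ₀ ≫ CommRingCat.ofHom (algebraMap K F) = ψa := by
    refine CommRingCat.hom_ext (RingHom.ext fun z => ?_)
    exact congrArg Subtype.val (RingEquiv.apply_symm_apply
      (RingEquiv.ofBijective (algebraMap K F).rangeRestrict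
      ⟨fun a b h => (algebraMap K F).injective (congrArg Subtype.val h), (algebraMap K F).rangeRestrict_surjective⟩) _)
  let s₀ : Spec (G.left.presheaf.stalk (genericPoint G.left)) ⟶ A.left := Spec.map ψ₀ ≫ A.left.fromSpecResidueField a₀
  have hs₀F : Spec.map (CommRingCat.ofHom (algebraMap K F)) ≫ s₀ = sF.left := by
    show Spec.map _ ≫ Spec.map ψ₀ ≫ _ = _
    rw [← Spec.map_comp_assoc, hψ₀, hψa]
  have hs₀k : s₀ ≫ A.hom = G.left.fromSpecStalk (genericPoint G.left) ≫ G.hom := by
    obtain ⟨c₁, hc₁⟩ : ∃ c : CommRingCat.of k ⟶ CommRingCat.of K, Spec.map c = s₀ ≫ A.hom := ⟨_, Spec.map_preimage _⟩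
    have h2 : c₁ ≫ CommRingCat.ofHom (algebraMap K F) = CommRingCat.ofHom (algebraMap k F) := by
      apply Spec.map_injective
      rw [Spec.map_comp, hc₁, reassoc_of% hs₀F]
      exact Over.w sF
    rw [← hc₁, ← halg]
    refine congrArg Spec.map (CommRingCat.hom_ext (RingHom.ext fun c => (algebraMap K F).injective ?_))
    exact (congr($h2 c)).trans (IsScalarTower.algebraMap_apply k K F c)
  obtain ⟨U, hxU, f, hf, hfk⟩ := spread_out_of_isGermInjective' (sX := G.hom) (sY := A.hom) s₀ hs₀k
  have hU : Dense (U : Set G.left) := U.2.dense ⟨_, hxU⟩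
  have : Smooth G.hom := ‹_›
  letI : GrpObj (Over.mk A.hom) := ‹GrpObj A›
  obtain ⟨φl, ⟨hφk, hφU⟩, -⟩ := NeronHD28.existsUnique_extension_proper (R := k) G.hom A.hom U hU f hfk
  let φ : G ⟶ A := Over.homMk φl hφk
  have hφF : xF ≫ φ = sF := by
    refine Over.OverMorphism.ext ?_
    show (Spec.map _ ≫ G.left.fromSpecStalk _) ≫ φl = _
    rw [Category.assoc, ← Scheme.Opens.fromSpecStalkOfMem_ι U _ hxU, Category.assoc, hφU, ← hf]
    exact hs₀F
  refine ⟨φ, n, hn, ?_⟩
  -- the equation at the generic point of `G ⊗ A`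
  let GA : Over (Spec (CommRingCat.of k)) := G ⊗ A
  have : GeometricallyIntegral GA.hom := Alb96.geometricallyIntegral_tensor G A
  have : IsIntegral GA.left := GeometricallyIntegral.isIntegral_of_subsingleton GA.hom
  let K₂ := GA.left.functionField
  letI : Algebra k K₂ := (Spec.preimage (GA.left.fromSpecStalk (genericPoint GA.left) ≫ GA.hom)).hom.toAlgebra
  have halg₂ : Spec.map (CommRingCat.ofHom (algebraMap k K₂)) = GA.left.fromSpecStalk (genericPoint GA.left) ≫ GA.hom :=
    Spec.map_preimage _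
  let z : spF (k := k) K₂ ⟶ GA := pt halg₂ (AlgHom.id k K₂)
  let m₂ : GA ⟶ G := fst G A * (snd G A ≫ i)
  have hs1 : Surjective (fst G A).left := ⟨fun g => ⟨(lift (𝟙 G) 1).left g, by
    rw [← Scheme.Hom.comp_apply, ← Over.comp_left, lift_fst]; rfl⟩⟩
  have hs2 : Surjective m₂.left := ⟨fun g => ⟨(lift (𝟙 G) 1).left g, by
    rw [← Scheme.Hom.comp_apply, ← Over.comp_left, MonObj.comp_mul, lift_fst, lift_snd_assoc, MonObj.one_comp, _root_.mul_one]; rfl⟩⟩
  obtain ⟨θ₁, hθ₁⟩ := DivField.exists_pt halg (z ≫ fst G A) (by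
    rw [Over.comp_left, Scheme.Hom.comp_apply, pt_apply, generic_of_surjective])
  obtain ⟨θ₂, hθ₂⟩ := DivField.exists_pt halg (z ≫ m₂) (by
    rw [Over.comp_left, Scheme.Hom.comp_apply, pt_apply, generic_of_surjective])
  have hq12 : θ₂.comp ε = θ₁.comp ε := pt_injective halgQ (by
    have hiq : i ≫ q = 1 := by
      have := hker.w; rw [this, ← one_def']
    rw [← pt_comp, hε, ← pt_comp halgQ θ₁ ε, hε, ← Category.assoc, pt_comp, AlgHom.comp_id, hθ₂, ← Category.assoc,
      pt_comp, AlgHom.comp_id, hθ₁, Category.assoc, Category.assoc, MonObj.mul_comp, Category.assoc, hiq,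
      MonObj.comp_one, _root_.mul_one])
  let F₂ := SeparableClosure K₂
  let j₂ : K₂ →ₐ[k] F₂ := IsScalarTower.toAlgHom k K₂ F₂
  have hlift : ∀ θ : K →ₐ[k] K₂, ∃ Θ : F →ₐ[k] F₂, Θ.comp (IsScalarTower.toAlgHom k K F) = j₂.comp θ := by
    intro θ
    letI : Algebra K F₂ := (j₂.comp θ).toRingHom.toAlgebra
    have : IsScalarTower k K F₂ := IsScalarTower.of_algebraMap_eq fun c => ((j₂.comp θ).commutes c).symm
    exact ⟨(IsSepClosed.lift (K := K) (L := F) (M := F₂)).restrictScalars k,
      AlgHom.ext fun c => (IsSepClosed.lift (K := K) (L := F) (M := F₂)).commutes c⟩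
  obtain ⟨Θ₁, hΘ₁⟩ := hlift θ₁
  obtain ⟨Θ₂, hΘ₂⟩ := hlift θ₂
  let e₂ : κ →ₐ[k] F₂ := (j₂.comp θ₁).comp ε
  have he1 : Θ₁.comp eF = e₂ := by rw [← AlgHom.comp_assoc, hΘ₁]
  have he2 : Θ₂.comp eF = e₂ := by rw [← AlgHom.comp_assoc, hΘ₂, AlgHom.comp_assoc, hq12, ← AlgHom.comp_assoc]
  obtain ⟨fE₂, hcard₂⟩ := hE F₂ e₂
  have hbij : ∀ (Θ : F →ₐ[k] F₂) (h : Θ.comp eF = e₂),
      Function.Bijective (fun σ : E F eF => (⟨Θ.comp σ.1, by rw [AlgHom.comp_assoc, σ.2, h]⟩ : E F₂ e₂)) := by
    intro Θ h
    refine (Fintype.bijective_iff_injective_and_card _).2 ⟨fun σ σ' e => Subtype.ext (AlgHom.ext fun c =>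
      Θ.toRingHom.injective (congr($(congrArg Subtype.val e) c))), hcard.trans hcard₂.symm⟩
  letI : CommGroup (spF (k := k) F₂ ⟶ A) := { (inferInstance : Group (spF (k := k) F₂ ⟶ A)) with mul_comm := fun a b => mul_comm a b }
  have hsum : ∀ (Θ : F →ₐ[k] F₂), spMap Θ ≫ sF = ∏ σ, spMap Θ ≫ d σ := fun Θ =>
    map_prod (MonoidHom.mk' (fun a : spF (k := k) F ⟶ A => spMap Θ ≫ a) fun a b => MonObj.comp_mul _ a b) _ _
  let e12 : E F eF ≃ E F eF := (Equiv.ofBijective _ (hbij Θ₂ he2)).trans (Equiv.ofBijective _ (hbij Θ₁ he1)).symm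
  let z₂ : spF (k := k) F₂ ⟶ GA := spMap j₂ ≫ z
  have hx1 : spMap Θ₁ ≫ xF = z₂ ≫ fst G A := by
    rw [pt_comp, hΘ₁, ← pt_comp, hθ₁, ← Category.assoc]
  have hx2 : spMap Θ₂ ≫ xF = (z₂ ≫ fst G A) * ((z₂ ≫ snd G A) ≫ i) := by
    rw [pt_comp, hΘ₂, ← pt_comp, hθ₂]
    simp only [m₂, z₂, MonObj.comp_mul, Category.assoc]
  have key : spMap Θ₂ ≫ sF = (spMap Θ₁ ≫ sF) * (z₂ ≫ snd G A) ^ n := by
    rw [hsum, hsum, ← hcard, ← Finset.card_univ, ← Finset.prod_const, ← Equiv.prod_comp e12 (fun σ => spMap Θ₁ ≫ d σ),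
      ← Finset.prod_mul_distrib]
    refine Finset.prod_congr rfl fun σ _ => ?_
    have hσ : Θ₁.comp (e12 σ).1 = Θ₂.comp σ.1 :=
      congrArg Subtype.val ((Equiv.ofBijective _ (hbij Θ₁ he1)).apply_symm_apply (Equiv.ofBijective _ (hbij Θ₂ he2) σ))
    rw [← cancel_mono i, MonObj.mul_comp, hpre, hpre, hσ, hx1, hx2, _root_.mul_assoc]
  have hl : ((fst G A * (snd G A ≫ i)) ≫ φ : GA ⟶ A) = (fst G A ≫ φ) * snd G A ^ n := by
    have e : z₂ ≫ (fst G A * (snd G A ≫ i)) ≫ φ = z₂ ≫ ((fst G A ≫ φ) * snd G A ^ n) := by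
      rw [← Category.assoc, MonObj.comp_mul, ← Category.assoc z₂ (snd G A), ← hx2, Category.assoc (spMap Θ₂) xF φ, hφF, key,
        MonObj.comp_mul, ← Category.assoc z₂ (fst G A), ← hx1, Category.assoc (spMap Θ₁) xF φ, hφF]
      congr 1
      exact (map_pow (MonoidHom.mk' (fun a : GA ⟶ A => z₂ ≫ a) fun a b => MonObj.comp_mul _ a b) _ n).symm
    have : IsDominant z₂.left := by
      refine ⟨fun t => closure_mono (Set.singleton_subset_iff.2 ?_) ((genericPoint_spec GA.left).ge trivial)⟩
      refine ⟨IsLocalRing.closedPoint F₂, ?_⟩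
      show (spMap j₂ ≫ pt halg₂ (AlgHom.id k K₂)).left _ = _
      rw [pt_comp]; exact pt_apply halg₂ _
    exact Over.OverMorphism.ext (ext_of_isDominant_of_isSeparated A.hom (by rw [Over.w, Over.w]) z₂.left (congr($(e).left)))
  intro T g a
  let H : (GA ⟶ A) →* (T ⟶ A) := MonoidHom.mk' (fun b => lift g a ≫ b) fun u v => MonObj.comp_mul _ u v
  have := congrArg H hl
  rw [map_mul, map_pow] at this
  simpa [H, MonObj.comp_mul, ← Category.assoc] using this

end

end Groth.Agent.AlgGrp33.NormMap
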