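import Groth.Prelude.Def_AGF
import Groth.Prelude.Def_Red2
import Groth.Agent.S12540
import Groth.Agent.S3278
import Groth.Agent.S0082
import Groth.Agent.AlgGrp33.AffineProper
import Groth.Agent.AlgGrp79.KernelPts
import Groth.Agent.AlgGrp79.FiniteKernelHom
import Groth.Agent.Grp57.Unit

/-!
`G/H ⟶ G/N` is affine, where `N` normalizes the neutral component of `H`.
-/

set_option autoImplicit false
set_option backward.isDefEq.respectTransparency.types false
universe u

open CategoryTheory CategoryTheory.Limits MonoidalCategory CartesianMonoidalCategory MonObj GrpObj AlgebraicGeometry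
open Groth.Agent.AlgGrp79
open Groth.Agent.S12540 (orbit_pt orbit_eq_iff)

namespace Groth.Agent.AlgGrp33.NormQuot

noncomputable section

variable {k : Type u} [Field k]

theorem qsep {X : Over (Spec (CommRingCat.of k))} [LocallyOfFiniteType X.hom] : QuasiSeparatedSpace X.left :=
  have := LocallyOfFiniteType.isLocallyNoetherian X.hom
  inferInstance

/-- the orbit square of an equivariant morphism of homogeneous spaces -/
theorem orbit_square {G X X' : Over (Spec (CommRingCat.of k))} [GrpObj G] {a : AlgGrp.Action G X}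
    {a' : AlgGrp.Action G X'} {o : 𝟙_ (Over (Spec (CommRingCat.of k))) ⟶ X}
    {o' : 𝟙_ (Over (Spec (CommRingCat.of k))) ⟶ X'} (hc' : IsCov (a'.orbitMap o'))
    (p : X' ⟶ X) (hp : a'.orbitMap o' ≫ p = a.orbitMap o) :
    IsPullback (fst G (pullback p o)) (lift (fst G (pullback p o)) (snd G (pullback p o) ≫ pullback.fst p o) ≫ a'.act)
      (a.orbitMap o) p := by
  have hequiv : a'.act ≫ p = lift (fst G X') (snd G X' ≫ p) ≫ a.act := by
    have := (hc'.whiskerLeft G).epi
    rw [← cancel_epi (G ◁ a'.orbitMap o')]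
    have e1 : (G ◁ a'.orbitMap o') ≫ a'.act = (fst G G * snd G G) ≫ a'.orbitMap o' := by
      rw [orbit_pt, mul_act']
      congr 1
      ext : 1
      · simp
      · simp [orbit_pt]
    rw [← Category.assoc, e1, Category.assoc, hp, orbit_pt, mul_act', ← orbit_pt, ← Category.assoc, comp_lift,
      whiskerLeft_fst, whiskerLeft_snd_assoc, hp]
  let Y := pullback p o
  let y₀ : Y ⟶ X' := pullback.fst p o
  have hy₀ : y₀ ≫ p = toUnit Y ≫ o := by
    rw [pullback.condition, toUnit_unique (pullback.snd p o) (toUnit Y)]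
  let Φ : G ⊗ Y ⟶ X' := lift (fst G Y) (snd G Y ≫ y₀) ≫ a'.act
  refine ⟨⟨?_⟩, ⟨PullbackCone.IsLimit.mk _
    (fun s => lift s.fst (pullback.lift (lift s.fst⁻¹ s.snd ≫ a'.act) (toUnit s.pt) ?_)) ?_ ?_ ?_⟩⟩
  · show _ = Φ ≫ p
    simp only [Φ, Category.assoc, hequiv]
    rw [orbit_pt, ← Category.assoc, comp_lift, lift_fst, lift_snd_assoc, Category.assoc, hy₀,
      ← Category.assoc (snd G Y), toUnit_unique (snd G Y ≫ toUnit Y) (toUnit _)]
  · have e := s.condition
    rw [orbit_pt] at e
    rw [Category.assoc, hequiv, ← Category.assoc, comp_lift, lift_fst, lift_snd_assoc, ← e,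
      inv_act_act]
  · intro s; simp
  · intro s
    rw [← Category.assoc, comp_lift, lift_fst, lift_snd_assoc, pullback.lift_fst, act_inv_act]
  · intro s m h1 h2
    refine CartesianMonoidalCategory.hom_ext _ _ (by rw [lift_fst]; exact h1) ?_
    rw [lift_snd]
    apply pullback.hom_ext
    · rw [pullback.lift_fst, ← h2, ← h1]
      simp only [Category.assoc]
      rw [comp_lift_act, inv_act_act]
    · exact toUnit_unique _ _

/-- a homomorphism killing an open subgroup has finite image -/
theorem finite_range [IsAlgClosed k] {H H₀ W : Over (Spec (CommRingCat.of k))} [GrpObj H] [GrpObj H₀] [GrpObj W]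
    [LocallyOfFiniteType H.hom] [CompactSpace H.left]
    (j : H₀ ⟶ H) [IsMonHom j] [IsOpenImmersion j.left] (φ : H ⟶ W) [IsMonHom φ] (h : j ≫ φ = 1) :
    (Set.range φ.left).Finite := by
  have : JacobsonSpace H.left := LocallyOfFiniteType.jacobsonSpace H.hom
  let c := IsLocalRing.closedPoint k
  let U : (𝟙_ (Over (Spec (CommRingCat.of k))) ⟶ H) → Set H.left := fun a => Set.range (j * (toUnit H₀ ≫ a)).left
  have hU : ∀ a, IsOpen (U a) := fun a => by
    have e : j * (toUnit H₀ ≫ a) = j ≫ (GrpObj.mulRight a).hom := by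
      rw [GrpObj.mulRight_hom, comp_lift_assoc, Category.comp_id, ← Category.assoc, comp_toUnit, ← Hom.mul_def]
    show IsOpen (Set.range (j * (toUnit H₀ ≫ a)).left)
    rw [e, Over.comp_left, Scheme.Hom.comp_base, TopCat.coe_comp, Set.range_comp]
    exact (Grp57.transl a).isOpenMap _ j.left.isOpenEmbedding.isOpen_range
  have hconst : ∀ a, φ.left '' U a ⊆ {(a ≫ φ).left c} := fun a => by
    rintro _ ⟨_, ⟨z, rfl⟩, rfl⟩
    have e : (j * (toUnit H₀ ≫ a)) ≫ φ = toUnit H₀ ≫ a ≫ φ := by
      rw [mul_comp', h, _root_.one_mul, Category.assoc]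
    show φ.left ((j * (toUnit H₀ ≫ a)).left z) = _
    rw [← Scheme.Hom.comp_apply, ← Over.comp_left, e, Over.comp_left, Scheme.Hom.comp_apply]
    exact congrArg _ (Subsingleton.elim (α := PrimeSpectrum k) _ _)
  have hcov : ⋃ a, U a = Set.univ := by
    by_contra hne
    obtain ⟨x, hx, hxc⟩ := nonempty_inter_closedPoints (Z := (⋃ a, U a)ᶜ)
      (Set.nonempty_compl.2 hne) (isOpen_iUnion hU).isClosed_compl.isLocallyClosed
    let a : 𝟙_ (Over (Spec (CommRingCat.of k))) ⟶ H :=
      Over.homMk (pointOfClosedPoint H.hom x hxc) (pointOfClosedPoint_comp H.hom x hxc)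
    refine hx (Set.mem_iUnion.2 ⟨a, η[H₀].left c, ?_⟩)
    have e : η[H₀] ≫ (j * (toUnit H₀ ≫ a)) = a := by
      rw [MonObj.comp_mul, IsMonHom.one_hom, ← Category.assoc, toUnit_unique (η[H₀] ≫ toUnit H₀) (𝟙 _), Category.id_comp,
        show (η[H] : 𝟙_ _ ⟶ H) = 1 by simp [Hom.one_def], _root_.one_mul]
    rw [← Scheme.Hom.comp_apply, ← Over.comp_left, e]
    exact pointOfClosedPoint_apply H.hom x hxc c
  obtain ⟨t, ht⟩ := isCompact_univ.elim_finite_subcover U hU hcov.ge
  refine ((t.finite_toSet.image fun a => (a ≫ φ).left c)).subset ?_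
  rintro _ ⟨x, rfl⟩
  obtain ⟨a, ha, hxa⟩ := Set.mem_iUnion₂.1 (ht (Set.mem_univ x))
  exact ⟨a, ha, (hconst a ⟨x, hxa, rfl⟩).symm⟩

theorem isAffineHom_quotientMap [IsAlgClosed k]
    (G H H₀ N Q₁ Q₂ : Over (Spec (CommRingCat.of k))) [GrpObj G] [GrpObj H] [GrpObj H₀] [GrpObj N]
    [IsAffine G.left] [LocallyOfFiniteType G.hom]
    (i : H ⟶ G) [IsMonHom i] [IsClosedImmersion i.left]
    (j : H₀ ⟶ H) [IsMonHom j] [IsOpenImmersion j.left]
    (n : N ⟶ G) (hN : Red.IsNormalizerOf (j ≫ i) n)
    (a₁ : AlgGrp.Action G Q₁) (o₁ : 𝟙_ (Over (Spec (CommRingCat.of k))) ⟶ Q₁) (hQ₁ : AGF.IsQuotient i Q₁ a₁ o₁)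
    (a₂ : AlgGrp.Action G Q₂) (o₂ : 𝟙_ (Over (Spec (CommRingCat.of k))) ⟶ Q₂) (hQ₂ : AGF.IsQuotient n Q₂ a₂ o₂)
    (f : Q₁ ⟶ Q₂) (hf : a₁.orbitMap o₁ ≫ f = a₂.orbitMap o₂) :
    IsAffineHom f.left := by
  obtain ⟨hnm, hnmono, hnorm⟩ := hN
  have := hQ₁.1; have := hQ₁.2.1; have := hQ₁.2.2.1
  have := hQ₂.1; have := hQ₂.2.1; have := hQ₂.2.2.1
  have := qsep (X := Q₁); have := qsep (X := Q₂)
  let b₁ := a₁.orbitMap o₁
  let b₂ := a₂.orbitMap o₂
  have hb₁ : IsCov b₁ := isCov_of_flat_surjective _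
  have : CompactSpace G.left := inferInstance
  have hone : ∀ {Q : Over (Spec (CommRingCat.of k))} (a : AlgGrp.Action G Q) (o : 𝟙_ _ ⟶ Q)
      (T : Over (Spec (CommRingCat.of k))), (1 : T ⟶ G) ≫ a.orbitMap o = toUnit T ≫ o := fun a o T => by
    rw [orbit_pt, one_act']
  have hsq2 : IsPullback n (toUnit N) b₂ o₂ := by
    have h0 : n ≫ b₂ = toUnit N ≫ o₂ := by
      rw [← hone a₂ o₂ N]
      exact ((orbit_eq_iff hQ₂ 1 n).2 ⟨𝟙 N, by rw [_root_.one_mul, Category.id_comp]⟩).symm
    refine ⟨⟨h0⟩, ⟨PullbackCone.IsLimit.mk _ (fun s => ((orbit_eq_iff hQ₂ 1 s.fst).1 (by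
      rw [hone, s.condition, toUnit_unique s.snd (toUnit _)])).choose) ?_ ?_ ?_⟩⟩
    · intro s
      have e := ((orbit_eq_iff hQ₂ 1 s.fst).1 (by
        rw [hone, s.condition, toUnit_unique s.snd (toUnit _)])).choose_spec
      rw [_root_.one_mul] at e
      exact e.symm
    · intro s; exact toUnit_unique _ _
    · intro s m h1 _
      have e := ((orbit_eq_iff hQ₂ 1 s.fst).1 (by
        rw [hone, s.condition, toUnit_unique s.snd (toUnit _)])).choose_spec
      rw [_root_.one_mul] at e
      rw [← cancel_mono n, h1, ← e]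
  have ho₂ : o₁ ≫ f = o₂ := by
    have e : (1 : 𝟙_ _ ⟶ G) ≫ b₁ ≫ f = (1 : 𝟙_ _ ⟶ G) ≫ b₂ := by rw [hf]
    rwa [← Category.assoc, hone, hone, toUnit_unique (toUnit (𝟙_ (Over (Spec (CommRingCat.of k))))) (𝟙 _),
      Category.id_comp, Category.id_comp] at e
  have hlft₂ : LocallyOfFiniteType o₂.left := by
    have : LocallyOfFiniteType (o₂.left ≫ Q₂.hom) := by
      rw [Over.w]; exact inferInstanceAs (LocallyOfFiniteType (𝟙 _))
    exact locallyOfFiniteType_of_comp _ Q₂.hom
  have hqc₂ : QuasiCompact o₂.left := by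
    have : QuasiCompact (o₂.left ≫ Q₂.hom) := by
      rw [Over.w]; exact inferInstanceAs (QuasiCompact (𝟙 _))
    have : QuasiSeparated Q₂.hom := (quasiSeparated_iff_quasiSeparatedSpace Q₂.hom).2 inferInstance
    exact QuasiCompact.of_comp _ Q₂.hom
  have : LocallyOfFiniteType n.left := MorphismProperty.of_isPullback (isPullback_left hsq2).flip hlft₂
  have : QuasiCompact n.left := MorphismProperty.of_isPullback (isPullback_left hsq2).flip hqc₂
  have : LocallyOfFiniteType N.hom := by rw [← Over.w n]; infer_instance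
  have : QuasiCompact N.hom := by rw [← Over.w n]; infer_instance
  have hnc : IsClosedImmersion n.left := isClosedImmersion_hom_of_trivial_kernel n fun T g hg => by
    rw [← cancel_mono n, hg, MonObj.one_comp]
  have : IsAffine N.left := isAffine_of_isAffineHom n.left
  have : LocallyOfFiniteType H.hom := by rw [← Over.w i]; infer_instance
  have : QuasiCompact H.hom := by rw [← Over.w i]; infer_instance
  have : IsAffine H.left := isAffine_of_isAffineHom i.left
  have : IsLocallyNoetherian H.left := LocallyOfFiniteType.isLocallyNoetherian H.hom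
  have : IsNoetherian H.left := {}
  have : LocallyOfFiniteType H₀.hom := by rw [← Over.w j]; infer_instance
  have : QuasiCompact H₀.hom := by
    rw [← Over.w j]
    have : TopologicalSpace.NoetherianSpace H₀.left := j.left.isOpenEmbedding.isInducing.noetherianSpace
    have : QuasiCompact j.left := (HasAffineProperty.iff_of_isAffine (P := @QuasiCompact)).2 inferInstance
    infer_instance
  have := Over.mono_of_mono_left j
  have : IsClosedImmersion j.left := isClosedImmersion_hom_of_trivial_kernel j fun T g hg => by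
    rw [← cancel_mono j, hg, MonObj.one_comp]
  obtain ⟨i', hi'⟩ : ∃ i' : H ⟶ N, i' ≫ n = i := by
    have e : i ≫ b₁ = toUnit H ≫ o₁ := by
      rw [← hone a₁ o₁ H]
      exact ((orbit_eq_iff hQ₁ 1 i).2 ⟨𝟙 H, by rw [_root_.one_mul, Category.id_comp]⟩).symm
    exact ⟨hsq2.lift i (toUnit H) (by rw [show b₂ = b₁ ≫ f from hf.symm, ← Category.assoc, e, Category.assoc, ho₂]), hsq2.lift_fst _ _ _⟩
  have : IsMonHom i' := AffineProper.isMonHom_of_mono i' n i hi'
  have : IsClosedImmersion i'.left := by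
    have : IsClosedImmersion (i'.left ≫ n.left) := by rw [← Over.comp_left, hi']; infer_instance
    exact IsClosedImmersion.of_comp _ n.left
  let e := j ≫ i'
  have : IsClosedImmersion e.left := inferInstanceAs (IsClosedImmersion (j.left ≫ i'.left))
  have henorm : AlgGrp.IsNormalHom e := fun T g h => by
    obtain ⟨⟨h', hh'⟩, -⟩ := (hnorm T (g ≫ n)).1 ⟨g, rfl⟩ T (𝟙 T) h
    refine ⟨h', ?_⟩
    rw [Category.id_comp] at hh'
    rw [← cancel_mono n, mul_comp', mul_comp', GrpObj.inv_comp, Category.assoc h' e n,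
      Category.assoc h e n, Category.assoc j i' n, hi']
    exact hh'
  obtain ⟨W, _, q, _, _, _, _, _, hq⟩ := S3278.result k N H₀ e henorm
  have hqc : IsCov q := isCov_of_flat_surjective q
  let Z := pullback f o₂
  let y₀ : Z ⟶ Q₁ := pullback.fst f o₂
  have hZlft : LocallyOfFiniteType Z.hom := by
    have : LocallyOfFiniteType (f.left ≫ Q₂.hom) := by rw [Over.w]; infer_instance
    have := locallyOfFiniteType_of_comp f.left Q₂.hom
    have h1 : LocallyOfFiniteType (pullback.snd f o₂).left :=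
      MorphismProperty.of_isPullback (isPullback_left (IsPullback.of_hasPullback f o₂)) this
    rw [← Over.w (pullback.snd f o₂)]
    exact MorphismProperty.comp_mem _ _ _ h1 (inferInstanceAs (LocallyOfFiniteType (𝟙 (Spec (CommRingCat.of k)))))
  let π : N ⟶ Z := pullback.lift (n ≫ b₁) (toUnit N) (by rw [Category.assoc, hf]; exact hsq2.w)
  have hπsq : IsPullback n π b₁ y₀ := by
    refine IsPullback.of_bot (h₃₁ := o₂) (v₂₁ := pullback.snd f o₂) (v₂₂ := f) ?_ (pullback.lift_fst _ _ _).symm
      (IsPullback.of_hasPullback f o₂)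
    rw [hf, pullback.lift_snd]
    exact hsq2
  have hπc : IsCov π := IsCov.of_isPullback hπsq hb₁
  have hπeq : ∀ {T : Over (Spec (CommRingCat.of k))} (g g' : T ⟶ N),
      g ≫ π = g' ≫ π ↔ ∃ h : T ⟶ H, g' = g * (h ≫ i') := fun g g' => by
    have e1 : g ≫ π = g' ≫ π ↔ (g ≫ n) ≫ b₁ = (g' ≫ n) ≫ b₁ := by
      refine ⟨fun h => ?_, fun h => pullback.hom_ext ?_ (toUnit_unique _ _)⟩
      · have h2 := congrArg (· ≫ y₀) h
        simpa only [π, y₀, Category.assoc, pullback.lift_fst] using h2
      · simpa only [π, Category.assoc, pullback.lift_fst] using h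
    rw [e1, orbit_eq_iff hQ₁]
    refine exists_congr fun h => ?_
    rw [← hi', ← Category.assoc h i' n, ← mul_comp', cancel_mono]
  obtain ⟨p, hp⟩ := hqc.desc π fun T g g' hgg => by
    obtain ⟨m, hm⟩ := exists_ker_of_comp_eq q e hq g g' hgg
    refine (hπeq g g').2 ⟨m ≫ j, ?_⟩
    rw [Category.assoc, ← hm, mul_inv_cancel_left]
  let oZ := (1 : 𝟙_ (Over (Spec (CommRingCat.of k))) ⟶ N) ≫ π
  have honeπ : ∀ T : Over (Spec (CommRingCat.of k)), (1 : T ⟶ N) ≫ π = toUnit T ≫ oZ := fun T => by
    rw [← Category.assoc, MonObj.comp_one]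
  let Y := pullback p oZ
  let y : Y ⟶ W := pullback.fst p oZ
  have hy : y ≫ p = toUnit Y ≫ oZ := by
    rw [pullback.condition, toUnit_unique (pullback.snd p oZ) (toUnit Y)]
  let Φ : N ⊗ Y ⟶ W := (fst N Y ≫ q) * (snd N Y ≫ y)
  -- points of `Y` come from `H`
  have hlift : ∀ {T : Over (Spec (CommRingCat.of k))} (w : T ⟶ Y),
      ∃ (T' : Over (Spec (CommRingCat.of k))) (c : T' ⟶ T) (h : T' ⟶ H), IsCov c ∧ h ≫ i' ≫ q = c ≫ w ≫ y := fun w => by
    obtain ⟨T', c, x, hc, hx⟩ := hqc.exists_lift (w ≫ y)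
    obtain ⟨h, hh⟩ := (hπeq 1 x).1 (by
      rw [honeπ, ← hp, ← Category.assoc x q p, hx, Category.assoc, Category.assoc, hy]
      simp only [← Category.assoc]
      rw [toUnit_unique ((c ≫ w) ≫ toUnit Y) (toUnit T')])
    rw [_root_.one_mul] at hh
    exact ⟨T', c, h, hc, by rw [← Category.assoc, ← hh, hx]⟩
  have hWsq : IsPullback (fst N Y) Φ π p := by
    have hw : fst N Y ≫ π = Φ ≫ p := by
      obtain ⟨T', c, h, hc, hh⟩ := hlift (snd N Y)
      have := hc.epi
      rw [← cancel_epi c, ← Category.assoc c Φ p]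
      have e : c ≫ Φ = ((c ≫ fst N Y) * (h ≫ i')) ≫ q := by
        rw [MonObj.comp_mul, mul_comp', Category.assoc h i' q, hh, Category.assoc]
      rw [e, Category.assoc, hp, ← Category.assoc]
      exact (hπeq _ _).2 ⟨h, rfl⟩
    refine ⟨⟨hw⟩, ⟨PullbackCone.IsLimit.mk _
      (fun s => lift s.fst (pullback.lift ((s.fst ≫ q)⁻¹ * s.snd) (toUnit s.pt) ?_)) ?_ ?_ ?_⟩⟩
    · obtain ⟨T', c, x, hc, hx⟩ := hqc.exists_lift s.snd
      have := hc.epi
      rw [← cancel_epi c, ← Category.assoc, MonObj.comp_mul, GrpObj.comp_inv, ← hx, ← Category.assoc c s.fst q,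
        ← GrpObj.inv_comp, ← mul_comp', Category.assoc, hp, ← Category.assoc c (toUnit _) oZ, comp_toUnit, ← honeπ]
      have hcond : (c ≫ s.fst) ≫ π = x ≫ π := by
        have e1 : x ≫ π = c ≫ s.snd ≫ p := by rw [← Category.assoc, ← hx, Category.assoc]; exact congrArg (x ≫ ·) hp.symm
        rw [e1, Category.assoc, s.condition]
      obtain ⟨h, hh⟩ := (hπeq _ _).1 hcond
      exact ((hπeq _ _).2 ⟨h, by rw [_root_.one_mul, hh, inv_mul_cancel_left]⟩).symm
    · intro s; exact lift_fst _ _
    · intro s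
      simp only [Φ, y, MonObj.comp_mul, lift_fst_assoc, lift_snd_assoc, pullback.lift_fst, mul_inv_cancel_left]
    · intro s m h1 h2
      refine CartesianMonoidalCategory.hom_ext _ _ (by rw [lift_fst]; exact h1) ?_
      rw [lift_snd]
      apply pullback.hom_ext
      · rw [pullback.lift_fst, ← h2, ← h1]
        simp only [Φ, y, MonObj.comp_mul, Category.assoc, inv_mul_cancel_left]
      · exact toUnit_unique _ _
  -- the fibre is finite
  have := Over.mono_of_mono_left i'
  have hmono : Mono oZ := ⟨fun u v _ => toUnit_unique u v⟩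
  have : Mono y := pullback.fst_of_mono
  have : Mono y.left := inferInstanceAs (Mono ((Over.forget _).map y))
  have : CompactSpace H.left := inferInstance
  have hfinφ : (Set.range (i' ≫ q).left).Finite := finite_range j (i' ≫ q) (by
    have h1 := hq.w
    rw [← Category.assoc, h1, one_def'])
  have hYrange : Set.range y.left ⊆ Set.range (i' ≫ q).left := by
    rintro _ ⟨z, rfl⟩
    obtain ⟨T', c, h, hc, hh⟩ := hlift (𝟙 Y)
    obtain ⟨t, rfl⟩ := hc.surj.surj z
    refine ⟨h.left t, ?_⟩
    have e := congrArg (fun g => g.left t) hh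
    simp only [Category.id_comp, Over.comp_left, Scheme.Hom.comp_apply] at e ⊢
    exact e
  have hlftp : LocallyOfFiniteType p.left := by
    have : LocallyOfFiniteType (p.left ≫ Z.hom) := by rw [Over.w]; infer_instance
    exact locallyOfFiniteType_of_comp _ Z.hom
  have : LocallyOfFiniteType Y.hom := by
    have h1 : LocallyOfFiniteType (pullback.snd p oZ).left :=
      MorphismProperty.of_isPullback (isPullback_left (IsPullback.of_hasPullback p oZ)) hlftp
    rw [← Over.w (pullback.snd p oZ)]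
    exact MorphismProperty.comp_mem _ _ _ h1 (inferInstanceAs (LocallyOfFiniteType (𝟙 (Spec (CommRingCat.of k)))))
  have hYfin : Finite Y.left := by
    have hfin : (Set.range y.left).Finite := hfinφ.subset hYrange
    have hinj : Function.Injective y.left := y.left.injective
    exact Finite.of_finite_univ (Set.Finite.of_finite_image (by rwa [Set.image_univ]) hinj.injOn)
  have : CompactSpace Y.left := Finite.compactSpace
  have : QuasiCompact Y.hom := HasAffineProperty.iff_of_isAffine.2 ‹CompactSpace Y.left›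
  have : LocallyQuasiFinite Y.hom := LocallyQuasiFinite.of_finite_preimage_singleton Y.hom fun x => Set.toFinite _
  have hfst : IsFinite (fst N Y).left := MorphismProperty.pullback_fst _ _ (IsFinite.of_locallyQuasiFinite Y.hom)
  have : IsLocallyNoetherian Z.left := LocallyOfFiniteType.isLocallyNoetherian Z.hom
  have := hπc.flat
  have := hπc.surj
  have hπq : QuasiCompact π.left := inferInstance
  have hpfin : IsFinite p.left := by
    have := S0084.result.{u}
    exact MorphismProperty.of_isPullback_of_descendsAlong (Q := @Surjective ⊓ @Flat ⊓ @QuasiCompact)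
      (isPullback_left hWsq) ⟨⟨inferInstance, inferInstance⟩, inferInstance⟩ hfst
  have : Surjective p.left := by
    have : Surjective (q.left ≫ p.left) := by rw [← Over.comp_left, hp]; infer_instance
    exact Surjective.of_comp q.left p.left
  have : CompactSpace Z.left := ⟨by
    rw [← π.left.surjective.range_eq]
    exact isCompact_range π.left.continuous⟩
  have : IsNoetherian Z.left := {}
  have : IsAffine Z.left := Approx60.isAffine_of_finite_surjective p.left
  have hG : IsAffineHom (fst G Z).left :=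
    MorphismProperty.pullback_fst _ _ (isAffineHom_of_isAffine Z.hom)
  have : IsLocallyNoetherian Q₂.left := LocallyOfFiniteType.isLocallyNoetherian Q₂.hom
  have := S0082.result.{u}
  exact MorphismProperty.of_isPullback_of_descendsAlong (Q := @Surjective ⊓ @Flat ⊓ @QuasiCompact)
    (isPullback_left (orbit_square hb₁ f hf)) ⟨⟨hQ₂.2.2.1, hQ₂.2.1⟩, inferInstance⟩ hG

end

end Groth.Agent.AlgGrp33.NormQuot
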