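import Groth.Agent.GMod80.Alg

/-!
Hopf algebras with the same points are isomorphic.
-/

set_option autoImplicit false
set_option linter.unusedSectionVars false

universe u

open WithConv TensorProduct
open scoped TensorProduct

noncomputable section

namespace Groth.Agent.AlgGrp33

variable {k : Type u} [Field k] {A B : Type u} [CommRing A] [HopfAlgebra k A] [CommRing B] [HopfAlgebra k B]

/-- a natural multiplicative bijection on points comes from an isomorphism of Hopf algebras -/
theorem exists_bialgEquiv_of_points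
    (v : ∀ (R : Type u) [CommRing R] [Algebra k R], WithConv (B →ₐ[k] R) → WithConv (A →ₐ[k] R))
    (vbij : ∀ (R : Type u) [CommRing R] [Algebra k R], Function.Bijective (v R))
    (vmul : ∀ (R : Type u) [CommRing R] [Algebra k R] (f g : WithConv (B →ₐ[k] R)),
      v R (f * g) = v R f * v R g)
    (vnat : ∀ (R R' : Type u) [CommRing R] [Algebra k R] [CommRing R'] [Algebra k R'] (q : R →ₐ[k] R')
      (f : WithConv (B →ₐ[k] R)), v R' (toConv (q.comp f.ofConv)) = toConv (q.comp (v R f).ofConv)) :
    ∃ E : A ≃ₐc[k] B, ∀ (R : Type u) [CommRing R] [Algebra k R] (f : WithConv (B →ₐ[k] R)),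
      v R f = toConv (f.ofConv.comp (E : A →ₐ[k] B)) := by
  let φ : A →ₐ[k] B := (v B (toConv (AlgHom.id k B))).ofConv
  have hv : ∀ (R : Type u) [CommRing R] [Algebra k R] (f : WithConv (B →ₐ[k] R)),
      v R f = toConv (f.ofConv.comp φ) := fun R _ _ f => by
    have h := vnat B R f.ofConv (toConv (AlgHom.id k B))
    simp only [ofConv_toConv, AlgHom.comp_id] at h
    exact h
  obtain ⟨f₀, hf₀⟩ := (vbij A).2 (toConv (AlgHom.id k A))
  rw [hv] at hf₀
  have h2 : f₀.ofConv.comp φ = AlgHom.id k A := congrArg WithConv.ofConv hf₀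
  have h1 : φ.comp f₀.ofConv = AlgHom.id k B := by
    refine congrArg WithConv.ofConv ((vbij B).1 (a₁ := toConv (φ.comp f₀.ofConv))
      (a₂ := toConv (AlgHom.id k B)) ?_)
    rw [hv, hv]
    simp only [ofConv_toConv, AlgHom.comp_assoc, h2, AlgHom.comp_id, AlgHom.id_comp]
  have hbij : Function.Bijective φ :=
    ⟨Function.LeftInverse.injective (g := f₀.ofConv) fun a => AlgHom.congr_fun h2 a,
      fun b => ⟨f₀.ofConv b, AlgHom.congr_fun h1 b⟩⟩
  have hone : v k 1 = 1 := by
    have h := vmul k 1 1
    rw [_root_.one_mul] at h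
    obtain ⟨w, hw⟩ := (vbij k).2 1
    have h' := vmul k 1 w
    rw [_root_.one_mul, hw, _root_.mul_one] at h'
    exact h'.symm
  have hε : (Bialgebra.counitAlgHom k B).comp φ = Bialgebra.counitAlgHom k A := by
    rw [hv] at hone
    exact congrArg WithConv.ofConv hone
  have hΔ : (Algebra.TensorProduct.map φ φ).comp (Bialgebra.comulAlgHom k A) =
      (Bialgebra.comulAlgHom k B).comp φ := by
    have h := vmul (B ⊗[k] B) (toConv Algebra.TensorProduct.includeLeft)
      (toConv Algebra.TensorProduct.includeRight)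
    rw [← GMod80.comulAlgHom_eq_lr, hv, hv, hv] at h
    refine WithConv.toConv_injective ?_
    rw [ofConv_toConv] at h
    rw [h, show Bialgebra.comulAlgHom k A = (toConv (Bialgebra.comulAlgHom k A)).ofConv from rfl,
      GMod80.comulAlgHom_eq_lr, AlgHom.comp_convMul_distrib, toConv_ofConv]
    congr 2
    all_goals (apply AlgHom.ext; intro a; simp)
  let Φ : A →ₐc[k] B := BialgHom.ofAlgHom φ hε hΔ
  refine ⟨BialgEquiv.ofBijective Φ hbij, fun R _ _ f => ?_⟩
  rw [hv]
  rfl

end Groth.Agent.AlgGrp33
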