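import Groth.Agent.Csa25.ProjLin
import Groth.Agent.S9576

/-!
Rational points of projective space given by coordinates and their images under linear substitutions.
-/

set_option autoImplicit false
open CategoryTheory CategoryTheory.Limits AlgebraicGeometry HomogeneousLocalization MvPolynomial

noncomputable section

namespace Groth.Agent.AlgGrp33.ProjPoint

universe u

open Csa25

variable {n : ℕ} {R R' : Type u} [CommRing R] [CommRing R']

/-- evaluation of degree zero fractions at a vector -/
def evAway (v : Fin (n + 1) → R) (s : MvPolynomial (Fin (n + 1)) R) (h : eval v s = 1) :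
    Away (CohB1.polyGrading n R) s →+* R :=
  (IsLocalization.Away.lift s (g := eval v) (h ▸ isUnit_one) : Localization.Away s →+* R).comp
    (algebraMap (Away (CohB1.polyGrading n R) s) (Localization.Away s))

theorem evAway_mk (v : Fin (n + 1) → R) {d : ℕ} {s : MvPolynomial (Fin (n + 1)) R}
    (hs : s ∈ CohB1.polyGrading n R d) (h : eval v s = 1) (N : ℕ) (a : MvPolynomial (Fin (n + 1)) R)
    (ha : a ∈ CohB1.polyGrading n R (N • d)) :
    evAway v s h (Away.mk _ hs N a ha) = eval v a := by
  let L : Localization.Away s →+* R := IsLocalization.Away.lift s (g := eval v) (h ▸ isUnit_one)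
  show L (Away.mk _ hs N a ha).val = eval v a
  rw [Away.val_mk]
  have h1 : Localization.mk a (⟨s ^ N, ⟨N, rfl⟩⟩ : Submonoid.powers s) *
      algebraMap _ (Localization.Away s) (s ^ N) = algebraMap _ (Localization.Away s) a := by
    rw [Localization.mk_eq_mk']
    exact IsLocalization.mk'_spec _ a (⟨s ^ N, ⟨N, rfl⟩⟩ : Submonoid.powers s)
  have h2 := congrArg L h1
  have hL : ∀ x, L (algebraMap _ (Localization.Away s) x) = eval v x := fun x =>
    IsLocalization.Away.lift_eq s _ x
  rw [map_mul, hL, hL, map_pow, h, one_pow, mul_one] at h2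
  exact h2

/-- the point with given coordinates, one form of positive degree taking the value one there -/
def pointAt (v : Fin (n + 1) → R) {d : ℕ} {s : MvPolynomial (Fin (n + 1)) R}
    (hs : s ∈ CohB1.polyGrading n R d) (hd : 0 < d) (h : eval v s = 1) :
    Spec (CommRingCat.of R) ⟶ CohB1.ProjSpace n R :=
  Spec.map (CommRingCat.ofHom (evAway v s h)) ≫ Proj.awayι (CohB1.polyGrading n R) s hs hd

theorem pointAt_toSpec (v : Fin (n + 1) → R) {d : ℕ} {s : MvPolynomial (Fin (n + 1)) R}
    (hs : s ∈ CohB1.polyGrading n R d) (hd : 0 < d) (h : eval v s = 1) :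
    pointAt v hs hd h ≫ CohB1.ProjSpace.toSpec n R = 𝟙 _ := by
  show (_ ≫ _) ≫ Proj.toSpecZero (CohB1.polyGrading n R) ≫
    Spec.map (CommRingCat.ofHom (algebraMap R (CohB1.polyGrading n R 0))) = _
  rw [Category.assoc, Proj.awayι_toSpecZero_assoc, ← Spec.map_comp, ← Spec.map_comp,
    ← CommRingCat.ofHom_comp, ← CommRingCat.ofHom_comp]
  refine Eq.trans ?_ (Spec.map_id (CommRingCat.of R))
  refine congrArg Spec.map (CommRingCat.hom_ext (RingHom.ext fun r => ?_))
  show evAway v s h (HomogeneousLocalization.fromZeroRingHom _ _ (algebraMap R (CohB1.polyGrading n R 0) r)) = r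
  let L : Localization.Away s →+* R := IsLocalization.Away.lift s (g := eval v) (h ▸ isUnit_one)
  show L (Localization.mk (algebraMap R (MvPolynomial (Fin (n + 1)) R) r) 1) = r
  rw [Localization.mk_one_eq_algebraMap, show L = IsLocalization.Away.lift s (g := eval v) (h ▸ isUnit_one) from rfl,
    IsLocalization.Away.lift_eq]
  exact eval_C r

theorem pointAt_mul (v : Fin (n + 1) → R) {d d' : ℕ} {s s' : MvPolynomial (Fin (n + 1)) R}
    (hs : s ∈ CohB1.polyGrading n R d) (hs' : s' ∈ CohB1.polyGrading n R d') (hd : 0 < d)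
    (h : eval v s = 1) (h' : eval v s' = 1) :
    pointAt v hs hd h = pointAt v (SetLike.mul_mem_graded hs hs') (hd.trans_le (d.le_add_right d'))
      (by rw [map_mul, h, h', one_mul]) := by
  simp only [pointAt]
  rw [← Proj.SpecMap_awayMap_awayι (CohB1.polyGrading n R) hs hd hs' rfl]
  refine Eq.trans ?_ (Category.assoc _ _ _)
  refine congrArg (fun f => f ≫ Proj.awayι (CohB1.polyGrading n R) s hs hd) ?_
  rw [← Spec.map_comp, ← CommRingCat.ofHom_comp]
  congr 2
  refine RingHom.ext fun x => ?_
  obtain ⟨N, a, ha, rfl⟩ := Away.mk_surjective (CohB1.polyGrading n R) hs x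
  rw [RingHom.comp_apply, awayMap_mk (hg := hs') (hx := rfl), evAway_mk, evAway_mk, map_mul, map_pow, h', one_pow,
    mul_one]

theorem pointAt_eq (v : Fin (n + 1) → R) {d d' : ℕ} {s s' : MvPolynomial (Fin (n + 1)) R}
    (hs : s ∈ CohB1.polyGrading n R d) (hs' : s' ∈ CohB1.polyGrading n R d') (hd : 0 < d) (hd' : 0 < d')
    (h : eval v s = 1) (h' : eval v s' = 1) : pointAt v hs hd h = pointAt v hs' hd' h' := by
  rw [pointAt_mul v hs hs' hd h h', pointAt_mul v hs' hs hd' h' h]
  have : ∀ {e e' : ℕ} {p p' : MvPolynomial (Fin (n + 1)) R} (hp : p ∈ CohB1.polyGrading n R e)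
      (hp' : p' ∈ CohB1.polyGrading n R e') (he : 0 < e) (he' : 0 < e') (q : eval v p = 1) (q' : eval v p' = 1),
      e = e' → p = p' → pointAt v hp he q = pointAt v hp' he' q' := by
    intro e e' p p' hp hp' he he' q q' h1 h2
    subst h1 h2
    rfl
  exact this _ _ _ _ _ _ (add_comm d d') (mul_comm s s')

theorem eval_linHom (θ : R →+* R') (g : Matrix (Fin (n + 1)) (Fin (n + 1)) R') (v' : Fin (n + 1) → R')
    (v : Fin (n + 1) → R) (hv : ∀ j, eval v' (linForm g j) = θ (v j)) (p : MvPolynomial (Fin (n + 1)) R) :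
    eval v' (linHom θ g p) = θ (eval v p) := by
  have h : (eval v').comp (linHom θ g : MvPolynomial (Fin (n + 1)) R →+* MvPolynomial (Fin (n + 1)) R') =
      θ.comp (eval v) := by
    refine MvPolynomial.ringHom_ext (fun r => ?_) fun j => ?_
    · show eval v' (linHom θ g (C r)) = θ (eval v (C r))
      rw [linHom_C, eval_C, eval_C]
    · show eval v' (linHom θ g (X j)) = θ (eval v (X j))
      rw [linHom_X, eval_X, hv]
  exact RingHom.congr_fun h p

theorem evAway_map (θ : R →+* R') (g : Matrix (Fin (n + 1)) (Fin (n + 1)) R') (v' : Fin (n + 1) → R')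
    (v : Fin (n + 1) → R) (hv : ∀ j, eval v' (linForm g j) = θ (v j)) {d : ℕ} {s : MvPolynomial (Fin (n + 1)) R}
    (hs : s ∈ CohB1.polyGrading n R d) (h : eval v s = 1) :
    (evAway v' (linHom θ g s) ((eval_linHom θ g v' v hv s).trans (by rw [h, map_one]))).comp (Away.map (linHom θ g) s) =
      θ.comp (evAway v s h) := by
  refine RingHom.ext fun x => ?_
  obtain ⟨N, a, ha, rfl⟩ := Away.mk_surjective (CohB1.polyGrading n R) hs x
  rw [RingHom.comp_apply, RingHom.comp_apply, evAway_mk, Away.map_mk, evAway_mk, eval_linHom θ g v' v hv]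

theorem pointAt_linMap (θ : R →+* R') (g : Matrix (Fin (n + 1)) (Fin (n + 1)) R') (hg : IsUnit g)
    (v' : Fin (n + 1) → R') (v : Fin (n + 1) → R) (hv : ∀ j, eval v' (linForm g j) = θ (v j)) {d : ℕ}
    {s : MvPolynomial (Fin (n + 1)) R} (hs : s ∈ CohB1.polyGrading n R d) (hd : 0 < d) (h : eval v s = 1)
    {d' : ℕ} {s' : MvPolynomial (Fin (n + 1)) R'} (hs' : s' ∈ CohB1.polyGrading n R' d') (hd' : 0 < d')
    (h' : eval v' s' = 1) :
    pointAt v' hs' hd' h' ≫ linMap θ g hg = Spec.map (CommRingCat.ofHom θ) ≫ pointAt v hs hd h := by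
  rw [pointAt_eq v' hs' ((linHom θ g).map_mem hs) hd' hd h' ((eval_linHom θ g v' v hv s).trans (by rw [h, map_one]))]
  refine (Category.assoc _ _ _).trans ?_
  refine (congrArg (fun f => Spec.map _ ≫ f) (Proj.awayι_comp_map _ _ hd _ hs)).trans ?_
  refine (Category.assoc _ _ _).symm.trans (Eq.trans ?_ (Category.assoc _ _ _))
  refine congrArg (fun f => f ≫ Proj.awayι (CohB1.polyGrading n R) s hs hd) ?_
  rw [← Spec.map_comp, ← Spec.map_comp, ← CommRingCat.ofHom_comp, ← CommRingCat.ofHom_comp,
    ← evAway_map θ g v' v hv hs h]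

end Groth.Agent.AlgGrp33.ProjPoint
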