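import Groth.Agent.AlgGrp33.DvrStep
import Groth.Agent.Ega11.RegLocal
import Groth.Agent.Grpd80.DimStab

/-!
Closed subgroups of the generic fibre over a regular local ring specialize, one parameter at a time.
-/

set_option autoImplicit false
set_option linter.style.haveILetI false
set_option backward.isDefEq.respectTransparency.types false
universe u

open CategoryTheory CategoryTheory.Limits MonoidalCategory CartesianMonoidalCategory MonObj GrpObj AlgebraicGeometry
open Groth.Agent.AlgGrp79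
open Groth.Agent.AlgGrp33.DvrStep (pS)

namespace Groth.Agent.AlgGrp33.RegStep

noncomputable section

variable {S : Scheme.{u}}

theorem normal_comp_iso {S' : Scheme.{u}} {A B C : Over S'} [GrpObj A] [GrpObj B] [GrpObj C] (i : A ⟶ B) (e : B ≅ C)
    [IsMonHom e.hom] (h : AlgGrp.IsNormalHom i) : AlgGrp.IsNormalHom (i ≫ e.hom) := fun T g n => by
  obtain ⟨n', hn'⟩ := h T (g ≫ e.inv) n
  refine ⟨n', ?_⟩
  rw [← Category.assoc n', ← hn', mul_comp', mul_comp', GrpObj.inv_comp, Category.assoc, Category.assoc, e.inv_hom_id,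
    Category.comp_id]

/-- the DVR step over an arbitrary base -/
theorem stepT {V : Type u} [CommRing V] [IsDomain V] [IsDiscreteValuationRing V]
    {L : Type u} [Field L] [Algebra V L] [IsFractionRing V L] {K : Type u} [Field K] [Algebra V K]
    (hψ : Function.Surjective (algebraMap V K)) (t : Spec (CommRingCat.of V) ⟶ S)
    {tL : Spec (CommRingCat.of L) ⟶ S} (hL : pS V L ≫ t = tL)
    {tK : Spec (CommRingCat.of K) ⟶ S} (hK : pS V K ≫ t = tK)
    (G : Over S) [GrpObj G] [LocallyOfFiniteType G.hom] [QuasiCompact G.hom]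
    {H : Over (Spec (CommRingCat.of L))} [GrpObj H] (i : H ⟶ Red.bc tL G) [IsMonHom i] [IsClosedImmersion i.left] :
    ∃ (H' : Over (Spec (CommRingCat.of K))) (_ : GrpObj H') (j : H' ⟶ Red.bc tK G),
      IsMonHom j ∧ IsClosedImmersion j.left ∧ topologicalKrullDim ↥H'.left = topologicalKrullDim ↥H.left ∧
      (Flat G.hom → AlgGrp.IsNormalHom i → AlgGrp.IsNormalHom j) ∧
      (IsSeparated G.hom → (IsCommMonObj H → IsCommMonObj H') ∧ (AGF.IsNilpotentGrp H → AGF.IsNilpotentGrp H') ∧
        (Red.IsSolvableGrp H → Red.IsSolvableGrp H')) := by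
  subst hL hK
  obtain ⟨eL, -, heL⟩ := RedPts82.exists_bc_comp_iso (S := S) t (pS V L)
  obtain ⟨eK, -, heK⟩ := RedPts82.exists_bc_comp_iso (S := S) t (pS V K)
  haveI := (heL G).1
  haveI := (heK G).1
  haveI := (heK G).2
  haveI : IsClosedImmersion (i ≫ (eL G).hom).left := by
    haveI : IsIso (eL G).hom.left := inferInstanceAs (IsIso ((Over.forget _).map (eL G).hom))
    exact inferInstanceAs (IsClosedImmersion (i.left ≫ (eL G).hom.left))
  haveI : LocallyOfFiniteType (Red.bc t G).hom := inferInstanceAs (LocallyOfFiniteType (pullback.snd G.hom t))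
  haveI : QuasiCompact (Red.bc t G).hom := inferInstanceAs (QuasiCompact (pullback.snd G.hom t))
  obtain ⟨H', _, j, hj, hjc, hdim, hn, hlaw⟩ := DvrStep.step hψ (Red.bc t G) (i ≫ (eL G).hom)
  haveI : IsClosedImmersion (j ≫ (eK G).inv).left := by
    haveI : IsIso (eK G).inv.left := inferInstanceAs (IsIso ((Over.forget _).map (eK G).inv))
    exact inferInstanceAs (IsClosedImmersion (j.left ≫ (eK G).inv.left))
  refine ⟨H', inferInstance, j ≫ (eK G).inv, inferInstance, this, hdim, fun hf hN => ?_, fun hs => hlaw ?_⟩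
  · haveI hfl : Flat (Red.bc t G).hom := inferInstanceAs (Flat (pullback.snd G.hom t))
    haveI : IsMonHom (eK G).symm.hom := (heK G).2
    exact normal_comp_iso j (eK G).symm (hn hfl (normal_comp_iso i (eL G) hN))
  · exact inferInstanceAs (IsSeparated (pullback.snd G.hom t))

/-- extension of the base field -/
theorem transfer {K K' : Type u} [Field K] [Field K'] (σ : K →+* K') {tL : Spec (CommRingCat.of K) ⟶ S}
    {tK : Spec (CommRingCat.of K') ⟶ S} (hσ : Spec.map (CommRingCat.ofHom σ) ≫ tL = tK)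
    (G : Over S) [GrpObj G] [LocallyOfFiniteType G.hom]
    {H : Over (Spec (CommRingCat.of K))} [GrpObj H] (i : H ⟶ Red.bc tL G) [IsMonHom i] [IsClosedImmersion i.left] :
    ∃ (H' : Over (Spec (CommRingCat.of K'))) (_ : GrpObj H') (j : H' ⟶ Red.bc tK G),
      IsMonHom j ∧ IsClosedImmersion j.left ∧ topologicalKrullDim ↥H'.left = topologicalKrullDim ↥H.left ∧
      (Flat G.hom → AlgGrp.IsNormalHom i → AlgGrp.IsNormalHom j) ∧
      (IsSeparated G.hom → (IsCommMonObj H → IsCommMonObj H') ∧ (AGF.IsNilpotentGrp H → AGF.IsNilpotentGrp H') ∧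
        (Red.IsSolvableGrp H → Red.IsSolvableGrp H')) := by
  subst hσ
  letI : Algebra K K' := σ.toAlgebra
  let τ := Spec.map (CommRingCat.ofHom σ)
  obtain ⟨e, -, he⟩ := RedPts82.exists_bc_comp_iso (S := S) tL τ
  haveI := (he G).2
  haveI := MorphismProperty.of_isPullback (P := @IsClosedImmersion) (AlgGrp79.map_left_isPullback τ i) ‹_›
  haveI hcl : IsClosedImmersion ((Over.pullback τ).map i ≫ (e G).inv).left := by
    haveI : IsIso (e G).inv.left := inferInstanceAs (IsIso ((Over.forget _).map (e G).inv))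
    exact inferInstanceAs (IsClosedImmersion (((Over.pullback τ).map i).left ≫ (e G).inv.left))
  haveI : LocallyOfFiniteType (Red.bc tL G).hom :=
    inferInstanceAs (LocallyOfFiniteType (pullback.snd G.hom tL))
  haveI : LocallyOfFiniteType H.hom := by rw [← Over.w i]; infer_instance
  refine ⟨Red.bc τ H, inferInstance, (Over.pullback τ).map i ≫ (e G).inv, inferInstance, hcl,
    Grpd80.dim_bc_eq H.hom, fun _ hN => ?_, fun _ => ⟨DvrStep.comm_bc τ, WordSpec.nilpotent_bc τ, WordSpec.solvable_bc τ⟩⟩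
  haveI : IsMonHom (e G).symm.hom := (he G).2
  exact normal_comp_iso _ (e G).symm (CAlg6.GrpWord.isNormalHom_bcAny τ i hN)

/-- dimension zero: a field -/
theorem field_case {A : Type u} [CommRing A] [IsDomain A] [IsLocalRing A] (hA : IsLocalRing.maximalIdeal A = ⊥)
    {K : Type u} [Field K] [Algebra A K] [IsFractionRing A K] (t : Spec (CommRingCat.of A) ⟶ S)
    (G : Over S) [GrpObj G] [LocallyOfFiniteType G.hom]
    {H : Over (Spec (CommRingCat.of K))} [GrpObj H] (i : H ⟶ Red.bc (pS A K ≫ t) G) [IsMonHom i] [IsClosedImmersion i.left] :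
    ∃ (H' : Over (Spec (CommRingCat.of (IsLocalRing.ResidueField A)))) (_ : GrpObj H')
      (j : H' ⟶ Red.bc (pS A (IsLocalRing.ResidueField A) ≫ t) G),
      IsMonHom j ∧ IsClosedImmersion j.left ∧ topologicalKrullDim ↥H'.left = topologicalKrullDim ↥H.left ∧
      (Flat G.hom → AlgGrp.IsNormalHom i → AlgGrp.IsNormalHom j) ∧
      (IsSeparated G.hom → (IsCommMonObj H → IsCommMonObj H') ∧ (AGF.IsNilpotentGrp H → AGF.IsNilpotentGrp H') ∧
        (Red.IsSolvableGrp H → Red.IsSolvableGrp H')) := by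
  obtain ⟨σ, hσ⟩ : ∃ σ : K →+* IsLocalRing.ResidueField A, σ.comp (algebraMap A K) = algebraMap A (IsLocalRing.ResidueField A) := by
    have hbij : Function.Bijective (algebraMap A K) := by
      refine ⟨IsFractionRing.injective A K, fun z => ?_⟩
      obtain ⟨a, b, hb, rfl⟩ := IsFractionRing.div_surjective (A := A) z
      obtain ⟨c, hc⟩ := (IsLocalRing.isField_iff_maximalIdeal_eq.mpr hA).mul_inv_cancel (nonZeroDivisors.ne_zero hb)
      refine ⟨a * c, ?_⟩
      rw [map_mul, eq_div_iff (IsFractionRing.to_map_ne_zero_of_mem_nonZeroDivisors hb), _root_.mul_assoc, ← map_mul (algebraMap A K) c b,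
        _root_.mul_comm c b, hc, map_one, _root_.mul_one]
    let e := RingEquiv.ofBijective (algebraMap A K) hbij
    exact ⟨(algebraMap A (IsLocalRing.ResidueField A)).comp e.symm.toRingHom, RingHom.ext fun a =>
      congrArg (algebraMap A (IsLocalRing.ResidueField A)) (e.symm_apply_apply a)⟩
  refine transfer σ ?_ G i
  rw [← Category.assoc]
  congr 1
  rw [← Spec.map_comp, ← CommRingCat.ofHom_comp, hσ]

/-- Specialization of closed subgroups over a regular local ring. -/
theorem reg_step : ∀ (n : ℕ) (A : Type u) [CommRing A] [IsDomain A] [IsRegularLocalRing A],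
    ringKrullDim A ≤ (n : WithBot ℕ∞) →
    ∀ (K : Type u) [Field K] [Algebra A K] [IsFractionRing A K] (t : Spec (CommRingCat.of A) ⟶ S)
    (G : Over S) [GrpObj G] [LocallyOfFiniteType G.hom] [QuasiCompact G.hom]
    (H : Over (Spec (CommRingCat.of K))) [GrpObj H] (i : H ⟶ Red.bc (pS A K ≫ t) G) [IsMonHom i] [IsClosedImmersion i.left],
    ∃ (H' : Over (Spec (CommRingCat.of (IsLocalRing.ResidueField A)))) (_ : GrpObj H')
      (j : H' ⟶ Red.bc (pS A (IsLocalRing.ResidueField A) ≫ t) G),
      IsMonHom j ∧ IsClosedImmersion j.left ∧ topologicalKrullDim ↥H'.left = topologicalKrullDim ↥H.left ∧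
      (Flat G.hom → AlgGrp.IsNormalHom i → AlgGrp.IsNormalHom j) ∧
      (IsSeparated G.hom → (IsCommMonObj H → IsCommMonObj H') ∧ (AGF.IsNilpotentGrp H → AGF.IsNilpotentGrp H') ∧
        (Red.IsSolvableGrp H → Red.IsSolvableGrp H')) := by
  intro n
  induction n with
  | zero =>
    intro A _ _ _ hd K _ _ _ t G _ _ _ H _ i _ _
    refine field_case ?_ t G i
    haveI : Ring.KrullDimLE 0 A := Ring.krullDimLE_iff.2 hd
    exact IsLocalRing.isField_iff_maximalIdeal_eq.mp Ring.KrullDimLE.isField_of_isDomain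
  | succ n ih =>
    intro A _ _ _ hd K _ _ _ t G _ _ _ H _ i _ _
    by_cases h0 : IsLocalRing.maximalIdeal A = ⊥
    · exact field_case h0 t G i
    obtain ⟨x, hx, hx2⟩ : ∃ x ∈ IsLocalRing.maximalIdeal A, x ∉ IsLocalRing.maximalIdeal A ^ 2 := by
      by_contra h
      push Not at h
      refine h0 (Submodule.eq_bot_of_le_smul_of_le_jacobson_bot (IsLocalRing.maximalIdeal A) _
        (IsNoetherian.noetherian _) ?_ (IsLocalRing.maximalIdeal_le_jacobson _))
      intro y hy
      have := h y hy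
      rwa [pow_two] at this
    obtain ⟨hreg, hdim⟩ := Ega11.RegLocal.regular_quotient hx hx2
    haveI := hreg
    let p : Ideal A := Ideal.span {x}
    haveI : IsDomain (A ⧸ p) := Ega11.RegLocal.isDomain_of_regular _ _ le_rfl
    haveI hp : p.IsPrime := (Ideal.Quotient.isDomain_iff_prime p).1 inferInstance
    have hxne : x ≠ 0 := fun h => hx2 (h ▸ zero_mem _)
    let A₁ := Localization.AtPrime p
    haveI : IsDomain A₁ := IsLocalization.isDomain_localization p.primeCompl_le_nonZeroDivisors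
    haveI : IsNoetherianRing A₁ := IsLocalization.isNoetherianRing p.primeCompl A₁ inferInstance
    have hmax : IsLocalRing.maximalIdeal A₁ = Ideal.span {algebraMap A A₁ x} := by
      rw [← Localization.AtPrime.map_eq_maximalIdeal, Ideal.map_span, Set.image_singleton]
    have hnf : ¬ IsField A₁ := fun hF => by
      have h1 := IsLocalRing.isField_iff_maximalIdeal_eq.mp hF
      rw [hmax, Ideal.span_singleton_eq_bot] at h1
      exact hxne (IsLocalization.injective A₁ p.primeCompl_le_nonZeroDivisors (h1.trans (map_zero _).symm))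
    haveI : IsDiscreteValuationRing A₁ :=
      have hP : (IsLocalRing.maximalIdeal A₁).IsPrincipal := ⟨⟨algebraMap A A₁ x, hmax⟩⟩
      ((IsDiscreteValuationRing.TFAE A₁ hnf).out 4 0).mp hP
    letI : Algebra A₁ K := (IsLocalization.lift (M := p.primeCompl) (g := algebraMap A K) fun y =>
      (Ne.isUnit fun h => y.2 (by
        rw [show (y : A) = 0 from IsFractionRing.injective A K (h.trans (map_zero _).symm)]
        exact zero_mem _))).toAlgebra
    haveI : IsScalarTower A A₁ K := .of_algebraMap_eq fun a => (IsLocalization.lift_eq _ a).symm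
    haveI : IsFractionRing A₁ K := IsFractionRing.isFractionRing_of_isDomain_of_isLocalization p.primeCompl A₁ K
    let t₁ : Spec (CommRingCat.of A₁) ⟶ S := Spec.map (CommRingCat.ofHom (algebraMap A A₁)) ≫ t
    have hL : pS A₁ K ≫ t₁ = pS A K ≫ t := by
      rw [← Category.assoc, ← Spec.map_comp, ← CommRingCat.ofHom_comp, ← IsScalarTower.algebraMap_eq]
    have hK : pS A₁ p.ResidueField ≫ t₁ = pS (A ⧸ p) p.ResidueField ≫ (Spec.map (CommRingCat.ofHom (algebraMap A (A ⧸ p))) ≫ t) := by
      rw [← Category.assoc, ← Category.assoc, ← Spec.map_comp, ← Spec.map_comp, ← CommRingCat.ofHom_comp,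
        ← CommRingCat.ofHom_comp, ← IsScalarTower.algebraMap_eq, ← IsScalarTower.algebraMap_eq]
    obtain ⟨H₁, _, j₁, hj₁, hj₁c, hd₁, hn₁, hl₁⟩ := stepT IsLocalRing.residue_surjective t₁ hL hK G i
    have hd' : ringKrullDim (A ⧸ p) ≤ (n : WithBot ℕ∞) := by
      have h := hd
      rw [← hdim, Nat.cast_succ] at h
      generalize ringKrullDim (A ⧸ p) = d at h ⊢
      induction d with
      | bot => exact bot_le
      | coe d =>
        have h' : d + 1 ≤ (n : ℕ∞) + 1 := by exact_mod_cast h
        exact_mod_cast (ENat.add_le_add_iff_right ENat.one_ne_top).mp h'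
    obtain ⟨H₂, _, j₂, hj₂, hj₂c, hd₂, hn₂, hl₂⟩ := ih (A ⧸ p) hd' p.ResidueField (Spec.map (CommRingCat.ofHom (algebraMap A (A ⧸ p))) ≫ t) G H₁ j₁
    -- the residue fields agree
    let q : IsLocalRing.ResidueField (A ⧸ p) →+* IsLocalRing.ResidueField A :=
      Ideal.Quotient.lift _ (Ideal.Quotient.lift p (IsLocalRing.residue A) fun a ha =>
          (IsLocalRing.residue_eq_zero_iff a).2 ((Ideal.span_singleton_le_iff_mem _).2 hx ha)) fun b hb => by
        obtain ⟨a, rfl⟩ := Ideal.Quotient.mk_surjective b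
        exact (IsLocalRing.residue_eq_zero_iff a).2 fun hu => hb (hu.map _)
    haveI := hj₂
    haveI := hj₂c
    obtain ⟨H', hH', j, hj, hjc, hd₃, hn₃, hl₃⟩ := transfer q
      (tK := pS A (IsLocalRing.ResidueField A) ≫ t) (by
        rw [← Category.assoc, ← Category.assoc, ← Spec.map_comp, ← Spec.map_comp, ← CommRingCat.ofHom_comp,
          ← CommRingCat.ofHom_comp]
        rfl) G j₂
    exact ⟨H', hH', j, hj, hjc, hd₃.trans (hd₂.trans hd₁), fun hf h => hn₃ hf (hn₂ hf (hn₁ hf h)),
      fun hs => ⟨fun h => (hl₃ hs).1 ((hl₂ hs).1 ((hl₁ hs).1 h)), fun h => (hl₃ hs).2.1 ((hl₂ hs).2.1 ((hl₁ hs).2.1 h)),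
        fun h => (hl₃ hs).2.2 ((hl₂ hs).2.2 ((hl₁ hs).2.2 h))⟩⟩

theorem reg_step' {A : Type u} [CommRing A] [IsDomain A] [IsRegularLocalRing A]
    {K : Type u} [Field K] [Algebra A K] [IsFractionRing A K]
    (G : Over (Spec (CommRingCat.of A))) [GrpObj G] [LocallyOfFiniteType G.hom] [QuasiCompact G.hom]
    {H : Over (Spec (CommRingCat.of K))} [GrpObj H] (i : H ⟶ Red.bc (pS A K) G) [IsMonHom i] [IsClosedImmersion i.left] :
    ∃ (H' : Over (Spec (CommRingCat.of (IsLocalRing.ResidueField A)))) (_ : GrpObj H')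
      (j : H' ⟶ Red.bc (pS A (IsLocalRing.ResidueField A)) G),
      IsMonHom j ∧ IsClosedImmersion j.left ∧ topologicalKrullDim ↥H'.left = topologicalKrullDim ↥H.left ∧
      (Flat G.hom → AlgGrp.IsNormalHom i → AlgGrp.IsNormalHom j) ∧
      (IsSeparated G.hom → (IsCommMonObj H → IsCommMonObj H') ∧ (AGF.IsNilpotentGrp H → AGF.IsNilpotentGrp H') ∧
        (Red.IsSolvableGrp H → Red.IsSolvableGrp H')) := by
  have key : ∀ (tL : Spec (CommRingCat.of K) ⟶ Spec (CommRingCat.of A)) (tK : Spec (CommRingCat.of (IsLocalRing.ResidueField A)) ⟶ Spec (CommRingCat.of A)),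
      pS A K ≫ 𝟙 _ = tL → pS A (IsLocalRing.ResidueField A) ≫ 𝟙 _ = tK →
      ∀ (i : H ⟶ Red.bc tL G) [IsMonHom i] [IsClosedImmersion i.left],
      ∃ (H' : Over (Spec (CommRingCat.of (IsLocalRing.ResidueField A)))) (_ : GrpObj H') (j : H' ⟶ Red.bc tK G),
        IsMonHom j ∧ IsClosedImmersion j.left ∧ topologicalKrullDim ↥H'.left = topologicalKrullDim ↥H.left ∧
        (Flat G.hom → AlgGrp.IsNormalHom i → AlgGrp.IsNormalHom j) ∧
        (IsSeparated G.hom → (IsCommMonObj H → IsCommMonObj H') ∧ (AGF.IsNilpotentGrp H → AGF.IsNilpotentGrp H') ∧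
          (Red.IsSolvableGrp H → Red.IsSolvableGrp H')) := by
    intro tL tK hL hK i _ _
    subst hL hK
    exact reg_step _ A (IsRegularLocalRing.spanFinrank_maximalIdeal (R := A)).ge K (𝟙 _) G H i
  exact key _ _ (Category.comp_id _) (Category.comp_id _) i

end

end Groth.Agent.AlgGrp33.RegStep
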