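import Groth.Agent.AlgGrp33.TrdegSpec
import Groth.Agent.WC97.Dim
import Groth.Agent.SchBasics.Closure
import Groth.Agent.SchBasics.Reduced
import Groth.Agent.TopDim50.Basic
import Mathlib.RingTheory.Flat.TorsionFree
import Mathlib.AlgebraicGeometry.Morphisms.Flat

/-!
Closures of closed subsets of the generic fibre over a valuation ring.
-/

set_option autoImplicit false
set_option backward.isDefEq.respectTransparency.types false
universe u

open CategoryTheory CategoryTheory.Limits AlgebraicGeometry TopologicalSpace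

namespace Groth.Agent.AlgGrp33.SpecClosure

noncomputable section

variable {V : Type u} [CommRing V] [IsDomain V] [ValuationRing V]

/-- A finite union decomposition of a closed set into point closures. -/
theorem exists_generic_le {Y : Scheme.{u}} {C : Set Y} (hC : IsClosed C) [NoetherianSpace Y]
    {X : Type u} [TopologicalSpace X] (j : Y → X) (hj : Continuous j) {x : X} (hx : x ∈ closure (j '' C)) :
    ∃ ξ ∈ C, j ξ ⤳ x := by
  obtain ⟨S, hSf, hSi, hSU⟩ := NoetherianSpace.exists_finite_set_closeds_irreducible (⟨C, hC⟩ : Closeds Y)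
  have hCU : C = ⋃ t ∈ S, (t : Set Y) := by
    have h := congrArg (fun c : Closeds Y => (c : Set Y)) hSU
    lift S to Finset (Closeds Y) using hSf
    simp only [← Finset.sup_id_eq_sSup, Closeds.coe_finset_sup] at h
    refine (show C = _ from h).trans ?_
    simp [Finset.sup_set_eq_biUnion]
  rw [hCU, Set.image_iUnion₂, hSf.closure_biUnion] at hx
  obtain ⟨t, ht, hxt⟩ := Set.mem_iUnion₂.1 hx
  have hg := (hSi t ht).isGenericPoint_genericPoint_closure
  rw [show closure (t : Set Y) = (t : Set Y) from t.isClosed.closure_eq] at hg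
  refine ⟨(hSi t ht).genericPoint, hCU ▸ Set.mem_biUnion ht hg.mem, specializes_iff_mem_closure.2 ?_⟩
  refine closure_minimal ?_ isClosed_closure hxt
  rintro _ ⟨z, hz, rfl⟩
  exact ((hg.specializes hz).map hj).mem_closure

section Residue

variable {X XF : Scheme.{u}} (f : X ⟶ Spec (CommRingCat.of V)) {F : Type u} [Field F] [Algebra V F]
  (fF : XF ⟶ Spec (CommRingCat.of F)) (j : XF ⟶ X)

/-- The residue field of a point of a fibre as the fraction field of a quotient of a chart. -/
theorem exists_residue_chart [IsPreimmersion j]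
    (hw : j ≫ f = fF ≫ Spec.map (CommRingCat.ofHom (algebraMap V F)))
    {U : X.Opens} (hU : IsAffineOpen U) (z : XF) (hz : j z ∈ U) :
    letI : Algebra V Γ(X, U) := (Spec.preimage (hU.fromSpec ≫ f)).hom.toAlgebra
    ∃ φ : (Γ(X, U) ⧸ (hU.primeIdealOf ⟨j z, hz⟩).asIdeal) →+* XF.residueField z,
      Function.Injective φ ∧
      (∀ w, ∃ a b, φ b ≠ 0 ∧ w = φ a / φ b) ∧
      ∀ v : V, φ (algebraMap V _ v) = WC97.kStr fF z (algebraMap V F v) := by
  letI : Algebra V Γ(X, U) := (Spec.preimage (hU.fromSpec ≫ f)).hom.toAlgebra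
  let ev : Γ(X, U) →+* XF.residueField z := (X.evaluation U (j z) hz ≫ j.residueFieldMap z).hom
  have hker : RingHom.ker ev = (hU.primeIdealOf ⟨j z, hz⟩).asIdeal := by
    rw [← WC97.ker_evaluation hU hz]
    exact RingHom.ker_comp_of_injective _ (j.residueFieldMap z).hom.injective
  refine ⟨Ideal.Quotient.lift _ ev fun a ha => by rwa [← hker] at ha, ?_, fun w => ?_, fun v => ?_⟩
  · refine (injective_iff_map_eq_zero _).2 fun a ha => ?_
    obtain ⟨a, rfl⟩ := Ideal.Quotient.mk_surjective a
    rw [Ideal.Quotient.eq_zero_iff_mem, ← hker]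
    exact ha
  · obtain ⟨s, hs⟩ := XF.residue_surjective z w
    obtain ⟨s', rfl⟩ := j.stalkMap_surjective z s
    obtain ⟨a, b, hb, he⟩ := WC97.evaluation_div hU hz (X.residue (j z) s')
    refine ⟨Ideal.Quotient.mk _ a, Ideal.Quotient.mk _ b, ?_, ?_⟩
    · exact fun h0 => hb ((j.residueFieldMap z).hom.injective (h0.trans (map_zero _).symm))
    · rw [← hs]
      have h1 := congrArg (j.residueFieldMap z).hom he
      rw [map_div₀] at h1
      exact ((ConcreteCategory.congr_hom (Scheme.residue_residueFieldMap j z) s').symm).trans h1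
  · have h : (Spec.preimage (hU.fromSpec ≫ f)) ≫ (X.evaluation U (j z) hz ≫ j.residueFieldMap z) =
        CommRingCat.ofHom (algebraMap V F) ≫ CommRingCat.ofHom (WC97.kStr fF z) := by
      apply Spec.map_injective
      rw [Spec.map_comp, Spec.map_comp, Spec.map_comp, Spec.map_preimage, WC97.kStr_spec, Category.assoc, Category.assoc,
        ← Category.assoc (Spec.map (X.evaluation U (j z) hz)), ← WC97.fromSpecResidueField_eq hU hz,
        Scheme.Hom.SpecMap_residueFieldMap_fromSpecResidueField_assoc, hw]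
    exact ConcreteCategory.congr_hom h v

end Residue

section Fibres

variable {L K : Type u} [Field L] [Field K] [Algebra V L] [IsFractionRing V L] [Algebra V K]
  {X XL XK : Scheme.{u}} {f : X ⟶ Spec (CommRingCat.of V)}
  {jL : XL ⟶ X} {fL : XL ⟶ Spec (CommRingCat.of L)} (hL : IsPullback jL fL f (Spec.map (CommRingCat.ofHom (algebraMap V L))))
  {jK : XK ⟶ X} {fK : XK ⟶ Spec (CommRingCat.of K)} (hK : IsPullback jK fK f (Spec.map (CommRingCat.ofHom (algebraMap V K))))
  (hψ : Function.Surjective (algebraMap V K))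

include hL in
theorem isPreimmersion_left : IsPreimmersion jL := by
  have : IsPreimmersion (Spec.map (CommRingCat.ofHom (algebraMap V L))) :=
    IsPreimmersion.of_isLocalization (nonZeroDivisors V)
  exact MorphismProperty.of_isPullback hL.flip this

include hK hψ in
theorem isClosedImmersion_right : IsClosedImmersion jK :=
  MorphismProperty.of_isPullback hK.flip
    (IsClosedImmersion.spec_of_surjective (CommRingCat.ofHom (algebraMap V K)) hψ)

include hL in
theorem mem_range_left {x : X} (h : f x = ⟨⊥, Ideal.isPrime_bot⟩) : x ∈ Set.range jL := by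
  let η : Spec (CommRingCat.of L) := IsLocalRing.closedPoint L
  have hη : Spec.map (CommRingCat.ofHom (algebraMap V L)) η = f x := by
    rw [h]
    refine PrimeSpectrum.ext ?_
    show (IsLocalRing.maximalIdeal L).comap (algebraMap V L) = ⊥
    rw [IsLocalRing.maximalIdeal_eq_bot, ← RingHom.ker_eq_comap_bot, ← RingHom.injective_iff_ker_eq_bot]
    exact IsFractionRing.injective V L
  obtain ⟨y, hy, -⟩ := Scheme.Pullback.exists_preimage_pullback (f := f)
    (g := Spec.map (CommRingCat.ofHom (algebraMap V L))) x η hη.symm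
  exact ⟨hL.isoPullback.inv y, by rw [← Scheme.Hom.comp_apply, hL.isoPullback_inv_fst]; exact hy⟩

include hK hψ in
theorem mem_range_right {x : X} (h : ∀ v, algebraMap V K v = 0 → v ∈ (f x).asIdeal) : x ∈ Set.range jK := by
  let η : Spec (CommRingCat.of K) := IsLocalRing.closedPoint K
  have hη : Spec.map (CommRingCat.ofHom (algebraMap V K)) η = f x := by
    have hmax : (RingHom.ker (algebraMap V K)).IsMaximal := RingHom.ker_isMaximal_of_surjective _ hψ
    refine PrimeSpectrum.ext ?_
    show (IsLocalRing.maximalIdeal K).comap (algebraMap V K) = (f x).asIdeal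
    rw [IsLocalRing.maximalIdeal_eq_bot, ← RingHom.ker_eq_comap_bot]
    exact hmax.eq_of_le (f x).isPrime.ne_top fun v hv => h v hv
  obtain ⟨y, hy, -⟩ := Scheme.Pullback.exists_preimage_pullback (f := f)
    (g := Spec.map (CommRingCat.ofHom (algebraMap V K))) x η hη.symm
  exact ⟨hK.isoPullback.inv y, by rw [← Scheme.Hom.comp_apply, hK.isoPullback_inv_fst]; exact hy⟩

include hL in
theorem apply_left (y : XL) : (f (jL y)).asIdeal = ⊥ := by
  rw [← Scheme.Hom.comp_apply, hL.w, Scheme.Hom.comp_apply]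
  show (fL y).asIdeal.comap (algebraMap V L) = ⊥
  rw [(fL y).asIdeal.eq_bot_or_top.resolve_right (fL y).isPrime.ne_top, ← RingHom.ker_eq_comap_bot,
    ← RingHom.injective_iff_ker_eq_bot]
  exact IsFractionRing.injective V L

include hL in
theorem preimage_closure {C : Set XL} (hC : IsClosed C) : jL ⁻¹' closure (jL '' C) = C := by
  have := isPreimmersion_left hL
  rw [← jL.isEmbedding.isInducing.closure_eq_preimage_closure_image, hC.closure_eq]

/-- The reduced closure of a closed subset of the generic fibre is flat. -/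
theorem flat_of_generizing {Z : Scheme.{u}} [IsReduced Z] (g : Z ⟶ Spec (CommRingCat.of V))
    (h : ∀ z : Z, ∃ z' : Z, z' ⤳ z ∧ (g z').asIdeal = ⊥) : Flat g := by
  refine (HasRingHomProperty.iff_of_iSup_eq_top (P := @Flat) (fun U : Z.affineOpens => U) (iSup_affineOpens_eq_top Z)).2
    fun U => ?_
  let e := Scheme.ΓSpecIso (CommRingCat.of V)
  rw [← RingHom.Flat.respectsIso.cancel_left_isIso e.inv]
  let φ := (e.inv ≫ g.appLE ⊤ U.1 le_top)
  letI : Algebra V Γ(Z, U.1) := φ.hom.toAlgebra
  show Module.Flat V Γ(Z, U.1)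
  rw [Module.Flat.flat_iff_torsion_eq_bot_of_isBezout, eq_bot_iff]
  rintro a ⟨⟨v, hv⟩, hva⟩
  replace hva : φ.hom v * a = 0 := hva
  rw [Submodule.mem_bot]
  refine IsReduced.eq_zero a (mem_nilradical.1 (?_ : a ∈ nilradical Γ(Z, U.1)))
  rw [nilradical_eq_sInf, Submodule.mem_sInf]
  intro q hq
  have hqU : U.2.fromSpec ⟨q, hq⟩ ∈ U.1 := by
    rw [← SetLike.mem_coe, ← U.2.range_fromSpec]; exact ⟨_, rfl⟩
  obtain ⟨z', hz', hgz'⟩ := h (U.2.fromSpec ⟨q, hq⟩)
  have hz'U : z' ∈ U.1 := hz'.mem_open U.1.2 hqU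
  let q' := U.2.primeIdealOf ⟨z', hz'U⟩
  have hle : q'.asIdeal ≤ q := by
    refine (PrimeSpectrum.le_iff_specializes q' ⟨q, hq⟩).2
      ((U.2.fromSpec.isOpenEmbedding.isInducing.specializes_iff (x := q') (y := ⟨q, hq⟩)).1 ?_)
    rw [U.2.fromSpec_primeIdealOf]
    exact hz'
  have hv' : φ.hom v ∉ q'.asIdeal := fun hmem => nonZeroDivisors.ne_zero hv (by
    have h1 : Spec.map φ q' = g z' := by
      rw [show Spec.map φ = U.2.fromSpec ≫ g from ?_, Scheme.Hom.comp_apply, U.2.fromSpec_primeIdealOf]
      rw [Spec.map_comp, ← IsAffineOpen.SpecMap_appLE_fromSpec g (isAffineOpen_top _) U.2 le_top]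
      congr 1
      rw [IsAffineOpen.fromSpec_top, Scheme.isoSpec_Spec_inv]
    have h2 : v ∈ (Spec.map φ q').asIdeal := hmem
    rw [h1, hgz'] at h2
    exact h2)
  exact hle ((q'.isPrime.mem_or_mem (hva ▸ q'.asIdeal.zero_mem)).resolve_left hv')

variable [LocallyOfFiniteType f]

include hL in
theorem lft_left : LocallyOfFiniteType fL := MorphismProperty.of_isPullback hL ‹LocallyOfFiniteType f›

omit [IsDomain V] [ValuationRing V] in
include hK in
theorem lft_right : LocallyOfFiniteType fK := MorphismProperty.of_isPullback hK ‹LocallyOfFiniteType f›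

include hL hK hψ in
theorem tdeg_specializes {ξ : XL} {z : XK} (hs : jL ξ ⤳ jK z) :
    WC97.tdeg fK z ≤ WC97.tdeg fL ξ ∧
      ((∀ z', jL ξ ⤳ jK z' → z' ⤳ z → z' = z) → WC97.tdeg fL ξ ≤ WC97.tdeg fK z) := by
  have := isPreimmersion_left hL
  have := isClosedImmersion_right hK hψ
  obtain ⟨U, hU, hzU, -⟩ := exists_isAffineOpen_mem_and_subset (U := ⊤) (show jK z ∈ (⊤ : X.Opens) from trivial)
  have hξU : jL ξ ∈ U := hs.mem_open U.2 hzU
  letI : Algebra V Γ(X, U) := (Spec.preimage (hU.fromSpec ≫ f)).hom.toAlgebra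
  have hft : Algebra.FiniteType V Γ(X, U) := by
    have h : LocallyOfFiniteType (Spec.map (Spec.preimage (hU.fromSpec ≫ f))) := by
      rw [Spec.map_preimage]; infer_instance
    exact (HasRingHomProperty.Spec_iff (P := @LocallyOfFiniteType)).1 h
  obtain ⟨φ, hφi, hφf, hφc⟩ := exists_residue_chart f fL jL hL.w hU ξ hξU
  obtain ⟨χ, hχi, hχf, hχc⟩ := exists_residue_chart f fK jK hK.w hU z hzU
  let P := (hU.primeIdealOf ⟨jL ξ, hξU⟩).asIdeal
  let Q := (hU.primeIdealOf ⟨jK z, hzU⟩).asIdeal
  have hsp : hU.primeIdealOf ⟨jL ξ, hξU⟩ ⤳ hU.primeIdealOf ⟨jK z, hzU⟩ := by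
    refine (hU.fromSpec.isOpenEmbedding.isInducing.specializes_iff
      (x := hU.primeIdealOf ⟨jL ξ, hξU⟩) (y := hU.primeIdealOf ⟨jK z, hzU⟩)).1 ?_
    rw [hU.fromSpec_primeIdealOf, hU.fromSpec_primeIdealOf]
    exact hs
  have hPQ : P ≤ Q := (PrimeSpectrum.le_iff_specializes _ _).2 hsp
  let A := Γ(X, U) ⧸ P
  let B := Γ(X, U) ⧸ Q
  let π : A →ₐ[V] B := Ideal.Quotient.factorₐ V hPQ
  letI aK : Algebra K (XK.residueField z) := (WC97.kStr fK z).toAlgebra
  letI aL : Algebra L (XL.residueField ξ) := (WC97.kStr fL ξ).toAlgebra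
  letI aVL : Algebra V (XL.residueField ξ) := ((WC97.kStr fL ξ).comp (algebraMap V L)).toAlgebra
  letI aA : Algebra A (XL.residueField ξ) := φ.toAlgebra
  letI aB : Algebra B (XK.residueField z) := χ.toAlgebra
  have : IsScalarTower V L (XL.residueField ξ) := .of_algebraMap_eq fun v => rfl
  have : IsScalarTower V A (XL.residueField ξ) := .of_algebraMap_eq fun v => (hφc v).symm
  have : FaithfulSMul A (XL.residueField ξ) := (faithfulSMul_iff_algebraMap_injective _ _).2 hφi
  have : FaithfulSMul V A := (faithfulSMul_iff_algebraMap_injective _ _).2 fun v w h =>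
    IsFractionRing.injective V L ((WC97.kStr fL ξ).injective ((hφc v).symm.trans ((congrArg φ h).trans (hφc w))))
  have : IsFractionRing A (XL.residueField ξ) := IsFractionRing.of_field A _ fun w => by
    obtain ⟨a, b, -, h⟩ := hφf w; exact ⟨a, b, h⟩
  have hA : Algebra.trdeg V A = WC97.tdeg fL ξ := by
    have h1 := trdeg_add_eq V L (A := XL.residueField ξ)
    have h2 := trdeg_add_eq V A (A := XL.residueField ξ)
    have : Algebra.IsAlgebraic V L := IsLocalization.isAlgebraic _ (nonZeroDivisors V)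
    have : Algebra.IsAlgebraic A (XL.residueField ξ) := IsLocalization.isAlgebraic _ (nonZeroDivisors A)
    rw [trdeg_eq_zero (R := V) (A := L), zero_add] at h1
    rw [trdeg_eq_zero (R := A) (A := XL.residueField ξ), add_zero] at h2
    exact h2.trans h1.symm
  -- `B` is a `K`-algebra
  have hkerB : ∀ v : V, algebraMap V K v = 0 → algebraMap V B v = 0 := fun v hv =>
    hχi (by rw [hχc, hv, map_zero, map_zero])
  let eK : (V ⧸ RingHom.ker (algebraMap V K)) ≃+* K := RingHom.quotientKerEquivOfSurjective hψ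
  let liftB : (V ⧸ RingHom.ker (algebraMap V K)) →+* B := Ideal.Quotient.lift _ (algebraMap V B) fun v hv => hkerB v hv
  letI aKB : Algebra K B := (liftB.comp eK.symm.toRingHom).toAlgebra
  have : IsScalarTower V K B := .of_algebraMap_eq fun v => by
    show algebraMap V B v = liftB (eK.symm (eK (Ideal.Quotient.mk _ v)))
    rw [RingEquiv.symm_apply_apply]
    rfl
  have : IsScalarTower K B (XK.residueField z) := .of_algebraMap_eq fun c => by
    obtain ⟨v, rfl⟩ := hψ c
    show WC97.kStr fK z (algebraMap V K v) = χ (algebraMap K B (algebraMap V K v))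
    rw [← IsScalarTower.algebraMap_apply V K B, hχc]
  have : FaithfulSMul B (XK.residueField z) := (faithfulSMul_iff_algebraMap_injective _ _).2 hχi
  have : IsDomain B := Ideal.Quotient.isDomain Q
  have : FaithfulSMul K B := (faithfulSMul_iff_algebraMap_injective _ _).2 (algebraMap K B).injective
  have : IsFractionRing B (XK.residueField z) := IsFractionRing.of_field B _ fun w => by
    obtain ⟨a, b, -, h⟩ := hχf w; exact ⟨a, b, h⟩
  have hB : Algebra.trdeg K B = WC97.tdeg fK z := by
    have h2 := trdeg_add_eq K B (A := XK.residueField z)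
    have : Algebra.IsAlgebraic B (XK.residueField z) := IsLocalization.isAlgebraic _ (nonZeroDivisors B)
    rwa [trdeg_eq_zero (R := B) (A := XK.residueField z), add_zero] at h2
  have hπ : Function.Surjective π := Ideal.Quotient.factor_surjective hPQ
  refine ⟨?_, fun hmax => ?_⟩
  · rw [← hA, ← hB]
    exact TrdegSpec.trdeg_le hψ π hπ
  · rw [← hA, ← hB]
    have : Algebra.FiniteType V A := hft.of_surjective (Ideal.Quotient.mkₐ V P) Ideal.Quotient.mk_surjective
    refine TrdegSpec.le_trdeg hψ π hπ fun Q' hQ' hm hle => ?_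
    let q' : PrimeSpectrum Γ(X, U) := ⟨Q'.comap (Ideal.Quotient.mk P), inferInstance⟩
    have hP' : P ≤ q'.asIdeal := fun a ha => by
      show Ideal.Quotient.mk P a ∈ Q'
      rw [Ideal.Quotient.eq_zero_iff_mem.2 ha]; exact Q'.zero_mem
    have hQ'le : q'.asIdeal ≤ Q := fun a ha => Ideal.Quotient.eq_zero_iff_mem.1 (RingHom.mem_ker.1 (hle ha) : π (Ideal.Quotient.mk P a) = 0)
    obtain ⟨z', hz'⟩ := mem_range_right hK hψ (x := hU.fromSpec q') fun v hv => by
      rw [← Scheme.Hom.comp_apply, ← Spec.map_preimage (hU.fromSpec ≫ f)]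
      exact hm v hv
    have hsp1 : hU.fromSpec q' ⤳ jK z := by
      have := ((PrimeSpectrum.le_iff_specializes q' (hU.primeIdealOf ⟨jK z, hzU⟩)).1 hQ'le).map hU.fromSpec.continuous
      rwa [hU.fromSpec_primeIdealOf] at this
    have hsp2 : jL ξ ⤳ hU.fromSpec q' := by
      have := ((PrimeSpectrum.le_iff_specializes (hU.primeIdealOf ⟨jL ξ, hξU⟩) q').1 hP').map hU.fromSpec.continuous
      rwa [hU.fromSpec_primeIdealOf] at this
    have heq := hmax z' (hz' ▸ hsp2) (jK.isEmbedding.isInducing.specializes_iff.1 (hz' ▸ hsp1))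
    have hq' : q' = hU.primeIdealOf ⟨jK z, hzU⟩ := by
      apply hU.fromSpec.isOpenEmbedding.injective
      rw [hU.fromSpec_primeIdealOf, ← hz', heq]
    intro a ha
    obtain ⟨a, rfl⟩ := Ideal.Quotient.mk_surjective a
    show a ∈ q'.asIdeal
    rw [hq']
    exact Ideal.Quotient.eq_zero_iff_mem.1 (RingHom.mem_ker.1 ha : π (Ideal.Quotient.mk P a) = 0)

end Fibres

end

end Groth.Agent.AlgGrp33.SpecClosure

namespace Groth.Agent.AlgGrp33.SpecClosure

noncomputable section

variable {V : Type u} [CommRing V] [IsDomain V] [ValuationRing V]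
  {L K : Type u} [Field L] [Field K] [Algebra V L] [IsFractionRing V L] [Algebra V K]
  {X XL XK : Scheme.{u}} {f : X ⟶ Spec (CommRingCat.of V)} [LocallyOfFiniteType f] [QuasiCompact f]
  {jL : XL ⟶ X} {fL : XL ⟶ Spec (CommRingCat.of L)} (hL : IsPullback jL fL f (Spec.map (CommRingCat.ofHom (algebraMap V L))))
  {jK : XK ⟶ X} {fK : XK ⟶ Spec (CommRingCat.of K)} (hK : IsPullback jK fK f (Spec.map (CommRingCat.ofHom (algebraMap V K))))
  (hψ : Function.Surjective (algebraMap V K))

include hL in
omit [ValuationRing V] in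
theorem noetherianSpace_left : NoetherianSpace XL := by
  have : LocallyOfFiniteType fL := MorphismProperty.of_isPullback hL ‹LocallyOfFiniteType f›
  have : QuasiCompact fL := MorphismProperty.of_isPullback hL ‹QuasiCompact f›
  have : CompactSpace XL := QuasiCompact.compactSpace_of_compactSpace fL
  have : IsLocallyNoetherian XL := LocallyOfFiniteType.isLocallyNoetherian fL
  have : IsNoetherian XL := {}
  infer_instance

include hL in
omit [ValuationRing V] in
theorem generizes {C : Set XL} (hC : IsClosed C) {x : X} (hx : x ∈ closure (jL '' C)) :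
    ∃ ξ ∈ C, jL ξ ⤳ x :=
  have := noetherianSpace_left hL
  exists_generic_le hC jL jL.continuous hx

include hL hK hψ in
theorem dim_preimage_le {C : Set XL} (hC : IsClosed C) :
    topologicalKrullDim ↥(jK ⁻¹' closure (jL '' C)) ≤ topologicalKrullDim ↥C := by
  have := lft_left hL
  have := lft_right hK
  set S := jK ⁻¹' closure (jL '' C)
  have hS : IsClosed S := isClosed_closure.preimage jK.continuous
  have : QuasiSober ↥S := hS.isClosedEmbedding_subtypeVal.quasiSober
  rw [TopDim50.dim_eq_iSup_of_closed_cover (X := ↥S) (fun z : ↥S => Subtype.val ⁻¹' closure {(z : XK)})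
    (fun z => isClosed_closure.preimage continuous_subtype_val) fun Z => by
      have hg := Z.isIrreducible.isGenericPoint_genericPoint_closure
      refine ⟨Z.isIrreducible.genericPoint, fun w hw => ?_⟩
      exact ((hg.specializes (subset_closure hw)).map continuous_subtype_val).mem_closure]
  refine iSup_le fun z => ?_
  obtain ⟨ξ, hξ, hs⟩ := generizes hL hC z.2
  have h1 := (tdeg_specializes hL hK hψ hs).1
  have h2 : topologicalKrullDim ↥((Subtype.val : ↥S → XK) ⁻¹' closure {(z : XK)}) ≤
      topologicalKrullDim ↥(closure {(z : XK)}) :=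
    ((Topology.IsInducing.subtypeVal.restrictPreimage (closure {(z : XK)}))).topologicalKrullDim_le
  refine h2.trans ?_
  rw [WC97.topologicalKrullDim_closure fK]
  refine le_trans ?_ (TopDim50.dim_mono (hC.closure_subset_iff.2 (Set.singleton_subset_iff.2 hξ)))
  rw [WC97.topologicalKrullDim_closure fL]
  rw [WC97.tdeg_eq_natCast, WC97.tdeg_eq_natCast, Nat.cast_le] at h1
  exact_mod_cast h1

include hL hK hψ in
theorem le_dim_preimage {C : Set XL} {ξ : XL} (hξ : ξ ∈ C) {z : XK} (hs : jL ξ ⤳ jK z) :
    topologicalKrullDim ↥(closure {ξ}) ≤ topologicalKrullDim ↥(jK ⁻¹' closure (jL '' C)) := by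
  have := lft_left hL
  have := lft_right hK
  let T : Set XK := {z' | jL ξ ⤳ jK z'}
  have hT : IsClosed T := by
    have : T = jK ⁻¹' closure {jL ξ} := Set.ext fun z' => specializes_iff_mem_closure
    rw [this]; exact isClosed_closure.preimage jK.continuous
  have : QuasiSober ↥T := hT.isClosedEmbedding_subtypeVal.quasiSober
  obtain ⟨w, hw, -⟩ := SchBasics.exists_maximal_specializes (⟨z, hs⟩ : ↥T)
  rw [SchBasics.closure_singleton_mem_irreducibleComponents_iff] at hw
  have h1 := (tdeg_specializes hL hK hψ (z := w.1) w.2).2 fun z' hz' hzw =>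
    congrArg Subtype.val (hw ⟨z', hz'⟩ (Topology.IsInducing.subtypeVal.specializes_iff.1 hzw))
  have hwC : (w : XK) ∈ jK ⁻¹' closure (jL '' C) :=
    closure_mono (Set.singleton_subset_iff.2 (Set.mem_image_of_mem jL hξ)) w.2.mem_closure
  refine le_trans ?_ (TopDim50.dim_mono ((isClosed_closure.preimage jK.continuous).closure_subset_iff.2
    (Set.singleton_subset_iff.2 hwC)))
  rw [WC97.topologicalKrullDim_closure fK, WC97.topologicalKrullDim_closure fL]
  rw [WC97.tdeg_eq_natCast, WC97.tdeg_eq_natCast, Nat.cast_le] at h1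
  exact_mod_cast h1

end

end Groth.Agent.AlgGrp33.SpecClosure
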