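import Groth.Agent.AlgGrp33.SpecStep

/-!
Two-variable laws (normality, commutators) on specialized subsets, and flat families.
-/

set_option autoImplicit false
set_option backward.isDefEq.respectTransparency.types false
universe u

open CategoryTheory CategoryTheory.Limits MonoidalCategory CartesianMonoidalCategory MonObj GrpObj AlgebraicGeometry
open Groth.Agent.AlgGrp79

namespace Groth.Agent.AlgGrp33.SpecPts

noncomputable section

theorem isReduced_tensor {K : Type u} [Field K] [IsAlgClosed K] (A B : Over (Spec (CommRingCat.of K)))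
    [IsReduced A.left] [IsReduced B.left] [LocallyOfFiniteType A.hom] : IsReduced (A ⊗ B).left := by
  have : IsIso (Spec.map (CommRingCat.ofHom (algebraMap K K))) :=
    inferInstanceAs (IsIso (Spec.map (𝟙 (CommRingCat.of K))))
  have : IsIso (pullback.fst A.hom (Spec.map (CommRingCat.ofHom (algebraMap K K)))) :=
    MorphismProperty.pullback_fst (P := MorphismProperty.isomorphisms Scheme.{u}) _ _ ‹IsIso (Spec.map (CommRingCat.ofHom (algebraMap K K)))›
  have : IsReduced (FBase.bc A.hom K) :=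
    @isReduced_of_isOpenImmersion _ _ (pullback.fst A.hom (Spec.map (CommRingCat.ofHom (algebraMap K K)))) (@IsOpenImmersion.of_isIso _ _ _ this) ‹IsReduced A.left›
  have : GeometricallyReduced A.hom := FBase64.geometricallyReduced_of_isReduced_perfect A.hom K
  exact FBase64.isReduced_pullback_of_geometricallyReduced A.hom B.hom

variable {S : Scheme.{u}} {V : Type u} [CommRing V] [IsDomain V] [ValuationRing V]
  {L : Type u} [Field L] [Algebra V L] [IsFractionRing V L] {K : Type u} [Field K] [Algebra V K]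
  {t : Spec (CommRingCat.of V) ⟶ S} {G : Over S} [GrpObj G] [LocallyOfFiniteType G.hom] [QuasiCompact G.hom]

/-- Everything specializes from the generic fibre in a flat family. -/
theorem spSet_id [Flat G.hom] : spSet K (𝟙 (Red.bc (sp V L ≫ t) G)) = Set.univ := by
  refine Set.eq_univ_of_forall fun z => ?_
  obtain ⟨z', hz', hT⟩ := Flat.generalizingMap (pullback.snd G.hom t) (a := jF t G K z)
    (b := (⟨⊥, Ideal.isPrime_bot⟩ : PrimeSpectrum V)) ((PrimeSpectrum.le_iff_specializes _ _).1 bot_le)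
  obtain ⟨y, rfl⟩ := SpecClosure.mem_range_left (isPullback_jF t G L) hT
  exact hz'.mem_closed isClosed_closure (subset_closure ⟨y, ⟨y, rfl⟩, rfl⟩)

set_option maxHeartbeats 1600000 in
/-- A two-variable law holding on the generic fibre holds on the closures. -/
theorem inZ_two {A B H : Over (Spec (CommRingCat.of L))} [GrpObj A] [GrpObj B] [GrpObj H]
    (c : A ⟶ Red.bc (sp V L ≫ t) G) (d : B ⟶ Red.bc (sp V L ≫ t) G) (i : H ⟶ Red.bc (sp V L ≫ t) G)
    [IsClosedImmersion c.left] [IsClosedImmersion d.left] [IsClosedImmersion i.left]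
    (w : ∀ {Γ : Type u} [Group Γ], Γ → Γ → Γ)
    (hw : ∀ {Γ Γ' : Type u} [Group Γ] [Group Γ'] (f : Γ →* Γ') (x y : Γ), f (w x y) = w (f x) (f y))
    (hgen : ∀ (U : Over (Spec (CommRingCat.of L))) (g : U ⟶ A) (h : U ⟶ B), ∃ m : U ⟶ H, m ≫ i = w (g ≫ c) (h ≫ d))
    {T : Over (Spec (CommRingCat.of V))} [IsReduced T.left] {a b : Over.mk (T.hom ≫ t) ⟶ G}
    (ha : InZ c a) (hb : InZ d b) : InZ i (w a b) := by
  obtain ⟨ra, hra⟩ := exists_factor c ha
  obtain ⟨rb, hrb⟩ := exists_factor d hb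
  have hsnd : ∀ (z : Over.mk (T.hom ≫ t) ⟶ G), liftX z ≫ pullback.snd G.hom t = T.hom := fun z => pullback.lift_snd _ _ _
  let Zc : Over (Spec (CommRingCat.of V)) := Over.mk (zhom c)
  let Zd : Over (Spec (CommRingCat.of V)) := Over.mk (zhom d)
  have : Flat (zhom c) := flat_zhom c
  have : Flat (zhom d) := flat_zhom d
  let W : Over (Spec (CommRingCat.of V)) := Zc ⊗ Zd
  have : Flat W.hom := inferInstanceAs (Flat (pullback.fst (zhom c) (zhom d) ≫ zhom c))
  let aZ : Over.mk (Zc.hom ≫ t) ⟶ G := Over.homMk (zι c ≫ pullback.fst G.hom t) (by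
    show (zι c ≫ pullback.fst G.hom t) ≫ G.hom = (zι c ≫ pullback.snd G.hom t) ≫ t
    rw [Category.assoc, Category.assoc, pullback.condition])
  let bZ : Over.mk (Zd.hom ≫ t) ⟶ G := Over.homMk (zι d ≫ pullback.fst G.hom t) (by
    show (zι d ≫ pullback.fst G.hom t) ≫ G.hom = (zι d ≫ pullback.snd G.hom t) ≫ t
    rw [Category.assoc, Category.assoc, pullback.condition])
  have hla : liftX aZ = zι c := by
    apply pullback.hom_ext
    · exact pullback.lift_fst _ _ _
    · exact pullback.lift_snd _ _ _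
  have hlb : liftX bZ = zι d := by
    apply pullback.hom_ext
    · exact pullback.lift_fst _ _ _
    · exact pullback.lift_snd _ _ _
  have haZ : InZ c aZ := by rw [InZ, hla, range_zι]
  have hbZ : InZ d bZ := by rw [InZ, hlb, range_zι]
  let p₁ : Over.mk (W.hom ≫ t) ⟶ Over.mk (Zc.hom ≫ t) :=
    Over.homMk (fst Zc Zd).left (by show _ ≫ _ ≫ t = _; rw [Over.w_assoc]; rfl)
  let p₂ : Over.mk (W.hom ≫ t) ⟶ Over.mk (Zd.hom ≫ t) :=
    Over.homMk (snd Zc Zd).left (by show _ ≫ _ ≫ t = _; rw [Over.w_assoc]; rfl)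
  have hcomp : ∀ {X Y : Over S} (f : X ⟶ Y) (x y : Y ⟶ G), f ≫ w x y = w (f ≫ x) (f ≫ y) := fun f x y =>
    hw (MonoidHom.mk' (fun z => f ≫ z) fun _ _ => MonObj.comp_mul f _ _) x y
  have hW : InZ i (w (p₁ ≫ aZ) (p₂ ≫ bZ)) := by
    refine inZ_of_generic i _ fun U _ v hv => ?_
    obtain ⟨h₁, hh₁⟩ := exists_of_inZ c (inZ_comp c (fst Zc Zd) haZ) v hv
    obtain ⟨h₂, hh₂⟩ := exists_of_inZ d (inZ_comp d (snd Zc Zd) hbZ) v hv
    obtain ⟨m, hm⟩ := hgen U h₁ h₂
    refine ⟨m, ?_⟩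
    rw [hm, hh₁, hh₂, hcomp]
    exact (hw (toPt (sp V L ≫ t) G U).toMonoidHom _ _).symm
  let qa : T ⟶ Zc := Over.homMk ra (by
    show ra ≫ zι c ≫ pullback.snd G.hom t = T.hom
    rw [reassoc_of% hra, hsnd])
  let qb : T ⟶ Zd := Over.homMk rb (by
    show rb ≫ zι d ≫ pullback.snd G.hom t = T.hom
    rw [reassoc_of% hrb, hsnd])
  have h := inZ_comp i (lift qa qb) hW
  rw [hcomp] at h
  let r : Over.mk (T.hom ≫ t) ⟶ Over.mk (W.hom ≫ t) :=
    Over.homMk (lift qa qb).left (by show _ ≫ _ ≫ t = _; rw [Over.w_assoc]; rfl)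
  have ea : r ≫ p₁ ≫ aZ = a := by
    apply Over.OverMorphism.ext
    show (lift qa qb).left ≫ (fst Zc Zd).left ≫ zι c ≫ pullback.fst G.hom t = a.left
    rw [← Category.assoc, ← Over.comp_left, lift_fst]
    show ra ≫ zι c ≫ pullback.fst G.hom t = a.left
    rw [reassoc_of% hra, liftX, pullback.lift_fst]
  have eb : r ≫ p₂ ≫ bZ = b := by
    apply Over.OverMorphism.ext
    show (lift qa qb).left ≫ (snd Zc Zd).left ≫ zι d ≫ pullback.fst G.hom t = b.left
    rw [← Category.assoc, ← Over.comp_left, lift_snd]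
    show rb ≫ zι d ≫ pullback.fst G.hom t = b.left
    rw [reassoc_of% hrb, liftX, pullback.lift_fst]
  change InZ i (w (r ≫ p₁ ≫ aZ) (r ≫ p₂ ≫ bZ)) at h
  rwa [ea, eb] at h

/-- A two-variable law on the generic fibre gives one on reduced subgroups of the special fibre. -/
theorem factor_two [IsAlgClosed K] {A B H : Over (Spec (CommRingCat.of L))} [GrpObj A] [GrpObj B] [GrpObj H]
    (c : A ⟶ Red.bc (sp V L ≫ t) G) (d : B ⟶ Red.bc (sp V L ≫ t) G) (i : H ⟶ Red.bc (sp V L ≫ t) G)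
    [IsClosedImmersion c.left] [IsClosedImmersion d.left] [IsClosedImmersion i.left]
    (w : ∀ {Γ : Type u} [Group Γ], Γ → Γ → Γ)
    (hw : ∀ {Γ Γ' : Type u} [Group Γ] [Group Γ'] (f : Γ →* Γ') (x y : Γ), f (w x y) = w (f x) (f y))
    (hgen : ∀ (U : Over (Spec (CommRingCat.of L))) (g : U ⟶ A) (h : U ⟶ B), ∃ m : U ⟶ H, m ≫ i = w (g ≫ c) (h ≫ d))
    {A' B' N : Over (Spec (CommRingCat.of K))} [IsReduced A'.left] [IsReduced B'.left] [LocallyOfFiniteType A'.hom]
    (eA : A' ⟶ Red.bc (sp V K ≫ t) G) (eB : B' ⟶ Red.bc (sp V K ≫ t) G) (j : N ⟶ Red.bc (sp V K ≫ t) G)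
    [IsClosedImmersion j.left] (hA : Set.range eA.left ⊆ spSet K c) (hB : Set.range eB.left ⊆ spSet K d)
    (hj : spSet K i ⊆ Set.range j.left) :
    ∀ (T : Over (Spec (CommRingCat.of K))) (g : T ⟶ A') (h : T ⟶ B'), ∃ m : T ⟶ N, m ≫ j = w (g ≫ eA) (h ≫ eB) := by
  have := isReduced_tensor A' B'
  have : IsReduced (ovV (V := V) K (A' ⊗ B')).left := ‹IsReduced (A' ⊗ B').left›
  obtain ⟨m, hm⟩ := Alb96.exists_lift_of_range_subset j (w (fst A' B' ≫ eA) (snd A' B' ≫ eB)) (by
    refine Set.Subset.trans ?_ hj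
    rw [← inZ_fam_iff, hw]
    refine inZ_two c d i w hw hgen ?_ ?_
    · rw [inZ_fam_iff]
      rintro _ ⟨x, rfl⟩
      exact hA ⟨(fst A' B').left x, (Scheme.Hom.comp_apply _ _ _).symm⟩
    · rw [inZ_fam_iff]
      rintro _ ⟨x, rfl⟩
      exact hB ⟨(snd A' B').left x, (Scheme.Hom.comp_apply _ _ _).symm⟩)
  intro T g h
  refine ⟨lift g h ≫ m, ?_⟩
  rw [Category.assoc, hm]
  refine (hw (MonoidHom.mk' (fun z => lift g h ≫ z) fun _ _ => MonObj.comp_mul _ _ _) _ _).trans ?_
  simp only [MonoidHom.mk'_apply, lift_fst_assoc, lift_snd_assoc]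

end

end Groth.Agent.AlgGrp33.SpecPts
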