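import Mathlib
import Groth.Agent.AlgGrp33.Place

/-!
Lifting points of the special fibre of a flat family to points in a larger valuation ring.
-/

set_option autoImplicit false
set_option backward.isDefEq.respectTransparency.types false
universe u

open CategoryTheory CategoryTheory.Limits AlgebraicGeometry

namespace Groth.Agent.AlgGrp33.SpecLift

noncomputable section

/-- One point of the special fibre of a flat scheme over a valuation ring lifts after enlarging the ring. -/
theorem lift_one {R : Type u} [CommRing R] [IsDomain R] {K : Type u} [Field K] [IsAlgClosed K]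
    (ψ : R →+* K) {P : Scheme.{u}} (π : P ⟶ Spec (CommRingCat.of R)) [Flat π]
    (p : Spec (CommRingCat.of K) ⟶ P) (hp : p ≫ π = Spec.map (CommRingCat.ofHom ψ)) :
    ∃ (L' : Type u) (_ : Field L') (R' : ValuationSubring L') (ψ' : R' →+* K) (g : R →+* R')
      (q : Spec (CommRingCat.of R') ⟶ P), RingHom.ker ψ' = IsLocalRing.maximalIdeal R' ∧
      Function.Injective g ∧ ψ'.comp g = ψ ∧ Spec.map (CommRingCat.ofHom ψ') ≫ q = p ∧
      q ≫ π = Spec.map (CommRingCat.ofHom g) := by
  let y : P := p (IsLocalRing.closedPoint K)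
  obtain ⟨η, hη, hπη⟩ := Flat.generalizingMap π (a := y) (b := (⟨⊥, Ideal.isPrime_bot⟩ : PrimeSpectrum R))
    ((PrimeSpectrum.le_iff_specializes _ _).1 bot_le)
  let θ' := P.presheaf.stalkSpecializes hη ≫ P.residue η
  let L' : Type u := P.residueField η
  let φ' := Scheme.stalkClosedPointTo p
  let θ : P.presheaf.stalk y →+* L' := θ'.hom
  let φ : P.presheaf.stalk y →+* K := φ'.hom
  have hker : RingHom.ker θ ≤ RingHom.ker φ := fun a ha => by
    by_contra hne
    have hu : IsUnit a := isUnit_of_map_unit φ a (Ne.isUnit hne)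
    exact (hu.map θ).ne_zero ha
  obtain ⟨R', ψ', hR', hψ', hkerψ⟩ := Place.exists_valuationSubring θ.range
    (θ.rangeRestrict.liftOfSurjective θ.rangeRestrict_surjective ⟨φ, by rwa [RingHom.ker_rangeRestrict]⟩)
  let u : P.presheaf.stalk y →+* R' := (Subring.inclusion hR').comp θ.rangeRestrict
  have hu : ψ'.comp u = φ := RingHom.ext fun a => by
    refine (hψ' (θ.rangeRestrict a)).trans ?_
    exact RingHom.liftOfRightInverse_comp_apply _ _ _ ⟨φ, _⟩ a
  have huθ : R'.subtype.comp u = θ := RingHom.ext fun a => rfl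
  let q : Spec (CommRingCat.of R') ⟶ P := Spec.map (CommRingCat.ofHom u) ≫ P.fromSpecStalk y
  obtain ⟨g, hg⟩ : ∃ g, Spec.map g = q ≫ π := ⟨Spec.preimage (q ≫ π), Spec.map_preimage _⟩
  have hq : Spec.map (CommRingCat.ofHom ψ') ≫ q = p := by
    show Spec.map (CommRingCat.ofHom ψ') ≫ Spec.map (CommRingCat.ofHom u) ≫ P.fromSpecStalk y = p
    rw [← Spec.map_comp_assoc, ← CommRingCat.ofHom_comp, hu]
    exact Scheme.Spec_stalkClosedPointTo_fromSpecStalk p
  refine ⟨L', inferInstance, R', ψ', g.hom, q, hkerψ, ?_, ?_, hq, hg.symm⟩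
  · have h1 : Spec.map (CommRingCat.ofHom R'.subtype) ≫ Spec.map g = P.fromSpecResidueField η ≫ π := by
      rw [hg, Scheme.fromSpecResidueField, ← P.SpecMap_stalkSpecializes_fromSpecStalk hη]
      simp only [q, Category.assoc]
      rw [← Spec.map_comp_assoc, ← Spec.map_comp_assoc, ← CommRingCat.ofHom_comp, huθ]
      rfl
    have h2 : Spec.map (CommRingCat.ofHom (R'.subtype.comp g.hom)) (IsLocalRing.closedPoint L') =
        (⟨⊥, Ideal.isPrime_bot⟩ : PrimeSpectrum R) := by
      rw [show CommRingCat.ofHom (R'.subtype.comp g.hom) = g ≫ CommRingCat.ofHom R'.subtype from rfl, Spec.map_comp, h1,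
        Scheme.Hom.comp_apply, Scheme.fromSpecResidueField_apply]
      exact hπη
    have h3 : (IsLocalRing.maximalIdeal L').comap (R'.subtype.comp g.hom) = ⊥ := congrArg PrimeSpectrum.asIdeal h2
    rw [IsLocalRing.maximalIdeal_eq_bot, ← RingHom.ker_eq_comap_bot, ← RingHom.injective_iff_ker_eq_bot] at h3
    exact fun a b hab => h3 (congrArg R'.subtype hab)
  · have h := hp
    rw [← hq, Category.assoc, ← hg, ← Spec.map_comp] at h
    exact congrArg CommRingCat.Hom.hom (Spec.map_injective h)

variable {V : Type u} [CommRing V] [IsDomain V] [ValuationRing V] {K : Type u} [Field K] [IsAlgClosed K] [Algebra V K]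

/-- Finitely many points of the special fibre of a flat family lift to a common valuation ring. -/
theorem lift_list (hψ : Function.Surjective (algebraMap V K)) {Z : Scheme.{u}}
    (π : Z ⟶ Spec (CommRingCat.of V)) [Flat π] (ps : List (Spec (CommRingCat.of K) ⟶ Z))
    (hps : ∀ p ∈ ps, p ≫ π = Spec.map (CommRingCat.ofHom (algebraMap V K))) :
    ∃ (R : Type u) (_ : CommRing R) (_ : IsDomain R) (_ : ValuationRing R) (ψ : R →+* K) (g : V →+* R),
      RingHom.ker ψ = IsLocalRing.maximalIdeal R ∧ Function.Injective g ∧ ψ.comp g = algebraMap V K ∧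
      ∀ p ∈ ps, ∃ q : Spec (CommRingCat.of R) ⟶ Z, Spec.map (CommRingCat.ofHom ψ) ≫ q = p ∧
        q ≫ π = Spec.map (CommRingCat.ofHom g) := by
  induction ps with
  | nil =>
    exact ⟨V, inferInstance, inferInstance, inferInstance, algebraMap V K, RingHom.id V,
      IsLocalRing.eq_maximalIdeal (RingHom.ker_isMaximal_of_surjective _ hψ), Function.injective_id, RingHom.comp_id _, by simp⟩
  | cons p ps ih =>
    obtain ⟨R, _, _, _, ψ, g, hker, hg, hcomp, hqs⟩ := ih fun q hq => hps q (List.mem_cons_of_mem _ hq)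
    let b := Spec.map (CommRingCat.ofHom g)
    let pR : Spec (CommRingCat.of K) ⟶ pullback π b :=
      pullback.lift p (Spec.map (CommRingCat.ofHom ψ)) (by
        rw [hps p List.mem_cons_self, ← Spec.map_comp, ← CommRingCat.ofHom_comp, hcomp])
    obtain ⟨L', _, R', ψ', g', q, hker', hg', hcomp', hq, hqπ⟩ :=
      lift_one ψ (pullback.snd π b) pR (pullback.lift_snd _ _ _)
    refine ⟨R', inferInstance, inferInstance, inferInstance, ψ', g'.comp g, hker', hg'.comp hg,
      by rw [← RingHom.comp_assoc, hcomp', hcomp], fun x hx => ?_⟩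
    rcases List.mem_cons.1 hx with rfl | hx
    · refine ⟨q ≫ pullback.fst π b, by rw [reassoc_of% hq, pullback.lift_fst], ?_⟩
      rw [Category.assoc, pullback.condition, reassoc_of% hqπ, ← Spec.map_comp, ← CommRingCat.ofHom_comp]
    · obtain ⟨q₀, hq₀, hq₀π⟩ := hqs x hx
      refine ⟨Spec.map (CommRingCat.ofHom g') ≫ q₀, ?_, ?_⟩
      · rw [← Spec.map_comp_assoc, ← CommRingCat.ofHom_comp, hcomp', hq₀]
      · rw [Category.assoc, hq₀π, ← Spec.map_comp, ← CommRingCat.ofHom_comp]

end

end Groth.Agent.AlgGrp33.SpecLift
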