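import Groth.Prelude.Def_Red
import Groth.Prelude.Def_AlgGrp
import Groth.Agent.AlgGrp33.SpecClosure
import Groth.Agent.AlgGrp79.Image
import Groth.Agent.AlgGrp79.Act
import Groth.Agent.Alb96.MaxAbelian
import Groth.Agent.S5341
import Groth.Agent.FBase64.PointCmp
import Groth.Agent.FBase64.Products
import Groth.Agent.Grp57.Component

/-!
The specialization of a subgroup of the generic fibre of a group scheme over a valuation ring.
-/

set_option autoImplicit false
set_option backward.isDefEq.respectTransparency.types false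
universe u

open CategoryTheory CategoryTheory.Limits MonoidalCategory CartesianMonoidalCategory MonObj GrpObj AlgebraicGeometry
open Groth.Agent.AlgGrp79

namespace Groth.Agent.AlgGrp33.SpecPts

noncomputable section

variable {S S' : Scheme.{u}}

section PtEquiv

variable (t' : S' ⟶ S) (G : Over S) [GrpObj G] (T : Over S')

/-- the canonical section into the base change of the restriction -/
def σ : T ⟶ (Over.pullback t').obj (Over.mk (T.hom ≫ t') : Over S) :=
  Over.homMk (pullback.lift (𝟙 T.left) T.hom (by simp)) (pullback.lift_snd _ _ _)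

/-- points of a base change -/
def toPt : (Over.mk (T.hom ≫ t') ⟶ G) ≃* (T ⟶ Red.bc t' G) where
  toFun a := σ t' T ≫ (Over.pullback t').map a
  invFun b := Over.homMk (b.left ≫ pullback.fst G.hom t') (by
    show (b.left ≫ pullback.fst G.hom t') ≫ G.hom = T.hom ≫ t'
    rw [Category.assoc, pullback.condition, ← Category.assoc]
    exact congrArg (· ≫ t') (Over.w b))
  left_inv a := by
    apply Over.OverMorphism.ext
    show (pullback.lift (𝟙 T.left) T.hom _ ≫ pullback.lift (pullback.fst _ _ ≫ a.left) (pullback.snd _ _) _) ≫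
      pullback.fst G.hom t' = a.left
    rw [Category.assoc]
    erw [pullback.lift_fst, pullback.lift_fst_assoc]
    exact Category.id_comp _
  right_inv b := by
    apply Over.OverMorphism.ext
    show pullback.lift (𝟙 T.left) T.hom _ ≫ pullback.lift (pullback.fst _ _ ≫ b.left ≫ pullback.fst G.hom t') (pullback.snd _ _) _ = b.left
    apply pullback.hom_ext
    · rw [Category.assoc]
      erw [pullback.lift_fst, pullback.lift_fst_assoc]
      exact Category.id_comp _
    · rw [Category.assoc]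
      erw [pullback.lift_snd, pullback.lift_snd]
      exact (Over.w b).symm
  map_mul' a b := by rw [Functor.map_mul, MonObj.comp_mul]

theorem toPt_fst (a : Over.mk (T.hom ≫ t') ⟶ G) :
    (toPt t' G T a).left ≫ pullback.fst G.hom t' = a.left :=
  congrArg CommaMorphism.left ((toPt t' G T).symm_apply_apply a)

end PtEquiv

variable {V : Type u} [CommRing V] {L : Type u} [Field L] [Algebra V L] {K : Type u} [Field K] [Algebra V K]
  (t : Spec (CommRingCat.of V) ⟶ S) (G : Over S)

/-- `Spec` of a ring map out of `V`, composed to the base. -/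
abbrev sp (V : Type u) [CommRing V] (F : Type u) [Field F] [Algebra V F] : Spec (CommRingCat.of F) ⟶ Spec (CommRingCat.of V) :=
  Spec.map (CommRingCat.ofHom (algebraMap V F))

/-- the total space -/
abbrev tot : Scheme.{u} := pullback G.hom t

/-- the inclusion of a fibre -/
def jF (F : Type u) [Field F] [Algebra V F] : (Red.bc (sp V F ≫ t) G).left ⟶ tot t G :=
  pullback.lift (pullback.fst G.hom (sp V F ≫ t)) (pullback.snd G.hom (sp V F ≫ t) ≫ sp V F)
    (by rw [Category.assoc, pullback.condition])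

theorem isPullback_jF (F : Type u) [Field F] [Algebra V F] :
    IsPullback (jF t G F) (pullback.snd G.hom (sp V F ≫ t)) (pullback.snd G.hom t) (sp V F) := by
  refine IsPullback.of_right ?_ (pullback.lift_snd _ _ _) (IsPullback.of_hasPullback G.hom t)
  rw [jF, pullback.lift_fst]
  exact IsPullback.of_hasPullback _ _

variable {t G}

/-- the point of the total space -/
def liftX {T : Over (Spec (CommRingCat.of V))} (a : Over.mk (T.hom ≫ t) ⟶ G) : T.left ⟶ tot t G :=
  pullback.lift a.left T.hom (Over.w a)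

/-- The points of the closure of a subset of a fibre. -/
def Zs (C : Set (Red.bc (sp V L ≫ t) G).left) : Set (tot t G) := closure (jF t G L '' C)

/-- restriction to the fibre -/
def restr {T : Over (Spec (CommRingCat.of V))} (F : Type u) [Field F] [Algebra V F]
    {U : Over (Spec (CommRingCat.of F))} (w : U.left ⟶ T.left) (hw : w ≫ T.hom = U.hom ≫ sp V F) :
    Over.mk (U.hom ≫ sp V F ≫ t) ⟶ Over.mk (T.hom ≫ t) :=
  Over.homMk w (by show w ≫ T.hom ≫ t = _; rw [reassoc_of% hw]; rfl)

section Fibre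
variable [GrpObj G]

theorem toPt_jF {T : Over (Spec (CommRingCat.of V))} (F : Type u) [Field F] [Algebra V F]
    {U : Over (Spec (CommRingCat.of F))} (w : U.left ⟶ T.left) (hw : w ≫ T.hom = U.hom ≫ sp V F)
    (a : Over.mk (T.hom ≫ t) ⟶ G) :
    (toPt (sp V F ≫ t) G U (restr F w hw ≫ a)).left ≫ jF t G F = w ≫ liftX a := by
  apply pullback.hom_ext
  · rw [Category.assoc, Category.assoc, liftX, pullback.lift_fst, jF, pullback.lift_fst, toPt_fst]
    rfl
  · rw [Category.assoc, Category.assoc, liftX, pullback.lift_snd, jF, pullback.lift_snd, ← Category.assoc, hw]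
    congr 1
    exact Over.w (toPt (sp V F ≫ t) G U (restr F w hw ≫ a))

variable [IsDomain V] [ValuationRing V] [IsFractionRing V L] [LocallyOfFiniteType G.hom] [QuasiCompact G.hom]
  {H : Over (Spec (CommRingCat.of L))} [GrpObj H] (i : H ⟶ Red.bc (sp V L ≫ t) G) [IsClosedImmersion i.left]

/-- a family lies in the closure -/
def InZ {T : Over (Spec (CommRingCat.of V))} (a : Over.mk (T.hom ≫ t) ⟶ G) : Prop :=
  Set.range (liftX a) ⊆ Zs (Set.range i.left)

theorem exists_of_inZ {T : Over (Spec (CommRingCat.of V))} {a : Over.mk (T.hom ≫ t) ⟶ G} (ha : InZ i a)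
    {U : Over (Spec (CommRingCat.of L))} [IsReduced U.left] (w : U.left ⟶ T.left) (hw : w ≫ T.hom = U.hom ≫ sp V L) :
    ∃ h : U ⟶ H, h ≫ i = toPt (sp V L ≫ t) G U (restr L w hw ≫ a) := by
  apply Alb96.exists_lift_of_range_subset
  rintro _ ⟨p, rfl⟩
  refine (Set.ext_iff.1 (SpecClosure.preimage_closure (isPullback_jF t G L) i.left.isClosedEmbedding.isClosed_range) _).1 ?_
  show jF t G L _ ∈ Zs _
  rw [← Scheme.Hom.comp_apply, toPt_jF]
  exact ha ⟨w p, (Scheme.Hom.comp_apply _ _ _).symm⟩

theorem inZ_of_generic {T : Over (Spec (CommRingCat.of V))} [Flat T.hom] (a : Over.mk (T.hom ≫ t) ⟶ G)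
    (h : ∀ (U : Over (Spec (CommRingCat.of L))) [IsReduced U.left] (w : U.left ⟶ T.left)
      (hw : w ≫ T.hom = U.hom ≫ sp V L), ∃ h : U ⟶ H, h ≫ i = toPt (sp V L ≫ t) G U (restr L w hw ≫ a)) :
    InZ i a := by
  rintro _ ⟨z, rfl⟩
  obtain ⟨z', hz', hT⟩ := Flat.generalizingMap T.hom (a := z) (b := (⟨⊥, Ideal.isPrime_bot⟩ : PrimeSpectrum V))
    ((PrimeSpectrum.le_iff_specializes _ _).1 bot_le)
  have hmem : liftX a z' ∈ Zs (Set.range i.left) := by
    obtain ⟨y, rfl⟩ := SpecClosure.mem_range_left (IsPullback.of_hasPullback T.hom (sp V L)) hT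
    let P := pullback T.hom (sp V L)
    let U : Over (Spec (CommRingCat.of L)) := Over.mk (P.fromSpecResidueField y ≫ pullback.snd T.hom (sp V L))
    have : IsReduced U.left := inferInstanceAs (IsReduced (Spec (P.residueField y)))
    let w : U.left ⟶ T.left := P.fromSpecResidueField y ≫ pullback.fst T.hom (sp V L)
    obtain ⟨g, hg⟩ := h U w (by
      show (P.fromSpecResidueField y ≫ pullback.fst _ _) ≫ T.hom = (P.fromSpecResidueField y ≫ pullback.snd _ _) ≫ sp V L
      rw [Category.assoc, Category.assoc, pullback.condition])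
    let p : U.left := IsLocalRing.closedPoint (P.residueField y)
    have hp : P.fromSpecResidueField y p = y := P.fromSpecResidueField_apply y p
    refine subset_closure ⟨(g ≫ i).left p, ⟨g.left p, by rw [Over.comp_left, Scheme.Hom.comp_apply]⟩, ?_⟩
    rw [← Scheme.Hom.comp_apply, hg, toPt_jF, Scheme.Hom.comp_apply]
    show liftX a ((P.fromSpecResidueField y ≫ pullback.fst _ _) p) = _
    rw [Scheme.Hom.comp_apply, hp]
  exact (hz'.map (liftX a).continuous).mem_closed isClosed_closure hmem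

/-- the reduced closure -/
def zsub : Scheme.{u} :=
  (Scheme.IdealSheafData.vanishingIdeal (⟨Zs (Set.range i.left), isClosed_closure⟩ : TopologicalSpace.Closeds (tot t G))).subscheme

/-- its inclusion -/
def zι : zsub i ⟶ tot t G :=
  (Scheme.IdealSheafData.vanishingIdeal (⟨Zs (Set.range i.left), isClosed_closure⟩ : TopologicalSpace.Closeds (tot t G))).subschemeι

instance : IsClosedImmersion (zι i) := inferInstanceAs (IsClosedImmersion (Scheme.IdealSheafData.subschemeι _))

instance : IsReduced (zsub i) := SchBasics.isReduced_vanishingIdeal_subscheme _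

omit [GrpObj H] in
theorem range_zι : Set.range (zι i) = Zs (Set.range i.left) := SchBasics.range_vanishingIdeal_subschemeι _

/-- the structure map of the reduced closure -/
def zhom : zsub i ⟶ Spec (CommRingCat.of V) := zι i ≫ pullback.snd G.hom t

omit [GrpObj H] in
theorem flat_zhom : Flat (zhom i) := by
  refine SpecClosure.flat_of_generizing _ fun z => ?_
  obtain ⟨ξ, hξ, hs⟩ := SpecClosure.generizes (isPullback_jF t G L) i.left.isClosedEmbedding.isClosed_range
    ((range_zι i).le ⟨z, rfl⟩)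
  obtain ⟨z', hz'⟩ := (range_zι i).ge (subset_closure (Set.mem_image_of_mem (jF t G L) hξ))
  refine ⟨z', (zι i).isEmbedding.isInducing.specializes_iff.1 (hz' ▸ hs), ?_⟩
  rw [zhom, Scheme.Hom.comp_apply, hz']
  exact SpecClosure.apply_left (isPullback_jF t G L) ξ

omit [GrpObj H] in
theorem exists_factor {T : Over (Spec (CommRingCat.of V))} [IsReduced T.left] {a : Over.mk (T.hom ≫ t) ⟶ G}
    (ha : InZ i a) : ∃ r : T.left ⟶ zsub i, r ≫ zι i = liftX a := by
  have : Surjective (pullback.snd (zι i) (liftX a)) := ⟨fun x => by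
    obtain ⟨m, hm⟩ := (range_zι i).ge (ha ⟨x, rfl⟩)
    obtain ⟨z, -, hz⟩ := Scheme.Pullback.exists_preimage_pullback m x hm
    exact ⟨z, hz⟩⟩
  have := isIso_of_isClosedImmersion_of_surjective (pullback.snd (zι i) (liftX a))
  exact ⟨inv (pullback.snd (zι i) (liftX a)) ≫ pullback.fst _ _, by
    rw [Category.assoc, pullback.condition, IsIso.inv_hom_id_assoc]⟩

theorem inZ_comp {T T' : Over (Spec (CommRingCat.of V))} (r : T' ⟶ T) {a : Over.mk (T.hom ≫ t) ⟶ G} (ha : InZ i a) :
    InZ i ((Over.homMk r.left (by show r.left ≫ T.hom ≫ t = _; rw [Over.w_assoc]; rfl) : Over.mk (T'.hom ≫ t) ⟶ Over.mk (T.hom ≫ t)) ≫ a) := by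
  have e : liftX ((Over.homMk r.left (by show r.left ≫ T.hom ≫ t = _; rw [Over.w_assoc]; rfl) : Over.mk (T'.hom ≫ t) ⟶ Over.mk (T.hom ≫ t)) ≫ a) = r.left ≫ liftX a := by
    apply pullback.hom_ext
    · rw [Category.assoc, liftX, liftX, pullback.lift_fst, pullback.lift_fst]; rfl
    · rw [Category.assoc, liftX, liftX, pullback.lift_snd, pullback.lift_snd, Over.w]
  rintro _ ⟨x, rfl⟩
  rw [e, Scheme.Hom.comp_apply]
  exact ha ⟨_, rfl⟩

theorem inZ_one [IsMonHom i] (T : Over (Spec (CommRingCat.of V))) : InZ i (1 : Over.mk (T.hom ≫ t) ⟶ G) := by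
  let T₀ : Over (Spec (CommRingCat.of V)) := Over.mk (𝟙 _)
  have : Flat T₀.hom := inferInstanceAs (Flat (𝟙 (Spec (CommRingCat.of V))))
  have h := inZ_comp i (Over.homMk T.hom (Category.comp_id _) : T ⟶ T₀)
    (inZ_of_generic i (1 : Over.mk (T₀.hom ≫ t) ⟶ G) fun U _ w hw =>
      ⟨1, by rw [MonObj.one_comp, MonObj.comp_one, map_one]⟩)
  rwa [MonObj.comp_one] at h

theorem inZ_inv_mul [IsMonHom i] {T : Over (Spec (CommRingCat.of V))} [IsReduced T.left]
    {a b : Over.mk (T.hom ≫ t) ⟶ G} (ha : InZ i a) (hb : InZ i b) : InZ i (a⁻¹ * b) := by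
  obtain ⟨ra, hra⟩ := exists_factor i ha
  obtain ⟨rb, hrb⟩ := exists_factor i hb
  have hsnd : ∀ {T : Over (Spec (CommRingCat.of V))} (c : Over.mk (T.hom ≫ t) ⟶ G),
      liftX c ≫ pullback.snd G.hom t = T.hom := fun c => pullback.lift_snd _ _ _
  let Zo : Over (Spec (CommRingCat.of V)) := Over.mk (zhom i)
  have hflat : Flat (zhom i) := flat_zhom i
  let W : Over (Spec (CommRingCat.of V)) := Zo ⊗ Zo
  have : Flat W.hom := inferInstanceAs (Flat (pullback.fst (zhom i) (zhom i) ≫ zhom i))
  let aZ : Over.mk (Zo.hom ≫ t) ⟶ G := Over.homMk (zι i ≫ pullback.fst G.hom t) (by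
    show (zι i ≫ pullback.fst G.hom t) ≫ G.hom = (zι i ≫ pullback.snd G.hom t) ≫ t
    rw [Category.assoc, Category.assoc, pullback.condition])
  have hlift : liftX aZ = zι i := by
    apply pullback.hom_ext
    · exact pullback.lift_fst _ _ _
    · exact pullback.lift_snd _ _ _
  have haZ : InZ i aZ := by rw [InZ, hlift, range_zι]
  let p₁ : Over.mk (W.hom ≫ t) ⟶ Over.mk (Zo.hom ≫ t) :=
    Over.homMk (fst Zo Zo).left (by show _ ≫ _ ≫ t = _; rw [Over.w_assoc]; rfl)
  let p₂ : Over.mk (W.hom ≫ t) ⟶ Over.mk (Zo.hom ≫ t) :=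
    Over.homMk (snd Zo Zo).left (by show _ ≫ _ ≫ t = _; rw [Over.w_assoc]; rfl)
  have hW : InZ i ((p₁ ≫ aZ)⁻¹ * (p₂ ≫ aZ)) := by
    refine inZ_of_generic i _ fun U _ w hw => ?_
    obtain ⟨h₁, hh₁⟩ := exists_of_inZ i (inZ_comp i (fst Zo Zo) haZ) w hw
    obtain ⟨h₂, hh₂⟩ := exists_of_inZ i (inZ_comp i (snd Zo Zo) haZ) w hw
    exact ⟨h₁⁻¹ * h₂, by rw [mul_comp', GrpObj.inv_comp, hh₁, hh₂, MonObj.comp_mul, GrpObj.comp_inv, map_mul, map_inv]⟩
  let qa : T ⟶ Zo := Over.homMk ra (by
    show ra ≫ zι i ≫ pullback.snd G.hom t = T.hom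
    rw [reassoc_of% hra, hsnd])
  let qb : T ⟶ Zo := Over.homMk rb (by
    show rb ≫ zι i ≫ pullback.snd G.hom t = T.hom
    rw [reassoc_of% hrb, hsnd])
  have h := inZ_comp i (lift qa qb) hW
  rw [MonObj.comp_mul, GrpObj.comp_inv] at h
  have ea : ∀ (q : T ⟶ Zo) (r : T.left ⟶ zsub i) (c : Over.mk (T.hom ≫ t) ⟶ G), q.left = r → r ≫ zι i = liftX c →
      ∀ (u : Over.mk (T.hom ≫ t) ⟶ Over.mk (Zo.hom ≫ t)), u.left = q.left → u ≫ aZ = c := fun q r c hq hc u hu => by
    apply Over.OverMorphism.ext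
    show u.left ≫ zι i ≫ pullback.fst G.hom t = c.left
    rw [hu, hq, reassoc_of% hc, liftX, pullback.lift_fst]
  rw [← Category.assoc _ p₁ aZ, ← Category.assoc _ p₂ aZ] at h
  rw [ea qa ra a rfl hra _ (congrArg CommaMorphism.left (lift_fst qa qb)),
    ea qb rb b rfl hrb _ (congrArg CommaMorphism.left (lift_snd qa qb))] at h
  exact h

end Fibre

end

end Groth.Agent.AlgGrp33.SpecPts
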