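import Groth.Agent.AlgGrp33.SpecDerived

/-!
Specialization of derived groups of geometric fibres of smooth group schemes.
-/

set_option autoImplicit false
set_option backward.isDefEq.respectTransparency.types false
universe u

open CategoryTheory CategoryTheory.Limits MonoidalCategory CartesianMonoidalCategory MonObj GrpObj AlgebraicGeometry
open Groth.Agent.AlgGrp79

namespace Groth.Agent.AlgGrp33.SpecStep

noncomputable section
open SpecPts

variable {S : Scheme.{u}} {V : Type u} [CommRing V] [IsDomain V] [ValuationRing V] {L : Type u} [Field L] [Algebra V L]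
  [IsFractionRing V L] {K : Type u} [Field K] [IsAlgClosed K] [Algebra V K]

/-- conjugation as a natural operation -/
def conj {Γ : Type u} [Group Γ] (x y : Γ) : Γ := x * y * x⁻¹

/-- the commutator as a natural operation -/
def commu {Γ : Type u} [Group Γ] (x y : Γ) : Γ := x * y * x⁻¹ * y⁻¹

theorem map_conj {Γ Γ' : Type u} [Group Γ] [Group Γ'] (f : Γ →* Γ') (x y : Γ) : f (conj x y) = conj (f x) (f y) := by
  simp [conj]

theorem map_commu {Γ Γ' : Type u} [Group Γ] [Group Γ'] (f : Γ →* Γ') (x y : Γ) : f (commu x y) = commu (f x) (f y) := by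
  simp [commu]

/-- A normal subgroup containing commutators specializes, without increase of dimension; so does the ambient dimension. -/
theorem exists_spec_derived (hψ : Function.Surjective (algebraMap V K)) (t : Spec (CommRingCat.of V) ⟶ S)
    {tL : Spec (CommRingCat.of L) ⟶ S} (hL : sp V L ≫ t = tL)
    {tK : Spec (CommRingCat.of K) ⟶ S} (hK : sp V K ≫ t = tK)
    (G : Over S) [GrpObj G] [Smooth G.hom] [QuasiCompact G.hom]
    {H : Over (Spec (CommRingCat.of L))} [GrpObj H] (i : H ⟶ Red.bc tL G) [IsMonHom i] [IsClosedImmersion i.left]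
    (hn : AlgGrp.IsNormalHom i)
    (hc : ∀ (T : Over (Spec (CommRingCat.of L))) (g h : T ⟶ Red.bc tL G), ∃ m : T ⟶ H, g * h * g⁻¹ * h⁻¹ = m ≫ i) :
    ∃ (N : Over (Spec (CommRingCat.of K))) (_ : GrpObj N) (j : N ⟶ Red.bc tK G), IsMonHom j ∧ IsClosedImmersion j.left ∧
      AlgGrp.IsNormalHom j ∧
      (∀ (T : Over (Spec (CommRingCat.of K))) (g h : T ⟶ Red.bc tK G), ∃ m : T ⟶ N, g * h * g⁻¹ * h⁻¹ = m ≫ j) ∧
      topologicalKrullDim ↥N.left = topologicalKrullDim ↥H.left ∧
      topologicalKrullDim ↥(Red.bc tK G).left = topologicalKrullDim ↥(Red.bc tL G).left := by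
  subst hL hK
  obtain ⟨N, _, j, hj, hjc, hN, hr, hdim⟩ := exists_spec_subgroup (K := K) i hψ
  have : IsClosedImmersion (𝟙 (Red.bc (sp V L ≫ t) G) : _ ⟶ _).left := inferInstanceAs (IsClosedImmersion (𝟙 _))
  obtain ⟨N₁, _, j₁, -, hj₁c, -, hr₁, hdim₁⟩ := exists_spec_subgroup (K := K) (𝟙 (Red.bc (sp V L ≫ t) G)) hψ
  have hall : spSet K (𝟙 (Red.bc (sp V L ≫ t) G)) = Set.univ := spSet_id
  rw [hall] at hr₁
  have : Smooth (Red.bc (sp V K ≫ t) G).hom := inferInstanceAs (Smooth (pullback.snd G.hom (sp V K ≫ t)))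
  have : LocallyOfFiniteType N.hom := by rw [← Over.w j]; infer_instance
  have : IsReduced (Red.bc (sp V K ≫ t) G).left := isReduced_of_smooth (Red.bc (sp V K ≫ t) G).hom
  have hdimG : topologicalKrullDim ↥(Red.bc (sp V K ≫ t) G).left = topologicalKrullDim ↥(Red.bc (sp V L ≫ t) G).left := by
    rw [← hdim₁]
    have : Surjective j₁.left := ⟨Set.range_eq_univ.1 hr₁⟩
    exact (IsHomeomorph.topologicalKrullDim_eq _ (isHomeomorph_iff_isEmbedding_surjective.2
      ⟨j₁.left.isEmbedding, Set.range_eq_univ.1 hr₁⟩)).symm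
  refine ⟨N, inferInstance, j, hj, hjc, fun T g n => ?_, fun T g h => ?_, hdim, hdimG⟩
  · obtain ⟨m, hm⟩ := factor_two (K := K) (𝟙 (Red.bc (sp V L ≫ t) G)) i i @conj @map_conj
      (fun U g h => by
        obtain ⟨m, hm⟩ := hn U g h
        exact ⟨m, by rw [Category.comp_id]; exact hm.symm⟩)
      (𝟙 _) j j (hall ▸ Set.subset_univ _) hr.le hr.ge T g n
    exact ⟨m, by rw [Category.comp_id] at hm; exact hm.symm⟩
  · obtain ⟨m, hm⟩ := factor_two (K := K) (𝟙 (Red.bc (sp V L ≫ t) G)) (𝟙 (Red.bc (sp V L ≫ t) G)) i @commu @map_commu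
      (fun U g h => by
        obtain ⟨m, hm⟩ := hc U g h
        exact ⟨m, by rw [Category.comp_id, Category.comp_id]; exact hm.symm⟩)
      (𝟙 _) (𝟙 _) j (hall ▸ Set.subset_univ _) (hall ▸ Set.subset_univ _) hr.ge T g h
    exact ⟨m, by rw [Category.comp_id, Category.comp_id] at hm; exact hm.symm⟩

/-- The same for the derived group of the identity component. -/
theorem exists_spec_neutral (hψ : Function.Surjective (algebraMap V K)) (t : Spec (CommRingCat.of V) ⟶ S)
    {tL : Spec (CommRingCat.of L) ⟶ S} (hL : sp V L ≫ t = tL)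
    {tK : Spec (CommRingCat.of K) ⟶ S} (hK : sp V K ≫ t = tK)
    (G : Over S) [GrpObj G] [Smooth G.hom] [QuasiCompact G.hom]
    {CL : Over (Spec (CommRingCat.of L))} [GrpObj CL] (c : CL ⟶ Red.bc tL G) [IsMonHom c] [IsClosedImmersion c.left]
    [IsOpenImmersion c.left]
    {H : Over (Spec (CommRingCat.of L))} [GrpObj H] (i : H ⟶ CL) [IsMonHom i] [IsClosedImmersion i.left]
    (hn : AlgGrp.IsNormalHom i)
    (hc : ∀ (T : Over (Spec (CommRingCat.of L))) (g h : T ⟶ CL), ∃ m : T ⟶ H, g * h * g⁻¹ * h⁻¹ = m ≫ i) :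
    ∃ (CK : Over (Spec (CommRingCat.of K))) (_ : GrpObj CK) (d : CK ⟶ Red.bc tK G)
      (N : Over (Spec (CommRingCat.of K))) (_ : GrpObj N) (j : N ⟶ CK),
      IsMonHom d ∧ IsOpenImmersion d.left ∧ IsClosedImmersion d.left ∧ ConnectedSpace ↥CK.left ∧
      IsMonHom j ∧ IsClosedImmersion j.left ∧ AlgGrp.IsNormalHom j ∧
      (∀ (T : Over (Spec (CommRingCat.of K))) (g h : T ⟶ CK), ∃ m : T ⟶ N, g * h * g⁻¹ * h⁻¹ = m ≫ j) ∧
      topologicalKrullDim ↥N.left ≤ topologicalKrullDim ↥H.left := by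
  subst hL hK
  let GK := Red.bc (sp V K ≫ t) G
  have : Smooth GK.hom := inferInstanceAs (Smooth (pullback.snd G.hom (sp V K ≫ t)))
  have : LocallyOfFiniteType GK.hom := inferInstance
  have : IsReduced GK.left := isReduced_of_smooth GK.hom
  -- the specialization of the generic identity component
  obtain ⟨N₀, _, j₀, hj₀, hj₀c, hN₀, hr₀, hdim₀⟩ := exists_spec_subgroup (K := K) c hψ
  have : LocallyOfFiniteType N₀.hom := by rw [← Over.w j₀]; infer_instance
  obtain ⟨C₁, _, c₁, hc₁, hc₁c, -, hC₁, hC₁c, hC₁dim⟩ := exists_smooth_component N₀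
  obtain ⟨CK, _, d, hd, hdc, hdo, hCK, hCKc, hCKdim⟩ := exists_smooth_component GK
  have : IsClosedImmersion (𝟙 (Red.bc (sp V L ≫ t) G) : _ ⟶ _).left := inferInstanceAs (IsClosedImmersion (𝟙 _))
  obtain ⟨N₁, _, j₁, -, hj₁c, -, hr₁, hdim₁⟩ := exists_spec_subgroup (K := K) (𝟙 (Red.bc (sp V L ≫ t) G)) hψ
  have hall : spSet K (𝟙 (Red.bc (sp V L ≫ t) G)) = Set.univ := spSet_id
  rw [hall] at hr₁
  have hdimG : topologicalKrullDim ↥GK.left = topologicalKrullDim ↥(Red.bc (sp V L ≫ t) G).left := by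
    rw [← hdim₁]
    exact (IsHomeomorph.topologicalKrullDim_eq _ (isHomeomorph_iff_isEmbedding_surjective.2
      ⟨j₁.left.isEmbedding, Set.range_eq_univ.1 hr₁⟩)).symm
  have hdimC : topologicalKrullDim ↥CL.left = topologicalKrullDim ↥(Red.bc (sp V L ≫ t) G).left := by
    have : LocallyOfFiniteType (Red.bc (sp V L ≫ t) G).hom :=
      inferInstanceAs (LocallyOfFiniteType (pullback.snd G.hom (sp V L ≫ t)))
    refine le_antisymm c.left.isEmbedding.isInducing.topologicalKrullDim_le ?_
    rw [← (S5341.result L (Red.bc (sp V L ≫ t) G)).2 (η[Red.bc (sp V L ≫ t) G].left (IsLocalRing.closedPoint L))]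
    refine (TopDim50.localDim_le (⟨Set.range c.left, c.left.isOpenEmbedding.isOpen_range⟩ : TopologicalSpace.Opens _) ?_).trans ?_
    · refine ⟨η[CL].left (IsLocalRing.closedPoint L), ?_⟩
      rw [← IsMonHom.one_hom c, Over.comp_left, Scheme.Hom.comp_apply]
    · exact le_of_eq (IsHomeomorph.topologicalKrullDim_eq _ c.left.isEmbedding.toHomeomorph.isHomeomorph).symm
  -- the identity component of the special fibre lies in the specialization
  have hsub : Set.range d.left ⊆ spSet K c := by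
    have hI : IrreducibleSpace CK.left := by
      have := IsogSub.geometricallyIntegral_of_smooth CK
      have : IsIntegral CK.left := GeometricallyIntegral.isIntegral_of_subsingleton CK.hom
      infer_instance
    have hcomp : Set.range (c₁ ≫ j₀).left ⊆ Set.range d.left := by
      have hconn : _root_.IsPreconnected (Set.range (c₁ ≫ j₀).left) := isPreconnected_range (c₁ ≫ j₀).left.continuous
      have hclopen : IsClopen (Set.range d.left) :=
        ⟨d.left.isClosedEmbedding.isClosed_range, d.left.isOpenEmbedding.isOpen_range⟩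
      refine hconn.subset_isClopen hclopen ⟨η[GK].left (IsLocalRing.closedPoint K), ?_, ?_⟩
      · refine ⟨η[C₁].left (IsLocalRing.closedPoint K), ?_⟩
        rw [← IsMonHom.one_hom (c₁ ≫ j₀), Over.comp_left]; rfl
      · refine ⟨η[CK].left (IsLocalRing.closedPoint K), ?_⟩
        rw [← IsMonHom.one_hom d, Over.comp_left, Scheme.Hom.comp_apply]
    have hcl : IsClosedImmersion (c₁ ≫ j₀).left := inferInstanceAs (IsClosedImmersion (c₁.left ≫ j₀.left))
    by_contra hne
    have hlt : topologicalKrullDim ↥(d.left ⁻¹' spSet K c) < topologicalKrullDim ↥CK.left := by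
      refine TopDim50.dim_lt_of_ssubset ?_ ((isClosed_closure.preimage (jF t G K).continuous).preimage d.left.continuous) ?_
      · have hξ := (IrreducibleSpace.isIrreducible_univ CK.left).isGenericPoint_genericPoint isClosed_univ
        rw [← IsHomeomorph.topologicalKrullDim_eq _ (Homeomorph.Set.univ CK.left).isHomeomorph, ← hξ.def,
          WC97.topologicalKrullDim_closure CK.hom]
        exact fun h => ENat.natCast_ne_top _ (WithBot.coe_injective h)
      · intro hu
        exact hne (by rintro _ ⟨z, rfl⟩; exact hu.ge (Set.mem_univ z))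
    refine absurd ?_ hlt.not_ge
    rw [hCKdim, hdimG, ← hdimC, ← hdim₀, ← hC₁dim,
      IsHomeomorph.topologicalKrullDim_eq _ (c₁ ≫ j₀).left.isEmbedding.toHomeomorph.isHomeomorph]
    have h1 : Set.range (c₁ ≫ j₀).left ⊆ d.left '' (d.left ⁻¹' spSet K c) := by
      intro y hy
      obtain ⟨z, rfl⟩ := hcomp hy
      refine ⟨z, ?_, rfl⟩
      obtain ⟨w, hw⟩ := hy
      rw [Set.mem_preimage, ← hw, ← hr₀]
      exact ⟨c₁.left w, (Scheme.Hom.comp_apply _ _ _).symm⟩
    refine (TopDim50.dim_mono h1).trans (le_of_eq ?_)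
    exact (IsHomeomorph.topologicalKrullDim_eq _ (d.left.isEmbedding.homeomorphImage _).isHomeomorph).symm
  -- the derived part
  have : IsClosedImmersion (i ≫ c).left := inferInstanceAs (IsClosedImmersion (i.left ≫ c.left))
  obtain ⟨M, _, e, he, hec, hM, hre, hdimM⟩ := exists_spec_subgroup (K := K) (i ≫ c) hψ
  -- intersect it with the identity component
  let N : Over (Spec (CommRingCat.of K)) := pullback d e
  let j : N ⟶ CK := pullback.fst d e
  let p : N ⟶ M := pullback.snd d e
  have : Mono d := Over.mono_of_mono_left d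
  have : Mono e := Over.mono_of_mono_left e
  have hpb : IsPullback j.left p.left d.left e.left :=
    (IsPullback.of_hasPullback d e).map (Over.forget _)
  have hjc : IsClosedImmersion j.left := MorphismProperty.of_isPullback hpb.flip hec
  have hpo : IsOpenImmersion p.left := MorphismProperty.of_isPullback hpb hdo
  have hNred : IsReduced N.left := isReduced_of_isOpenImmersion p.left
  have hfac : ∀ {T : Over (Spec (CommRingCat.of K))} (x : T ⟶ CK) (y : T ⟶ M), x ≫ d = y ≫ e →
      ∃ z : T ⟶ N, z ≫ j = x := fun x y h => ⟨pullback.lift x y h, pullback.lift_fst _ _ _⟩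
  have : Mono j := Over.mono_of_mono_left j
  obtain ⟨hNg, hjm⟩ := exists_grpObj_closed j
    (hfac η[CK] η[M] (by rw [IsMonHom.one_hom d, IsMonHom.one_hom e]))
    (fun T k₁ k₂ => hfac _ ((k₁ ≫ p)⁻¹ * (k₂ ≫ p)) (by
      rw [mul_comp', GrpObj.inv_comp, Category.assoc, Category.assoc, pullback.condition, mul_comp', GrpObj.inv_comp,
        Category.assoc, Category.assoc]))
  have : LocallyOfFiniteType N.hom := by rw [← Over.w j]; infer_instance
  have hjd : Set.range (j ≫ d).left ⊆ spSet K (i ≫ c) := by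
    rw [pullback.condition, ← hre, Over.comp_left]
    rintro _ ⟨z, rfl⟩
    exact ⟨_, (Scheme.Hom.comp_apply _ _ _).symm⟩
  have hgenC : ∀ (U : Over (Spec (CommRingCat.of L))) (g : U ⟶ CL) (h : U ⟶ CL),
      ∃ m : U ⟶ H, m ≫ i ≫ c = commu (g ≫ c) (h ≫ c) := fun U g h => by
    obtain ⟨m, hm⟩ := hc U g h
    refine ⟨m, ?_⟩
    rw [← Category.assoc, ← hm]
    simp only [commu, mul_comp', GrpObj.inv_comp]
  have hgenN : ∀ (U : Over (Spec (CommRingCat.of L))) (g : U ⟶ CL) (h : U ⟶ H),
      ∃ m : U ⟶ H, m ≫ i ≫ c = conj (g ≫ c) (h ≫ i ≫ c) := fun U g h => by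
    obtain ⟨m, hm⟩ := hn U g h
    refine ⟨m, ?_⟩
    rw [← Category.assoc, ← hm]
    simp only [conj, mul_comp', GrpObj.inv_comp, Category.assoc]
  have : IsReduced CK.left := isReduced_of_smooth CK.hom
  refine ⟨CK, inferInstance, d, N, hNg, j, hd, hdo, hdc, hCKc, hjm, hjc, fun T g n => ?_, fun T g h => ?_, ?_⟩
  · obtain ⟨m, hm⟩ := factor_two (K := K) c (i ≫ c) (i ≫ c) @conj @map_conj hgenN d (j ≫ d) e hsub hjd hre.ge T g n
    obtain ⟨z, hz⟩ := hfac (g * (n ≫ j) * g⁻¹) m (by
      rw [hm, conj, mul_comp', mul_comp', GrpObj.inv_comp, Category.assoc])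
    exact ⟨z, hz.symm⟩
  · obtain ⟨m, hm⟩ := factor_two (K := K) c c (i ≫ c) @commu @map_commu hgenC d d e hsub hsub hre.ge T g h
    obtain ⟨z, hz⟩ := hfac (g * h * g⁻¹ * h⁻¹) m (by
      rw [hm]; simp only [commu, mul_comp', GrpObj.inv_comp])
    exact ⟨z, hz.symm⟩
  · exact p.left.isEmbedding.isInducing.topologicalKrullDim_le.trans hdimM.le

end

end Groth.Agent.AlgGrp33.SpecStep
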