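import Groth.Agent.AlgGrp33.SpecPts
import Groth.Agent.AlgGrp33.IsogSub
import Groth.Agent.Grp57.IdentityComponent

/-!
The closed subgroup of the special fibre obtained by specializing a subgroup of the generic fibre.
-/

set_option autoImplicit false
set_option backward.isDefEq.respectTransparency.types false
universe u

open CategoryTheory CategoryTheory.Limits MonoidalCategory CartesianMonoidalCategory MonObj GrpObj AlgebraicGeometry
open Groth.Agent.AlgGrp79 Groth.Agent.AlgGrp33.IsogSub

namespace Groth.Agent.AlgGrp33.SpecPts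

noncomputable section

variable {S : Scheme.{u}} {V : Type u} [CommRing V] {L : Type u} [Field L] [Algebra V L]
  {K : Type u} [Field K] [Algebra V K]
  {t : Spec (CommRingCat.of V) ⟶ S} {G : Over S} [GrpObj G]

section Fam

variable (F : Type u) [Field F] [Algebra V F] (U : Over (Spec (CommRingCat.of F)))

/-- a scheme over a fibre, over `V` -/
abbrev ovV : Over (Spec (CommRingCat.of V)) := Over.mk (U.hom ≫ sp V F)

/-- a point of a fibre as a family over `V` -/
def fam : (U ⟶ Red.bc (sp V F ≫ t) G) →* (Over.mk ((ovV F U).hom ≫ t) ⟶ G) :=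
  MonoidHom.mk' (fun b => (Over.homMk (𝟙 U.left) (by
      show 𝟙 U.left ≫ U.hom ≫ sp V F ≫ t = (U.hom ≫ sp V F) ≫ t
      rw [Category.id_comp, Category.assoc]) : Over.mk ((ovV F U).hom ≫ t) ⟶ Over.mk (U.hom ≫ sp V F ≫ t)) ≫
      (toPt (sp V F ≫ t) G U).symm b)
    (fun a b => by rw [map_mul, MonObj.comp_mul])

theorem fam_left (b : U ⟶ Red.bc (sp V F ≫ t) G) :
    (fam F U b).left = b.left ≫ pullback.fst G.hom (sp V F ≫ t) := Category.id_comp _

theorem liftX_fam (b : U ⟶ Red.bc (sp V F ≫ t) G) : liftX (fam F U b) = b.left ≫ jF t G F := by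
  apply pullback.hom_ext
  · rw [liftX, pullback.lift_fst, Category.assoc, jF, pullback.lift_fst, fam_left]
  · rw [liftX, pullback.lift_snd, Category.assoc, jF, pullback.lift_snd, ← Category.assoc]
    exact congrArg (· ≫ sp V F) (Over.w b).symm

end Fam

variable [IsDomain V] [ValuationRing V] [IsFractionRing V L] [LocallyOfFiniteType G.hom] [QuasiCompact G.hom]
  {H : Over (Spec (CommRingCat.of L))} [GrpObj H] (i : H ⟶ Red.bc (sp V L ≫ t) G) [IsClosedImmersion i.left]

variable (K) in
/-- the specialized subset of the special fibre -/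
def spSet : Set (Red.bc (sp V K ≫ t) G).left := jF t G K ⁻¹' Zs (Set.range i.left)

omit [IsDomain V] [ValuationRing V] [IsFractionRing V L] [LocallyOfFiniteType G.hom] [QuasiCompact G.hom]
  [GrpObj H] [IsClosedImmersion i.left] in
theorem inZ_fam_iff {U : Over (Spec (CommRingCat.of K))} (b : U ⟶ Red.bc (sp V K ≫ t) G) :
    InZ i (fam K U b) ↔ Set.range b.left ⊆ spSet K i := by
  rw [InZ, liftX_fam]
  constructor
  · rintro h _ ⟨u, rfl⟩
    exact h ⟨u, Scheme.Hom.comp_apply _ _ _⟩
  · rintro h _ ⟨u, rfl⟩
    rw [Scheme.Hom.comp_apply]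
    exact h ⟨u, rfl⟩

omit [LocallyOfFiniteType G.hom] [QuasiCompact G.hom] [GrpObj H] [IsClosedImmersion i.left] in
theorem unit_specializes :
    jF t G L (η[Red.bc (sp V L ≫ t) G].left (IsLocalRing.closedPoint L)) ⤳
      jF t G K (η[Red.bc (sp V K ≫ t) G].left (IsLocalRing.closedPoint K)) := by
  let T₀ : Over (Spec (CommRingCat.of V)) := Over.mk (𝟙 _)
  let a : Over.mk (T₀.hom ≫ t) ⟶ G := 1
  have key : ∀ (F : Type u) [Field F] [Algebra V F],
      jF t G F (η[Red.bc (sp V F ≫ t) G].left (IsLocalRing.closedPoint F)) = liftX a (sp V F (IsLocalRing.closedPoint F)) := by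
    intro F _ _
    have e := toPt_jF F (T := T₀) (U := 𝟙_ (Over (Spec (CommRingCat.of F)))) (sp V F) (by
      show sp V F ≫ 𝟙 _ = 𝟙 _ ≫ sp V F
      simp) a
    rw [show restr F (T := T₀) (U := 𝟙_ (Over (Spec (CommRingCat.of F)))) (sp V F) _ ≫ a = 1 from MonObj.comp_one _,
      map_one, ← MonObj.one_eq_one] at e
    rw [← Scheme.Hom.comp_apply, e, Scheme.Hom.comp_apply]
  rw [key L, key K]
  refine Specializes.map ((PrimeSpectrum.le_iff_specializes _ _).1 ?_) (liftX a).continuous
  show (IsLocalRing.maximalIdeal L).comap (algebraMap V L) ≤ _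
  rw [IsLocalRing.maximalIdeal_eq_bot, ← RingHom.ker_eq_comap_bot,
    (RingHom.injective_iff_ker_eq_bot _).1 (IsFractionRing.injective V L)]
  exact bot_le

/-- The specialized subgroup: reduced, with the specialized points, of the same dimension. -/
theorem exists_spec_subgroup [IsAlgClosed K] (hψ : Function.Surjective (algebraMap V K)) [IsMonHom i] :
    ∃ (N : Over (Spec (CommRingCat.of K))) (_ : GrpObj N) (j : N ⟶ Red.bc (sp V K ≫ t) G),
      IsMonHom j ∧ IsClosedImmersion j.left ∧ IsReduced N.left ∧ Set.range j.left = spSet K i ∧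
      topologicalKrullDim ↥N.left = topologicalKrullDim ↥H.left := by
  let GK := Red.bc (sp V K ≫ t) G
  let GLf := Red.bc (sp V L ≫ t) G
  have hcl : IsClosed (spSet K i) := isClosed_closure.preimage (jF t G K).continuous
  let I := Scheme.IdealSheafData.vanishingIdeal (⟨spSet K i, hcl⟩ : TopologicalSpace.Closeds GK.left)
  let N : Over (Spec (CommRingCat.of K)) := Over.mk (I.subschemeι ≫ GK.hom)
  let j : N ⟶ GK := Over.homMk I.subschemeι rfl
  have hj : IsClosedImmersion j.left := inferInstanceAs (IsClosedImmersion I.subschemeι)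
  have hr : Set.range j.left = spSet K i := SchBasics.range_vanishingIdeal_subschemeι _
  have hN : IsReduced N.left := SchBasics.isReduced_vanishingIdeal_subscheme _
  have : Mono j := Over.mono_of_mono_left j
  have : LocallyOfFiniteType GK.hom := inferInstanceAs (LocallyOfFiniteType (pullback.snd G.hom (sp V K ≫ t)))
  have : LocallyOfFiniteType GLf.hom := inferInstanceAs (LocallyOfFiniteType (pullback.snd G.hom (sp V L ≫ t)))
  have : LocallyOfFiniteType N.hom := by rw [← Over.w j]; infer_instance
  have hone : ∃ e : 𝟙_ (Over (Spec (CommRingCat.of K))) ⟶ N, e ≫ j = η[GK] := by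
    have : IsReduced (𝟙_ (Over (Spec (CommRingCat.of K)))).left :=
      inferInstanceAs (IsReduced (Spec (CommRingCat.of K)))
    refine Alb96.exists_lift_of_range_subset j η[GK] ?_
    rw [hr, ← inZ_fam_iff, MonObj.one_eq_one, map_one]
    exact inZ_one i _
  have hdiv : ∀ (T : Over (Spec (CommRingCat.of K))) (k₁ k₂ : T ⟶ N),
      ∃ k₃ : T ⟶ N, k₃ ≫ j = (k₁ ≫ j)⁻¹ * (k₂ ≫ j) := by
    have : IsIso (Spec.map (CommRingCat.ofHom (algebraMap K K))) :=
      inferInstanceAs (IsIso (Spec.map (𝟙 (CommRingCat.of K))))
    have : IsIso (pullback.fst N.hom (Spec.map (CommRingCat.ofHom (algebraMap K K)))) :=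
      MorphismProperty.pullback_fst (P := MorphismProperty.isomorphisms Scheme.{u}) _ _ ‹IsIso (Spec.map (CommRingCat.ofHom (algebraMap K K)))›
    have : IsReduced (FBase.bc N.hom K) :=
      @isReduced_of_isOpenImmersion _ _ (pullback.fst N.hom (Spec.map (CommRingCat.ofHom (algebraMap K K)))) (@IsOpenImmersion.of_isIso _ _ _ this) hN
    have : GeometricallyReduced N.hom := FBase64.geometricallyReduced_of_isReduced_perfect N.hom K
    have : IsReduced (N ⊗ N).left := FBase64.isReduced_pullback_of_geometricallyReduced N.hom N.hom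
    obtain ⟨m, hm⟩ := Alb96.exists_lift_of_range_subset j ((fst N N ≫ j)⁻¹ * (snd N N ≫ j)) (by
      rw [hr, ← inZ_fam_iff, map_mul, map_inv]
      have hp : ∀ p : N ⊗ N ⟶ N, InZ i (fam K (N ⊗ N) (p ≫ j)) := fun p => by
        rw [inZ_fam_iff, ← hr, Over.comp_left]
        rintro _ ⟨x, rfl⟩
        exact ⟨p.left x, (Scheme.Hom.comp_apply _ _ _).symm⟩
      have : IsReduced (ovV (V := V) K (N ⊗ N)).left := ‹IsReduced (N ⊗ N).left›
      exact inZ_inv_mul i (hp _) (hp _))
    intro T k₁ k₂
    refine ⟨lift k₁ k₂ ≫ m, ?_⟩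
    rw [Category.assoc, hm, MonObj.comp_mul, GrpObj.comp_inv, lift_fst_assoc, lift_snd_assoc]
  obtain ⟨hg, hjm⟩ := exists_grpObj_closed j hone hdiv
  refine ⟨N, hg, j, hjm, hj, hN, hr, le_antisymm ?_ ?_⟩
  · calc topologicalKrullDim ↥N.left
        = topologicalKrullDim ↥(Set.range j.left) :=
          IsHomeomorph.topologicalKrullDim_eq _ j.left.isEmbedding.toHomeomorph.isHomeomorph
      _ ≤ topologicalKrullDim ↥(Set.range i.left) := by
          rw [hr]
          exact SpecClosure.dim_preimage_le (isPullback_jF t G L) (isPullback_jF t G K) hψ i.left.isClosedEmbedding.isClosed_range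
      _ = topologicalKrullDim ↥H.left :=
          (IsHomeomorph.topologicalKrullDim_eq _ i.left.isEmbedding.toHomeomorph.isHomeomorph).symm
  · have : LocallyOfFiniteType H.hom := by rw [← Over.w i]; infer_instance
    let eH : H.left := η[H].left (IsLocalRing.closedPoint L)
    let C := irreducibleComponent eH
    have hC : C ∈ irreducibleComponents H.left := irreducibleComponent_mem_irreducibleComponents eH
    have hξ := (isIrreducible_irreducibleComponent (x := eH)).isGenericPoint_genericPoint isClosed_irreducibleComponent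
    set ξ := (isIrreducible_irreducibleComponent (x := eH)).genericPoint
    have hs : jF t G L (i.left ξ) ⤳ jF t G K (η[GK].left (IsLocalRing.closedPoint K)) := by
      refine Specializes.trans ?_ (unit_specializes (K := K) (t := t) (G := G) (L := L))
      have h1 : η[GLf].left (IsLocalRing.closedPoint L) = i.left eH := by
        rw [← IsMonHom.one_hom i, Over.comp_left, Scheme.Hom.comp_apply]
      rw [h1]
      exact (((hξ.specializes mem_irreducibleComponent).map i.left.continuous).map (jF t G L).continuous)
    calc topologicalKrullDim ↥H.left = topologicalKrullDim ↥C := ((S5341.result L H).1 C hC).symm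
      _ = topologicalKrullDim ↥(closure {ξ}) := by rw [hξ.def]
      _ ≤ topologicalKrullDim ↥(closure {i.left ξ}) := by
          rw [show closure {i.left ξ} = i.left '' closure {ξ} by
            rw [← i.left.isClosedEmbedding.closure_image_eq, Set.image_singleton]]
          exact le_of_eq (IsHomeomorph.topologicalKrullDim_eq _
            (i.left.isEmbedding.homeomorphImage (closure {ξ})).isHomeomorph)
      _ ≤ topologicalKrullDim ↥(spSet K i) :=
          SpecClosure.le_dim_preimage (isPullback_jF t G L) (isPullback_jF t G K) hψ ⟨ξ, rfl⟩ hs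
      _ = topologicalKrullDim ↥N.left := by
          rw [← hr]
          exact (IsHomeomorph.topologicalKrullDim_eq _ j.left.isEmbedding.toHomeomorph.isHomeomorph).symm

/-- The identity component of a reduced group over an algebraically closed field. -/
theorem exists_smooth_component [IsAlgClosed K] (N : Over (Spec (CommRingCat.of K))) [GrpObj N]
    [LocallyOfFiniteType N.hom] [IsReduced N.left] :
    ∃ (C : Over (Spec (CommRingCat.of K))) (_ : GrpObj C) (c : C ⟶ N), IsMonHom c ∧ IsClosedImmersion c.left ∧
      IsOpenImmersion c.left ∧ Smooth C.hom ∧ ConnectedSpace ↥C.left ∧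
      topologicalKrullDim ↥C.left = topologicalKrullDim ↥N.left := by
  obtain ⟨C, hCg, c, hcm, hc, hfl, hrg, hirr, -⟩ := Grp57.exists_identityComponent N
  have := smooth_of_reduced N
  have : IsLocallyNoetherian N.left := LocallyOfFiniteType.isLocallyNoetherian N.hom
  have : IsOpenImmersion c.left := IsOpenImmersion.of_flat_of_mono c.left
  have : Smooth C.hom := by rw [← Over.w c]; infer_instance
  have hconn : ConnectedSpace ↥C.left := by
    have : ConnectedSpace ↥(connectedComponent (η[N].left (IsLocalRing.closedPoint K))) :=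
      Subtype.connectedSpace isConnected_connectedComponent
    exact (c.left.isEmbedding.toHomeomorph.trans (Homeomorph.setCongr hrg)).symm.surjective.connectedSpace
      (c.left.isEmbedding.toHomeomorph.trans (Homeomorph.setCongr hrg)).symm.continuous
  refine ⟨C, hCg, c, hcm, hc, inferInstance, inferInstance, hconn, ?_⟩
  rw [IsHomeomorph.topologicalKrullDim_eq _ (c.left.isEmbedding.toHomeomorph.trans (Homeomorph.setCongr hrg)).isHomeomorph]
  exact (S5341.result K N).1 _ (Grp57.component_eq_connectedComponent N
    (irreducibleComponent_mem_irreducibleComponents _) mem_irreducibleComponent ▸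
    irreducibleComponent_mem_irreducibleComponents (Grp57.unitPt N))

end

end Groth.Agent.AlgGrp33.SpecPts
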