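import Groth.Agent.AlgGrp33.SpecSub
import Groth.Agent.AlgGrp33.SpecLift

/-!
Group laws of the generic subgroup hold for the specialized points, without separatedness.
-/

set_option autoImplicit false
set_option backward.isDefEq.respectTransparency.types false
universe u

open CategoryTheory CategoryTheory.Limits MonoidalCategory CartesianMonoidalCategory MonObj GrpObj AlgebraicGeometry
open Groth.Agent.AlgGrp79

namespace Groth.Agent.AlgGrp33.SpecPts

noncomputable section

/-- Two maps from a domain spectrum into an affine open agreeing at the fraction field are equal. -/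
theorem ext_of_affine_open {R L' : Type u} [CommRing R] [IsLocalRing R] [CommRing L'] (f : R →+* L')
    (hf : Function.Injective f) {X : Scheme.{u}} {U : X.Opens} (hU : IsAffineOpen U)
    (a b : Spec (CommRingCat.of R) ⟶ X) (ha : a (IsLocalRing.closedPoint R) ∈ U) (hb : b (IsLocalRing.closedPoint R) ∈ U)
    (h : Spec.map (CommRingCat.ofHom f) ≫ a = Spec.map (CommRingCat.ofHom f) ≫ b) : a = b := by
  have hr : ∀ c : Spec (CommRingCat.of R) ⟶ X, c (IsLocalRing.closedPoint R) ∈ U →
      Set.range c ⊆ Set.range U.ι := fun c hc => by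
    rintro _ ⟨x, rfl⟩
    rw [U.range_ι]
    exact ((IsLocalRing.specializes_closedPoint x).map c.continuous).mem_open U.2 hc
  obtain ⟨a', rfl⟩ : ∃ a', a' ≫ U.ι = a := ⟨IsOpenImmersion.lift U.ι a (hr a ha), IsOpenImmersion.lift_fac _ _ _⟩
  obtain ⟨b', rfl⟩ : ∃ b', b' ≫ U.ι = b := ⟨IsOpenImmersion.lift U.ι b (hr b hb), IsOpenImmersion.lift_fac _ _ _⟩
  rw [← Category.assoc, ← Category.assoc, cancel_mono] at h
  have : IsAffine U.toScheme := hU
  obtain ⟨α, hα⟩ : ∃ α, Spec.map α = a' ≫ U.toScheme.isoSpec.hom := ⟨Spec.preimage _, Spec.map_preimage _⟩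
  obtain ⟨β, hβ⟩ : ∃ β, Spec.map β = b' ≫ U.toScheme.isoSpec.hom := ⟨Spec.preimage _, Spec.map_preimage _⟩
  have h2 : α ≫ CommRingCat.ofHom f = β ≫ CommRingCat.ofHom f := by
    apply Spec.map_injective
    rw [Spec.map_comp, Spec.map_comp, hα, hβ, reassoc_of% h]
  have h3 : α = β := CommRingCat.hom_ext (RingHom.ext fun x => hf (RingHom.congr_fun (congrArg CommRingCat.Hom.hom h2) x))
  rw [show a' = b' from (cancel_mono U.toScheme.isoSpec.hom).1 (by rw [← hα, ← hβ, h3])]

variable {S : Scheme.{u}} {V : Type u} [CommRing V] [IsDomain V] [ValuationRing V]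
  {L : Type u} [Field L] [Algebra V L] [IsFractionRing V L] {K : Type u} [Field K] [IsAlgClosed K] [Algebra V K]
  {t : Spec (CommRingCat.of V) ⟶ S} {G : Over S} [GrpObj G] [LocallyOfFiniteType G.hom] [QuasiCompact G.hom]
  {H : Over (Spec (CommRingCat.of L))} [GrpObj H] (i : H ⟶ Red.bc (sp V L ≫ t) G) [IsClosedImmersion i.left] [IsMonHom i]

/-- the image in the total space of a rational point of the special fibre -/
def pt (b : 𝟙_ (Over (Spec (CommRingCat.of K))) ⟶ Red.bc (sp V K ≫ t) G) : tot t G :=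
  jF t G K (b.left (IsLocalRing.closedPoint K))

/-- Finitely many specialized points come from a group of points mapping to points of the generic subgroup,
detecting equality near any affine open. -/
theorem exists_lift_group (hψ : Function.Surjective (algebraMap V K))
    (ps : List (𝟙_ (Over (Spec (CommRingCat.of K))) ⟶ Red.bc (sp V K ≫ t) G))
    (hps : ∀ b ∈ ps, Set.range b.left ⊆ spSet K i) {U₀ : (tot t G).Opens} (hU₀ : IsAffineOpen U₀) :
    ∃ (U' : Over (Spec (CommRingCat.of L))) (M : Type u) (_ : Group M)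
      (a : M →* (𝟙_ (Over (Spec (CommRingCat.of K))) ⟶ Red.bc (sp V K ≫ t) G)) (c : M →* (U' ⟶ H)),
      (∀ b ∈ ps, b ∈ a.range) ∧ (∀ m m', c m = c m' → pt (a m) ∈ U₀ → pt (a m') ∈ U₀ → a m = a m') := by
  classical
  let T₁ := ovV (V := V) K (𝟙_ (Over (Spec (CommRingCat.of K))))
  have : IsReduced T₁.left := inferInstanceAs (IsReduced (Spec (CommRingCat.of K)))
  choose r hr using fun b hb => exists_factor i ((inZ_fam_iff i b).2 (hps b hb))
  let ps' : List (Spec (CommRingCat.of K) ⟶ zsub i) := ps.attach.map fun b => r b.1 b.2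
  have hflat : Flat (zhom i) := flat_zhom i
  obtain ⟨R, _, _, _, ψ, g, hker, hg, hcomp, hlift⟩ := SpecLift.lift_list hψ (zhom i) ps' (fun p hp => by
    obtain ⟨⟨b, hb⟩, -, rfl⟩ := List.mem_map.1 hp
    show r b hb ≫ zι i ≫ pullback.snd G.hom t = _
    rw [reassoc_of% (hr b hb), liftX, pullback.lift_snd]
    exact Category.id_comp _)
  let T : Over (Spec (CommRingCat.of V)) := Over.mk (Spec.map (CommRingCat.ofHom g))
  have : IsReduced T.left := inferInstanceAs (IsReduced (Spec (CommRingCat.of R)))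
  let Msub : Subgroup (Over.mk (T.hom ≫ t) ⟶ G) :=
    Subgroup.ofDiv {a | InZ i a} ⟨1, inZ_one i T⟩ fun x hx y hy => by
      have h1 := inZ_inv_mul i hx (inZ_one i T)
      have h2 := inZ_inv_mul i hy (inZ_one i T)
      rw [_root_.mul_one] at h1 h2
      have h3 := inZ_inv_mul i h1 h2
      rwa [_root_.inv_inv] at h3
  obtain ⟨L', _, _, _⟩ : ∃ (L' : Type u) (_ : Field L') (_ : Algebra R L'), IsFractionRing R L' :=
    ⟨FractionRing R, inferInstance, inferInstance, inferInstance⟩
  let f : R →+* L' := algebraMap R L'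
  have hf : Function.Injective f := IsFractionRing.injective R L'
  have hfg : Function.Injective (f.comp g) := hf.comp hg
  let σL : L →+* L' := IsFractionRing.lift (A := V) hfg
  let U' : Over (Spec (CommRingCat.of L)) := Over.mk (Spec.map (CommRingCat.ofHom σL))
  have : IsReduced U'.left := inferInstanceAs (IsReduced (Spec (CommRingCat.of L')))
  have hwL : Spec.map (CommRingCat.ofHom f) ≫ T.hom = U'.hom ≫ sp V L := by
    show Spec.map _ ≫ Spec.map _ = Spec.map _ ≫ Spec.map _
    rw [← Spec.map_comp, ← Spec.map_comp, ← CommRingCat.ofHom_comp, ← CommRingCat.ofHom_comp]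
    congr 2
    exact RingHom.ext fun v => (IsFractionRing.lift_algebraMap hfg v).symm
  have hwK : Spec.map (CommRingCat.ofHom ψ) ≫ T.hom = (𝟙_ (Over (Spec (CommRingCat.of K)))).hom ≫ sp V K := by
    show Spec.map _ ≫ Spec.map _ = 𝟙 _ ≫ Spec.map _
    rw [← Spec.map_comp, ← CommRingCat.ofHom_comp, hcomp, Category.id_comp]
  have : Mono i := Over.mono_of_mono_left i
  choose cf hcf using fun m : Msub => exists_of_inZ i (a := m.1) m.2 (U := U') (Spec.map (CommRingCat.ofHom f)) hwL
  let c : Msub →* (U' ⟶ H) := MonoidHom.mk' cf fun m m' => by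
    rw [← cancel_mono i, mul_comp', hcf, hcf, hcf, Subgroup.coe_mul, MonObj.comp_mul, map_mul]
  let a : Msub →* (𝟙_ (Over (Spec (CommRingCat.of K))) ⟶ Red.bc (sp V K ≫ t) G) :=
    MonoidHom.mk' (fun m => toPt (sp V K ≫ t) G _ (restr K (T := T) (Spec.map (CommRingCat.ofHom ψ)) hwK ≫ m.1))
      fun m m' => by rw [Subgroup.coe_mul, MonObj.comp_mul, map_mul]
  have haJ : ∀ m : Msub, (a m).left ≫ jF t G K = Spec.map (CommRingCat.ofHom ψ) ≫ liftX m.1 := fun m =>
    toPt_jF K (T := T) _ hwK m.1
  have hjinj : ∀ x y : 𝟙_ (Over (Spec (CommRingCat.of K))) ⟶ Red.bc (sp V K ≫ t) G,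
      x.left ≫ jF t G K = y.left ≫ jF t G K → x = y := fun x y h => by
    apply Over.OverMorphism.ext
    apply pullback.hom_ext
    · have := congrArg (· ≫ pullback.fst G.hom t) h
      simpa only [Category.assoc, jF, pullback.lift_fst] using this
    · exact (Over.w x).trans (Over.w y).symm
  refine ⟨U', Msub, inferInstance, a, c, fun b hb => ?_, fun m m' hmm hm hm' => ?_⟩
  · obtain ⟨q, hq, hqπ⟩ := hlift (r b hb) (List.mem_map.2 ⟨⟨b, hb⟩, List.mem_attach _ _, rfl⟩)
    let x : Over.mk (T.hom ≫ t) ⟶ G := Over.homMk (q ≫ zι i ≫ pullback.fst G.hom t) (by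
      show (q ≫ zι i ≫ pullback.fst G.hom t) ≫ G.hom = Spec.map _ ≫ t
      rw [← hqπ, zhom, Category.assoc, Category.assoc, Category.assoc, Category.assoc, pullback.condition])
    have hx : liftX x = q ≫ zι i := by
      apply pullback.hom_ext
      · rw [liftX, pullback.lift_fst, Category.assoc]; rfl
      · rw [liftX, pullback.lift_snd, Category.assoc]; exact hqπ.symm
    refine ⟨⟨x, show InZ i x from ?_⟩, hjinj _ _ ?_⟩
    · rw [InZ, hx, ← range_zι]
      rintro _ ⟨s, rfl⟩
      exact ⟨_, (Scheme.Hom.comp_apply _ _ _).symm⟩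
    · rw [haJ, hx, reassoc_of% hq, hr, liftX_fam]
  · have hcl : Spec.map (CommRingCat.ofHom ψ) (IsLocalRing.closedPoint K) = IsLocalRing.closedPoint R := by
      refine PrimeSpectrum.ext ?_
      show (IsLocalRing.maximalIdeal K).comap ψ = _
      rw [IsLocalRing.maximalIdeal_eq_bot, ← RingHom.ker_eq_comap_bot, hker]
      rfl
    have hmem : ∀ n : Msub, pt (a n) ∈ U₀ → liftX n.1 (IsLocalRing.closedPoint R) ∈ U₀ := fun n hn => by
      rwa [pt, ← Scheme.Hom.comp_apply, haJ, Scheme.Hom.comp_apply, hcl] at hn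
    have hgen : Spec.map (CommRingCat.ofHom f) ≫ liftX m.1 = Spec.map (CommRingCat.ofHom f) ≫ liftX m'.1 := by
      rw [← toPt_jF L (T := T) (U := U') _ hwL, ← toPt_jF L (T := T) (U := U') _ hwL, ← hcf, ← hcf]
      exact congrArg (fun z : U' ⟶ H => (z ≫ i).left ≫ jF t G L) hmm
    apply hjinj
    rw [haJ, haJ, ext_of_affine_open f hf hU₀ _ _ (hmem m hm) (hmem m' hm') hgen]

end

end Groth.Agent.AlgGrp33.SpecPts
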