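import Groth.Agent.Comod33.HopfFlat
import Groth.Agent.Comod33.Diag
import Groth.Prelude.Def_Red2
import Mathlib.RingTheory.HopfAlgebra.Convolution
import Mathlib.RingTheory.AdjoinRoot
import Mathlib.Algebra.Polynomial.Taylor
import Mathlib.RingTheory.Flat.FaithfullyFlat.Algebra

/-!
Sub-Hopf algebras of the coordinate ring of the additive group.
-/

set_option autoImplicit false

universe u

open TensorProduct WithConv Polynomial

noncomputable section

namespace Groth.Agent.AlgGrp33.SubGa

variable {k : Type u} [Field k]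

/-- the coordinate -/
abbrev T (k : Type u) [Field k] : SymmetricAlgebra k k := SymmetricAlgebra.ι k k 1

/-- the point with given coordinate -/
def pt {R : Type u} [CommRing R] [Algebra k R] (u : R) : WithConv (SymmetricAlgebra k k →ₐ[k] R) :=
  toConv (SymmetricAlgebra.lift (LinearMap.toSpanSingleton k R u))

theorem pt_aeval {R : Type u} [CommRing R] [Algebra k R] (u : R) (f : k[X]) :
    (pt u).ofConv (aeval (T k) f) = aeval u f := by
  rw [← aeval_algHom_apply]
  simp [pt]

theorem pt_mul {R : Type u} [CommRing R] [Algebra k R] (u v : R) : pt (k := k) u * pt v = pt (u + v) := by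
  apply WithConv.ofConv_injective
  refine SymmetricAlgebra.algHom_ext (LinearMap.ext_ring ?_)
  refine (AlgHom.convMul_apply (pt u) (pt v) (T k)).trans ?_
  rw [SymmetricAlgebra.comul_ι]
  simp [pt]

theorem bijective_aeval : Function.Bijective (aeval (R := k) (T k)) := by
  let g' : SymmetricAlgebra k k →ₐ[k] k[X] :=
    SymmetricAlgebra.lift (LinearMap.toSpanSingleton k k[X] X)
  have h1 : (aeval (T k)).comp g' = AlgHom.id k _ := by ext; simp [g']
  have h2 : g'.comp (aeval (T k)) = AlgHom.id k _ := Polynomial.algHom_ext (by simp [g'])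
  exact ⟨Function.LeftInverse.injective (g := g') fun a => AlgHom.congr_fun h2 a,
    fun b => ⟨g' b, AlgHom.congr_fun h1 b⟩⟩

theorem hasseDeriv_map {R S : Type u} [CommRing R] [CommRing S] (φ : R →+* S) (i : ℕ) (f : R[X]) :
    hasseDeriv i (f.map φ) = (hasseDeriv i f).map φ := by
  ext n
  simp [hasseDeriv_coeff]

theorem taylor_coeff_root (g f : k[X]) (i : ℕ) :
    (taylor (AdjoinRoot.root g) (f.map (AdjoinRoot.of g))).coeff i = AdjoinRoot.mk g (hasseDeriv i f) := by
  rw [taylor_coeff, hasseDeriv_map, eval_map, ← AdjoinRoot.aeval_eq, aeval_def]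
  rfl

theorem hasseDeriv_eq_C {g f : k[X]} (hdeg : f.natDegree ≤ g.natDegree)
    (h : taylor (AdjoinRoot.root g) (f.map (AdjoinRoot.of g)) = f.map (AdjoinRoot.of g)) {i : ℕ} (hi : 0 < i)
    (hg : 0 < g.natDegree) :
    hasseDeriv i f = C (f.coeff i) := by
  have h1 := congrArg (fun P => P.coeff i) h
  simp only [taylor_coeff_root, coeff_map] at h1
  rw [← AdjoinRoot.mk_C, AdjoinRoot.mk_eq_mk] at h1
  refine sub_eq_zero.1 (eq_zero_of_dvd_of_natDegree_lt h1 ?_)
  rw [natDegree_sub_C]
  exact lt_of_le_of_lt (natDegree_hasseDeriv_le f i) (by omega)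

theorem eq_C_of_invariant {g f : k[X]} (hdeg : f.natDegree < g.natDegree)
    (h : taylor (AdjoinRoot.root g) (f.map (AdjoinRoot.of g)) = f.map (AdjoinRoot.of g)) :
    f = C (f.coeff 0) := by
  have h1 := congrArg (fun P => P.coeff 0) h
  simp only [taylor_coeff_root, coeff_map, hasseDeriv_zero, LinearMap.id_coe, id_eq] at h1
  rw [← AdjoinRoot.mk_C, AdjoinRoot.mk_eq_mk] at h1
  refine sub_eq_zero.1 (eq_zero_of_dvd_of_natDegree_lt h1 ?_)
  rwa [natDegree_sub_C]

/-- a polynomial whose zeros form a subgroup is additive -/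
theorem additive_of_taylor {g : k[X]} (hg : 0 < g.natDegree) (h0 : g.coeff 0 = 0)
    (h : taylor (AdjoinRoot.root g) (g.map (AdjoinRoot.of g)) = g.map (AdjoinRoot.of g))
    {R : Type u} [CommRing R] [Algebra k R] (u v : R) : aeval (u + v) g = aeval u g + aeval v g := by
  have e : taylor v (g.map (algebraMap k R)) = g.map (algebraMap k R) + C (aeval v g) := by
    ext i
    rw [taylor_coeff, hasseDeriv_map, coeff_add, coeff_map, coeff_C]
    rcases Nat.eq_zero_or_pos i with rfl | hi
    · simp [hasseDeriv_zero, h0, eval_map, aeval_def]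
    · rw [hasseDeriv_eq_C le_rfl h hi hg, if_neg hi.ne', map_C, eval_C, add_zero]
  have h2 := congrArg (eval u) e
  rw [taylor_eval, eval_add, eval_C] at h2
  simpa [eval_map, aeval_def, add_comm] using h2

theorem mem_adjoin_of_invariant {g : k[X]} (hg : g.Monic) (hn : 0 < g.natDegree)
    (hgR : taylor (AdjoinRoot.root g) (g.map (AdjoinRoot.of g)) = g.map (AdjoinRoot.of g)) :
    ∀ (m : ℕ) (f : k[X]), f.natDegree ≤ m →
      taylor (AdjoinRoot.root g) (f.map (AdjoinRoot.of g)) = f.map (AdjoinRoot.of g) →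
      f ∈ Algebra.adjoin k ({g} : Set k[X]) := by
  haveI : Nontrivial (AdjoinRoot g) :=
    AdjoinRoot.nontrivial g (fun h => by rw [eq_C_of_degree_eq_zero h] at hn; simp at hn)
  intro m
  induction m using Nat.strong_induction_on with
  | _ m ih =>
  intro f hf h
  let r := f %ₘ g
  let q := f /ₘ g
  have hfe : r + g * q = f := modByMonic_add_div f g
  have hr : r.natDegree < g.natDegree := natDegree_modByMonic_lt f hg (fun e => by simp [e] at hn)
  have hG : (g.map (AdjoinRoot.of g)).Monic := hg.map _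
  rw [← hfe, Polynomial.map_add, Polynomial.map_mul, map_add, taylor_mul, hgR] at h
  have hd : g.map (AdjoinRoot.of g) ∣
      taylor (AdjoinRoot.root g) (r.map (AdjoinRoot.of g)) - r.map (AdjoinRoot.of g) :=
    ⟨q.map (AdjoinRoot.of g) - taylor (AdjoinRoot.root g) (q.map (AdjoinRoot.of g)), by
      linear_combination h⟩
  have hr2 : taylor (AdjoinRoot.root g) (r.map (AdjoinRoot.of g)) = r.map (AdjoinRoot.of g) := by
    by_contra hne
    refine hG.not_dvd_of_natDegree_lt (sub_ne_zero.2 hne) ?_ hd
    refine lt_of_le_of_lt (natDegree_sub_le _ _) ?_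
    rw [natDegree_taylor, max_self, hg.natDegree_map]
    exact lt_of_le_of_lt natDegree_map_le hr
  have hr3 := eq_C_of_invariant hr hr2
  rw [← hfe]
  refine add_mem ?_ (mul_mem (Algebra.self_mem_adjoin_singleton k g) ?_)
  · rw [hr3]
    exact Subalgebra.algebraMap_mem _ _
  · rw [hr2] at h
    have hq : taylor (AdjoinRoot.root g) (q.map (AdjoinRoot.of g)) = q.map (AdjoinRoot.of g) :=
      hG.isRegular.left (add_left_cancel h)
    rcases eq_or_ne q 0 with hq0 | hq0
    · rw [hq0]; exact zero_mem _
    · have hdeg : g.natDegree + q.natDegree = f.natDegree := by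
        have := natDegree_mul hg.ne_zero hq0
        rw [← this, ← hfe, natDegree_add_eq_right_of_natDegree_lt]
        omega
      exact ih q.natDegree (by omega) q le_rfl hq

variable {A : Type u} [CommRing A] [HopfAlgebra k A]

theorem comp_mul {R : Type u} [CommRing R] [Algebra k R] (φ : A →ₐc[k] SymmetricAlgebra k k)
    (p q : WithConv (SymmetricAlgebra k k →ₐ[k] R)) :
    toConv ((p * q).ofConv.comp (φ : A →ₐ[k] SymmetricAlgebra k k)) =
      toConv (p.ofConv.comp (φ : A →ₐ[k] SymmetricAlgebra k k)) * toConv (q.ofConv.comp φ) := by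
  refine WithConv.ofConv_injective (AlgHom.ext fun a => ?_)
  simp only [AlgHom.comp_apply, AlgHom.convMul_apply, ofConv_toConv]
  rw [show CoalgebraStruct.comul (R := k) ((φ : A →ₐ[k] SymmetricAlgebra k k) a) =
    TensorProduct.map (φ : A →ₐ[k] SymmetricAlgebra k k).toLinearMap (φ : A →ₐ[k] SymmetricAlgebra k k).toLinearMap
      (CoalgebraStruct.comul (R := k) a) from (CoalgHomClass.map_comp_comul_apply φ a).symm]
  generalize CoalgebraStruct.comul (R := k) a = z
  induction z with
  | zero => simp
  | add p q hp hq => simp only [map_add, hp, hq]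
  | tmul p q => simp

theorem antipode_comp_mul {R : Type u} [CommRing R] [Algebra k R] (p : WithConv (SymmetricAlgebra k k →ₐ[k] R)) :
    toConv (p.ofConv.comp (HopfAlgebra.antipodeAlgHom k (SymmetricAlgebra k k))) * p = 1 := by
  refine WithConv.ofConv_injective (AlgHom.ext fun a => ?_)
  refine (AlgHom.convMul_apply _ _ _).trans ?_
  rw [← (Coalgebra.Repr.arbitrary k a).eq, map_sum]
  simp only [Algebra.TensorProduct.lift_tmul, ofConv_toConv, AlgHom.comp_apply, ← map_mul, ← map_sum,
    HopfAlgebra.antipodeAlgHom_apply, HopfAlgebra.sum_antipode_mul_eq_algebraMap_counit]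
  exact p.ofConv.commutes _

theorem mul_comp_antipode {R : Type u} [CommRing R] [Algebra k R] (p : WithConv (SymmetricAlgebra k k →ₐ[k] R)) :
    p * toConv (p.ofConv.comp (HopfAlgebra.antipodeAlgHom k (SymmetricAlgebra k k))) = 1 := by
  refine WithConv.ofConv_injective (AlgHom.ext fun a => ?_)
  refine (AlgHom.convMul_apply _ _ _).trans ?_
  rw [← (Coalgebra.Repr.arbitrary k a).eq, map_sum]
  simp only [Algebra.TensorProduct.lift_tmul, ofConv_toConv, AlgHom.comp_apply, ← map_mul, ← map_sum,
    HopfAlgebra.antipodeAlgHom_apply, HopfAlgebra.sum_mul_antipode_eq_algebraMap_counit]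
  exact p.ofConv.commutes _

/-- a sub-Hopf algebra of the additive group is again one -/
theorem nonempty_equiv (φ : A →ₐc[k] SymmetricAlgebra k k) (hφ : Function.Injective φ)
    (hne : ∃ a, ∀ c : k, φ a ≠ algebraMap k _ c) : Nonempty (A ≃ₐc[k] SymmetricAlgebra k k) := by
  classical
  let τ : k[X] ≃ₐ[k] SymmetricAlgebra k k := AlgEquiv.ofBijective (aeval (T k)) bijective_aeval
  let φ' : A →ₐ[k] SymmetricAlgebra k k := φ
  -- the ideal of the kernel
  let J : Ideal k[X] := Ideal.span {f | ∃ a, CoalgebraStruct.counit (R := k) a = 0 ∧ τ f = φ a}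
  have hJ : J ≠ ⊥ := by
    obtain ⟨a, ha⟩ := hne
    intro hJ
    let b := a - algebraMap k A (CoalgebraStruct.counit (R := k) a)
    have hmem : τ.symm (φ b) ∈ J := Ideal.subset_span ⟨b, by simp [b], τ.apply_symm_apply _⟩
    rw [hJ, Ideal.mem_bot, map_eq_zero_iff _ τ.symm.injective] at hmem
    refine ha (CoalgebraStruct.counit (R := k) a) ?_
    have : φ' b = 0 := hmem
    rw [map_sub, AlgHom.commutes, sub_eq_zero] at this
    exact this
  obtain ⟨g₁, hg₁⟩ := Submodule.IsPrincipal.principal J
  have hg₁0 : g₁ ≠ 0 := fun h => hJ (by rw [hg₁, h]; simp)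
  let g := g₁ * C g₁.leadingCoeff⁻¹
  have hg : g.Monic := monic_mul_leadingCoeff_inv hg₁0
  have hu : IsUnit (C g₁.leadingCoeff⁻¹ : k[X]) :=
    (isUnit_C.2 (isUnit_iff_ne_zero.2 (inv_ne_zero (leadingCoeff_ne_zero.2 hg₁0))))
  have hJg : J = Ideal.span {g} := by
    rw [Ideal.span_singleton_mul_right_unit hu]
    exact hg₁
  -- points killing g kill the augmentation ideal
  have hkill : ∀ {R : Type u} [CommRing R] [Algebra k R] (p : WithConv (SymmetricAlgebra k k →ₐ[k] R)),
      p.ofConv (τ g) = 0 → toConv (p.ofConv.comp φ') = 1 := by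
    intro R _ _ p hp
    refine WithConv.ofConv_injective (AlgHom.ext fun a => ?_)
    let b := a - algebraMap k A (CoalgebraStruct.counit (R := k) a)
    have hmem : τ.symm (φ b) ∈ J := Ideal.subset_span ⟨b, by simp [b], τ.apply_symm_apply _⟩
    rw [hJg, Ideal.mem_span_singleton] at hmem
    obtain ⟨c, hc⟩ := hmem
    have h2 : φ' b = τ g * τ c := by
      rw [← map_mul, ← hc]
      exact (τ.apply_symm_apply _).symm
    have h3 : p.ofConv (φ' b) = 0 := by rw [h2, map_mul, hp, zero_mul]
    rw [map_sub, map_sub, AlgHom.commutes, AlgHom.commutes, sub_eq_zero] at h3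
    simpa using h3
  -- points killing the augmentation ideal kill g
  have hkill' : ∀ {R : Type u} [CommRing R] [Algebra k R] (p : WithConv (SymmetricAlgebra k k →ₐ[k] R)),
      toConv (p.ofConv.comp φ') = 1 → p.ofConv (τ g) = 0 := by
    intro R _ _ p hp
    have hle : J ≤ RingHom.ker (p.ofConv.comp (τ : k[X] →ₐ[k] SymmetricAlgebra k k)) := by
      refine Ideal.span_le.2 ?_
      rintro f ⟨a, ha, hf⟩
      show p.ofConv (τ f) = 0
      rw [hf]
      have := congrArg (fun q : WithConv (A →ₐ[k] R) => q.ofConv a) hp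
      simpa [ha, φ'] using this
    exact hle (hJg ▸ Ideal.mem_span_singleton_self g)
  have hg0 : g.coeff 0 = 0 := by
    have h := hkill' (pt (0 : k)) (by
      refine WithConv.ofConv_injective (AlgHom.ext fun a => ?_)
      have e : (pt (0 : k)).ofConv = Bialgebra.counitAlgHom k (SymmetricAlgebra k k) := by
        refine SymmetricAlgebra.algHom_ext (LinearMap.ext_ring ?_)
        simp [pt, SymmetricAlgebra.algebraMapInv_ι]
      show (pt (0 : k)).ofConv (φ' a) = _
      rw [e]
      exact CoalgHomClass.counit_comp_apply φ a)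
    rw [show τ g = aeval (T k) g from rfl, pt_aeval] at h
    simpa [aeval_def, eval₂_at_zero] using h
  have hn : 0 < g.natDegree := by
    by_contra h
    rw [eq_one_of_monic_natDegree_zero hg (by omega)] at hg0
    simp at hg0
  haveI : Nontrivial (AdjoinRoot g) :=
    AdjoinRoot.nontrivial g (fun h => by rw [eq_C_of_degree_eq_zero h] at hn; simp at hn)
  let R₁ := AdjoinRoot g
  let G : R₁[X] := g.map (AdjoinRoot.of g)
  have hG : G.Monic := hg.map _
  have haev : ∀ (f : k[X]) (u : R₁[X]), aeval u f = (f.map (AdjoinRoot.of g)).comp u := fun f u => by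
    rw [comp, eval₂_map, aeval_def]
    congr 1
  have hroot : aeval (C (AdjoinRoot.root g) : R₁[X]) g = 0 := by
    rw [haev, comp_C, eval_map, ← AdjoinRoot.algebraMap_eq, ← aeval_def, AdjoinRoot.aeval_eq, AdjoinRoot.mk_self, C_0]
  have hgR : taylor (AdjoinRoot.root g) G = G := by
    let R₂ := R₁[X] ⧸ Ideal.span {G}
    let q : R₁[X] →ₐ[k] R₂ := Ideal.Quotient.mkₐ k _
    have hX : aeval (q X) g = 0 := by
      rw [aeval_algHom_apply, haev, comp_X]
      exact Ideal.Quotient.eq_zero_iff_mem.2 (Ideal.mem_span_singleton_self G)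
    have hY : aeval (q (C (AdjoinRoot.root g))) g = 0 := by
      rw [aeval_algHom_apply, hroot, map_zero]
    have hX' : (pt (k := k) (q X)).ofConv (τ g) = 0 := (pt_aeval _ _).trans hX
    have hY' : (pt (k := k) (q (C (AdjoinRoot.root g)))).ofConv (τ g) = 0 := (pt_aeval _ _).trans hY
    have h := hkill' (pt (k := k) (q X) * pt (q (C (AdjoinRoot.root g)))) (by
      rw [comp_mul φ, hkill _ hX', hkill _ hY']; exact one_mul (1 : WithConv (A →ₐ[k] R₂)))
    rw [pt_mul, show τ g = aeval (T k) g from rfl, pt_aeval, ← map_add, aeval_algHom_apply, haev] at h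
    have hd : G ∣ taylor (AdjoinRoot.root g) G - G := by
      refine dvd_sub ?_ dvd_rfl
      exact Ideal.mem_span_singleton.1 (Ideal.Quotient.eq_zero_iff_mem.1 h)
    by_contra hne
    refine hG.not_dvd_of_natDegree_lt (sub_ne_zero.2 hne) ?_ hd
    refine natDegree_lt_natDegree (sub_ne_zero.2 hne) ?_
    have hdeg : (taylor (AdjoinRoot.root g) G).degree = G.degree := degree_taylor _ _
    rw [← hdeg]
    exact degree_sub_lt_left hdeg (fun e => hG.ne_zero ((taylor_eq_zero _ _).1 e))
      (by rw [leadingCoeff_taylor])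
  have hadd : ∀ {R : Type u} [CommRing R] [Algebra k R] (u v : R), aeval (u + v) g = aeval u g + aeval v g :=
    fun u v => additive_of_taylor hn hg0 hgR u v
  let y : SymmetricAlgebra k k := τ g
  have hy : Comod33.Diag.IsPrim (k := k) y := by
    show CoalgebraStruct.comul (R := k) (aeval (T k) g) = (aeval (T k) g) ⊗ₜ[k] 1 + 1 ⊗ₜ[k] (aeval (T k) g)
    rw [show CoalgebraStruct.comul (R := k) (aeval (T k) g) = Bialgebra.comulAlgHom k _ (aeval (T k) g) from rfl,
      ← aeval_algHom_apply, Bialgebra.comulAlgHom_apply, SymmetricAlgebra.comul_ι, hadd]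
    exact congrArg₂ (· + ·)
      (aeval_algHom_apply (Algebra.TensorProduct.includeLeft :
        _ →ₐ[k] SymmetricAlgebra k k ⊗[k] SymmetricAlgebra k k) (T k) g)
      (aeval_algHom_apply (Algebra.TensorProduct.includeRight :
        _ →ₐ[k] SymmetricAlgebra k k ⊗[k] SymmetricAlgebra k k) (T k) g)
  -- the coordinate of the quotient lies in the subalgebra
  obtain ⟨a₀, ha₀⟩ : ∃ a, φ a = y := by
    letI : Algebra A (SymmetricAlgebra k k) := φ'.toRingHom.toAlgebra
    haveI : IsScalarTower k A (SymmetricAlgebra k k) := .of_algebraMap_eq fun r => (φ'.commutes r).symm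
    haveI : Module.FaithfullyFlat A (SymmetricAlgebra k k) := Comod33.HopfFlat.faithfullyFlat_of_injective φ hφ
    let p : WithConv (SymmetricAlgebra k k →ₐ[k] SymmetricAlgebra k k ⊗[A] SymmetricAlgebra k k) :=
      toConv ((Algebra.TensorProduct.includeLeft : SymmetricAlgebra k k →ₐ[A] _).restrictScalars k)
    let q : WithConv (SymmetricAlgebra k k →ₐ[k] SymmetricAlgebra k k ⊗[A] SymmetricAlgebra k k) :=
      toConv ((Algebra.TensorProduct.includeRight : SymmetricAlgebra k k →ₐ[A] _).restrictScalars k)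
    have hpq : toConv (q.ofConv.comp φ') = toConv (p.ofConv.comp φ') := by
      refine WithConv.ofConv_injective (AlgHom.ext fun a => ?_)
      show (1 : SymmetricAlgebra k k) ⊗ₜ[A] (algebraMap A (SymmetricAlgebra k k) a) =
        (algebraMap A (SymmetricAlgebra k k) a) ⊗ₜ[A] (1 : SymmetricAlgebra k k)
      rw [Algebra.algebraMap_eq_smul_one, TensorProduct.smul_tmul]
    let p' : WithConv (SymmetricAlgebra k k →ₐ[k] SymmetricAlgebra k k ⊗[A] SymmetricAlgebra k k) :=
      toConv (p.ofConv.comp (HopfAlgebra.antipodeAlgHom k (SymmetricAlgebra k k)))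
    have hc : q * p' * p = q :=
      (mul_assoc q p' p).trans ((congrArg (q * ·) (antipode_comp_mul p)).trans (mul_one q))
    have hd := hkill' (q * p') (by
      let X := toConv ((q * p').ofConv.comp φ')
      let P := toConv (p.ofConv.comp φ')
      let P' := toConv (p'.ofConv.comp φ')
      have h : P = X * P := by
        have h := comp_mul φ (q * p') p
        rw [hc, hpq] at h
        exact h
      have i : P * P' = 1 := by
        refine (comp_mul φ p p').symm.trans ?_
        rw [mul_comp_antipode p]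
        refine WithConv.ofConv_injective (AlgHom.ext fun a => ?_)
        show algebraMap k (SymmetricAlgebra k k ⊗[A] SymmetricAlgebra k k) (CoalgebraStruct.counit (φ a)) = _
        exact congrArg (algebraMap k (SymmetricAlgebra k k ⊗[A] SymmetricAlgebra k k))
          (CoalgHomClass.counit_comp_apply φ a)
      calc X = X * 1 := (mul_one X).symm
        _ = X * (P * P') := by rw [i]
        _ = X * P * P' := (mul_assoc X P P').symm
        _ = P * P' := congrArg (· * P') h.symm
        _ = 1 := i)
    have hsplit : q.ofConv y = (q * p').ofConv y + p.ofConv y := by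
      conv_lhs => rw [← hc]
      refine (AlgHom.convMul_apply (q * p') p y).trans ?_
      rw [show CoalgebraStruct.comul (R := k) y = _ from hy]
      simp
    rw [hd, zero_add] at hsplit
    have h : (1 : SymmetricAlgebra k k) ⊗ₜ[A] y = y ⊗ₜ[A] (1 : SymmetricAlgebra k k) := hsplit
    have h1 := congrArg (LinearMap.lTensor (SymmetricAlgebra k k)
      (LinearMap.range (Algebra.linearMap A (SymmetricAlgebra k k))).mkQ) h
    simp only [LinearMap.lTensor_tmul, Submodule.mkQ_apply] at h1
    have he : (Submodule.Quotient.mk (1 : SymmetricAlgebra k k) :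
        SymmetricAlgebra k k ⧸ LinearMap.range (Algebra.linearMap A (SymmetricAlgebra k k))) = 0 :=
      (Submodule.Quotient.mk_eq_zero _).2 (LinearMap.mem_range.2 ⟨1, by simp⟩)
    rw [he, TensorProduct.tmul_zero] at h1
    have h2 := Module.FaithfullyFlat.tensorProduct_mk_injective (A := A) (B := SymmetricAlgebra k k)
      (SymmetricAlgebra k k ⧸ LinearMap.range (Algebra.linearMap A (SymmetricAlgebra k k)))
      (a₁ := Submodule.Quotient.mk y) (a₂ := 0) (h1.trans (map_zero _).symm)
    obtain ⟨x, hx⟩ := (Submodule.Quotient.mk_eq_zero _).1 h2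
    exact ⟨x, hx⟩
  -- and generates it
  have hgen : ∀ a, φ a ∈ Algebra.adjoin k ({y} : Set (SymmetricAlgebra k k)) := by
    intro a
    let f := τ.symm (φ a)
    have hY : (pt (k := k) (C (AdjoinRoot.root g) : R₁[X])).ofConv (τ g) = 0 := (pt_aeval _ _).trans hroot
    have h := comp_mul φ (pt (k := k) (X : R₁[X])) (pt (C (AdjoinRoot.root g)))
    rw [hkill _ hY, mul_one, pt_mul] at h
    have h' := congrArg (fun q : WithConv (A →ₐ[k] R₁[X]) => q.ofConv a) h
    simp only [AlgHom.comp_apply] at h'
    have hf : aeval (T k) f = φ' a := τ.apply_symm_apply _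
    replace h' : (pt (k := k) (X + C (AdjoinRoot.root g) : R₁[X])).ofConv (φ' a) =
        (pt (k := k) (X : R₁[X])).ofConv (φ' a) := h'
    rw [← hf, pt_aeval, pt_aeval, haev, haev, comp_X] at h'
    obtain ⟨P, hP⟩ := (Algebra.adjoin_singleton_eq_range_aeval k g).le
      (mem_adjoin_of_invariant hg hn hgR _ f le_rfl (by rw [taylor_apply]; exact h'))
    show φ' a ∈ _
    rw [← hf, ← hP]
    exact (Algebra.adjoin_singleton_eq_range_aeval k y).ge ⟨P, (aeval_algHom_apply (aeval (T k)) g P)⟩
  -- the isomorphism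
  let ψ : SymmetricAlgebra k k →ₐ[k] A := SymmetricAlgebra.lift (LinearMap.toSpanSingleton k A a₀)
  have hψT : ψ (T k) = a₀ := by simp [ψ]
  have hψf : ∀ P : k[X], φ' (ψ (τ P)) = τ (P.comp g) := fun P => by
    show φ' (ψ (aeval (T k) P)) = aeval (T k) (P.comp g)
    rw [← aeval_algHom_apply, ← aeval_algHom_apply, hψT, show φ' a₀ = y from ha₀, aeval_comp]
    rfl
  have hbij : Function.Bijective ψ := by
    refine ⟨(injective_iff_map_eq_zero ψ).2 fun x hx => ?_, fun a => ?_⟩
    · obtain ⟨P, rfl⟩ := τ.surjective x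
      have h := hψf P
      rw [hx, map_zero] at h
      have h2 := (map_eq_zero_iff _ τ.injective).1 h.symm
      rcases Polynomial.comp_eq_zero_iff.1 h2 with h3 | ⟨_, h3⟩
      · rw [h3, map_zero]
      · rw [h3] at hn
        simp at hn
    · obtain ⟨P, hP⟩ := (Algebra.adjoin_singleton_eq_range_aeval k y).le (hgen a)
      refine ⟨τ P, hφ ?_⟩
      show φ' (ψ (τ P)) = φ' a
      rw [hψf]
      show aeval (T k) (P.comp g) = φ' a
      rw [aeval_comp]
      exact hP
  have hcounit : CoalgebraStruct.counit (R := k) a₀ = 0 := by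
    rw [← CoalgHomClass.counit_comp_apply φ a₀, ha₀]
    show SymmetricAlgebra.algebraMapInv (aeval (T k) g) = 0
    rw [← aeval_algHom_apply, show SymmetricAlgebra.algebraMapInv (T k) = (0 : k) from
      SymmetricAlgebra.algebraMapInv_ι _]
    simpa [aeval_def, eval₂_at_zero] using hg0
  have hcomul : CoalgebraStruct.comul (R := k) a₀ = a₀ ⊗ₜ[k] 1 + 1 ⊗ₜ[k] a₀ := by
    refine TensorProduct.map_injective_of_flat_flat φ'.toLinearMap φ'.toLinearMap hφ hφ ?_
    have h := CoalgHomClass.map_comp_comul_apply φ a₀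
    rw [ha₀, show CoalgebraStruct.comul (R := k) y = _ from hy] at h
    refine h.trans ?_
    simp [φ', ha₀]
  exact ⟨(BialgEquiv.ofAlgEquiv (AlgEquiv.ofBijective ψ hbij)
    (SymmetricAlgebra.algHom_ext (LinearMap.ext_ring (by
      show CoalgebraStruct.counit (R := k) (ψ (T k)) = SymmetricAlgebra.algebraMapInv (T k)
      rw [hψT, hcounit, SymmetricAlgebra.algebraMapInv_ι])))
    (SymmetricAlgebra.algHom_ext (LinearMap.ext_ring (by
      show Algebra.TensorProduct.map ψ ψ (CoalgebraStruct.comul (R := k) (T k)) =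
        CoalgebraStruct.comul (R := k) (ψ (T k))
      rw [SymmetricAlgebra.comul_ι, hψT, hcomul, map_add, Algebra.TensorProduct.map_tmul,
        Algebra.TensorProduct.map_tmul, hψT, map_one])))).symm⟩

end Groth.Agent.AlgGrp33.SubGa
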