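import Mathlib.RingTheory.ZariskisMainTheorem
import Mathlib.RingTheory.NoetherNormalization
import Mathlib.RingTheory.Valuation.ValuationRing
import Mathlib.RingTheory.AlgebraicIndependent.TranscendenceBasis

/-!
Transcendence degrees in the special fibre of an algebra over a valuation ring.
-/

set_option autoImplicit false
universe u

namespace Groth.Agent.AlgGrp33.TrdegSpec

variable {V K A B : Type u} [CommRing V] [IsDomain V] [ValuationRing V] [Field K] [Algebra V K]
  [CommRing A] [IsDomain A] [Algebra V A] [FaithfulSMul V A]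
  [CommRing B] [Algebra V B] [Algebra K B] [IsScalarTower V K B]

/-- A nonzero polynomial is a constant times a polynomial with a coefficient equal to one. -/
theorem exists_primitive {σ : Type u} (p : MvPolynomial σ V) (hp : p ≠ 0) :
    ∃ (c : V) (p' : MvPolynomial σ V), p = MvPolynomial.C c * p' ∧ c ≠ 0 ∧ ∃ d, p'.coeff d = 1 := by
  classical
  obtain ⟨d₀, hd₀⟩ := (MvPolynomial.support_nonempty (p := p)).2 hp
  have key : ∀ s : Finset (σ →₀ ℕ), ∀ d ∈ s, ∃ e ∈ s, ∀ d' ∈ s, p.coeff e ∣ p.coeff d' := by
    intro s
    induction s using Finset.induction with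
    | empty => simp
    | @insert a s _ ih =>
      intro _ _
      rcases s.eq_empty_or_nonempty with rfl | ⟨b, hb⟩
      · exact ⟨a, by simp, by simp⟩
      · obtain ⟨e, he, hedvd⟩ := ih b hb
        rcases ValuationRing.dvd_total (p.coeff a) (p.coeff e) with h | h
        · exact ⟨a, by simp, fun d' hd' => by
            rcases Finset.mem_insert.1 hd' with rfl | h'
            · exact dvd_rfl
            · exact h.trans (hedvd d' h')⟩
        · exact ⟨e, Finset.mem_insert_of_mem he, fun d' hd' => by
            rcases Finset.mem_insert.1 hd' with rfl | h'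
            · exact h
            · exact hedvd d' h'⟩
  obtain ⟨e, he, hdvd⟩ := key p.support d₀ hd₀
  have hc : p.coeff e ≠ 0 := MvPolynomial.mem_support_iff.1 he
  have hC : MvPolynomial.C (p.coeff e) ∣ p := (MvPolynomial.C_dvd_iff_dvd_coeff _ _).2 fun d => by
    by_cases hd : d ∈ p.support
    · exact hdvd d hd
    · rw [MvPolynomial.notMem_support_iff.1 hd]; exact dvd_zero _
  obtain ⟨p', hp'⟩ := hC
  refine ⟨p.coeff e, p', hp', hc, e, ?_⟩
  have := congrArg (MvPolynomial.coeff e) hp'
  rw [MvPolynomial.coeff_C_mul] at this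
  exact mul_left_cancel₀ hc (this.symm.trans (mul_one _).symm)

/-- The transcendence degree does not go up in the special fibre. -/
theorem trdeg_le (hψ : Function.Surjective (algebraMap V K)) (π : A →ₐ[V] B) (hπ : Function.Surjective π) :
    Algebra.trdeg K B ≤ Algebra.trdeg V A := by
  rw [Algebra.trdeg]
  refine ciSup_le' fun s => ?_
  choose x hx using fun b : s.1 => hπ b.1
  have : AlgebraicIndependent V x := by
    rw [algebraicIndependent_iff]
    intro p hp
    by_contra hp0
    obtain ⟨c, p', rfl, hc, d, hd⟩ := exists_primitive p hp0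
    rw [map_mul, MvPolynomial.aeval_C, mul_eq_zero] at hp
    have hp' : MvPolynomial.aeval x p' = 0 := hp.resolve_left
      fun h => hc (FaithfulSMul.algebraMap_injective V A (by rw [h, map_zero]))
    have h2 : MvPolynomial.aeval (Subtype.val : s.1 → B) (MvPolynomial.map (algebraMap V K) p') = 0 := by
      rw [MvPolynomial.aeval_map_algebraMap]
      have := congrArg π hp'
      rw [← AlgHom.comp_apply, MvPolynomial.comp_aeval, map_zero] at this
      convert this using 3
      funext b
      exact (hx b).symm
    have h3 := algebraicIndependent_iff.1 s.2 _ h2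
    have h4 := congrArg (MvPolynomial.coeff d) h3
    rw [MvPolynomial.coeff_map, hd, map_one, MvPolynomial.coeff_zero] at h4
    exact one_ne_zero h4
  exact this.cardinalMk_le_trdeg

/-- At a generic point of the special fibre the transcendence degree does not go down. -/
theorem le_trdeg [IsDomain B] [Algebra.FiniteType V A]
    (hψ : Function.Surjective (algebraMap V K)) (π : A →ₐ[V] B) (hπ : Function.Surjective π)
    (hmin : ∀ Q' : Ideal A, Q'.IsPrime → (∀ v, algebraMap V K v = 0 → algebraMap V A v ∈ Q') →
      Q' ≤ RingHom.ker π → RingHom.ker π ≤ Q') :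
    Algebra.trdeg V A ≤ Algebra.trdeg K B := by
  classical
  have : Algebra.FiniteType V B := ‹Algebra.FiniteType V A›.of_surjective π hπ
  have : Algebra.FiniteType K B := Algebra.FiniteType.of_restrictScalars_finiteType V K B
  obtain ⟨s, g, hginj, hgfin⟩ := exists_finite_inj_algHom_of_fg K B
  choose x hx using fun i => hπ (g (MvPolynomial.X i))
  let P := MvPolynomial (Fin s) V
  letI : Algebra P A := (MvPolynomial.aeval x : P →ₐ[V] A).toRingHom.toAlgebra
  have : IsScalarTower V P A := .of_algebraMap_eq fun v => ((MvPolynomial.aeval x).commutes v).symm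
  have : Algebra.FiniteType P A := Algebra.FiniteType.of_restrictScalars_finiteType V P A
  have hcomp : ∀ p : P, π (algebraMap P A p) = g (MvPolynomial.map (algebraMap V K) p) := fun p => by
    induction p using MvPolynomial.induction_on with
    | C v =>
      show π (MvPolynomial.aeval x (MvPolynomial.C v)) = _
      rw [MvPolynomial.aeval_C, AlgHom.commutes, MvPolynomial.map_C, ← MvPolynomial.algebraMap_eq, AlgHom.commutes,
        ← IsScalarTower.algebraMap_apply]
    | add p q hp hq => simp only [map_add, hp, hq]
    | mul_X p i hp =>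
      simp only [map_mul, hp]
      congr 1
      show π (MvPolynomial.aeval x (MvPolynomial.X i)) = _
      rw [MvPolynomial.aeval_X, MvPolynomial.map_X, hx]
  have hQp : (RingHom.ker π).IsPrime := RingHom.ker_isPrime π
  let q : PrimeSpectrum A := ⟨RingHom.ker π, hQp⟩
  let J : Ideal A := (RingHom.ker (algebraMap V K)).map (algebraMap V A)
  have hfinmin : J.minimalPrimes.Finite := by
    let k₀ := V ⧸ RingHom.ker (algebraMap V K)
    have : (RingHom.ker (algebraMap V K)).IsMaximal := RingHom.ker_isMaximal_of_surjective _ hψ
    letI : Field k₀ := Ideal.Quotient.field _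
    letI : Algebra k₀ (A ⧸ J) := (Ideal.Quotient.lift _ (algebraMap V (A ⧸ J)) fun v hv => by
      show Ideal.Quotient.mk J (algebraMap V A v) = 0
      exact Ideal.Quotient.eq_zero_iff_mem.2 (Ideal.mem_map_of_mem _ hv)).toAlgebra
    have : IsScalarTower V k₀ (A ⧸ J) := .of_algebraMap_eq fun v => rfl
    have : Algebra.FiniteType V (A ⧸ J) :=
      ‹Algebra.FiniteType V A›.of_surjective (Ideal.Quotient.mkₐ V J) Ideal.Quotient.mk_surjective
    have : Algebra.FiniteType k₀ (A ⧸ J) := Algebra.FiniteType.of_restrictScalars_finiteType V k₀ _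
    have := Algebra.FiniteType.isNoetherianRing k₀ (A ⧸ J)
    rw [Ideal.minimalPrimes_eq_comap]
    exact (minimalPrimes.finite_of_isNoetherianRing (A ⧸ J)).image _
  let others := hfinmin.toFinset.filter fun Q' => ¬ Q' ≤ RingHom.ker π
  have hch : ∀ Q' ∈ others, ∃ a ∈ Q', a ∉ RingHom.ker π := fun Q' hQ' =>
    Set.not_subset.1 (Finset.mem_filter.1 hQ').2
  choose! a ha₁ ha₂ using hch
  let γ := ∏ Q' ∈ others, a Q'
  have hγ : γ ∉ RingHom.ker π := fun h => by
    obtain ⟨Q', hQ', h'⟩ := (Ideal.IsPrime.prod_mem_iff (p := RingHom.ker π)).1 h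
    exact ha₂ Q' hQ' h'
  have hqfin : Algebra.QuasiFiniteAt P q.asIdeal := by
    apply Algebra.QuasiFiniteAt.of_isOpen_singleton_fiber
    have heq : ({⟨q, rfl⟩} : Set ↥(PrimeSpectrum.comap (algebraMap P A) ⁻¹' {q.comap (algebraMap P A)})) =
        Subtype.val ⁻¹' (PrimeSpectrum.basicOpen γ : Set (PrimeSpectrum A)) := by
      ext ⟨q', hq'⟩
      constructor
      · intro h
        cases Set.mem_singleton_iff.1 h
        exact hγ
      · intro hγ'
        have hcom : ∀ p : P, algebraMap P A p ∈ q'.asIdeal ↔ algebraMap P A p ∈ RingHom.ker π := fun p =>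
          iff_of_eq (congrArg (fun Q : PrimeSpectrum P => p ∈ Q.asIdeal) (Set.mem_singleton_iff.1 hq'))
        have hJ : J ≤ q'.asIdeal := Ideal.map_le_iff_le_comap.2 fun v hv => by
          show algebraMap V A v ∈ q'.asIdeal
          rw [IsScalarTower.algebraMap_apply V P A, hcom, ← IsScalarTower.algebraMap_apply V P A, RingHom.mem_ker,
            AlgHom.commutes, IsScalarTower.algebraMap_apply V K B, RingHom.mem_ker.1 hv, map_zero]
        obtain ⟨Q₁, hQ₁, hQ₁le⟩ := Ideal.exists_minimalPrimes_le hJ
        have hQ₁π : Q₁ ≤ RingHom.ker π := by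
          by_contra hne
          have hmem : Q₁ ∈ others := Finset.mem_filter.2 ⟨hfinmin.mem_toFinset.2 hQ₁, hne⟩
          exact hγ' (q'.asIdeal.prod_mem hmem (hQ₁le (ha₁ Q₁ hmem)))
        have hle : RingHom.ker π ≤ q'.asIdeal :=
          (hmin Q₁ hQ₁.1.1 (fun v hv => hQ₁.1.2 (Ideal.mem_map_of_mem _ hv)) hQ₁π).trans hQ₁le
        -- incomparability over the polynomial ring
        letI : Algebra (MvPolynomial (Fin s) K) B := g.toRingHom.toAlgebra
        have : Module.Finite (MvPolynomial (Fin s) K) B := hgfin
        have hprime : (q'.asIdeal.map π).IsPrime := Ideal.map_isPrime_of_surjective hπ hle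
        have hbot : q'.asIdeal.map π = ⊥ := by
          refine Ideal.eq_bot_of_comap_eq_bot (R := MvPolynomial (Fin s) K) ?_
          refine le_bot_iff.1 fun p hp => ?_
          obtain ⟨p₀, rfl⟩ := MvPolynomial.map_surjective _ hψ p
          have h1 : g (MvPolynomial.map (algebraMap V K) p₀) ∈ q'.asIdeal.map π := hp
          rw [← hcomp, ← Ideal.mem_comap, Ideal.comap_map_of_surjective π hπ] at h1
          have h2 : algebraMap P A p₀ ∈ q'.asIdeal := by
            refine (sup_le le_rfl ?_ : _ ≤ q'.asIdeal) h1
            exact fun z hz => hle hz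
          rw [hcom, RingHom.mem_ker, hcomp] at h2
          exact hginj (h2.trans (map_zero g).symm)
        have : q'.asIdeal = RingHom.ker π := le_antisymm (fun z hz => by
          have := Ideal.mem_map_of_mem π hz
          rw [hbot] at this
          exact this) hle
        exact Subtype.ext (PrimeSpectrum.ext this)
    rw [heq]
    exact (PrimeSpectrum.basicOpen γ).isOpen.preimage continuous_subtype_val
  have : Algebra.QuasiFiniteAt P (⊥ : Ideal A) := Algebra.QuasiFiniteAt.of_le (bot_le (a := q.asIdeal))
  -- the fraction field is finite over the residue field below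
  let p₀ : Ideal P := (⊥ : Ideal A).under P
  let M := Localization.AtPrime (⊥ : Ideal A)
  have : IsFractionRing A M := by
    have hM : (⊥ : Ideal A).primeCompl = nonZeroDivisors A := by
      ext a; simp [Ideal.primeCompl, mem_nonZeroDivisors_iff_ne_zero]
    show IsLocalization (nonZeroDivisors A) M
    rw [← hM]; infer_instance
  letI : Field M := IsFractionRing.toField A
  have halg : Algebra.IsAlgebraic (Algebra.adjoin V (Set.range x)) A := by
    let R₀ := Algebra.adjoin V (Set.range x)
    have hR₀ : ∀ r : R₀, ∃ p : P, algebraMap P A p = r := fun r => by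
      have := SetLike.le_def.1 (Algebra.adjoin_range_eq_range_aeval V x).le r.2
      exact this
    refine ⟨fun a => ?_⟩
    have hint : IsAlgebraic R₀ (algebraMap A M a) := by
      letI : Algebra P R₀ := ((MvPolynomial.aeval x : P →ₐ[V] A).codRestrict R₀ fun p => by
        show MvPolynomial.aeval x p ∈ Algebra.adjoin V (Set.range x)
        rw [Algebra.adjoin_range_eq_range_aeval]; exact ⟨p, rfl⟩).toRingHom.toAlgebra
      have : IsScalarTower P R₀ M := .of_algebraMap_eq fun p => (IsScalarTower.algebraMap_apply P A M p).trans rfl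
      have : IsDomain R₀ := inferInstance
      have hinj : Function.Injective (algebraMap R₀ M) :=
        (IsFractionRing.injective A M).comp Subtype.val_injective
      have : FaithfulSMul R₀ M := (faithfulSMul_iff_algebraMap_injective _ _).2 hinj
      have : Algebra.QuasiFinite R₀ M := Algebra.QuasiFinite.of_restrictScalars P R₀ M
      let F := FractionRing R₀
      letI : Algebra F M := FractionRing.liftAlgebra R₀ M
      have : IsScalarTower R₀ F M := FractionRing.isScalarTower_liftAlgebra R₀ M
      have : Algebra.QuasiFinite F M := Algebra.QuasiFinite.of_restrictScalars R₀ F M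
      have : Module.Finite F M := Module.Finite.of_quasiFinite
      exact (IsFractionRing.isAlgebraic_iff R₀ F M).2 (Algebra.IsAlgebraic.isAlgebraic (R := F) _)
    exact (isAlgebraic_algebraMap_iff (IsFractionRing.injective A M)).1 hint
  calc Algebra.trdeg V A ≤ Cardinal.mk (Set.range x) := Algebra.IsAlgebraic.trdeg_le_cardinalMk V (Set.range x)
    _ ≤ (s : Cardinal) := by simpa using Cardinal.mk_range_le_lift (f := x)
    _ = Algebra.trdeg K B := by
      letI : Algebra (MvPolynomial (Fin s) K) B := g.toRingHom.toAlgebra
      have : Module.Finite (MvPolynomial (Fin s) K) B := hgfin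
      have : IsScalarTower K (MvPolynomial (Fin s) K) B := .of_algebraMap_eq fun c => (g.commutes c).symm
      have : FaithfulSMul (MvPolynomial (Fin s) K) B := (faithfulSMul_iff_algebraMap_injective _ _).2 hginj
      rw [← trdeg_add_eq K (MvPolynomial (Fin s) K) (A := B), MvPolynomial.trdeg_of_isDomain,
        trdeg_eq_zero (R := MvPolynomial (Fin s) K) (A := B)]
      simp

end Groth.Agent.AlgGrp33.TrdegSpec
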